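import Cfsg.Agent.Omega.NatPair.Semi
import Cfsg.Agent.MinSimple.Basic

/-!
# Fld, `q = 4`: the module `F₄²` for `D₈` (#15515, NOTATION)

`S` acts on `V = F²`, `|F| = 4`, as the Sylow 2-subgroup `D₈` of `ΓL₂(4)`.

* `Crd F S V z` : coordinates: `s ∈ S` acts as `(x₀, x₁) ↦ (σ x₀ + c σ x₁, σ x₁)`, all `c` occur with `σ = 1`,
  some `σ ≠ 1` occurs, `z = e (1, 0)`;
* `Mod S V R V3 z` : the facts which are used (`R = {x₁ = 0}`, `V3 = {x₁ ∈ F₂}`);
* `Crd.mod` : `Crd` gives `Mod`.
-/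

set_option autoImplicit false
set_option linter.unusedSectionVars false

namespace Cfsg.Agent.Omega.NO3S.Fld.DEight

open Subgroup Cfsg
open Cfsg.Agent.Omega.NatPair (ext2)

universe u

variable {G : Type u} [Group G]

/-- `D` acts on `V` as an elementary abelian 2-group. -/
structure ElemOn (V D : Subgroup G) : Prop where
  sq : ∀ a ∈ D, a ^ 2 ∈ centralizer (V : Set G)
  comm : ∀ a ∈ D, ∀ b ∈ D, a * b * a⁻¹ * b⁻¹ ∈ centralizer (V : Set G)

/-- The facts about the action of `S` on the natural module `V` of `SL₂(4)`, `S` inducing a field automorphism. -/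
structure Mod (S V R V3 : Subgroup G) (z : G) : Prop where
  comm : V ≤ centralizer (V : Set G)
  sq : ∀ v ∈ V, v ^ 2 = 1
  card : Nat.card V = 16
  cardR : Nat.card R = 4
  cardV3 : Nat.card V3 = 8
  R_le : R ≤ V3
  V3_le : V3 ≤ V
  z_mem : z ∈ R
  z_ne : z ≠ 1
  S_z : ∀ s ∈ S, s * z = z * s
  S_V : S ≤ normalizer (V : Set G)
  S_V3 : S ≤ normalizer (V3 : Set G)
  S_R : S ≤ normalizer (R : Set G)
  /-- the `S`-invariant subgroups of `V` form a chain -/
  uni : ∀ I : Subgroup G, I ≤ V → S ≤ normalizer (I : Set G) →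
    I = ⊥ ∨ I = zpowers z ∨ I = R ∨ I = V3 ∨ I = V
  /-- `|D : C_D(V)| ≤ |V : C_V(D)|` -/
  ind : ∀ D : Subgroup G, D ≤ S → ElemOn V D →
    (centralizer (V : Set G)).relIndex D ≤ (centralizer (D : Set G)).relIndex V
  le4 : ∀ D : Subgroup G, D ≤ S → ElemOn V D → (centralizer (V : Set G)).relIndex D ≤ 4
  small : ∀ b ∈ S, (∀ v ∈ V, b * v * b⁻¹ * v⁻¹ ∈ zpowers z) → b ∈ centralizer (V : Set G)
  out : ∀ D : Subgroup G, D ≤ S → ElemOn V D → ¬ D ≤ centralizer (R : Set G) →
    ∀ b ∈ D, ∀ v ∈ V3, b * v * b⁻¹ * v⁻¹ ∈ zpowers z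
  faith : ∀ b ∈ S, b ∈ centralizer (V3 : Set G) → b ∈ centralizer (V : Set G)
  centR : ∀ b ∈ S, b ∈ centralizer (R : Set G) → ∀ v ∈ V, b * v * b⁻¹ * v⁻¹ ∈ R
  nCentR : ∀ b ∈ S, b ∉ centralizer (R : Set G) → ∀ v ∈ V, b * v * b⁻¹ * v⁻¹ ∈ R → v ∈ V3
  /-- some element of `S` acts nontrivially on `R` -/
  fld : ¬ S ≤ centralizer (R : Set G)

/-- Coordinates for the action of `S` on `V = F²`. -/
structure Crd (F : Type*) [Field F] (S V : Subgroup G) (z : G) where
  e : (Fin 2 → F) → G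
  e_add : ∀ x y, e (x + y) = e x * e y
  e_inj : Function.Injective e
  mem_iff : ∀ g, g ∈ V ↔ ∃ x, e x = g
  z_eq : z = e ![1, 0]
  act : ∀ s ∈ S, ∃ (σ : F ≃+* F) (c : F), ∀ x : Fin 2 → F,
    s * e x * s⁻¹ = e ![σ (x 0) + c * σ (x 1), σ (x 1)]
  full : ∀ c : F, ∃ s ∈ S, ∀ x : Fin 2 → F, s * e x * s⁻¹ = e ![x 0 + c * x 1, x 1]
  fld : ∃ s ∈ S, ∃ (σ : F ≃+* F) (c : F), σ ≠ RingEquiv.refl F ∧ ∀ x : Fin 2 → F,
    s * e x * s⁻¹ = e ![σ (x 0) + c * σ (x 1), σ (x 1)]

/-! ### The field of order 4 -/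

section field

variable {F : Type*} [Field F] [CharP F 2]

theorem exists_omega (hF : Nat.card F = 4) :
    ∃ w : F, w * w = w + 1 ∧ ∀ x : F, x = 0 ∨ x = 1 ∨ x = w ∨ x = w + 1 := by
  classical
  have hfin : Finite F := Nat.finite_of_card_ne_zero (by rw [hF]; decide)
  have : Fintype F := Fintype.ofFinite F
  have hc : Fintype.card F = 4 := by rw [← Nat.card_eq_fintype_card, hF]
  obtain ⟨w, hw⟩ : ∃ w : F, w ∉ ({0, 1} : Finset F) := by
    by_contra h
    push Not at h
    have h1 : Fintype.card F ≤ ({0, 1} : Finset F).card := by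
      rw [← Finset.card_univ]
      exact Finset.card_le_card fun x _ => h x
    have h2 : ({0, 1} : Finset F).card ≤ 2 := Finset.card_le_two
    omega
  simp only [Finset.mem_insert, Finset.mem_singleton, not_or] at hw
  obtain ⟨h0, h1⟩ := hw
  have h4 : w ^ 4 = w := by
    have := FiniteField.pow_card w
    rwa [hc] at this
  have h3 : w * (w - 1) * (w * w + w + 1) = 0 := by
    have : w * (w - 1) * (w * w + w + 1) = w ^ 4 - w := by ring
    rw [this, h4, sub_self]
  have h5 : w * w + w + 1 = 0 := by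
    rcases mul_eq_zero.1 h3 with h | h
    · rcases mul_eq_zero.1 h with h | h
      · exact absurd h h0
      · exact absurd (sub_eq_zero.1 h) h1
    · exact h
  have h2F : (2 : F) = 0 := CharTwo.two_eq_zero
  have h6 : w * w = w + 1 := by
    have : w * w = w + 1 + (w * w + w + 1) - (2 : F) * (w + 1) := by ring
    rw [this, h5, h2F]; ring
  refine ⟨w, h6, ?_⟩
  have hne : w + 1 ≠ 0 := fun h => h1 (by
    have : w = (w + 1) + (2 : F) * w - (w + w) - 1 + (2 : F) * 0 := by ring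
    have h8 : w = 1 := by
      have h9 : w + 1 + 1 = 0 + 1 := by rw [h]
      rw [add_assoc, CharTwo.add_self_eq_zero, add_zero, zero_add] at h9
      exact h9
    exact h8)
  have hcard : ({0, 1, w, w + 1} : Finset F).card = 4 := by
    rw [Finset.card_insert_of_notMem, Finset.card_insert_of_notMem, Finset.card_insert_of_notMem,
      Finset.card_singleton]
    · simp
    · simp only [Finset.mem_insert, Finset.mem_singleton, not_or]
      refine ⟨Ne.symm h1, fun h => h0 ?_⟩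
      exact (left_eq_add.1 ((add_comm w 1) ▸ h))
    · simp only [Finset.mem_insert, Finset.mem_singleton, not_or]
      exact ⟨zero_ne_one, Ne.symm h0, Ne.symm hne⟩
  intro x
  have hx : x ∈ ({0, 1, w, w + 1} : Finset F) := by
    have : ({0, 1, w, w + 1} : Finset F) = Finset.univ := by
      apply Finset.eq_univ_of_card
      rw [hcard, hc]
    rw [this]
    exact Finset.mem_univ x
  simpa using hx

/-- A nontrivial automorphism of `F₄`: `σ x + x = 1` unless `x ∈ F₂`. -/
theorem sig_add (hF : Nat.card F = 4) {σ : F ≃+* F} (hσ : σ ≠ RingEquiv.refl F) {x : F} (h0 : x ≠ 0)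
    (h1 : x ≠ 1) : σ x + x = 1 := by
  obtain ⟨w, hw, hall⟩ := exists_omega hF
  have hσw : σ w = w + 1 := by
    have h2 : σ w * σ w = σ w + 1 := by rw [← map_mul, hw, map_add, map_one]
    rcases hall (σ w) with h | h | h | h
    · rw [h] at h2; simp at h2
    · rw [h, mul_one, CharTwo.add_self_eq_zero] at h2; exact absurd h2 one_ne_zero
    · exfalso
      apply hσ
      ext y
      rcases hall y with hy | hy | hy | hy <;> rw [hy] <;> simp [h]
    · exact h
  rcases hall x with h | h | h | h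
  · exact absurd h h0
  · exact absurd h h1
  · rw [h, hσw]
    have : w + 1 + w = (w + w) + 1 := by ring
    rw [this, CharTwo.add_self_eq_zero, zero_add]
  · rw [h, map_add, map_one, hσw]
    have : w + 1 + 1 + (w + 1) = (w + w) + (1 + 1) + 1 := by ring
    rw [this, CharTwo.add_self_eq_zero, CharTwo.add_self_eq_zero, zero_add, zero_add]

theorem sig_add_cases (hF : Nat.card F = 4) (σ : F ≃+* F) (x : F) : σ x + x = 0 ∨ σ x + x = 1 := by
  by_cases hσ : σ = RingEquiv.refl F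
  · left; rw [hσ]; exact CharTwo.add_self_eq_zero x
  by_cases h0 : x = 0
  · left; rw [h0, map_zero, add_zero]
  by_cases h1 : x = 1
  · left; rw [h1, map_one]; exact CharTwo.add_self_eq_zero 1
  right
  exact sig_add hF hσ h0 h1

theorem of_sig_eq (hF : Nat.card F = 4) {σ : F ≃+* F} (hσ : σ ≠ RingEquiv.refl F) {x : F} (h : σ x = x) :
    x = 0 ∨ x = 1 := by
  by_contra hcon
  push Not at hcon
  have h1 := sig_add hF hσ hcon.1 hcon.2
  rw [h, CharTwo.add_self_eq_zero] at h1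
  exact zero_ne_one h1

theorem exists_ne (hF : Nat.card F = 4) : ∃ w : F, w ≠ 0 ∧ w ≠ 1 := by
  obtain ⟨w, hw, -⟩ := exists_omega hF
  refine ⟨w, fun h => ?_, fun h => ?_⟩
  · rw [h] at hw; simp at hw
  · rw [h, mul_one, CharTwo.add_self_eq_zero] at hw; exact one_ne_zero hw

/-- an additive subgroup with an element outside `F₂` and `1` is everything -/
theorem mem_of_two (hF : Nat.card F = 4) {p : F → Prop} (h0 : p 0) (hadd : ∀ x y, p x → p y → p (x + y))
    {a : F} (ha0 : a ≠ 0) (ha1 : a ≠ 1) (ha : p a) (h1 : p 1) (x : F) : p x := by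
  obtain ⟨w, hw, hall⟩ := exists_omega hF
  have e1 : w + 1 + 1 = w := by rw [add_assoc, CharTwo.add_self_eq_zero, add_zero]
  rcases hall a with h | h | h | h
  · exact absurd h ha0
  · exact absurd h ha1
  · rw [h] at ha
    rcases hall x with hx | hx | hx | hx <;> rw [hx]
    · exact h0
    · exact h1
    · exact ha
    · exact hadd _ _ ha h1
  · rw [h] at ha
    rcases hall x with hx | hx | hx | hx <;> rw [hx]
    · exact h0
    · exact h1
    · rw [← e1]; exact hadd _ _ ha h1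
    · exact ha

end field

/-! ### The subgroups -/

namespace Crd

variable {F : Type*} [Field F] {S V : Subgroup G} {z : G} (M : Crd F S V z)
include M

theorem e_zero : M.e 0 = 1 := by
  have := M.e_add 0 0
  rw [add_zero] at this
  exact left_eq_mul.1 this

theorem e_neg (x : Fin 2 → F) : M.e (-x) = (M.e x)⁻¹ := by
  rw [eq_inv_iff_mul_eq_one, ← M.e_add, neg_add_cancel, M.e_zero]

theorem e_eq_one {x : Fin 2 → F} : M.e x = 1 ↔ x = 0 := by
  rw [← M.e_zero]
  exact M.e_inj.eq_iff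

theorem e_mem (x : Fin 2 → F) : M.e x ∈ V := (M.mem_iff _).2 ⟨x, rfl⟩

theorem mul_comm' (x y : Fin 2 → F) : M.e x * M.e y = M.e y * M.e x := by
  rw [← M.e_add, ← M.e_add, add_comm]

variable [CharP F 2]

theorem e_inv (x : Fin 2 → F) : (M.e x)⁻¹ = M.e x := by
  rw [← M.e_neg]
  congr 1
  funext i
  exact CharTwo.neg_eq (x i)

theorem comm_eq {s : G} {x y : Fin 2 → F} (h : s * M.e x * s⁻¹ = M.e y) :
    s * M.e x * s⁻¹ * (M.e x)⁻¹ = M.e (y + x) := by
  rw [h, M.e_inv, ← M.e_add]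

/-- `R = {x₁ = 0}` -/
def R : Subgroup G where
  carrier := {g | ∃ x, M.e x = g ∧ x 1 = 0}
  one_mem' := ⟨0, M.e_zero, rfl⟩
  mul_mem' := by
    rintro _ _ ⟨x, rfl, hx⟩ ⟨y, rfl, hy⟩
    exact ⟨x + y, M.e_add x y, by rw [Pi.add_apply, hx, hy, add_zero]⟩
  inv_mem' := by
    rintro _ ⟨x, rfl, hx⟩
    exact ⟨x, (M.e_inv x).symm, hx⟩

/-- `V3 = {x₁ ∈ F₂}` -/
def V3 : Subgroup G where
  carrier := {g | ∃ x, M.e x = g ∧ (x 1 = 0 ∨ x 1 = 1)}
  one_mem' := ⟨0, M.e_zero, Or.inl rfl⟩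
  mul_mem' := by
    rintro _ _ ⟨x, rfl, hx⟩ ⟨y, rfl, hy⟩
    refine ⟨x + y, M.e_add x y, ?_⟩
    rw [Pi.add_apply]
    rcases hx with hx | hx <;> rcases hy with hy | hy <;> rw [hx, hy]
    · left; exact add_zero 0
    · right; exact zero_add 1
    · right; exact add_zero 1
    · left; exact CharTwo.add_self_eq_zero 1
  inv_mem' := by
    rintro _ ⟨x, rfl, hx⟩
    exact ⟨x, (M.e_inv x).symm, hx⟩

theorem mem_R {x : Fin 2 → F} : M.e x ∈ M.R ↔ x 1 = 0 := by
  constructor
  · rintro ⟨y, hy, h⟩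
    rwa [← M.e_inj hy]
  · intro h
    exact ⟨x, rfl, h⟩

theorem mem_V3 {x : Fin 2 → F} : M.e x ∈ M.V3 ↔ (x 1 = 0 ∨ x 1 = 1) := by
  constructor
  · rintro ⟨y, hy, h⟩
    rwa [← M.e_inj hy]
  · intro h
    exact ⟨x, rfl, h⟩

theorem R_le : M.R ≤ M.V3 := by
  rintro _ ⟨x, rfl, hx⟩
  exact ⟨x, rfl, Or.inl hx⟩

theorem V3_le : M.V3 ≤ V := by
  rintro _ ⟨x, rfl, -⟩
  exact M.e_mem x

theorem card_V (hF : Nat.card F = 4) : Nat.card V = 16 := by
  have h1 : Nat.card (Fin 2 → F) = Nat.card V := by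
    refine Nat.card_congr (Equiv.ofBijective (fun x => ⟨M.e x, M.e_mem x⟩) ⟨?_, ?_⟩)
    · intro x y h
      exact M.e_inj (congrArg Subtype.val h)
    · rintro ⟨v, hv⟩
      obtain ⟨x, rfl⟩ := (M.mem_iff v).1 hv
      exact ⟨x, rfl⟩
  rw [← h1]
  simp [Nat.card_fun, hF]

theorem card_R (hF : Nat.card F = 4) : Nat.card M.R = 4 := by
  rw [← hF]
  refine (Nat.card_congr (Equiv.ofBijective (fun a : F => (⟨M.e ![a, 0], M.mem_R.2 rfl⟩ : M.R)) ⟨?_, ?_⟩)).symm
  · intro x y h
    have := M.e_inj (congrArg Subtype.val h)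
    simpa using congrFun this 0
  · rintro ⟨_, x, rfl, hx⟩
    refine ⟨x 0, Subtype.ext ?_⟩
    show M.e ![x 0, 0] = M.e x
    congr 1
    exact ext2 rfl hx.symm

theorem card_V3 (hF : Nat.card F = 4) : Nat.card M.V3 = 8 := by
  have h8 : Nat.card (F × Bool) = 8 := by
    rw [Nat.card_prod, hF]; simp
  rw [← h8]
  refine (Nat.card_congr (Equiv.ofBijective
    (fun a : F × Bool => (⟨M.e ![a.1, if a.2 then 1 else 0], M.mem_V3.2 (by
      rcases a with ⟨a, b⟩; cases b <;> simp)⟩ : M.V3)) ⟨?_, ?_⟩)).symm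
  · rintro ⟨x, b⟩ ⟨y, c⟩ h
    have h1 := M.e_inj (congrArg Subtype.val h)
    have h2 := congrFun h1 0
    have h3 := congrFun h1 1
    simp only [Matrix.cons_val_zero, Matrix.cons_val_one] at h2 h3
    refine Prod.ext h2 ?_
    cases b <;> cases c <;> simp at h3 ⊢
  · rintro ⟨_, x, rfl, hx⟩
    rcases hx with hx | hx
    · refine ⟨(x 0, false), Subtype.ext ?_⟩
      show M.e ![x 0, _] = M.e x
      congr 1
      exact ext2 rfl (by simp [hx])
    · refine ⟨(x 0, true), Subtype.ext ?_⟩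
      show M.e ![x 0, _] = M.e x
      congr 1
      exact ext2 rfl (by simp [hx])

theorem z_sq : z * z = 1 := by
  rw [M.z_eq, ← M.e_add, M.e_eq_one]
  apply ext2
  · show (1 : F) + 1 = 0
    exact CharTwo.add_self_eq_zero 1
  · show (0 : F) + 0 = 0
    exact add_zero 0

theorem mem_zpowers {g : G} : g ∈ zpowers z ↔ g = 1 ∨ g = z := by
  constructor
  · rintro ⟨n, rfl⟩
    obtain ⟨k, hk | hk⟩ := Int.even_or_odd' n
    · left
      show z ^ n = 1
      rw [hk, zpow_mul, show z ^ (2 : ℤ) = 1 by rw [zpow_two]; exact M.z_sq, one_zpow]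
    · right
      show z ^ n = z
      rw [hk, zpow_add, zpow_mul, show z ^ (2 : ℤ) = 1 by rw [zpow_two]; exact M.z_sq, one_zpow, one_mul, zpow_one]
  · rintro (rfl | rfl)
    · exact one_mem _
    · exact Subgroup.mem_zpowers _

theorem e_mem_zpowers {x : Fin 2 → F} : M.e x ∈ zpowers z ↔ x 1 = 0 ∧ (x 0 = 0 ∨ x 0 = 1) := by
  rw [M.mem_zpowers]
  constructor
  · rintro (h | h)
    · rw [M.e_eq_one] at h
      rw [h]; exact ⟨rfl, Or.inl rfl⟩
    · rw [M.e_inj (h.trans M.z_eq)]; exact ⟨rfl, Or.inr rfl⟩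
  · rintro ⟨h1, h0 | h0⟩
    · left
      rw [M.e_eq_one]
      exact ext2 h0 h1
    · right
      exact (congrArg M.e (ext2 h0 h1)).trans M.z_eq.symm

/-! ### The action -/

theorem comm_mem {s : G} {I : Subgroup G} (hs : s ∈ normalizer (I : Set G)) {v : G} (hv : v ∈ I) :
    s * v * s⁻¹ * v⁻¹ ∈ I :=
  mul_mem ((mem_normalizer_iff.1 hs v).1 hv) (inv_mem hv)

/-- the commutator of `s = (σ, c)` with `e x` -/
theorem comm_act {s : G} {σ : F ≃+* F} {c : F}
    (h : ∀ x : Fin 2 → F, s * M.e x * s⁻¹ = M.e ![σ (x 0) + c * σ (x 1), σ (x 1)]) (x : Fin 2 → F) :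
    s * M.e x * s⁻¹ * (M.e x)⁻¹ = M.e ![σ (x 0) + x 0 + c * σ (x 1), σ (x 1) + x 1] := by
  rw [M.comm_eq (h x)]
  congr 1
  apply ext2
  · simp only [Pi.add_apply, Matrix.cons_val_zero]
    ring
  · rfl

theorem S_V : S ≤ normalizer (V : Set G) := by
  intro s hs
  have key : ∀ s ∈ S, ∀ v ∈ V, s * v * s⁻¹ ∈ V := by
    intro s hs v hv
    obtain ⟨x, rfl⟩ := (M.mem_iff v).1 hv
    obtain ⟨σ, c, h⟩ := M.act s hs
    rw [h]
    exact M.e_mem _
  rw [mem_normalizer_iff]
  intro v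
  refine ⟨key s hs v, fun hv => ?_⟩
  have := key s⁻¹ (S.inv_mem hs) _ hv
  simpa [mul_assoc] using this

theorem S_R : S ≤ normalizer (M.R : Set G) := by
  intro s hs
  have key : ∀ s ∈ S, ∀ v ∈ M.R, s * v * s⁻¹ ∈ M.R := by
    rintro s hs _ ⟨x, rfl, hx⟩
    obtain ⟨σ, c, h⟩ := M.act s hs
    rw [h, M.mem_R]
    simp [hx]
  rw [mem_normalizer_iff]
  intro v
  refine ⟨key s hs v, fun hv => ?_⟩
  have := key s⁻¹ (S.inv_mem hs) _ hv
  simpa [mul_assoc] using this

theorem S_V3 : S ≤ normalizer (M.V3 : Set G) := by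
  intro s hs
  have key : ∀ s ∈ S, ∀ v ∈ M.V3, s * v * s⁻¹ ∈ M.V3 := by
    rintro s hs _ ⟨x, rfl, hx⟩
    obtain ⟨σ, c, h⟩ := M.act s hs
    rw [h, M.mem_V3]
    rcases hx with hx | hx <;> simp [hx]
  rw [mem_normalizer_iff]
  intro v
  refine ⟨key s hs v, fun hv => ?_⟩
  have := key s⁻¹ (S.inv_mem hs) _ hv
  simpa [mul_assoc] using this

theorem cent_iff {s : G} {σ : F ≃+* F} {c : F}
    (h : ∀ x : Fin 2 → F, s * M.e x * s⁻¹ = M.e ![σ (x 0) + c * σ (x 1), σ (x 1)]) :
    s ∈ centralizer (V : Set G) ↔ σ = RingEquiv.refl F ∧ c = 0 := by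
  constructor
  · intro hs
    have h1 : ∀ x : Fin 2 → F, (![σ (x 0) + c * σ (x 1), σ (x 1)] : Fin 2 → F) = x := by
      intro x
      apply M.e_inj
      rw [← h, mul_inv_eq_iff_eq_mul]
      exact (mem_centralizer_iff.1 hs _ (M.e_mem x)).symm
    constructor
    · ext a
      have := congrFun (h1 ![a, 0]) 0
      simpa using this
    · have := congrFun (h1 ![0, 1]) 0
      simpa using this
  · rintro ⟨rfl, rfl⟩
    rw [mem_centralizer_iff]
    intro v hv
    obtain ⟨x, rfl⟩ := (M.mem_iff v).1 hv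
    have h1 := h x
    have h2 : (![(RingEquiv.refl F) (x 0) + 0 * (RingEquiv.refl F) (x 1), (RingEquiv.refl F) (x 1)] : Fin 2 → F) = x := by
      apply ext2 <;> simp
    rw [h2, mul_inv_eq_iff_eq_mul] at h1
    exact h1.symm

theorem centR_iff {s : G} {σ : F ≃+* F} {c : F}
    (h : ∀ x : Fin 2 → F, s * M.e x * s⁻¹ = M.e ![σ (x 0) + c * σ (x 1), σ (x 1)]) :
    s ∈ centralizer (M.R : Set G) ↔ σ = RingEquiv.refl F := by
  constructor
  · intro hs
    ext a
    have h1 : (![σ a + c * σ 0, σ 0] : Fin 2 → F) = ![a, 0] := by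
      apply M.e_inj
      have := h ![a, 0]
      simp only [Matrix.cons_val_zero, Matrix.cons_val_one] at this
      rw [← this, mul_inv_eq_iff_eq_mul]
      exact (mem_centralizer_iff.1 hs _ (M.mem_R.2 rfl)).symm
    have := congrFun h1 0
    simpa using this
  · rintro rfl
    rw [mem_centralizer_iff]
    rintro _ ⟨x, rfl, hx⟩
    have h1 := h x
    have h2 : (![(RingEquiv.refl F) (x 0) + c * (RingEquiv.refl F) (x 1), (RingEquiv.refl F) (x 1)] : Fin 2 → F) = x := by
      apply ext2 <;> simp [hx]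
    rw [h2, mul_inv_eq_iff_eq_mul] at h1
    exact h1.symm

theorem uni (hF : Nat.card F = 4) (I : Subgroup G) (hI : I ≤ V) (hS : S ≤ normalizer (I : Set G)) :
    I = ⊥ ∨ I = zpowers z ∨ I = M.R ∨ I = M.V3 ∨ I = V := by
  have hful : ∀ (c : F) (x : Fin 2 → F), M.e x ∈ I → M.e ![c * x 1, 0] ∈ I := by
    intro c x hx
    obtain ⟨s, hs, h⟩ := M.full c
    have h1 := M.comm_mem (hS hs) hx
    rw [M.comm_eq (h x)] at h1
    convert h1 using 2
    apply ext2
    · simp only [Pi.add_apply, Matrix.cons_val_zero]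
      rw [add_right_comm, CharTwo.add_self_eq_zero, zero_add]
    · show (0 : F) = x 1 + x 1
      rw [CharTwo.add_self_eq_zero]
  obtain ⟨s0, hs0, σ, c, hσ, h0⟩ := M.fld
  have hfld : ∀ x : Fin 2 → F, M.e x ∈ I → M.e ![σ (x 0) + x 0 + c * σ (x 1), σ (x 1) + x 1] ∈ I := by
    intro x hx
    rw [← M.comm_act h0 x]
    exact M.comm_mem (hS hs0) hx
  -- `x₁ ≠ 0` gives `R ≤ I`
  have hR : ∀ x : Fin 2 → F, M.e x ∈ I → x 1 ≠ 0 → M.R ≤ I := by
    rintro x hx hx1 _ ⟨y, rfl, hy⟩
    have := hful (y 0 * (x 1)⁻¹) x hx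
    convert this using 2
    apply ext2
    · simp [hx1]
    · simpa using hy
  by_cases hA : ∃ x : Fin 2 → F, M.e x ∈ I ∧ x 1 ≠ 0 ∧ x 1 ≠ 1
  · right; right; right; right
    obtain ⟨x, hx, hx0, hx1⟩ := hA
    have hRI := hR x hx hx0
    have h01 : ∀ y : Fin 2 → F, M.e y ∈ I → M.e ![0, y 1] ∈ I := by
      intro y hy
      have h2 : M.e ![y 0, 0] ∈ I := hRI (M.mem_R.2 rfl)
      have h3 := mul_mem hy h2
      rw [← M.e_add] at h3
      convert h3 using 2
      apply ext2
      · simp [CharTwo.add_self_eq_zero]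
      · simp
    have h1 := h01 _ (hfld x hx)
    simp only [Matrix.cons_val_one] at h1
    rw [sig_add hF hσ hx0 hx1] at h1
    have h2 := h01 x hx
    have hall : ∀ a : F, M.e ![0, a] ∈ I := by
      intro a
      refine mem_of_two hF (p := fun a => M.e ![0, a] ∈ I) ?_ ?_ hx0 hx1 h2 h1 a
      · have : M.e ![0, 0] = 1 := by
          rw [M.e_eq_one]; exact ext2 rfl rfl
        rw [this]; exact one_mem _
      · intro a b ha hb
        have := mul_mem ha hb
        rw [← M.e_add] at this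
        convert this using 2
        apply ext2 <;> simp
    refine le_antisymm hI fun v hv => ?_
    obtain ⟨y, rfl⟩ := (M.mem_iff v).1 hv
    have h3 : M.e ![y 0, 0] ∈ I := hRI (M.mem_R.2 rfl)
    have := mul_mem h3 (hall (y 1))
    rw [← M.e_add] at this
    convert this using 2
    apply ext2 <;> simp
  push Not at hA
  have hIV3 : I ≤ M.V3 := by
    intro v hv
    obtain ⟨x, rfl⟩ := (M.mem_iff v).1 (hI hv)
    rw [M.mem_V3]
    by_cases h : x 1 = 0
    · exact Or.inl h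
    · exact Or.inr (hA x hv h)
  by_cases hB : ∃ x : Fin 2 → F, M.e x ∈ I ∧ x 1 ≠ 0
  · right; right; right; left
    obtain ⟨x, hx, hx0⟩ := hB
    have hRI := hR x hx hx0
    have hx1 := hA x hx hx0
    refine le_antisymm hIV3 ?_
    rintro _ ⟨y, rfl, hy⟩
    rcases hy with hy | hy
    · exact hRI (M.mem_R.2 hy)
    · have h3 : M.e ![y 0 + x 0, 0] ∈ I := hRI (M.mem_R.2 rfl)
      have := mul_mem h3 hx
      rw [← M.e_add] at this
      convert this using 2
      apply ext2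
      · simp only [Pi.add_apply, Matrix.cons_val_zero]
        rw [add_assoc, CharTwo.add_self_eq_zero, add_zero]
      · simp [hx1, hy]
  push Not at hB
  have hIR : I ≤ M.R := by
    intro v hv
    obtain ⟨x, rfl⟩ := (M.mem_iff v).1 (hI hv)
    exact M.mem_R.2 (hB x hv)
  by_cases hC : ∃ x : Fin 2 → F, M.e x ∈ I ∧ x 0 ≠ 0 ∧ x 0 ≠ 1
  · right; right; left
    obtain ⟨x, hx, hx0, hx1⟩ := hC
    refine le_antisymm hIR ?_
    have h1 := hfld x hx
    rw [hB x hx, map_zero, mul_zero, add_zero, sig_add hF hσ hx0 hx1, add_zero] at h1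
    have h2 : M.e ![x 0, 0] ∈ I := by
      convert hx using 2
      exact ext2 rfl (hB x hx).symm
    have hall : ∀ a : F, M.e ![a, 0] ∈ I := by
      intro a
      refine mem_of_two hF (p := fun a => M.e ![a, 0] ∈ I) ?_ ?_ hx0 hx1 h2 h1 a
      · have : M.e ![0, 0] = 1 := by
          rw [M.e_eq_one]; exact ext2 rfl rfl
        rw [this]; exact one_mem _
      · intro a b ha hb
        have := mul_mem ha hb
        rw [← M.e_add] at this
        convert this using 2
        apply ext2 <;> simp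
    rintro _ ⟨y, rfl, hy⟩
    convert hall (y 0) using 2
    exact ext2 rfl hy
  push Not at hC
  have hIz : ∀ v ∈ I, v = 1 ∨ v = z := by
    intro v hv
    obtain ⟨x, rfl⟩ := (M.mem_iff v).1 (hI hv)
    rw [← M.mem_zpowers, M.e_mem_zpowers]
    refine ⟨hB x hv, ?_⟩
    by_cases h : x 0 = 0
    · exact Or.inl h
    · exact Or.inr (hC x hv h)
  by_cases hz : z ∈ I
  · right; left
    refine le_antisymm (fun v hv => ?_) ?_
    · rcases hIz v hv with rfl | rfl
      · exact one_mem _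
      · exact Subgroup.mem_zpowers _
    · rwa [zpowers_le]
  · left
    rw [eq_bot_iff]
    intro v hv
    rcases hIz v hv with rfl | rfl
    · exact one_mem _
    · exact absurd hv hz

/-- the pairs `(σ, c)` of an elementary abelian `D` -/
theorem outer_F2 (hF : Nat.card F = 4) {s : G} {σ : F ≃+* F} {c : F} (hσ : σ ≠ RingEquiv.refl F)
    (h : ∀ x : Fin 2 → F, s * M.e x * s⁻¹ = M.e ![σ (x 0) + c * σ (x 1), σ (x 1)])
    (hs : s ^ 2 ∈ centralizer (V : Set G)) : c = 0 ∨ c = 1 := by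
  apply of_sig_eq hF hσ
  have h1 : s ^ 2 * M.e ![0, 1] * (s ^ 2)⁻¹ = M.e ![σ c + c, 1] := by
    have e1 : s ^ 2 * M.e ![0, 1] * (s ^ 2)⁻¹ = s * (s * M.e ![0, 1] * s⁻¹) * s⁻¹ := by
      simp only [pow_two, mul_inv_rev, mul_assoc]
    rw [e1, h, h]
    congr 1
    apply ext2 <;> simp
  have h2 : M.e ![σ c + c, 1] = M.e ![0, 1] := by
    rw [← h1, mul_inv_eq_iff_eq_mul]
    exact (mem_centralizer_iff.1 hs _ (M.e_mem _)).symm
  have h3 := congrFun (M.e_inj h2) 0
  simp only [Matrix.cons_val_zero] at h3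
  have h4 : σ c = σ c + c + c := by rw [add_assoc, CharTwo.add_self_eq_zero, add_zero]
  rw [h4, h3, zero_add]

theorem inner_F2 (hF : Nat.card F = 4) {s b : G} {σ : F ≃+* F} {c d : F} (hσ : σ ≠ RingEquiv.refl F)
    (h : ∀ x : Fin 2 → F, s * M.e x * s⁻¹ = M.e ![σ (x 0) + c * σ (x 1), σ (x 1)])
    (hb : ∀ x : Fin 2 → F, b * M.e x * b⁻¹ = M.e ![x 0 + d * x 1, x 1])
    (hc : s * b * s⁻¹ * b⁻¹ ∈ centralizer (V : Set G)) : d = 0 ∨ d = 1 := by
  apply of_sig_eq hF hσ
  have e1 : s * (b * M.e ![0, 1] * b⁻¹) * s⁻¹ = b * (s * M.e ![0, 1] * s⁻¹) * b⁻¹ := by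
    have h1 := mem_centralizer_iff.1 hc (b * (s * M.e ![0, 1] * s⁻¹) * b⁻¹) (by
      rw [h, hb]; exact M.e_mem _)
    have h2 : s * b * s⁻¹ * b⁻¹ * (b * (s * M.e ![0, 1] * s⁻¹) * b⁻¹) * (s * b * s⁻¹ * b⁻¹)⁻¹ =
        s * (b * M.e ![0, 1] * b⁻¹) * s⁻¹ := by group
    rw [← h2, ← h1]
    group
  rw [hb, h, h, hb] at e1
  have h3 := congrFun (M.e_inj e1) 0
  simp only [Matrix.cons_val_zero, Matrix.cons_val_one, map_zero, map_one, mul_one, zero_add] at h3
  rw [add_comm] at h3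
  exact add_left_cancel h3

theorem act_refl {b : G} {c : F}
    (h : ∀ x : Fin 2 → F, b * M.e x * b⁻¹ =
      M.e ![(RingEquiv.refl F) (x 0) + c * (RingEquiv.refl F) (x 1), (RingEquiv.refl F) (x 1)]) :
    ∀ x : Fin 2 → F, b * M.e x * b⁻¹ = M.e ![x 0 + c * x 1, x 1] := h

/-- if `D` moves `R` then all `c` are in `F₂` -/
theorem out_F2 (hF : Nat.card F = 4) {D : Subgroup G} (hDS : D ≤ S) (hD : ElemOn V D)
    (hR : ¬ D ≤ centralizer (M.R : Set G)) {b : G} (hb : b ∈ D) :
    ∃ (σ : F ≃+* F) (c : F), (c = 0 ∨ c = 1) ∧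
      ∀ x : Fin 2 → F, b * M.e x * b⁻¹ = M.e ![σ (x 0) + c * σ (x 1), σ (x 1)] := by
  obtain ⟨σ, c, h⟩ := M.act b (hDS hb)
  refine ⟨σ, c, ?_, h⟩
  by_cases hσ : σ = RingEquiv.refl F
  · subst hσ
    obtain ⟨s, hs, hsR⟩ := SetLike.not_le_iff_exists.1 hR
    obtain ⟨τ, d, h'⟩ := M.act s (hDS hs)
    have hτ : τ ≠ RingEquiv.refl F := fun h0 => hsR ((M.centR_iff h').2 h0)
    exact M.inner_F2 hF hτ h' (M.act_refl h) (hD.comm s hs b hb)
  · exact M.outer_F2 hF hσ h (hD.sq b hb)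

theorem out (hF : Nat.card F = 4) (D : Subgroup G) (hDS : D ≤ S) (hD : ElemOn V D)
    (hR : ¬ D ≤ centralizer (M.R : Set G)) (b : G) (hb : b ∈ D) (v : G) (hv : v ∈ M.V3) :
    b * v * b⁻¹ * v⁻¹ ∈ zpowers z := by
  obtain ⟨σ, c, hc, h⟩ := M.out_F2 hF hDS hD hR hb
  obtain ⟨x, rfl, hx⟩ := hv
  rw [M.comm_act h, M.e_mem_zpowers]
  have h1 : σ (x 1) = x 1 := by rcases hx with hx | hx <;> rw [hx] <;> simp
  constructor
  · show σ (x 1) + x 1 = 0
    rw [h1, CharTwo.add_self_eq_zero]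
  · simp only [Matrix.cons_val_zero]
    rw [h1]
    rcases sig_add_cases hF σ (x 0) with h2 | h2 <;> rcases hc with hc | hc <;> rcases hx with hx | hx <;>
      rw [h2, hc, hx] <;> simp [CharTwo.add_self_eq_zero]

theorem small (hF : Nat.card F = 4) (b : G) (hb : b ∈ S)
    (h : ∀ v ∈ V, b * v * b⁻¹ * v⁻¹ ∈ zpowers z) : b ∈ centralizer (V : Set G) := by
  obtain ⟨σ, c, hσ⟩ := M.act b hb
  rw [M.cent_iff hσ]
  obtain ⟨w, hw0, hw1⟩ := exists_ne hF
  have h1 := h _ (M.e_mem ![0, w])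
  rw [M.comm_act hσ, M.e_mem_zpowers] at h1
  simp only [Matrix.cons_val_zero, Matrix.cons_val_one, map_zero, add_zero, zero_add] at h1
  have hr : σ = RingEquiv.refl F := by
    by_contra hne
    have := sig_add hF hne hw0 hw1
    rw [h1.1] at this
    exact zero_ne_one this
  refine ⟨hr, ?_⟩
  subst hr
  have h2 := h _ (M.e_mem ![0, 1])
  rw [M.comm_act hσ, M.e_mem_zpowers] at h2
  simp only [Matrix.cons_val_zero, Matrix.cons_val_one, map_zero, add_zero, zero_add, RingEquiv.refl_apply,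
    mul_one] at h1 h2
  rcases h2.2 with h2 | h2
  · exact h2
  · rw [h2, one_mul] at h1
    rcases h1.2 with h1 | h1
    · exact absurd h1 hw0
    · exact absurd h1 hw1

theorem faith (b : G) (hb : b ∈ S) (h : b ∈ centralizer (M.V3 : Set G)) :
    b ∈ centralizer (V : Set G) := by
  obtain ⟨σ, c, hσ⟩ := M.act b hb
  have hr : σ = RingEquiv.refl F := (M.centR_iff hσ).1 (fun v hv => h v (M.R_le hv))
  rw [M.cent_iff hσ]
  refine ⟨hr, ?_⟩
  subst hr
  have h1 := mem_centralizer_iff.1 h (M.e ![0, 1]) (M.mem_V3.2 (Or.inr rfl))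
  have h2 := M.act_refl hσ ![0, 1]
  rw [← h1, mul_assoc, mul_inv_cancel, mul_one] at h2
  have := congrFun (M.e_inj h2) 0
  simpa using this.symm

theorem centR (b : G) (hb : b ∈ S) (h : b ∈ centralizer (M.R : Set G)) (v : G) (hv : v ∈ V) :
    b * v * b⁻¹ * v⁻¹ ∈ M.R := by
  obtain ⟨σ, c, hσ⟩ := M.act b hb
  have hr : σ = RingEquiv.refl F := (M.centR_iff hσ).1 h
  subst hr
  obtain ⟨x, rfl⟩ := (M.mem_iff v).1 hv
  rw [M.comm_act hσ, M.mem_R]
  simp [CharTwo.add_self_eq_zero]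

theorem nCentR (hF : Nat.card F = 4) (b : G) (hb : b ∈ S) (h : b ∉ centralizer (M.R : Set G)) (v : G)
    (hv : v ∈ V) (hc : b * v * b⁻¹ * v⁻¹ ∈ M.R) : v ∈ M.V3 := by
  obtain ⟨σ, c, hσ⟩ := M.act b hb
  have hr : σ ≠ RingEquiv.refl F := fun h0 => h ((M.centR_iff hσ).2 h0)
  obtain ⟨x, rfl⟩ := (M.mem_iff v).1 hv
  rw [M.comm_act hσ, M.mem_R] at hc
  change σ (x 1) + x 1 = 0 at hc
  rw [M.mem_V3]
  apply of_sig_eq hF hr
  have : σ (x 1) = σ (x 1) + x 1 + x 1 := by rw [add_assoc, CharTwo.add_self_eq_zero, add_zero]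
  rw [this, hc, zero_add]

theorem nfld : ¬ S ≤ centralizer (M.R : Set G) := by
  obtain ⟨s, hs, σ, c, hσ, h⟩ := M.fld
  intro h0
  exact hσ ((M.centR_iff h).1 (h0 hs))

theorem S_z : ∀ s ∈ S, s * z = z * s := by
  intro s hs
  obtain ⟨σ, c, h⟩ := M.act s hs
  have h1 := h ![1, 0]
  have h2 : (![σ ((![1, 0] : Fin 2 → F) 0) + c * σ ((![1, 0] : Fin 2 → F) 1), σ ((![1, 0] : Fin 2 → F) 1)] :
      Fin 2 → F) = ![1, 0] := by
    apply ext2 <;> simp
  rw [h2, mul_inv_eq_iff_eq_mul] at h1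
  calc s * z = s * M.e ![1, 0] := by rw [← M.z_eq]
    _ = M.e ![1, 0] * s := h1
    _ = z * s := by rw [← M.z_eq]

/-- `C_V(b)` has order at most 4 for `b ∉ C(V)` -/
theorem card_fix_le (hF : Nat.card F = 4) {b : G} (hb : b ∈ S) (h : b ∉ centralizer (V : Set G)) :
    Nat.card ↥(V ⊓ centralizer ({b} : Set G)) ≤ 4 := by
  obtain ⟨σ, c, hσ⟩ := M.act b hb
  have hfinR : Finite M.R := Nat.finite_of_card_ne_zero (by rw [M.card_R hF]; decide)
  have hfin3 : Finite M.V3 := Nat.finite_of_card_ne_zero (by rw [M.card_V3 hF]; decide)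
  have hcm : ∀ x : Fin 2 → F, M.e x ∈ centralizer ({b} : Set G) →
      (![σ (x 0) + x 0 + c * σ (x 1), σ (x 1) + x 1] : Fin 2 → F) = 0 := by
    intro x hx
    rw [← M.e_eq_one, ← M.comm_act hσ]
    rw [mem_centralizer_singleton_iff] at hx
    rw [← hx, mul_assoc (M.e x), mul_inv_cancel, mul_one, mul_inv_cancel]
  by_cases hr : σ = RingEquiv.refl F
  · have hc : c ≠ 0 := fun h0 => h ((M.cent_iff hσ).2 ⟨hr, h0⟩)
    have hle : V ⊓ centralizer ({b} : Set G) ≤ M.R := by
      rintro v ⟨hv, hvb⟩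
      obtain ⟨x, rfl⟩ := (M.mem_iff v).1 hv
      have h0 := congrFun (hcm x hvb) 0
      subst hr
      simp only [Matrix.cons_val_zero, RingEquiv.refl_apply, CharTwo.add_self_eq_zero, zero_add,
        Pi.zero_apply, mul_eq_zero] at h0
      exact M.mem_R.2 (h0.resolve_left hc)
    rw [← M.card_R hF]
    exact Subgroup.card_le_of_le hle
  · have hle : V ⊓ centralizer ({b} : Set G) ≤ M.V3 := by
      rintro v ⟨hv, hvb⟩
      obtain ⟨x, rfl⟩ := (M.mem_iff v).1 hv
      have h1 : σ (x 1) + x 1 = 0 := congrFun (hcm x hvb) 1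
      rw [M.mem_V3]
      apply of_sig_eq hF hr
      have : σ (x 1) = σ (x 1) + x 1 + x 1 := by rw [add_assoc, CharTwo.add_self_eq_zero, add_zero]
      rw [this, h1, zero_add]
    have hne : V ⊓ centralizer ({b} : Set G) ≠ M.V3 := by
      intro he
      apply hr
      apply (M.centR_iff hσ).1
      rw [mem_centralizer_iff]
      intro v hv
      have h1 : v ∈ V ⊓ centralizer ({b} : Set G) := he ▸ M.R_le hv
      exact mem_centralizer_singleton_iff.1 h1.2
    have hd : Nat.card ↥(V ⊓ centralizer ({b} : Set G)) ∣ 8 := by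
      rw [← M.card_V3 hF]
      exact Subgroup.card_dvd_of_le hle
    have hlt : Nat.card ↥(V ⊓ centralizer ({b} : Set G)) ≠ 8 := by
      intro h8
      exact hne (Subgroup.eq_of_le_of_card_ge hle (by rw [h8, M.card_V3 hF]))
    have hle8 := Nat.le_of_dvd (by decide) hd
    interval_cases Nat.card ↥(V ⊓ centralizer ({b} : Set G)) <;> simp_all

theorem le4 (hF : Nat.card F = 4) (D : Subgroup G) (hDS : D ≤ S) (hD : ElemOn V D) :
    (centralizer (V : Set G)).relIndex D ≤ 4 := by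
  classical
  have hfin : Finite F := Nat.finite_of_card_ne_zero (by rw [hF]; decide)
  choose σ c h using fun d : D => M.act d (hDS d.2)
  have key : ∀ d d' : D, σ d = σ d' → c d = c d' → (d : G)⁻¹ * d' ∈ centralizer (V : Set G) := by
    intro d d' h1 h2
    rw [mem_centralizer_iff]
    intro v hv
    obtain ⟨x, rfl⟩ := (M.mem_iff v).1 hv
    have e1 := h d x
    have e2 := h d' x
    rw [h1, h2, ← e2] at e1
    have : (d : G)⁻¹ * (d * M.e x * (d : G)⁻¹) * d' = (d : G)⁻¹ * (d' * M.e x * (d' : G)⁻¹) * d' := by rw [e1]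
    calc M.e x * ((d : G)⁻¹ * d') = (d : G)⁻¹ * (d * M.e x * (d : G)⁻¹) * d' := by group
      _ = (d : G)⁻¹ * (d' * M.e x * (d' : G)⁻¹) * d' := this
      _ = (d : G)⁻¹ * d' * M.e x := by group
  have hcard : ∀ {T : Type} [Finite T] (f : D → T),
      (∀ d d' : D, f d = f d' → (d : G)⁻¹ * d' ∈ centralizer (V : Set G)) →
      (centralizer (V : Set G)).relIndex D ≤ Nat.card T := by
    intro T _ f hf
    show Nat.card (D ⧸ (centralizer (V : Set G)).subgroupOf D) ≤ Nat.card T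
    refine Nat.card_le_card_of_injective (fun q => f q.out) ?_
    intro q q' hq
    rw [← Quotient.out_eq' q, ← Quotient.out_eq' q']
    apply Quotient.sound'
    rw [QuotientGroup.leftRel_apply, mem_subgroupOf]
    exact hf _ _ hq
  by_cases hR : D ≤ centralizer (M.R : Set G)
  · obtain ⟨w, -, hall⟩ := exists_omega hF
    have e4 : Nat.card (Fin 4) = 4 := by simp
    let f : F → Fin 4 := fun x => if x = 0 then 0 else if x = 1 then 1 else if x = w then 2 else 3
    have hf : Function.Injective f := by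
      have hbij : Function.Surjective (fun i : Fin 4 => (![0, 1, w, w + 1] : Fin 4 → F) i) := by
        intro x
        rcases hall x with hx | hx | hx | hx
        · exact ⟨0, hx.symm⟩
        · exact ⟨1, hx.symm⟩
        · exact ⟨2, hx.symm⟩
        · exact ⟨3, hx.symm⟩
      have hcf : Nat.card (Fin 4) = Nat.card F := by rw [hF, e4]
      have hinj : Function.Injective (fun i : Fin 4 => (![0, 1, w, w + 1] : Fin 4 → F) i) :=
        ((Nat.bijective_iff_surjective_and_card _).2 ⟨hbij, hcf⟩).1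
      have d01 : (0 : F) ≠ 1 := zero_ne_one
      have d02 : (0 : F) ≠ w := fun h => by
        have := @hinj 0 2 h
        exact absurd this (by decide)
      have d03 : (0 : F) ≠ w + 1 := fun h => by
        have := @hinj 0 3 h
        exact absurd this (by decide)
      have d12 : (1 : F) ≠ w := fun h => by
        have := @hinj 1 2 h
        exact absurd this (by decide)
      have d13 : (1 : F) ≠ w + 1 := fun h => by
        have := @hinj 1 3 h
        exact absurd this (by decide)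
      have d23 : (w : F) ≠ w + 1 := fun h => by
        have := @hinj 2 3 h
        exact absurd this (by decide)
      intro x y hxy
      rcases hall x with hx | hx | hx | hx <;> rcases hall y with hy | hy | hy | hy <;>
        simp only [f, hx, hy, if_true, d01, d02, d03, d12, d13, d23, d01.symm, d02.symm, d03.symm, d12.symm,
          d13.symm, d23.symm, if_false] at hxy ⊢ <;> exact absurd hxy (by decide)
    rw [← e4]
    refine hcard (fun d => f (c d)) ?_
    intro d d' hdd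
    refine key d d' ?_ (hf hdd)
    rw [(M.centR_iff (h d)).1 (hR d.2), (M.centR_iff (h d')).1 (hR d'.2)]
  · have e4 : Nat.card (Bool × Bool) = 4 := by simp
    rw [← e4]
    refine hcard (fun d => (decide (σ d = RingEquiv.refl F), decide (c d = 0))) ?_
    intro d d' hdd
    have hc : ∀ d : D, c d = 0 ∨ c d = 1 := by
      intro d
      obtain ⟨τ, e, he, h'⟩ := M.out_F2 hF hDS hD hR d.2
      have e1 := h d ![0, 1]
      rw [h' ![0, 1]] at e1
      have := congrFun (M.e_inj e1) 0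
      simp only [Matrix.cons_val_zero, Matrix.cons_val_one, map_zero, map_one, mul_one, zero_add] at this
      rwa [← this]
    have hσ : ∀ d d' : D, (σ d = RingEquiv.refl F ↔ σ d' = RingEquiv.refl F) → σ d = σ d' := by
      intro d d' hiff
      by_cases h1 : σ d = RingEquiv.refl F
      · rw [h1, hiff.1 h1]
      · have h2 : σ d' ≠ RingEquiv.refl F := fun h2 => h1 (hiff.2 h2)
        ext x
        by_cases h0 : x = 0
        · rw [h0, map_zero, map_zero]
        by_cases h1' : x = 1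
        · rw [h1', map_one, map_one]
        have e1 := sig_add hF h1 h0 h1'
        have e2 := sig_add hF h2 h0 h1'
        exact add_right_cancel (e1.trans e2.symm)
    have h1 := congrArg Prod.fst hdd
    have h2 := congrArg Prod.snd hdd
    simp only [decide_eq_decide] at h1 h2
    refine key d d' (hσ d d' h1) ?_
    rcases hc d with hc1 | hc1 <;> rcases hc d' with hc2 | hc2
    · rw [hc1, hc2]
    · exact absurd (hc2.symm.trans (h2.1 hc1)) one_ne_zero
    · exact absurd (hc1.symm.trans (h2.2 hc2)) one_ne_zero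
    · rw [hc1, hc2]

theorem ind (hF : Nat.card F = 4) (D : Subgroup G) (hDS : D ≤ S) (hD : ElemOn V D) :
    (centralizer (V : Set G)).relIndex D ≤ (centralizer (D : Set G)).relIndex V := by
  have hfinV : Finite V := Nat.finite_of_card_ne_zero (by rw [M.card_V hF]; decide)
  have hpos : (centralizer (D : Set G)).relIndex V ≠ 0 := by
    have : Finite (V ⧸ (centralizer (D : Set G)).subgroupOf V) := inferInstance
    exact Nat.card_pos.ne'
  by_cases hDV : D ≤ centralizer (V : Set G)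
  · rw [relIndex_eq_one.2 hDV]
    omega
  · obtain ⟨b, hb, hbV⟩ := SetLike.not_le_iff_exists.1 hDV
    refine (M.le4 hF D hDS hD).trans ?_
    have h1 := M.card_fix_le hF (hDS hb) hbV
    have h2 : Nat.card ↥(V ⊓ centralizer (D : Set G)) ≤ 4 := by
      have hfin4 : Finite ↥(V ⊓ centralizer ({b} : Set G)) := Finite.of_injective
        (Subgroup.inclusion (inf_le_left : V ⊓ centralizer ({b} : Set G) ≤ V)) (Subgroup.inclusion_injective _)
      refine le_trans (Subgroup.card_le_of_le ?_) h1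
      exact inf_le_inf_left _ (centralizer_le (Set.singleton_subset_iff.2 hb))
    have h3 : (centralizer (D : Set G)).relIndex V * Nat.card ↥(V ⊓ centralizer (D : Set G)) = 16 := by
      rw [← M.card_V hF]
      have e := relIndex_inf_mul_relIndex (⊥ : Subgroup G) (centralizer (D : Set G)) V
      rw [relIndex_bot_left, bot_inf_eq, relIndex_bot_left, mul_comm, inf_comm] at e
      exact e
    by_contra hcon
    push Not at hcon
    have : (centralizer (D : Set G)).relIndex V * Nat.card ↥(V ⊓ centralizer (D : Set G)) ≤ 3 * 4 :=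
      Nat.mul_le_mul (by omega) h2
    omega

/-- **The facts from the coordinates.** -/
theorem mod (hF : Nat.card F = 4) : Mod S V M.R M.V3 z where
  comm := by
    intro v hv
    rw [mem_centralizer_iff]
    intro w hw
    obtain ⟨x, rfl⟩ := (M.mem_iff v).1 hv
    obtain ⟨y, rfl⟩ := (M.mem_iff w).1 hw
    exact M.mul_comm' _ _
  sq := by
    intro v hv
    obtain ⟨x, rfl⟩ := (M.mem_iff v).1 hv
    rw [pow_two]
    nth_rewrite 1 [← M.e_inv x]
    rw [inv_mul_cancel]
  card := M.card_V hF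
  cardR := M.card_R hF
  cardV3 := M.card_V3 hF
  R_le := M.R_le
  V3_le := M.V3_le
  z_mem := ⟨![1, 0], M.z_eq.symm, rfl⟩
  z_ne := by
    intro h
    have h1 : M.e ![1, 0] = 1 := M.z_eq.symm.trans h
    rw [M.e_eq_one] at h1
    exact one_ne_zero (congrFun h1 0)
  S_z := M.S_z
  S_V := M.S_V
  S_V3 := M.S_V3
  S_R := M.S_R
  uni := M.uni hF
  ind := M.ind hF
  le4 := M.le4 hF
  small := M.small hF
  out := M.out hF
  faith := M.faith
  centR := M.centR
  nCentR := M.nCentR hF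
  fld := M.nfld

end Crd

end Cfsg.Agent.Omega.NO3S.Fld.DEight
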