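import Cfsg.Agent.Omega.NO3b.K0.Count
import Cfsg.Agent.Omega.NO3b.K0.FullOff
import Cfsg.Agent.Omega.FFThmM

/-!
# Fld, THEOREM RED (#15355), parts (2) and (3): the counting argument

`S` acts on the line `V`; `R ≤ V` is the point, `Rs ≤ R` the fixed points on `R` of the involution of `S / C_S(R)`,
`|V : R| = q = r²`.  `X` is a minimal parabolic over `S` which moves `R`, `U = ⟨V^X⟩` is elementary abelian,
`X' = ⟨R^X⟩`, `Q = O₂(X)`.

* `Line S V R Rs q r` : the facts about the action of `S` on `V` which are used (semilinear groups);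
* `Cnt S X V R Rs q r` : the situation;
* `Cnt.chain1`, `Cnt.chainU`, `Cnt.last` : the chains of lines;
* `Cnt.end3`, `Cnt.end2`, `Cnt.end4` : the contradictions: `c₁ ≥ 3`, `r ≥ 4`; `c₁ ≥ 2`, `r ≥ 8`; `c₁ ≥ 2`, `r ≥ 4` and
  `Rs` normal in `X`.
-/

set_option autoImplicit false
set_option linter.unusedSectionVars false

namespace Cfsg.Agent.Omega.NO3S.Fld.Red

open Subgroup Cfsg Cfsg.Agent.ZN Cfsg.Agent.ZN.ChoiceBase Cfsg.Agent.ZN.ChoiceSit
open Cfsg.Agent.MinSimple.MinParabolic (IsMinPar)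
open Cfsg.Agent.MinSimple.VModule (oddGen oddGen_le mem_oddGen le_normalizer_oddGen oddGen_le_of_sup)
open Cfsg.Agent.Omega.NO3b.EZero (cl cj_le_cl le_cl cl_le cj_cl le_normalizer_cl le_normalizer_inf_cent
  oddGen_sup_syl)
open Cfsg.Agent.Omega.NO3b.K0 (min_or NoOv)
open scoped commutatorElement

universe u

variable {G : Type u} [Group G]

/-- An elementary abelian 2-group, in elementary terms. -/
structure El (D : Subgroup G) : Prop where
  sq : ∀ a ∈ D, a ^ 2 = 1
  comm : ∀ a ∈ D, ∀ b ∈ D, a * b = b * a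

theorem El.mono {D E : Subgroup G} (h : El D) (hE : E ≤ D) : El E :=
  ⟨fun a ha => h.sq a (hE ha), fun a ha b hb => h.comm a (hE ha) b (hE hb)⟩

/-- `D` induces an elementary abelian 2-group on `V`, in elementary terms. -/
structure Elem (V D : Subgroup G) : Prop where
  sq : ∀ a ∈ D, a ^ 2 ∈ centralizer (V : Set G)
  comm : ∀ a ∈ D, ∀ b ∈ D, a * b * a⁻¹ * b⁻¹ ∈ centralizer (V : Set G)

/-- The facts about the action of `S` on the line `V` with the point `R`. -/
structure Line (S V R Rs : Subgroup G) (q r : ℕ) : Prop where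
  RV : R ≤ V
  RsR : Rs ≤ R
  /-- an elementary abelian subgroup moving `R` induces one involution -/
  two : ∀ D ≤ S, Elem V D → ¬ D ≤ centralizer (R : Set G) → (centralizer (R : Set G)).relIndex D = 2
  ge : ∀ D ≤ S, Elem V D → ¬ D ≤ centralizer (R : Set G) → r ≤ (centralizer (D : Set G)).relIndex R
  com : ∀ D ≤ S, Elem V D → ∀ x ∈ R, ∀ d ∈ D, x * d * x⁻¹ * d⁻¹ ∈ Rs
  /-- the root group -/
  gain : ∀ D ≤ S, D ≤ centralizer (R : Set G) → ¬ D ≤ centralizer (V : Set G) →
    q ≤ (centralizer (D : Set G)).relIndex V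
  loss : ∀ D ≤ S, D ≤ centralizer (R : Set G) → (centralizer (V : Set G)).relIndex D ≤ q
  /-- fixed points of a field involution on the root group and on `V / R` -/
  small : ∀ D ≤ S, D ≤ centralizer (R : Set G) → ∀ φ ∈ S, φ ^ 2 ∈ centralizer (V : Set G) →
    φ ∉ centralizer (R : Set G) → (∀ d ∈ D, d * φ * d⁻¹ * φ⁻¹ ∈ centralizer (V : Set G)) →
    (centralizer (V : Set G)).relIndex D ≤ r
  quot : ∀ K ≤ V, ∀ φ ∈ S, φ ^ 2 ∈ centralizer (V : Set G) → φ ∉ centralizer (R : Set G) →
    (∀ v ∈ K, v * φ * v⁻¹ * φ⁻¹ ∈ R) → r ≤ K.relIndex V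

theorem Elem.cj {V D : Subgroup G} (h : Elem V D) (g : G) : Elem (cj g V) (cj g D) where
  sq := by
    intro a ha
    rw [mem_cj] at ha
    rw [← cj_centralizer, mem_cj]
    have h1 := h.sq _ ha
    have e : (g⁻¹ * a * g) ^ 2 = g⁻¹ * a ^ 2 * g := by rw [pow_two, pow_two]; group
    rwa [e] at h1
  comm := by
    intro a ha b hb
    rw [mem_cj] at ha hb
    rw [← cj_centralizer, mem_cj]
    have h1 := h.comm _ ha _ hb
    have e : g⁻¹ * a * g * (g⁻¹ * b * g) * (g⁻¹ * a * g)⁻¹ * (g⁻¹ * b * g)⁻¹ =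
        g⁻¹ * (a * b * a⁻¹ * b⁻¹) * g := by group
    rwa [e] at h1

theorem Elem.mono {V W D E : Subgroup G} (h : Elem V D) (hW : W ≤ V) (hE : E ≤ D) : Elem W E :=
  ⟨fun a ha => centralizer_le hW (h.sq a (hE ha)), fun a ha b hb => centralizer_le hW (h.comm a (hE ha) b (hE hb))⟩

/-- An elementary abelian group induces an elementary abelian group. -/
theorem El.elem {V D : Subgroup G} (h : El D) : Elem V D :=
  ⟨fun a ha => by rw [h.sq a ha]; exact one_mem _, fun a ha b hb => by
    rw [h.comm a ha b hb, mul_inv_cancel_right, mul_inv_cancel]; exact one_mem _⟩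

theorem le_cj {g : G} {A B : Subgroup G} : A ≤ cj g B ↔ cj g⁻¹ A ≤ B := by
  rw [cj_le_iff, inv_inv]

theorem cj_relIndex (g : G) (A B : Subgroup G) : (cj g A).relIndex (cj g B) = A.relIndex B :=
  relIndex_map_map_of_injective A B (MulAut.conj g).injective

theorem cj_cent_relIndex (g : G) (A B : Subgroup G) :
    (centralizer ((cj g A : Subgroup G) : Set G)).relIndex B = (centralizer (A : Set G)).relIndex (cj g⁻¹ B) := by
  rw [← cj_centralizer]
  nth_rewrite 1 [← cj_cj_inv g B]
  exact cj_relIndex g _ _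

theorem cj_relIndex' (g : G) (A B : Subgroup G) : A.relIndex (cj g B) = (cj g⁻¹ A).relIndex B := by
  nth_rewrite 1 [← cj_cj_inv g A]
  exact cj_relIndex g _ _

theorem le_cj_cent {g : G} {A B : Subgroup G} :
    A ≤ centralizer ((cj g B : Subgroup G) : Set G) ↔ cj g⁻¹ A ≤ centralizer (B : Set G) := by
  rw [← cj_centralizer, le_cj]

/-- The facts are invariant under conjugation. -/
theorem Line.cj {S V R Rs : Subgroup G} {q r : ℕ} (h : Line S V R Rs q r) (g : G) :
    Line (cj g S) (cj g V) (cj g R) (cj g Rs) q r where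
  RV := cj_mono g h.RV
  RsR := cj_mono g h.RsR
  two D hD hE hn := by
    rw [cj_cent_relIndex]
    have hE' := hE.cj g⁻¹
    rw [cj_inv_cj] at hE'
    exact h.two _ (le_cj.1 hD) hE' fun h0 => hn (le_cj_cent.2 h0)
  ge D hD hE hn := by
    have hE' := hE.cj g⁻¹
    rw [cj_inv_cj] at hE'
    have h1 := h.ge _ (le_cj.1 hD) hE' fun h0 => hn (le_cj_cent.2 h0)
    rw [← cj_centralizer] at h1
    rw [cj_relIndex']
    exact h1
  com D hD hE x hx d hd := by
    rw [mem_cj] at hx ⊢
    have hE' := hE.cj g⁻¹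
    rw [cj_inv_cj] at hE'
    have h1 := h.com _ (le_cj.1 hD) hE' _ hx (g⁻¹ * d * g) (by
      rw [mem_cj]
      have : g⁻¹⁻¹ * (g⁻¹ * d * g) * g⁻¹ = d := by group
      rwa [this])
    have e : g⁻¹ * x * g * (g⁻¹ * d * g) * (g⁻¹ * x * g)⁻¹ * (g⁻¹ * d * g)⁻¹ =
        g⁻¹ * (x * d * x⁻¹ * d⁻¹) * g := by group
    rwa [e] at h1
  gain D hD hR hn := by
    have h1 := h.gain _ (le_cj.1 hD) (le_cj_cent.1 hR) fun h0 => hn (le_cj_cent.2 h0)
    rw [← cj_centralizer] at h1
    rw [cj_relIndex']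
    exact h1
  loss D hD hR := by
    rw [cj_cent_relIndex]
    exact h.loss _ (le_cj.1 hD) (le_cj_cent.1 hR)
  small D hD hR φ hφ h2 hn hc := by
    rw [cj_cent_relIndex]
    refine h.small _ (le_cj.1 hD) (le_cj_cent.1 hR) (g⁻¹ * φ * g) (mem_cj.1 hφ) ?_ ?_ ?_
    · have e : (g⁻¹ * φ * g) ^ 2 = g⁻¹ * φ ^ 2 * g := by rw [pow_two, pow_two]; group
      rw [← cj_centralizer, mem_cj] at h2
      rwa [e]
    · rw [← cj_centralizer, mem_cj] at hn
      exact hn
    · rintro _ ⟨d, hd, rfl⟩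
      have h3 := hc d hd
      rw [← cj_centralizer, mem_cj] at h3
      show g⁻¹ * d * g⁻¹⁻¹ * (g⁻¹ * φ * g) * (g⁻¹ * d * g⁻¹⁻¹)⁻¹ * (g⁻¹ * φ * g)⁻¹ ∈ centralizer (V : Set G)
      have e1 : g⁻¹ * d * g⁻¹⁻¹ * (g⁻¹ * φ * g) * (g⁻¹ * d * g⁻¹⁻¹)⁻¹ * (g⁻¹ * φ * g)⁻¹ =
        g⁻¹ * (d * φ * d⁻¹ * φ⁻¹) * g := by group
      rwa [e1]
  quot K hK φ hφ h2 hn hc := by
    rw [cj_relIndex']
    refine h.quot _ (le_cj.1 hK) (g⁻¹ * φ * g) (mem_cj.1 hφ) ?_ ?_ ?_
    · have e : (g⁻¹ * φ * g) ^ 2 = g⁻¹ * φ ^ 2 * g := by rw [pow_two, pow_two]; group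
      rw [← cj_centralizer, mem_cj] at h2
      rwa [e]
    · rw [← cj_centralizer, mem_cj] at hn
      exact hn
    · rintro _ ⟨d, hd, rfl⟩
      have h3 := mem_cj.1 (hc d hd)
      show g⁻¹ * d * g⁻¹⁻¹ * (g⁻¹ * φ * g) * (g⁻¹ * d * g⁻¹⁻¹)⁻¹ * (g⁻¹ * φ * g)⁻¹ ∈ R
      have e1 : g⁻¹ * d * g⁻¹⁻¹ * (g⁻¹ * φ * g) * (g⁻¹ * d * g⁻¹⁻¹)⁻¹ * (g⁻¹ * φ * g)⁻¹ =
        g⁻¹ * (d * φ * d⁻¹ * φ⁻¹) * g := by group
      rwa [e1]

/-! ### Indices -/

section idx

variable [Finite G]

/-- One step of a chain: `L ≤ C_W(D₁)`. -/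
theorem step {D1 D W L : Subgroup G} (h1 : D1 ≤ D) (hL : L ≤ W) (hLD : L ≤ centralizer (D1 : Set G)) :
    (centralizer (D1 : Set G)).relIndex W * (centralizer (D : Set G)).relIndex L ≤
      (centralizer (D : Set G)).relIndex W := by
  have hK : centralizer (D : Set G) ⊓ W ≤ centralizer (D1 : Set G) ⊓ W :=
    inf_le_inf_right _ (centralizer_le h1)
  have h2 := relIndex_mul_relIndex (centralizer (D : Set G) ⊓ W) (centralizer (D1 : Set G) ⊓ W) W hK inf_le_right
  rw [inf_relIndex_right, inf_relIndex_right] at h2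
  rw [← h2, mul_comm]
  refine Nat.mul_le_mul_right _ ?_
  have h3 : (centralizer (D : Set G) ⊓ W).relIndex (centralizer (D1 : Set G) ⊓ W) =
      (centralizer (D : Set G)).relIndex (centralizer (D1 : Set G) ⊓ W) := by
    rw [← inf_relIndex_right (centralizer (D : Set G) ⊓ W), ← inf_relIndex_right (centralizer (D : Set G))]
    congr 1
    apply le_antisymm
    · exact le_inf (inf_le_left.trans inf_le_left) inf_le_right
    · exact le_inf (le_inf inf_le_left (inf_le_right.trans inf_le_right)) inf_le_right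
  rw [h3]
  exact relIndex_le_of_le_right (le_inf hLD hL) index_ne_zero_of_finite

/-- `|D : C_D(W)| = |D₁ : C_{D₁}(W)| |D : D₁|`, `D₁ = C_D(L)`, `L ≤ W`. -/
theorem split {D W L : Subgroup G} (hL : L ≤ W) :
    (centralizer (W : Set G)).relIndex (D ⊓ centralizer (L : Set G)) * (centralizer (L : Set G)).relIndex D =
      (centralizer (W : Set G)).relIndex D := by
  have hcc : centralizer (W : Set G) ≤ centralizer (L : Set G) := centralizer_le hL
  have h2 := relIndex_mul_relIndex (centralizer (W : Set G) ⊓ D) (D ⊓ centralizer (L : Set G)) D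
    (le_inf inf_le_right (inf_le_left.trans hcc)) inf_le_left
  rw [inf_relIndex_right] at h2
  have h3 : (D ⊓ centralizer (L : Set G)).relIndex D = (centralizer (L : Set G)).relIndex D := by
    rw [inf_comm, inf_relIndex_right]
  have h4 : (centralizer (W : Set G) ⊓ D).relIndex (D ⊓ centralizer (L : Set G)) =
      (centralizer (W : Set G)).relIndex (D ⊓ centralizer (L : Set G)) := by
    rw [← inf_relIndex_right (centralizer (W : Set G) ⊓ D), ← inf_relIndex_right (centralizer (W : Set G))]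
    congr 1
    apply le_antisymm
    · exact le_inf (inf_le_left.trans inf_le_left) inf_le_right
    · exact le_inf (le_inf inf_le_left (inf_le_right.trans inf_le_left)) inf_le_right
  rw [h3, h4] at h2
  exact h2

theorem relIndex_pos (A B : Subgroup G) : 0 < A.relIndex B := Nat.pos_of_ne_zero index_ne_zero_of_finite

end idx

/-! ### The situation -/

/-- The situation of (2), (3) of THEOREM RED. -/
structure Cnt (S X V R Rs : Subgroup G) (q r : ℕ) : Prop where
  syl : Syl S X
  mp : IsMinPar S X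
  line : Line S V R Rs q r
  qr : q = r * r
  r4 : 4 ≤ r
  sq : ∀ u ∈ cl V X, u ^ 2 = 1
  comm : cl V X ≤ centralizer (cl V X : Set G)
  SR : S ≤ normalizer (R : Set G)
  nR : ¬ X ≤ normalizer (R : Set G)

namespace Cnt

variable [Finite G] {S X V R Rs : Subgroup G} {q r : ℕ} (h : Cnt S X V R Rs q r)
include h

theorem Q_le : o2 X ≤ S := o2_le_syl h.syl

theorem isPGroup_U : IsPGroup 2 (cl V X) := fun x => ⟨1, Subtype.ext (by simpa using h.sq x x.2)⟩

theorem XU : cl R X ≤ cl V X := cl_le fun _ hp => (cj_mono _ h.line.RV).trans (cj_le_cl hp)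

omit h in
theorem cj_o2 {y : G} (hy : y ∈ X) : cj y (o2 X) = o2 X :=
  mem_normalizer_iff_cj.1 (MinSimple.VModule.le_normalizer_o2 X hy)

/-- `Q ≤ S^y` -/
theorem Q_le_cj {y : G} (hy : y ∈ X) : o2 X ≤ Cfsg.Agent.ZN.ChoiceBase.cj y S := by
  have h1 := cj_mono y h.Q_le
  rwa [cj_o2 hy] at h1

theorem XU2 : cl R X ≤ centralizer (cl V X : Set G) := h.XU.trans h.comm

omit h in
/-- a subgroup not centralising `⟨L^X⟩` does not centralise some `L^y` -/
theorem exists_of_not {L D : Subgroup G} (hD : ¬ D ≤ centralizer (cl L X : Set G)) :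
    ∃ y ∈ X, ¬ D ≤ centralizer ((Cfsg.Agent.ZN.ChoiceBase.cj y L : Subgroup G) : Set G) := by
  by_contra hcon
  push Not at hcon
  apply hD
  rw [le_centralizer_iff]
  exact cl_le fun y hy => le_centralizer_iff.1 (hcon y hy)

/-- **Chain for `X'`.** -/
theorem chain1 : ∀ (n : ℕ) (D : Subgroup G), Nat.card D = n → D ≤ o2 X → Elem (cl V X) D →
    ∃ a, (centralizer (cl R X : Set G)).relIndex D = 2 ^ a ∧ r ^ a ≤ (centralizer (D : Set G)).relIndex (cl R X) := by
  intro n
  induction n using Nat.strong_induction_on with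
  | _ n ih =>
    intro D hn hDQ hD
    by_cases hc : D ≤ centralizer (cl R X : Set G)
    · exact ⟨0, by rw [pow_zero]; exact relIndex_eq_one.2 hc, by rw [pow_zero]; exact relIndex_pos _ _⟩
    · obtain ⟨y, hy, hyD⟩ := exists_of_not hc
      have hl := h.line.cj y
      have hDS := hDQ.trans (h.Q_le_cj hy)
      have hD' : Elem (Cfsg.Agent.ZN.ChoiceBase.cj y V) D := hD.mono (cj_le_cl hy) le_rfl
      have h2 := hl.two D hDS hD' hyD
      have h3 := hl.ge D hDS hD' hyD
      set L := Cfsg.Agent.ZN.ChoiceBase.cj y R with hL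
      set D1 := D ⊓ centralizer (L : Set G) with hD1
      have hlt : Nat.card D1 < n := by
        rw [← hn]
        refine lt_of_le_of_ne (card_le_of_le inf_le_left) fun h0 => hyD ?_
        have h4 := eq_of_le_of_card_ge (inf_le_left : D1 ≤ D) h0.ge
        rw [← h4]
        exact inf_le_right
      obtain ⟨a, ha1, ha2⟩ := ih _ hlt D1 rfl (inf_le_left.trans hDQ) (hD.mono le_rfl inf_le_left)
      have hLX : L ≤ cl R X := cj_le_cl hy
      refine ⟨a + 1, ?_, ?_⟩
      · rw [← split (D := D) hLX, ← hD1, ha1, h2, pow_succ]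
      · have h5 := step (D1 := D1) (D := D) inf_le_left hLX (le_centralizer_iff.1 inf_le_right)
        rw [pow_succ]
        exact (Nat.mul_le_mul ha2 h3).trans h5

/-- **Chain for `U`.** -/
theorem chainU : ∀ (n : ℕ) (D : Subgroup G), Nat.card D = n → D ≤ o2 X → D ≤ centralizer (cl R X : Set G) →
    (centralizer (cl V X : Set G)).relIndex D ≤ (centralizer (D : Set G)).relIndex (cl V X) := by
  intro n
  induction n using Nat.strong_induction_on with
  | _ n ih =>
    intro D hn hDQ hDX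
    by_cases hc : D ≤ centralizer (cl V X : Set G)
    · rw [relIndex_eq_one.2 hc]
      exact relIndex_pos _ _
    · obtain ⟨y, hy, hyD⟩ := exists_of_not hc
      have hl := h.line.cj y
      have hDS := hDQ.trans (h.Q_le_cj hy)
      have hDR : D ≤ centralizer ((Cfsg.Agent.ZN.ChoiceBase.cj y R : Subgroup G) : Set G) :=
        hDX.trans (centralizer_le (cj_le_cl hy))
      have h2 := hl.gain D hDS hDR hyD
      have h3 := hl.loss D hDS hDR
      set L := Cfsg.Agent.ZN.ChoiceBase.cj y V with hL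
      set D1 := D ⊓ centralizer (L : Set G) with hD1
      have hlt : Nat.card D1 < n := by
        rw [← hn]
        refine lt_of_le_of_ne (card_le_of_le inf_le_left) fun h0 => hyD ?_
        have h4 := eq_of_le_of_card_ge (inf_le_left : D1 ≤ D) h0.ge
        rw [← h4]
        exact inf_le_right
      have h6 := ih _ hlt D1 rfl (inf_le_left.trans hDQ) (inf_le_left.trans hDX)
      have hLX : L ≤ cl V X := cj_le_cl hy
      rw [← split (D := D) hLX, ← hD1]
      exact (Nat.mul_le_mul h6 (h3.trans h2)).trans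
        (step (D1 := D1) (D := D) inf_le_left hLX (le_centralizer_iff.1 inf_le_right))

/-- `C_A(X') ≤ Q` for `A ≤ S`. -/
theorem cent_le {A : Subgroup G} (hA : A ≤ S) : A ⊓ centralizer (cl R X : Set G) ≤ o2 X := by
  rcases min_or h.syl h.mp (K := X ⊓ centralizer (cl R X : Set G)) inf_le_left
    (le_normalizer_inf_cent (le_normalizer_cl R X)) with h1 | h1
  · exfalso
    apply h.nR
    have h2 : oddGen X ≤ normalizer (R : Set G) :=
      (h1.trans inf_le_right).trans ((centralizer_le (le_cl R X)).trans (centralizer_le_normalizer _))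
    rw [← oddGen_sup_syl h.syl]
    exact sup_le h2 h.SR
  · refine le_trans ?_ h1
    exact le_inf (inf_le_left.trans hA) (le_inf (inf_le_left.trans (hA.trans h.syl.1)) inf_le_right)

/-- the numbers of (2): `|A : A ∩ Q|`, `|A ∩ Q : C_A(X')|`, `|C_A(X') : C_A(U)|`, `|X' : C_{X'}(A)|` -/
structure Nums (_ : Cnt S X V R Rs q r) (A : Subgroup G) (α β γ ξ a : ℕ) : Prop where
  elem : Elem (cl V X) A
  le : A ≤ S
  hα : α = (o2 X).relIndex A
  hβ : β = (centralizer (cl R X : Set G)).relIndex (A ⊓ o2 X)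
  hγ : γ = (centralizer (cl V X : Set G)).relIndex (A ⊓ centralizer (cl R X : Set G))
  hξ : ξ = (centralizer (A : Set G)).relIndex (cl R X)
  α2 : 2 ≤ α
  γ0 : 0 < γ
  hβa : β = 2 ^ a
  /-- the chain -/
  chain : r ^ a ≤ ξ
  /-- maximality for `X'` -/
  maxX : ξ ≤ α * β
  /-- maximality for `U` -/
  maxU : (centralizer (A : Set G)).relIndex (cl V X) ≤ α * β * γ

theorem exists_nums' {A : Subgroup G} (hAe : Elem (cl V X) A) (hAS : A ≤ S)
    (hmax : ∀ W : Subgroup G, W ≤ cl V X →
      (centralizer (A : Set G)).relIndex W ≤ (centralizer (W : Set G)).relIndex A) (hAQ : ¬ A ≤ o2 X) :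
    ∃ α β γ ξ a, Nums h A α β γ ξ a := by
  obtain ⟨a, ha1, ha2⟩ := h.chain1 _ (A ⊓ o2 X) rfl inf_le_right (hAe.mono le_rfl inf_le_left)
  have hcA := h.cent_le hAS
  -- indices
  have e1 : (centralizer (cl R X : Set G)).relIndex A =
      (o2 X).relIndex A * (centralizer (cl R X : Set G)).relIndex (A ⊓ o2 X) := by
    have h2 := relIndex_mul_relIndex (centralizer (cl R X : Set G) ⊓ A) (A ⊓ o2 X) A
      (le_inf inf_le_right (by rw [inf_comm]; exact hcA)) inf_le_left
    rw [inf_relIndex_right] at h2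
    have h3 : (A ⊓ o2 X).relIndex A = (o2 X).relIndex A := by rw [inf_comm, inf_relIndex_right]
    have h4 : (centralizer (cl R X : Set G) ⊓ A).relIndex (A ⊓ o2 X) =
        (centralizer (cl R X : Set G)).relIndex (A ⊓ o2 X) := by
      rw [← inf_relIndex_right (centralizer (cl R X : Set G) ⊓ A), ← inf_relIndex_right (centralizer (cl R X : Set G))]
      congr 1
      apply le_antisymm
      · exact le_inf (inf_le_left.trans inf_le_left) inf_le_right
      · exact le_inf (le_inf inf_le_left (inf_le_right.trans inf_le_left)) inf_le_right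
    rw [h3, h4] at h2
    rw [← h2, mul_comm]
  have e2 : (centralizer (cl V X : Set G)).relIndex A =
      (o2 X).relIndex A * (centralizer (cl R X : Set G)).relIndex (A ⊓ o2 X) *
        (centralizer (cl V X : Set G)).relIndex (A ⊓ centralizer (cl R X : Set G)) := by
    rw [← split (D := A) h.XU, e1, mul_comm]
  refine ⟨_, _, _, _, a, hAe, hAS, rfl, rfl, rfl, rfl, ?_, relIndex_pos _ _, ha1, ?_, ?_, ?_⟩
  · have h1 := relIndex_pos (o2 X) A
    have h2 : (o2 X).relIndex A ≠ 1 := fun h0 => hAQ (relIndex_eq_one.1 h0)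
    omega
  · refine ha2.trans ?_
    refine relIndex_le_of_le_left (centralizer_le (inf_le_left : A ⊓ o2 X ≤ A)) ?_
    exact index_ne_zero_of_finite
  · rw [← e1]
    exact hmax _ h.XU
  · rw [← e2]
    exact hmax _ le_rfl

/-- the members of `A(S)` -/
theorem off_of_AA {A : Subgroup G} (hA : A ∈ AA S) (hUS : cl V X ≤ S) :
    Elem (cl V X) A ∧ ∀ W : Subgroup G, W ≤ cl V X →
      (centralizer (A : Set G)).relIndex W ≤ (centralizer (W : Set G)).relIndex A := by
  have hel : ∀ W : Subgroup G, W ≤ cl V X → IsElementaryAbelian 2 W := fun W hW =>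
    ⟨⟨⟨fun a b => Subtype.ext (mem_centralizer_iff.1 (h.comm (hW b.2)) a (hW a.2))⟩⟩, fun a ha => h.sq a (hW ha)⟩
  refine ⟨El.elem ⟨fun a ha => hA.1.2 a ha, fun a ha b hb =>
    congrArg (fun t : A => (t : G)) (hA.1.1.is_comm.comm ⟨a, ha⟩ ⟨b, hb⟩)⟩, fun W hW => ?_⟩
  by_cases hc : A ≤ centralizer (W : Set G)
  · rw [relIndex_eq_one.2 (le_centralizer_iff.1 hc), relIndex_eq_one.2 hc]
  · exact FFThm.relIndex_le_iff.1 (FFThm.off_of_AA (hel W hW) (hW.trans hUS) hA hc).le

theorem exists_nums {A : Subgroup G} (hA : A ∈ AA S) (hAQ : ¬ A ≤ o2 X) (hUS : cl V X ≤ S) :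
    ∃ α β γ ξ a, Nums h A α β γ ξ a :=
  h.exists_nums' (h.off_of_AA hA hUS).1 hA.2.1 (h.off_of_AA hA hUS).2 hAQ

variable {A : Subgroup G} {α β γ ξ a : ℕ}

omit [Finite G] in
theorem Nums.pow_le (hn : Nums h A α β γ ξ a) : 4 ^ a ≤ ξ ∧ (8 ≤ r → 8 ^ a ≤ ξ) :=
  ⟨(Nat.pow_le_pow_left h.r4 a).trans hn.chain, fun h8 => (Nat.pow_le_pow_left h8 a).trans hn.chain⟩

/-- **(2), `c₁ ≥ 3`**. -/
theorem end3 (hn : Nums h A α β γ ξ a) (hc : α ^ 3 ≤ ξ) : False := by
  have h1 := hn.α2
  have h2 := hn.maxX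
  have h3 := (hn.pow_le h).1
  have h4 : (4 : ℕ) ^ a = β * β := by
    rw [hn.hβa, show (4 : ℕ) = 2 * 2 by norm_num, mul_pow]
  rw [h4] at h3
  have hβ0 : 0 < β := by rw [hn.hβa]; positivity
  have h5 : α * α ≤ β := by
    have : α * (α * α) ≤ α * β := by
      calc α * (α * α) = α ^ 3 := by ring
        _ ≤ ξ := hc
        _ ≤ α * β := h2
    exact Nat.le_of_mul_le_mul_left this (by omega)
  have h6 : β ≤ α := by
    have : β * β ≤ α * β := h3.trans h2
    exact Nat.le_of_mul_le_mul_right this hβ0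
  nlinarith

/-- **(2), `c₁ ≥ 2`, `r ≥ 8`**. -/
theorem end2 (hn : Nums h A α β γ ξ a) (h8 : 8 ≤ r) (hc : α ^ 2 ≤ ξ) : False := by
  have h1 := hn.α2
  have h2 := hn.maxX
  have h3 := (hn.pow_le h).2 h8
  have h4 : (8 : ℕ) ^ a = β * β * β := by
    rw [hn.hβa, show (8 : ℕ) = 2 * 2 * 2 by norm_num, mul_pow, mul_pow]
  rw [h4] at h3
  have hβ0 : 0 < β := by rw [hn.hβa]; positivity
  have h5 : α ≤ β := by
    have : α * α ≤ α * β := by
      calc α * α = α ^ 2 := by ring
        _ ≤ ξ := hc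
        _ ≤ α * β := h2
    exact Nat.le_of_mul_le_mul_left this (by omega)
  have h6 : β * β ≤ α := by
    have : β * β * β ≤ α * β := h3.trans h2
    exact Nat.le_of_mul_le_mul_right this hβ0
  nlinarith

/-- **(3)**, the inequality `ξ r ≤ α β`, if `A ∩ Q` does not centralise `X'` and `Rs` is normal in `X`. -/
theorem last (hn : Nums h A α β γ ξ a) (hβ : β ≠ 1) (hRs : X ≤ normalizer (Rs : Set G)) :
    ξ * r ≤ α * β := by
  obtain ⟨y, hy, hyA⟩ := exists_of_not (L := R) (X := X) (D := A ⊓ o2 X) (fun h0 => hβ (by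
    rw [hn.hβ]; exact relIndex_eq_one.2 h0))
  obtain ⟨φ, hφ, hφR⟩ := SetLike.not_le_iff_exists.1 hyA
  have hl := h.line.cj y
  have hcjRs : Cfsg.Agent.ZN.ChoiceBase.cj y Rs = Rs := mem_normalizer_iff_cj.1 (hRs hy)
  rw [hcjRs] at hl
  have hφS := (h.Q_le_cj hy) hφ.2
  have hφ2 : φ ^ 2 ∈ centralizer (Cfsg.Agent.ZN.ChoiceBase.cj y V : Set G) :=
    centralizer_le (cj_le_cl hy) (hn.elem.sq φ hφ.1)
  set V1 := Cfsg.Agent.ZN.ChoiceBase.cj y V with hV1
  set R1 := Cfsg.Agent.ZN.ChoiceBase.cj y R with hR1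
  set A3 := A ⊓ centralizer (cl R X : Set G) with hA3
  have hA3Q : A3 ≤ o2 X := h.cent_le hn.le
  have hA3S := hA3Q.trans (h.Q_le_cj hy)
  have hA3R : A3 ≤ centralizer (R1 : Set G) := inf_le_right.trans (centralizer_le (cj_le_cl hy))
  have hA3X : A3 ≤ centralizer (cl R X : Set G) := inf_le_right
  have hV1U : V1 ≤ cl V X := cj_le_cl hy
  have hγ0 := hn.γ0
  have hγe := hn.hγ
  have hmax := hn.maxU
  have hξe := hn.hξ
  -- `γ r ξ ≤ |U : C_U(A)|`
  have key : γ * r * ξ ≤ (centralizer (A : Set G)).relIndex (cl V X) := by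
    by_cases hc : A3 ≤ centralizer (V1 : Set G)
    · -- `A₃` centralises `V₁`
      have h1 : γ ≤ (centralizer (A3 : Set G)).relIndex (cl V X) := by
        rw [hγe]
        exact h.chainU _ A3 rfl hA3Q hA3X
      set K1 := centralizer (A3 : Set G) ⊓ cl V X with hK1
      set C := centralizer (A : Set G) ⊓ cl V X with hC
      set N := cl R X ⊔ C with hN
      have hCK : C ≤ K1 := inf_le_inf_right _ (centralizer_le inf_le_left)
      have hNK : N ≤ K1 := sup_le (le_inf (le_centralizer_iff.1 hA3X) h.XU) hCK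
      have hVK : V1 ≤ K1 := le_inf (le_centralizer_iff.1 hc) hV1U
      have hNU : N ≤ cl V X := sup_le h.XU inf_le_right
      -- `|V₁ : V₁ ∩ N| ≥ r`
      have h2 : r ≤ N.relIndex V1 := by
        have h3 := hl.quot (N ⊓ V1) inf_le_right φ hφS hφ2 hφR ?_
        · rwa [inf_relIndex_right] at h3
        · intro v hv
          have hxC : cl R X ≤ normalizer (C : Set G) :=
            (h.XU2.trans (centralizer_le inf_le_right)).trans (centralizer_le_normalizer _)
          obtain ⟨w, hw, c, hc', rfl⟩ := NO3b.CTwo.mem_sup_of_le_norm hxC hv.1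
          have hcφ : c * φ = φ * c := (mem_centralizer_iff.1 hc'.1 φ hφ.1).symm
          have e : w * c * φ * (w * c)⁻¹ * φ⁻¹ = w * φ * w⁻¹ * φ⁻¹ := by
            have : w * c * φ * (w * c)⁻¹ * φ⁻¹ = w * (c * φ) * c⁻¹ * w⁻¹ * φ⁻¹ := by group
            rw [this, hcφ]; group
          rw [e]
          -- `[X', φ] ≤ Rs ≤ R₁`
          have h4 : ∀ w ∈ cl R X, w * φ * w⁻¹ * φ⁻¹ ∈ Rs := by
            let T : Subgroup G :=
              { carrier := {w | w ∈ cl R X ∧ w * φ * w⁻¹ * φ⁻¹ ∈ Rs}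
                one_mem' := ⟨one_mem _, by simp⟩
                mul_mem' := by
                  rintro a b ⟨ha, ha'⟩ ⟨hb, hb'⟩
                  refine ⟨mul_mem ha hb, ?_⟩
                  have hbR : b * φ * b⁻¹ * φ⁻¹ ∈ cl R X := ((hl.RsR.trans (cj_le_cl hy)) hb')
                  have e2 : a * b * φ * (a * b)⁻¹ * φ⁻¹ =
                      a * (b * φ * b⁻¹ * φ⁻¹) * a⁻¹ * (a * φ * a⁻¹ * φ⁻¹) := by group
                  have e3 : a * (b * φ * b⁻¹ * φ⁻¹) * a⁻¹ = b * φ * b⁻¹ * φ⁻¹ := by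
                    rw [← mem_centralizer_iff.1 (h.XU2 ha) _ (h.XU hbR), mul_inv_cancel_right]
                  rw [e2, e3]
                  exact mul_mem hb' ha'
                inv_mem' := by
                  rintro a ⟨ha, ha'⟩
                  refine ⟨inv_mem ha, ?_⟩
                  have haR : a * φ * a⁻¹ * φ⁻¹ ∈ cl R X := ((hl.RsR.trans (cj_le_cl hy)) ha')
                  have e2 : a⁻¹ * φ * a⁻¹⁻¹ * φ⁻¹ = a⁻¹ * (a * φ * a⁻¹ * φ⁻¹)⁻¹ * a := by group
                  have e3 : a⁻¹ * (a * φ * a⁻¹ * φ⁻¹)⁻¹ * a = (a * φ * a⁻¹ * φ⁻¹)⁻¹ := by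
                    rw [← mem_centralizer_iff.1 (h.XU2 (inv_mem ha)) _ (h.XU (inv_mem haR)),
                      inv_mul_cancel_right]
                  rw [e2, e3]
                  exact inv_mem ha' }
            have hT : cl R X ≤ T := by
              refine cl_le fun p hp x hx => ?_
              refine ⟨(cj_le_cl hp) hx, ?_⟩
              have hlp := h.line.cj p
              rw [mem_normalizer_iff_cj.1 (hRs hp)] at hlp
              exact hlp.com (A ⊓ o2 X) (inf_le_right.trans (h.Q_le_cj hp))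
                (hn.elem.mono (cj_le_cl hp) inf_le_left) x hx φ hφ
            exact fun w hw => (hT hw).2
          exact hl.RsR (h4 w hw)
      -- assemble
      have h5 : C.relIndex (V1 ⊔ N) ≤ C.relIndex K1 :=
        relIndex_le_of_le_right (sup_le hVK hNK) index_ne_zero_of_finite
      have h6 : C.relIndex N * N.relIndex (V1 ⊔ N) = C.relIndex (V1 ⊔ N) :=
        relIndex_mul_relIndex _ _ _ le_sup_right le_sup_right
      have h7 : N.relIndex V1 ≤ N.relIndex (V1 ⊔ N) :=
        relIndex_le_of_le_right le_sup_left index_ne_zero_of_finite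
      have h8 : ξ ≤ C.relIndex N := by
        rw [hξe]
        have h9 : C.relIndex (cl R X) ≤ C.relIndex N :=
          relIndex_le_of_le_right le_sup_left index_ne_zero_of_finite
        have h10 : C.relIndex (cl R X) = (centralizer (A : Set G)).relIndex (cl R X) := by
          rw [← inf_relIndex_right C, ← inf_relIndex_right (centralizer (A : Set G))]
          congr 1
          apply le_antisymm
          · exact le_inf (inf_le_left.trans inf_le_left) inf_le_right
          · exact le_inf (le_inf inf_le_left (inf_le_right.trans h.XU)) inf_le_right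
        rwa [h10] at h9
      have h11 : C.relIndex K1 * K1.relIndex (cl V X) = C.relIndex (cl V X) :=
        relIndex_mul_relIndex _ _ _ hCK inf_le_right
      have h12 : K1.relIndex (cl V X) = (centralizer (A3 : Set G)).relIndex (cl V X) := inf_relIndex_right _ _
      have h13 : C.relIndex (cl V X) = (centralizer (A : Set G)).relIndex (cl V X) := inf_relIndex_right _ _
      rw [← h13, ← h11, h12]
      calc γ * r * ξ = ξ * r * γ := by ring
        _ ≤ C.relIndex N * N.relIndex (V1 ⊔ N) * (centralizer (A3 : Set G)).relIndex (cl V X) :=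
            Nat.mul_le_mul (Nat.mul_le_mul h8 (h2.trans h7)) h1
        _ ≤ C.relIndex K1 * (centralizer (A3 : Set G)).relIndex (cl V X) :=
            Nat.mul_le_mul_right _ (h6.le.trans h5)
    · -- `A₃` acts nontrivially on `V₁`
      have h1 := hl.gain A3 hA3S hA3R hc
      have h2 := hl.small A3 hA3S hA3R φ hφS hφ2 hφR fun d hd =>
        centralizer_le hV1U (hn.elem.comm d hd.1 φ hφ.1)
      set D' := A3 ⊓ centralizer (V1 : Set G) with hD'
      have h3 := h.chainU _ D' rfl (inf_le_left.trans hA3Q) (inf_le_left.trans hA3X)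
      have h4 := split (D := A3) hV1U
      rw [← hD', ← hγe] at h4
      have h5 := step (D1 := D') (D := A3) inf_le_left hV1U (le_centralizer_iff.1 inf_le_right)
      have h6 := step (D1 := A3) (D := A) inf_le_left h.XU (le_centralizer_iff.1 hA3X)
      rw [← hξe] at h6
      refine le_trans ?_ h6
      refine Nat.mul_le_mul_right _ ?_
      refine le_trans ?_ h5
      rw [← h4]
      calc (centralizer (cl V X : Set G)).relIndex D' * (centralizer (V1 : Set G)).relIndex A3 * r
          ≤ (centralizer (D' : Set G)).relIndex (cl V X) * r * r :=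
            Nat.mul_le_mul_right _ (Nat.mul_le_mul h3 h2)
        _ = (centralizer (D' : Set G)).relIndex (cl V X) * q := by rw [h.qr, mul_assoc]
        _ ≤ (centralizer (D' : Set G)).relIndex (cl V X) * (centralizer (A3 : Set G)).relIndex V1 :=
            Nat.mul_le_mul_left _ h1
  have h1 : γ * (ξ * r) ≤ γ * (α * β) := by
    calc γ * (ξ * r) = γ * r * ξ := by ring
      _ ≤ _ := key
      _ ≤ α * β * γ := hmax
      _ = γ * (α * β) := by ring
  exact Nat.le_of_mul_le_mul_left h1 hγ0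

/-- **(3)**: `c₁ ≥ 2` and `Rs` normal in `X`. -/
theorem end4 (hn : Nums h A α β γ ξ a) (hRs : X ≤ normalizer (Rs : Set G))
    (hc : α ^ 2 ≤ ξ) : False := by
  have h1 := hn.α2
  have h2 := hn.maxX
  have h3 := (hn.pow_le h).1
  have h4 : (4 : ℕ) ^ a = β * β := by
    rw [hn.hβa, show (4 : ℕ) = 2 * 2 by norm_num, mul_pow]
  rw [h4] at h3
  have hβ0 : 0 < β := by rw [hn.hβa]; positivity
  have hr := h.r4
  by_cases hβ1 : β = 1
  · rw [hβ1] at h2
    nlinarith
  · have h5 := h.last hn hβ1 hRs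
    have h6 : α * r ≤ β := by
      have : α * (α * r) ≤ α * β := by
        calc α * (α * r) = α ^ 2 * r := by ring
          _ ≤ ξ * r := Nat.mul_le_mul_right _ hc
          _ ≤ α * β := h5
      exact Nat.le_of_mul_le_mul_left this (by omega)
    have h7 : β * r ≤ α := by
      have : β * r * β ≤ α * β := by
        calc β * r * β = β * β * r := by ring
          _ ≤ ξ * r := Nat.mul_le_mul_right _ h3
          _ ≤ α * β := h5
      exact Nat.le_of_mul_le_mul_right this hβ0
    nlinarith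

end Cnt

end Cfsg.Agent.Omega.NO3S.Fld.Red
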