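import Cfsg.Agent.Omega.NO3S.Fld.Mods
import Cfsg.Agent.Omega.NO3S.Fld.RedCount

/-!
# Fld: the facts `Red.Line` from the coordinates

`Crd.line` : if some element of `S` moves `R`, then `Red.Line S V R Rs q r` with `q = |F| = r²` and
`Rs = {(a, 0) : φ a = a}`, `φ` the involution of `Aut F`; `Crd.S_Rs` : `Rs` is normalised by `S`.
-/

set_option autoImplicit false
set_option linter.unusedSectionVars false
set_option linter.unusedVariables false

namespace Cfsg.Agent.Omega.NO3S.Fld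

open Subgroup Cfsg Cfsg.Agent.ZN Cfsg.Agent.ZN.ChoiceBase Cfsg.Agent.Omega.MinPar
open Cfsg.Agent.Omega.NatPair (ext2)
open Cfsg.Agent.Omega.NO3S.OneLine (conj_mem card_mul_relIndex)

universe u

variable {G : Type u} [Group G]

namespace Crd

variable {F : Type*} [Field F] {S P V : Subgroup G} (M : Crd F S P V)

/-- an involution of `Aut F` -/
theorem exists_involution [Finite F] (hS : IsPGroup 2 S) (hne : ¬ S ≤ centralizer (M.R : Set G)) :
    ∃ φ : F ≃+* F, φ ≠ RingEquiv.refl F ∧ ∀ x, φ (φ x) = x := by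
  obtain ⟨s, hs, hsR⟩ := SetLike.not_le_iff_exists.1 hne
  obtain ⟨n, hn⟩ := hS ⟨s, hs⟩
  have h1 : M.sgHom ⟨s, hs⟩ ^ 2 ^ n = 1 := by rw [← map_pow, hn, map_one]
  have h0 : M.sgHom ⟨s, hs⟩ ≠ 1 := fun h => hsR (M.sgHom_eq_one.1 h)
  classical
  have hex : ∃ n, M.sgHom ⟨s, hs⟩ ^ 2 ^ n = 1 := ⟨n, h1⟩
  obtain ⟨m, hm⟩ : ∃ m, Nat.find hex = m + 1 := by
    refine Nat.exists_eq_succ_of_ne_zero fun h2 => h0 ?_
    have h3 := Nat.find_spec hex
    rw [h2, pow_zero, pow_one] at h3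
    exact h3
  have h2 := Nat.find_spec hex
  have h3 : M.sgHom ⟨s, hs⟩ ^ 2 ^ m ≠ 1 := Nat.find_min hex (by omega)
  rw [hm, pow_succ, pow_mul] at h2
  refine ⟨M.sgHom ⟨s, hs⟩ ^ 2 ^ m, h3, fun x => ?_⟩
  rw [pow_two] at h2
  exact congrArg (fun τ : F ≃+* F => τ x) h2

/-- `{(a, 0) : φ a = a}` -/
def Rs (φ : F ≃+* F) : Subgroup G where
  carrier := {g | ∃ a : F, φ a = a ∧ M.e ![a, 0] = g}
  mul_mem' := by
    rintro _ _ ⟨a, ha, rfl⟩ ⟨b, hb, rfl⟩
    refine ⟨a + b, by rw [map_add, ha, hb], ?_⟩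
    rw [← M.e_add]
    congr 1
    apply ext2 <;> simp
  one_mem' := ⟨0, map_zero _, by
    rw [← M.e_zero]
    congr 1
    apply ext2 <;> simp⟩
  inv_mem' := by
    rintro _ ⟨a, ha, rfl⟩
    refine ⟨-a, by rw [map_neg, ha], ?_⟩
    rw [← M.e_neg]
    congr 1
    apply ext2 <;> simp

theorem mem_Rs {φ : F ≃+* F} {g : G} : g ∈ M.Rs φ ↔ ∃ a : F, φ a = a ∧ M.e ![a, 0] = g := Iff.rfl

theorem e_mem_Rs {φ : F ≃+* F} {x : Fin 2 → F} : M.e x ∈ M.Rs φ ↔ φ (x 0) = x 0 ∧ x 1 = 0 := by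
  rw [mem_Rs]
  constructor
  · rintro ⟨a, ha, h⟩
    rw [← M.e_inj h]
    exact ⟨ha, rfl⟩
  · rintro ⟨h, h1⟩
    exact ⟨x 0, h, congrArg M.e (ext2 rfl h1.symm)⟩

theorem Rs_le (φ : F ≃+* F) : M.Rs φ ≤ M.R := by
  rintro _ ⟨a, -, rfl⟩
  exact ⟨a, rfl⟩

/-- automorphisms of a finite field commute -/
theorem comm_aut [Finite F] (σ τ : F ≃+* F) (x : F) : σ (τ x) = τ (σ x) := by
  have hc : IsCyclic (F ≃+* F) := LieRecognition.FieldSemilinear.isCyclic_ringAut F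
  let _ : CommGroup (F ≃+* F) := IsCyclic.commGroup
  have h1 : σ * τ = τ * σ := mul_comm σ τ
  exact congrArg (fun ρ : F ≃+* F => ρ x) h1

theorem S_Rs [Finite F] (φ : F ≃+* F) : S ≤ normalizer (M.Rs φ : Set G) := by
  have key : ∀ s ∈ S, ∀ v ∈ M.Rs φ, s * v * s⁻¹ ∈ M.Rs φ := by
    rintro s hs _ ⟨a, ha, rfl⟩
    obtain ⟨σ, c, h⟩ := M.exists_act hs
    rw [h, M.e_mem_Rs]
    refine ⟨?_, by simp⟩
    have e : (![σ ((![a, 0] : Fin 2 → F) 0) + c * σ ((![a, 0] : Fin 2 → F) 1), σ ((![a, 0] : Fin 2 → F) 1)] :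
        Fin 2 → F) 0 = σ a := by simp
    rw [e, comm_aut, ha]
  intro s hs
  rw [mem_normalizer_iff]
  refine fun v => ⟨key s hs v, fun h => ?_⟩
  have := key s⁻¹ (inv_mem hs) _ h
  have e : s⁻¹ * (s * v * s⁻¹) * s⁻¹⁻¹ = v := by group
  rwa [e] at this

theorem El.sqR {D : Subgroup G} (h : Red.El D) (X : Subgroup G) : ∀ a ∈ D, a ^ 2 ∈ centralizer (X : Set G) :=
  fun a ha => by rw [h.sq a ha]; exact one_mem _

/-- **`Red.Line`.** -/
theorem line [Finite G] [Finite F] [CharP F 2] {φ : F ≃+* F} (hφ1 : φ ≠ RingEquiv.refl F)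
    (hφ2 : ∀ x, φ (φ x) = x) :
    Red.Line S V M.R (M.Rs φ) (Nat.card F) (Nat.card {x : F // φ x = x}) := by
  have hq : Nat.card {x : F // φ x = x} * Nat.card {x : F // φ x = x} = Nat.card F := card_fixed hφ1 hφ2
  set r := Nat.card {x : F // φ x = x} with hr
  have hr0 : 0 < r := by
    rw [hr]
    have : Nonempty {x : F // φ x = x} := ⟨⟨0, map_zero _⟩⟩
    exact Nat.card_pos
  have hphi : ∀ s ∈ S, s ^ 2 ∈ centralizer (V : Set G) → s ∉ centralizer (M.R : Set G) → ∃ c, M.Act s φ c := by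
    intro s hs h2 hsR
    obtain ⟨σ, c, h⟩ := M.exists_act hs
    have h1 : σ ≠ RingEquiv.refl F := fun h0 => hsR (h.mem_centR.2 h0)
    have h3 : ∀ x, σ (σ x) = x := by
      intro x
      have h4 : s * s ∈ centralizer (M.R : Set G) := by rw [← pow_two]; exact centralizer_le M.R_le h2
      exact congrArg (fun τ : F ≃+* F => τ x) ((h.mul h).mem_centR.1 h4)
    obtain rfl := inv_unique h1 h3 hφ1 hφ2
    exact ⟨c, h⟩
  refine ⟨M.R_le, M.Rs_le φ, ?_, ?_, ?_, ?_, ?_, ?_, ?_⟩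
  · intro D hD hE hn
    exact M.relIndex_two hD (fun a ha => centralizer_le M.R_le (hE.sq a ha)) hn
  · intro D hD hE hn
    have h1 := M.card_fixR_D hD (fun a ha => centralizer_le M.R_le (hE.sq a ha)) hn
    have h2 := card_mul_relIndex (inf_le_left : M.R ⊓ centralizer (D : Set G) ≤ M.R)
    rw [inf_relIndex_left, M.card_R] at h2
    set n := Nat.card ↥(M.R ⊓ centralizer (D : Set G)) with hn'
    have hn0 : 0 < n := Nat.card_pos
    have h3 : n = r := by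
      have h4 : n * n = r * r := h1.trans hq.symm
      exact Nat.mul_self_inj.1 h4
    rw [h3] at h2
    have h5 : r * (centralizer (D : Set G)).relIndex M.R = r * r := h2.trans hq.symm
    exact (Nat.eq_of_mul_eq_mul_left hr0 h5).ge
  · rintro D hD hE _ ⟨a, rfl⟩ d hd
    have e : M.e ![a, 0] * d * (M.e ![a, 0])⁻¹ * d⁻¹ = (d * M.e ![a, 0] * d⁻¹ * (M.e ![a, 0])⁻¹)⁻¹ := by group
    rw [e]
    refine inv_mem ?_
    by_cases hdR : d ∈ centralizer (M.R : Set G)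
    · have h1 : d * M.e ![a, 0] = M.e ![a, 0] * d := (mem_centralizer_iff.1 hdR _ ⟨a, rfl⟩).symm
      have e2 : d * M.e ![a, 0] * d⁻¹ * (M.e ![a, 0])⁻¹ = 1 := by rw [h1]; group
      rw [e2]
      exact one_mem _
    · obtain ⟨c, h⟩ := hphi d (hD hd) (hE.sq d hd) hdR
      rw [h, ← M.e_sub, M.e_mem_Rs]
      have e1 : (![φ ((![a, 0] : Fin 2 → F) 0) + c * φ ((![a, 0] : Fin 2 → F) 1), φ ((![a, 0] : Fin 2 → F) 1)] -
        ![a, 0] : Fin 2 → F) 0 = φ a - a := by simp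
      have e2 : (![φ ((![a, 0] : Fin 2 → F) 0) + c * φ ((![a, 0] : Fin 2 → F) 1), φ ((![a, 0] : Fin 2 → F) 1)] -
        ![a, 0] : Fin 2 → F) 1 = 0 := by simp
      refine ⟨?_, e2⟩
      rw [e1, map_sub, hφ2, CharTwo.sub_eq_add, CharTwo.sub_eq_add, add_comm]
  · intro D hD hR hn
    obtain ⟨d, hd, hdV⟩ := SetLike.not_le_iff_exists.1 hn
    have h1 : V ⊓ centralizer (D : Set G) ≤ M.R := by
      rintro v ⟨hv, hvD⟩
      exact M.fix (hD hd) (hR hd) hdV hv (mem_centralizer_iff.1 hvD d hd)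
    have h2 := card_mul_relIndex (inf_le_left : V ⊓ centralizer (D : Set G) ≤ V)
    rw [inf_relIndex_left, M.card_V] at h2
    have h3 := Subgroup.card_le_of_le h1
    rw [M.card_R] at h3
    have hF0 : 0 < Nat.card F := Nat.card_pos
    by_contra hlt
    rw [not_le] at hlt
    have h4 : Nat.card ↥(V ⊓ centralizer (D : Set G)) * (centralizer (D : Set G)).relIndex V <
        Nat.card F * Nat.card F :=
      lt_of_le_of_lt (Nat.mul_le_mul_right _ h3) (Nat.mul_lt_mul_of_pos_left hlt hF0)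
    omega
  · intro D hD hR
    exact M.relIndex_le (le_inf hD hR)
  · intro D hD hR s hs h2 hsR hc
    obtain ⟨c, h⟩ := hphi s hs h2 hsR
    have h3 := M.relIndex_sq_le (le_inf hD hR) h hφ1 hφ2 fun d hd => by
      have h4 := inv_mem (hc d hd)
      have e : (d * s * d⁻¹ * s⁻¹)⁻¹ = s * d * s⁻¹ * d⁻¹ := by group
      rwa [e] at h4
    rw [← hq] at h3
    exact Nat.mul_self_le_mul_self_iff.1 h3
  · intro K hK s hs h2 hsR hc
    obtain ⟨c, h⟩ := hphi s hs h2 hsR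
    have h1 : K ≤ M.fixV h := by
      intro v hv
      rw [M.mem_fixV]
      refine ⟨hK hv, ?_⟩
      have e : s * v * s⁻¹ * v⁻¹ = (v * s * v⁻¹ * s⁻¹)⁻¹ := by group
      rw [e]
      exact inv_mem (hc v hv)
    have h3 := Subgroup.card_le_of_le h1
    rw [M.card_fixV h, ← hr] at h3
    have h4 := card_mul_relIndex hK
    rw [M.card_V] at h4
    have hF0 : 0 < Nat.card F := Nat.card_pos
    by_contra hlt
    rw [not_le] at hlt
    have h5 : Nat.card K * K.relIndex V < Nat.card F * Nat.card F := by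
      calc Nat.card K * K.relIndex V ≤ Nat.card F * r * K.relIndex V := Nat.mul_le_mul_right _ h3
        _ < Nat.card F * r * r := Nat.mul_lt_mul_of_pos_left hlt (Nat.mul_pos hF0 hr0)
        _ = Nat.card F * Nat.card F := by rw [mul_assoc, hq]
    omega

end Crd

end Cfsg.Agent.Omega.NO3S.Fld
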