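import Cfsg.Agent.Omega.NO3S.Fld.RedMod
import Cfsg.Agent.Omega.NO3S.Fld.LineOf

/-!
# Fld, THEOREM RED (#15355): the end of (1)-(3)

* `NoOv.step` : one noncentral section;
* `end_of` : the contradiction from `Md` and `Cnt`, `|F| ≥ 16`;
* `Crd.exists_sigma` : `S` acts on `R` through the powers of one `σ` of order `2^ε`;
* `Crd.norm_R` : a minimal parabolic `X ≤ C_G(Z)` over `S` with `J(S) ≰ O₂(X)`, `Ω₁(Z(O₂(X)))` centralised by
  `O²(X)`, normalises `R`, if `|F| ≥ 16`.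
-/

set_option autoImplicit false
set_option linter.unusedSectionVars false

namespace Cfsg.Agent.Omega.NO3S.Fld.Red

open Subgroup Cfsg Cfsg.Agent.ZN Cfsg.Agent.ZN.ChoiceBase Cfsg.Agent.ZN.ChoiceSit
open Cfsg.Agent.MinSimple.MinParabolic (IsMinPar)
open Cfsg.Agent.MinSimple.VModule (oddGen oddGen_le mem_oddGen le_normalizer_oddGen oddGen_le_of_sup)
open Cfsg.Agent.Omega.NO3b.EZero (cl cj_le_cl le_cl cl_le cj_cl le_normalizer_cl le_normalizer_inf_cent
  oddGen_sup_syl)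
open Cfsg.Agent.Omega.NO3b.K0 (min_or NoOv oddGen_oddGen)
open Cfsg.Agent.Omega.NO3S.NotFF (conj_mem le_normalizer_bot)
open scoped commutatorElement

universe u

variable {G : Type u} [Group G] [Finite G]

/-- one noncentral section: `|A : A ∩ Q| |N : C_N(A)| ≤ |Y : C_Y(A)|` -/
theorem noOv_step {X : Subgroup G} (hX : NoOv X) {N Y A : Subgroup G} (hNY : N ≤ Y) (hYX : Y ≤ X)
    (hsq : ∀ y ∈ Y, y ^ 2 = 1) (hY : Y ≤ centralizer (Y : Set G)) (hN : X ≤ normalizer (N : Set G))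
    (hYn : X ≤ normalizer (Y : Set G)) (hE : ¬ ⁅Y, oddGen X⁆ ≤ N) (hA : A ≤ X)
    (hA2 : ∀ a ∈ A, a ^ 2 ∈ o2 X) (hAc : ∀ a ∈ A, ∀ b ∈ A, a * b * a⁻¹ * b⁻¹ ∈ o2 X) :
    (o2 X).relIndex A * (centralizer (A : Set G)).relIndex N ≤ (centralizer (A : Set G)).relIndex Y := by
  set W := centralizer (A : Set G) ⊓ Y with hW
  have hWY : W ≤ Y := inf_le_right
  -- `[N W, A] ≤ N`
  have hNW : ⁅N ⊔ W, A⁆ ≤ N := by
    rw [commutator_le]
    intro x hx a ha
    have h1 : N ≤ normalizer (W : Set G) :=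
      (hNY.trans (hY.trans (centralizer_le hWY))).trans (centralizer_le_normalizer _)
    obtain ⟨n, hn, w, hw, rfl⟩ := NO3b.CTwo.mem_sup_of_le_norm h1 hx
    have h2 := mem_centralizer_iff.1 hw.1 a ha
    have e1 : ⁅n * w, a⁆ = n * (w * a * w⁻¹ * n⁻¹ * a⁻¹) := by
      simp only [commutatorElement_def]; group
    have e2 : w * a * w⁻¹ = a := by rw [← h2, mul_inv_cancel_right]
    rw [e1, e2]
    exact N.mul_mem hn (conj_mem (hA.trans hN) ha (N.inv_mem hn))
  have h1 := hX.gen hNY hYX hsq hY hN hYn hE hA hA2 hAc (sup_le hNY hWY) hNW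
  have h3 : W.relIndex N ≤ W.relIndex (N ⊔ W) :=
    relIndex_le_of_le_right le_sup_left index_ne_zero_of_finite
  have h4 := relIndex_mul_relIndex W (N ⊔ W) Y le_sup_right (sup_le hNY hWY)
  have h5 : W.relIndex Y = (centralizer (A : Set G)).relIndex Y := inf_relIndex_right _ _
  have h6 : W.relIndex N = (centralizer (A : Set G)).relIndex N := by
    rw [← inf_relIndex_right W, ← inf_relIndex_right (centralizer (A : Set G))]
    congr 1
    apply le_antisymm
    · exact le_inf (inf_le_left.trans inf_le_left) inf_le_right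
    · exact le_inf (le_inf inf_le_left (inf_le_right.trans hNY)) inf_le_right
  rw [← h5, ← h4, ← h6, mul_comm]
  exact Nat.mul_le_mul h3 h1

section theend

variable {F : Type*} [Field F] [Finite F] [CharP F 2] {S X V R Rs : Subgroup G} {q r : ℕ}

/-- **THEOREM RED, (1)-(3).** -/
theorem end_of (hX : NoOv X) (h : Cnt S X V R Rs q r) (M : Md F S X R) (hF : Nat.card F = q)
    (hRs : ∀ x, M.σ^[2 ^ (M.ε - 1)] x = x → M.e x ∈ Rs) (hRs' : ∀ g ∈ Rs, ∃ x, M.σ^[2 ^ (M.ε - 1)] x = x ∧ M.e x = g)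
    {A : Subgroup G} (hAe : Elem (cl V X) A) (hAS : A ≤ S)
    (hmax : ∀ W : Subgroup G, W ≤ cl V X →
      (centralizer (A : Set G)).relIndex W ≤ (centralizer (W : Set G)).relIndex A) (hAQ : ¬ A ≤ o2 X) : False := by
  have hl : Lay M.σ M.ε := ⟨M.per, M.card⟩
  obtain ⟨α, β, γ, ξ, a, hn⟩ := h.exists_nums' hAe hAS hmax hAQ
  obtain ⟨i, hi, hc, hnc, hk, hex⟩ := M.exists_i
  have hAX : A ≤ X := hn.le.trans h.syl.1
  have hA2 : ∀ a ∈ A, a ^ 2 ∈ o2 X := fun a ha =>
    h.cent_le hAS ⟨pow_mem ha 2, centralizer_le h.XU (hn.elem.sq a ha)⟩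
  have hAc : ∀ a ∈ A, ∀ b ∈ A, a * b * a⁻¹ * b⁻¹ ∈ o2 X := fun a ha b hb =>
    h.cent_le hAS ⟨A.mul_mem (A.mul_mem (A.mul_mem ha hb) (A.inv_mem ha)) (A.inv_mem hb),
      centralizer_le h.XU (hn.elem.comm a ha b hb)⟩
  have hWX : M.W ≤ X := M.W_le_X
  -- the sections
  have one : ∀ N : Subgroup G, N ≤ M.W → X ≤ normalizer (N : Set G) → ¬ N ≤ centralizer (M.E : Set G) →
      α ≤ (centralizer (A : Set G)).relIndex N := by
    intro N hNW hXN hNE
    have h1 := noOv_step hX (N := ⊥) (Y := N) (A := A) bot_le (hNW.trans hWX) (fun y hy => M.sq y (hNW hy))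
      (hNW.trans (M.comm.trans (centralizer_le hNW))) (le_normalizer_bot X) hXN
      (fun h0 => hNE (commutator_eq_bot_iff_le_centralizer.1 (le_bot_iff.1 h0))) hAX hA2 hAc
    rw [relIndex_bot_right, mul_one, ← hn.hα] at h1
    exact h1
  have stp : ∀ N Y : Subgroup G, N ≤ Y → Y ≤ M.W → X ≤ normalizer (N : Set G) → X ≤ normalizer (Y : Set G) →
      ¬ ⁅Y, M.E⁆ ≤ N → α * (centralizer (A : Set G)).relIndex N ≤ (centralizer (A : Set G)).relIndex Y := by
    intro N Y hNY hYW hXN hXY hYE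
    have h1 := noOv_step hX (N := N) (Y := Y) (A := A) hNY (hYW.trans hWX) (fun y hy => M.sq y (hYW hy))
      (hYW.trans (M.comm.trans (centralizer_le hYW))) hXN hXY hYE hAX hA2 hAc
    rwa [← hn.hα] at h1
  have hq0 := two_le_card_K_one M.σ
  -- `|F| = q = r²`
  have hε : 2 ^ M.ε = 2 ^ (M.ε - 1) * 2 := by
    rw [← pow_succ]
    congr 1
    rcases Nat.eq_zero_or_pos M.ε with h0 | h0
    · rw [h0] at hi
      have : 0 < 2 ^ i := by positivity
      omega
    · omega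
  have hr : r = Nat.card (K M.σ 1) ^ 2 ^ (M.ε - 1) := by
    have h1 : r * r = (Nat.card (K M.σ 1) ^ 2 ^ (M.ε - 1)) * (Nat.card (K M.σ 1) ^ 2 ^ (M.ε - 1)) := by
      rw [← h.qr, ← hF, M.card, hε, pow_mul, pow_two]
    exact Nat.mul_self_inj.1 h1
  have hr4 := h.r4
  by_cases h4 : 3 ≤ Nat.card (K M.σ (2 ^ i))
  · -- two sections
    obtain ⟨N, hNW, hXN, hNE, hWE⟩ := M.two_sections hi hk hex h4
    have h5 : α ^ 2 ≤ ξ := by
      rw [hn.hξ, pow_two]
      exact (Nat.mul_le_mul_left _ (one N hNW hXN hNE)).trans (stp N _ hNW le_rfl hXN M.X_W hWE)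
    by_cases h8 : 8 ≤ r
    · exact h.end2 hn h8 h5
    · -- `r = 4`, `t = m / 2`
      have hcK : Nat.card (K M.σ (2 ^ i)) = Nat.card (K M.σ 1) ^ 2 ^ i := hl.card_K (by omega)
      have hiε : 2 ^ i ≤ 2 ^ (M.ε - 1) := by omega
      have hi1 : i ≤ M.ε - 1 := (Nat.pow_le_pow_iff_right (by norm_num)).1 hiε
      have h6 : i = M.ε - 1 := by
        by_contra hne
        have h7 : i + 1 ≤ M.ε - 1 := by omega
        have h8' : Nat.card (K M.σ 1) ^ 2 ^ (i + 1) ≤ r := by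
          rw [hr]
          exact Nat.pow_le_pow_right (by omega) (Nat.pow_le_pow_right (by norm_num) h7)
        rw [pow_succ, pow_mul, ← hcK] at h8'
        have h9 : 3 ^ 2 ≤ Nat.card (K M.σ (2 ^ i)) ^ 2 := Nat.pow_le_pow_left h4 2
        omega
      have h7 : Rs = M.Rk (2 ^ i) := by
        ext g
        constructor
        · intro hg
          obtain ⟨x, hx, rfl⟩ := hRs' g hg
          rw [M.mem_Rk, mem_K_two_pow, h6]
          exact hx
        · rintro ⟨x, hx, rfl⟩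
          apply hRs
          rw [mem_K_two_pow, h6] at hx
          exact hx
      refine h.end4 hn ?_ h5
      rw [h7]
      exact M.X_Rk hc
  · -- three sections
    have hcK : Nat.card (K M.σ (2 ^ i)) = Nat.card (K M.σ 1) ^ 2 ^ i := hl.card_K (by omega)
    have h5 : Nat.card (K M.σ 1) = 2 ∧ i = 0 := by
      rcases Nat.eq_zero_or_pos i with h0 | h0
      · rw [h0, pow_zero] at h4
        exact ⟨by omega, h0⟩
      · exfalso
        have h6 : 2 ≤ 2 ^ i := by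
          calc 2 = 2 ^ 1 := (pow_one 2).symm
            _ ≤ 2 ^ i := Nat.pow_le_pow_right (by norm_num) h0
        have h7 : Nat.card (K M.σ 1) ^ 2 ≤ Nat.card (K M.σ 1) ^ 2 ^ i := Nat.pow_le_pow_right (by omega) h6
        have h8 : 2 ^ 2 ≤ Nat.card (K M.σ 1) ^ 2 := Nat.pow_le_pow_left hq0 2
        omega
    obtain ⟨h5, rfl⟩ := h5
    have hm : 4 ≤ 2 ^ M.ε := by
      rw [h5] at hr
      have h6 : 2 ^ 2 ≤ 2 ^ 2 ^ (M.ε - 1) := by rw [← hr]; exact hr4
      have h7 := (Nat.pow_le_pow_iff_right (by norm_num)).1 h6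
      omega
    obtain ⟨N, N', hNN, hNW, hXN, hXN', hNE, hNE', hWE⟩ := M.three_sections hm hk hex
    have h6 : α ^ 3 ≤ ξ := by
      rw [hn.hξ]
      calc α ^ 3 = α * (α * α) := by ring
        _ ≤ α * (α * (centralizer (A : Set G)).relIndex N) :=
            Nat.mul_le_mul_left _ (Nat.mul_le_mul_left _ (one N (hNN.trans hNW) hXN hNE))
        _ ≤ α * (centralizer (A : Set G)).relIndex N' :=
            Nat.mul_le_mul_left _ (stp N N' hNN hNW hXN hXN' hNE')
        _ ≤ _ := stp N' _ hNW le_rfl hXN' M.X_W hWE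
    exact h.end3 hn h6

end theend

end Cfsg.Agent.Omega.NO3S.Fld.Red

namespace Cfsg.Agent.Omega.NO3S.Fld.Crd

open Subgroup Cfsg Cfsg.Agent.ZN Cfsg.Agent.ZN.ChoiceBase Cfsg.Agent.ZN.ChoiceSit Cfsg.Agent.Omega.MinPar
open Cfsg.Agent.Omega.Frame Cfsg.Agent.Omega.FrameNOFF
open Cfsg.Agent.MinSimple.MinParabolic (IsMinPar)
open Cfsg.Agent.MinSimple.VModule (oddGen zl_le zc_le_zl)
open Cfsg.Agent.Omega.NO3b.EZero (cl cj_le_cl le_cl cl_le)
open Cfsg.Agent.Omega.NO3b.K0 (NoOv)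
open Cfsg.Agent.Omega.NatPair (ext2)
open Cfsg.Agent.Omega.NO3S.Fld.Red

universe u

variable {G : Type u} [Group G]

section sigma

variable {F : Type*} [Field F] [Finite F] [CharP F 2] {S P V : Subgroup G} (M : Crd F S P V)

/-- `S` acts on `R` through the powers of one field automorphism of order `2^ε`. -/
theorem exists_sigma (hS : IsPGroup 2 S) : ∃ (σ : F ≃+* F) (ε : ℕ), orderOf σ = 2 ^ ε ∧
    (∃ s₀ ∈ S, ∀ x, s₀ * M.e ![x, 0] * s₀⁻¹ = M.e ![σ x, 0]) ∧
    ∀ s ∈ S, ∃ k : ℕ, ∀ x, s * M.e ![x, 0] * s⁻¹ = M.e ![σ^[k] x, 0] := by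
  have hfin : Finite (F ≃+* F) := Finite.of_injective (fun f : F ≃+* F => (f : F → F)) DFunLike.coe_injective
  obtain ⟨s₀, hs₀, hcyc⟩ := M.cyc
  have hact : ∀ s (hs : s ∈ S) x, s * M.e ![x, 0] * s⁻¹ = M.e ![(M.sgHom ⟨s, hs⟩) x, 0] := by
    intro s hs x
    obtain ⟨σ, c, h⟩ := M.exists_act hs
    rw [M.sgHom_eq (s := ⟨s, hs⟩) h, h]
    congr 1
    apply ext2 <;> simp
  set σ := M.sgHom ⟨s₀, hs₀⟩ with hσ
  obtain ⟨n, hn⟩ := hS ⟨s₀, hs₀⟩
  have h1 : σ ^ 2 ^ n = 1 := by rw [hσ, ← map_pow, hn, map_one]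
  obtain ⟨ε, -, hε⟩ := (Nat.dvd_prime_pow Nat.prime_two).1 (orderOf_dvd_of_pow_eq_one h1)
  refine ⟨σ, ε, hε, ⟨s₀, hs₀, hact s₀ hs₀⟩, fun s hs => ?_⟩
  obtain ⟨k, hk⟩ := hcyc s hs
  refine ⟨k, fun x => ?_⟩
  rw [hact s hs, ← Red.coe_pow_eq]
  have h2 : M.sgHom ⟨s, hs⟩ = σ ^ k := by
    have h3 : M.sgHom (⟨s, hs⟩ * (⟨s₀, hs₀⟩ ^ k)⁻¹) = 1 := M.sgHom_eq_one.2 (mem_inf.1 hk).2
    rw [map_mul, map_inv, map_pow, mul_inv_eq_one] at h3
    exact h3
  rw [h2]

end sigma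

section red

variable [Finite G] {S : Sylow 2 G} {P X : Subgroup G} {F : Type*} [Field F] [Finite F] [CharP F 2]

/-- `⟨V^X⟩ ≤ S` -/
theorem cl_le_S (h : Hyp S P) (hSX : (S : Subgroup G) ≤ X) (hXZ : X ≤ CZ (S : Subgroup G)) :
    cl (zl (S : Subgroup G) P) X ≤ (S : Subgroup G) := by
  have hsyl : Syl (S : Subgroup G) X := ⟨hSX, S.isPGroup', fun _ _ hT hST => S.is_maximal' hT hST⟩
  have hUW : cl (zl (S : Subgroup G) P) X ≤ WW (S : Subgroup G) P := cl_le fun x hx => conj_zl_le_WW (hXZ hx)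
  have hUX : cl (zl (S : Subgroup G) P) X ≤ X := cl_le fun x hx => by
    have h1 := cj_mono x (h.V_le_S.trans hSX)
    rwa [cj_eq_of_mem_normalizer (Subgroup.le_normalizer hx)] at h1
  have hUp : IsPGroup 2 (cl (zl (S : Subgroup G) P) X) := fun x =>
    ⟨1, Subtype.ext (by simpa using h.W_sq x (hUW x.2))⟩
  exact (ChoiceSit.le_o2 hUp hUX (NO3b.EZero.le_normalizer_cl (zl (S : Subgroup G) P) X)).trans (o2_le_syl hsyl)

/-- **THEOREM RED, (1)-(3)**: `|F| ≥ 16`, for any `A ≤ S`, `A ≰ O₂(X)`, which is an offender on the subgroups of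
`⟨V^X⟩`; weak form of the FF-LEMMA. -/
theorem norm_R'' (h : Hyp S P) (M : Crd F (S : Subgroup G) P (zl (S : Subgroup G) P)) (h16 : 16 ≤ Nat.card F)
    (hX : NoOv X) (hmp : IsMinPar (S : Subgroup G) X) (hXZ : X ≤ CZ (S : Subgroup G))
    (hff : cl M.R X ⊓ zc (o2 X) ≤ centralizer (oddGen X : Set G)) {A : Subgroup G} (hAS : A ≤ (S : Subgroup G))
    (hAe : Red.Elem (cl (zl (S : Subgroup G) P) X) A)
    (hmax : ∀ W : Subgroup G, W ≤ cl (zl (S : Subgroup G) P) X →
      (centralizer (A : Set G)).relIndex W ≤ (centralizer (W : Set G)).relIndex A) (hAQ : ¬ A ≤ o2 X) :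
    X ≤ normalizer (M.R : Set G) := by
  by_contra hnR
  have hSX : (S : Subgroup G) ≤ X := hmp.le
  have hsyl : Syl (S : Subgroup G) X := ⟨hSX, S.isPGroup', fun _ _ hT hST => S.is_maximal' hT hST⟩
  have hVS : zl (S : Subgroup G) P ≤ (S : Subgroup G) := h.V_le_S
  have hRV : M.R ≤ zl (S : Subgroup G) P := M.R_le
  -- `U ≤ W`
  have hUW : cl (zl (S : Subgroup G) P) X ≤ WW (S : Subgroup G) P := by
    refine cl_le fun x hx => ?_
    have h1 := conj_zl_le_WW (S := S) (P := P) (hXZ hx)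
    exact h1
  have hUsq : ∀ u ∈ cl (zl (S : Subgroup G) P) X, u ^ 2 = 1 := fun u hu => h.W_sq u (hUW hu)
  have hUcomm : cl (zl (S : Subgroup G) P) X ≤ centralizer (cl (zl (S : Subgroup G) P) X : Set G) := hUW.trans (h.W_comm.trans (centralizer_le hUW))
  have hRU : cl M.R X ≤ cl (zl (S : Subgroup G) P) X := cl_le fun _ hp => (cj_mono _ hRV).trans (cj_le_cl hp)
  -- `U ≤ S`
  have hUX : cl (zl (S : Subgroup G) P) X ≤ X := cl_le fun x hx => by
    have h1 := cj_mono x (hVS.trans hSX)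
    rwa [cj_eq_of_mem_normalizer (Subgroup.le_normalizer hx)] at h1
  have hUp : IsPGroup 2 (cl (zl (S : Subgroup G) P) X) := fun x => ⟨1, Subtype.ext (by simpa using hUsq x x.2)⟩
  have hUS : cl (zl (S : Subgroup G) P) X ≤ (S : Subgroup G) :=
    (ChoiceSit.le_o2 hUp hUX (NO3b.EZero.le_normalizer_cl (zl (S : Subgroup G) P) X)).trans (o2_le_syl hsyl)
  -- `S` moves `R` elementwise
  have hne : ¬ (S : Subgroup G) ≤ centralizer (M.R : Set G) := by
    intro h0
    apply hnR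
    have h1 : M.R ≤ zc (S : Subgroup G) := by
      intro g hg
      have hgS : g ∈ (S : Subgroup G) := hVS (hRV hg)
      refine subset_closure ⟨⟨hgS, ?_⟩, hUsq g (hRU (le_cl _ _ hg))⟩
      exact le_centralizer_iff.1 h0 hg
    have h2 : X ≤ centralizer (M.R : Set G) := hXZ.trans (centralizer_le h1)
    exact h2.trans (centralizer_le_normalizer _)
  obtain ⟨σ, ε, hord, ⟨s₀, hs₀, hs₀'⟩, hact⟩ := M.exists_sigma S.isPGroup'
  have hl : Red.Lay σ ε := Red.lay_of hord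
  have hε : ε ≠ 0 := by
    rintro rfl
    apply hne
    intro s hs
    rw [mem_centralizer_iff]
    rintro _ ⟨a, rfl⟩
    obtain ⟨k, hk⟩ := hact s hs
    rw [pow_zero, orderOf_eq_one_iff] at hord
    have h1 : ∀ k x, σ^[k] x = x := by
      intro k x
      rw [← Red.coe_pow_eq, hord, one_pow]; rfl
    have h2 := hk a
    rw [h1] at h2
    exact (mul_inv_eq_iff_eq_mul.1 h2).symm
  -- the involution
  set φ : F ≃+* F := σ ^ 2 ^ (ε - 1) with hφ
  have hφ1 : φ ≠ RingEquiv.refl F := by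
    intro h0
    have h1 : σ ^ 2 ^ (ε - 1) = 1 := h0
    have h2 := orderOf_dvd_of_pow_eq_one h1
    rw [hord] at h2
    have h3 := (Nat.pow_dvd_pow_iff_le_right (by norm_num)).1 h2
    omega
  have hφ2 : ∀ x, φ (φ x) = x := by
    intro x
    have h1 : φ * φ = 1 := by
      rw [hφ, ← pow_add, ← two_mul, ← pow_succ', Nat.sub_add_cancel (Nat.pos_of_ne_zero hε), ← hord,
        pow_orderOf_eq_one]
    exact congrArg (fun τ : F ≃+* F => τ x) h1
  have hline := M.line hφ1 hφ2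
  set r := Nat.card {x : F // φ x = x} with hr
  have hq : r * r = Nat.card F := card_fixed hφ1 hφ2
  have hSR : (S : Subgroup G) ≤ normalizer (M.R : Set G) := M.S_R
  have hcnt : Red.Cnt (S : Subgroup G) X (zl (S : Subgroup G) P) M.R (M.Rs φ) (Nat.card F) r :=
    { syl := hsyl
      mp := hmp
      line := hline
      qr := hq.symm
      r4 := by
        by_contra hlt
        have : r ≤ 3 := by omega
        nlinarith
      sq := hUsq
      comm := hUcomm
      SR := hSR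
      nR := hnR }
  let N : Red.Md F (S : Subgroup G) X M.R :=
    { e := fun x => M.e ![x, 0]
      e_add := fun x y => by
        rw [← M.e_add]
        congr 1
        apply ext2 <;> simp
      e_inj := fun x y hxy => by
        have h1 := M.e_inj hxy
        have h2 := congrFun h1 0
        simpa using h2
      mem_iff := fun g => Iff.rfl
      σ := σ
      ε := ε
      per := hl.per
      card := hl.card
      act := hact
      cent := by
        intro x hx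
        have h1 : M.e ![x, 0] ∈ zc (S : Subgroup G) := by
          have hgR : M.e ![x, 0] ∈ M.R := ⟨x, rfl⟩
          have hgS : M.e ![x, 0] ∈ (S : Subgroup G) := hVS (hRV hgR)
          refine subset_closure ⟨⟨hgS, ?_⟩, hUsq _ (hRU (le_cl _ _ hgR))⟩
          refine mem_centralizer_iff.2 fun s hs => ?_
          obtain ⟨k, hk⟩ := hact s hs
          have h2 := hk x
          have h3 : σ^[k] x = x := Function.iterate_fixed ((Red.mem_K_one σ).1 hx) k
          rw [h3] at h2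
          exact mul_inv_eq_iff_eq_mul.1 h2
        exact le_centralizer_iff.1 hXZ h1
      syl := hsyl
      sq := fun u hu => hUsq u (hRU hu)
      comm := hRU.trans (hUcomm.trans (centralizer_le hRU))
      RS := hRV.trans hVS
      ff := hff
      nR := hnR }
  refine Red.end_of hX hcnt N rfl ?_ ?_ hAe hAS hmax hAQ
  · intro x hx
    refine ⟨x, ?_, rfl⟩
    rw [hφ, Red.coe_pow_eq]
    exact hx
  · rintro g ⟨a, ha, rfl⟩
    refine ⟨a, ?_, rfl⟩
    rw [hφ, Red.coe_pow_eq] at ha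
    exact ha

/-- **THEOREM RED, (1)-(3)**: `|F| ≥ 16`, for any `A ≤ S`, `A ≰ O₂(X)`, which is an offender on the subgroups of
`⟨V^X⟩`. -/
theorem norm_R' (h : Hyp S P) (M : Crd F (S : Subgroup G) P (zl (S : Subgroup G) P)) (h16 : 16 ≤ Nat.card F)
    (hX : NoOv X) (hmp : IsMinPar (S : Subgroup G) X) (hXZ : X ≤ CZ (S : Subgroup G))
    (hff : zc (o2 X) ≤ centralizer (oddGen X : Set G)) {A : Subgroup G} (hAS : A ≤ (S : Subgroup G))
    (hAe : Red.Elem (cl (zl (S : Subgroup G) P) X) A)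
    (hmax : ∀ W : Subgroup G, W ≤ cl (zl (S : Subgroup G) P) X →
      (centralizer (A : Set G)).relIndex W ≤ (centralizer (W : Set G)).relIndex A) (hAQ : ¬ A ≤ o2 X) :
    X ≤ normalizer (M.R : Set G) := norm_R'' h M h16 hX hmp hXZ (inf_le_right.trans hff) hAS hAe hmax hAQ

/-- **THEOREM RED, (1)-(3)**: `|F| ≥ 16`. -/
theorem norm_R (h : Hyp S P) (M : Crd F (S : Subgroup G) P (zl (S : Subgroup G) P)) (h16 : 16 ≤ Nat.card F)
    (hX : NoOv X) (hmp : IsMinPar (S : Subgroup G) X) (hXZ : X ≤ CZ (S : Subgroup G))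
    (hff : zc (o2 X) ≤ centralizer (oddGen X : Set G)) (hJ : ¬ jj (S : Subgroup G) ≤ o2 X) :
    X ≤ normalizer (M.R : Set G) := by
  -- a member of `A(S)`
  obtain ⟨A, hA, hAQ⟩ : ∃ A ∈ AA (S : Subgroup G), ¬ A ≤ o2 X := by
    by_contra hcon
    push Not at hcon
    apply hJ
    rw [jj_eq]
    exact sSup_le hcon
  have hAe : Red.El A := ⟨fun a ha => hA.1.2 a ha, fun a ha b hb =>
    congrArg (fun t : A => (t : G)) (hA.1.1.is_comm.comm ⟨a, ha⟩ ⟨b, hb⟩)⟩
  refine norm_R' h M h16 hX hmp hXZ hff hA.2.1 hAe.elem (fun W hW => ?_) hAQ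
  have hUW : cl (zl (S : Subgroup G) P) X ≤ WW (S : Subgroup G) P := cl_le fun x hx => conj_zl_le_WW (hXZ hx)
  have hel : IsElementaryAbelian 2 W :=
    ⟨⟨⟨fun a b => Subtype.ext (mem_centralizer_iff.1 (h.W_comm (hUW (hW b.2))) a (hUW (hW a.2)))⟩⟩,
      fun a ha => h.W_sq a (hUW (hW ha))⟩
  by_cases hc : A ≤ centralizer (W : Set G)
  · rw [relIndex_eq_one.2 (le_centralizer_iff.1 hc), relIndex_eq_one.2 hc]
  · exact FFThm.relIndex_le_iff.1 (FFThm.off_of_AA hel (hW.trans (cl_le_S h hmp.le hXZ)) hA hc).le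

end red

end Cfsg.Agent.Omega.NO3S.Fld.Crd
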