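import Cfsg.Agent.Omega.NO3S.Fld.ToPB
import Cfsg.Agent.Omega.NO3S.Fld.Red
import Cfsg.Agent.Omega.NO3S.OneLine.Step

/-!
# Fld: (TI)

`ti` : `C_G(z) ≤ N_G(R)` for `1 ≠ z ∈ R`, from (1) (each member `R'` of `P*(S)` normalises `R`, or has the same
`V` and `C_Z(R') = 1`) and `C_G(Z) ≤ N_G(R)`.
-/

set_option autoImplicit false
set_option linter.unusedSectionVars false

namespace Cfsg.Agent.Omega.NO3S.Fld

open Subgroup Cfsg Cfsg.Agent.ZN Cfsg.Agent.ZN.ChoiceBase Cfsg.Agent.Omega.MinPar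
open Cfsg.Agent.Omega.Frame Cfsg.Agent.Omega.FrameNOFF
open Cfsg.Agent.MinSimple.VModule (zc_le_zl)

universe u

variable {G : Type u} [Group G] [Finite G] {S : Sylow 2 G} {P : Subgroup G}

variable {F : Type*} [Field F] [Finite F] [CharP F 2]

/-- (TI) for `z ∈ Z`. -/
theorem ti_zc (M : Crd F (S : Subgroup G) P (zl (S : Subgroup G) P)) (h : HypJ S P)
    (hU : ∀ R' : Subgroup G, IsParS (S : Subgroup G) R' → R' ≤ normalizer (M.R : Set G) ∨
      zc (S : Subgroup G) ⊓ centralizer (R' : Set G) = ⊥)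
    (hZ : CZ (S : Subgroup G) ≤ normalizer (M.R : Set G)) {z : G} (hz : z ∈ zc (S : Subgroup G)) (hz1 : z ≠ 1) :
    centralizer ({z} : Set G) ≤ normalizer (M.R : Set G) := by
  have hS : (S : Subgroup G) ≤ centralizer ({z} : Set G) := by
    intro s hs
    rw [mem_centralizer_singleton_iff]
    exact (mem_centralizer_iff.1 (le_CZ S hs) z hz).symm
  refine MinSimple.MinParabolic.le_of_forall hS ?_ fun X hX hXz => ?_
  · exact inf_le_right.trans (normalizer_S_le_R M h)
  · have hz2 : z ∈ o2 X := by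
      have h1 : zpowers z ≤ X := by
        rw [zpowers_le]
        exact hX.le (zc_le _ hz)
      have h2 : IsPGroup 2 (zpowers z) := S.isPGroup'.to_le ((zpowers_le).2 (zc_le _ hz))
      have h3 : X ≤ normalizer ((zpowers z : Subgroup G) : Set G) := by
        refine le_trans (fun r hr => ?_) (centralizer_le_normalizer _)
        rw [mem_centralizer_iff]
        rintro _ ⟨k, rfl⟩
        have h4 : Commute r z := mem_centralizer_singleton_iff.1 (hXz hr)
        exact (h4.zpow_right k).eq.symm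
      exact MinSimple.VModule.le_o2 h1 h2 h3 (mem_zpowers z)
    have hpar : IsPar (S : Subgroup G) X := ⟨hX, fun h0 => hz1 (by rw [h0] at hz2; exact hz2)⟩
    by_cases hn : X ≤ normalizer (zc (S : Subgroup G) : Set G)
    · exact (OneLine.le_centralizer_of_le_zc hpar le_rfl hn).trans hZ
    · rcases hU X ⟨hpar, hn⟩ with h1 | h1
      · exact h1
      · exfalso
        have h2 : z ∈ zc (S : Subgroup G) ⊓ centralizer (X : Set G) :=
          ⟨hz, mem_centralizer_iff.2 fun r hr => mem_centralizer_singleton_iff.1 (hXz hr)⟩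
        rw [h1] at h2
        exact hz1 h2

/-- **(TI)** -/
theorem ti (h : HypJ S P) (M : Crd F (S : Subgroup G) P (zl (S : Subgroup G) P))
    (hU : ∀ R' : Subgroup G, IsParS (S : Subgroup G) R' →
      (jj (S : Subgroup G) ≤ o2 R' ∧ R' ≤ normalizer (M.R : Set G)) ∨
      (zl (S : Subgroup G) R' = zl (S : Subgroup G) P ∧ zc (S : Subgroup G) ⊓ centralizer (R' : Set G) = ⊥))
    (hZ : CZ (S : Subgroup G) ≤ normalizer (M.R : Set G)) :
    ∀ z ∈ M.R, z ≠ 1 → ∀ g : G, g * z = z * g → g ∈ normalizer (M.R : Set G) := by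
  intro z hz hz1 g hg
  obtain ⟨k, hk, hkR, h1⟩ := M.tor hz hz1
  have h2 : k * z * k⁻¹ ∈ M.R := (mem_normalizer_iff.1 hkR z).1 hz
  have h3 : k * z * k⁻¹ ∈ zc (S : Subgroup G) := by
    rw [M.zc_eq h.toHypN.toHyp.V_le_S (zc_le_zl _ _)]
    exact ⟨h2, mem_centralizer_iff.2 h1⟩
  have h4 : k * z * k⁻¹ ≠ 1 := fun e => hz1 (conj_eq_one_iff.1 e)
  have h5 : k * g * k⁻¹ ∈ centralizer ({k * z * k⁻¹} : Set G) := by
    rw [mem_centralizer_singleton_iff]
    calc k * g * k⁻¹ * (k * z * k⁻¹) = k * (g * z) * k⁻¹ := by group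
      _ = k * (z * g) * k⁻¹ := by rw [hg]
      _ = k * z * k⁻¹ * (k * g * k⁻¹) := by group
  have h6 := ti_zc M h (fun R' hR' => (hU R' hR').imp (fun e => e.2) fun e => e.2) hZ h3 h4 h5
  have e : g = k⁻¹ * (k * g * k⁻¹) * k := by group
  rw [e]
  exact mul_mem (mul_mem (inv_mem hkR) h6) hkR

end Cfsg.Agent.Omega.NO3S.Fld
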