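import Cfsg.Agent.Omega.NO3S.Fld.GeoR
import Cfsg.Agent.Omega.NO3S.Fld.TI
import Cfsg.Agent.Omega.NO3S.Fld.LevBR

/-!
# Fld: the frame `(R, B)` from `Hyp S P` and `N_G(S) ≤ N_G(R)` (any level)

The theorems of `TI.lean`, `GeoR.lean`, `ToPB.lean` without `HypJ`:

* `ti_zc'`, `ti'` : (TI); `V_R_eq'`, `zl_le_o2_centR'`, `geoR'` : the geometry of the points `R^g`;
* `pb_of'`, `omB_of'` : `PB S M.B P V M.R`, `OmB M.B V`;
* `pb'` : `PB` from `N_G(S) ≤ N_G(R)`, `N_G(B) ≤ N_G(V)`, (UNIQ) and `C_G(Z) ≤ N_G(R)`.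
-/

set_option autoImplicit false
set_option linter.unusedSectionVars false
set_option linter.unusedVariables false

namespace Cfsg.Agent.Omega.NO3S.Fld

open Subgroup Cfsg Cfsg.Agent.ZN Cfsg.Agent.Omega.MinPar
open Cfsg.Agent.Omega.Frame Cfsg.Agent.Omega.FrameNOFF
open Cfsg.Agent.Omega.NO3S.PT (PB OmB)
open Cfsg.Agent.Omega.NoFF.Lines Cfsg.Agent.Omega.NoFF.Basic
open Cfsg.Agent.MinSimple.VModule (zc_le_zl)
open scoped Pointwise

universe u

variable {G : Type u} [Group G] [Finite G] {S : Sylow 2 G} {P : Subgroup G}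
variable {F : Type*} [Field F] [Finite F] [CharP F 2]

/-- (TI) for `z ∈ Z`. -/
theorem ti_zc' (M : Crd F (S : Subgroup G) P (zl (S : Subgroup G) P))
    (hNS : normalizer ((S : Subgroup G) : Set G) ≤ normalizer (M.R : Set G))
    (hU : ∀ R' : Subgroup G, IsParS (S : Subgroup G) R' → R' ≤ normalizer (M.R : Set G) ∨
      zc (S : Subgroup G) ⊓ centralizer (R' : Set G) = ⊥)
    (hZ : CZ (S : Subgroup G) ≤ normalizer (M.R : Set G)) {z : G} (hz : z ∈ zc (S : Subgroup G)) (hz1 : z ≠ 1) :
    centralizer ({z} : Set G) ≤ normalizer (M.R : Set G) := by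
  have hS : (S : Subgroup G) ≤ centralizer ({z} : Set G) := by
    intro s hs
    rw [mem_centralizer_singleton_iff]
    exact (mem_centralizer_iff.1 (le_CZ S hs) z hz).symm
  refine MinSimple.MinParabolic.le_of_forall hS ?_ fun X hX hXz => ?_
  · exact inf_le_right.trans (hNS)
  · have hz2 : z ∈ o2 X := by
      have h1 : zpowers z ≤ X := by
        rw [zpowers_le]
        exact hX.le (zc_le _ hz)
      have h2 : IsPGroup 2 (zpowers z) := S.isPGroup'.to_le ((zpowers_le).2 (zc_le _ hz))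
      have h3 : X ≤ normalizer ((zpowers z : Subgroup G) : Set G) := by
        refine le_trans (fun r hr => ?_) (centralizer_le_normalizer _)
        rw [mem_centralizer_iff]
        rintro _ ⟨k, rfl⟩
        have h4 : Commute r z := mem_centralizer_singleton_iff.1 (hXz hr)
        exact (h4.zpow_right k).eq.symm
      exact MinSimple.VModule.le_o2 h1 h2 h3 (mem_zpowers z)
    have hpar : IsPar (S : Subgroup G) X := ⟨hX, fun h0 => hz1 (by rw [h0] at hz2; exact hz2)⟩
    by_cases hn : X ≤ normalizer (zc (S : Subgroup G) : Set G)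
    · exact (OneLine.le_centralizer_of_le_zc hpar le_rfl hn).trans hZ
    · rcases hU X ⟨hpar, hn⟩ with h1 | h1
      · exact h1
      · exfalso
        have h2 : z ∈ zc (S : Subgroup G) ⊓ centralizer (X : Set G) :=
          ⟨hz, mem_centralizer_iff.2 fun r hr => mem_centralizer_singleton_iff.1 (hXz hr)⟩
        rw [h1] at h2
        exact hz1 h2

/-- **(TI)** -/
theorem ti' (h : Hyp S P) (M : Crd F (S : Subgroup G) P (zl (S : Subgroup G) P))
    (hNS : normalizer ((S : Subgroup G) : Set G) ≤ normalizer (M.R : Set G))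
    (hU : ∀ R' : Subgroup G, IsParS (S : Subgroup G) R' → R' ≤ normalizer (M.R : Set G) ∨
      zc (S : Subgroup G) ⊓ centralizer (R' : Set G) = ⊥)
    (hZ : CZ (S : Subgroup G) ≤ normalizer (M.R : Set G)) :
    ∀ z ∈ M.R, z ≠ 1 → ∀ g : G, g * z = z * g → g ∈ normalizer (M.R : Set G) := by
  intro z hz hz1 g hg
  obtain ⟨k, hk, hkR, h1⟩ := M.tor hz hz1
  have h2 : k * z * k⁻¹ ∈ M.R := (mem_normalizer_iff.1 hkR z).1 hz
  have h3 : k * z * k⁻¹ ∈ zc (S : Subgroup G) := by
    rw [M.zc_eq h.V_le_S (zc_le_zl _ _)]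
    exact ⟨h2, mem_centralizer_iff.2 h1⟩
  have h4 : k * z * k⁻¹ ≠ 1 := fun e => hz1 (conj_eq_one_iff.1 e)
  have h5 : k * g * k⁻¹ ∈ centralizer ({k * z * k⁻¹} : Set G) := by
    rw [mem_centralizer_singleton_iff]
    calc k * g * k⁻¹ * (k * z * k⁻¹) = k * (g * z) * k⁻¹ := by group
      _ = k * (z * g) * k⁻¹ := by rw [hg]
      _ = k * z * k⁻¹ * (k * g * k⁻¹) := by group
  have h6 := ti_zc' M hNS hU hZ h3 h4 h5
  have e : g = k⁻¹ * (k * g * k⁻¹) * k := by group
  rw [e]
  exact mul_mem (mul_mem (inv_mem hkR) h6) hkR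

section geo

open Cfsg.Agent.Omega.NO3S.PT

/-- `⟨R^P⟩ = V` -/
theorem V_R_eq' (h : Hyp S P) (M : Crd F (S : Subgroup G) P (zl (S : Subgroup G) P)) :
    NoFF.Basic.V M.R P = zl (S : Subgroup G) P := by
  have hG := h.ctx.char2
  have hb := bl_of hG h.star M
  have hVS : zl (S : Subgroup G) P ≤ (S : Subgroup G) := (BL.zl_le_o2 hG hb).trans (hb.QB.trans hb.BS)
  have hPV : P ≤ normalizer (zl (S : Subgroup G) P : Set G) := MinSimple.VModule.le_normalizer_zl _ _
  have hZR : zc (S : Subgroup G) ≤ M.R := by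
    rw [M.zc_eq hVS (MinSimple.VModule.zc_le_zl _ _)]
    exact inf_le_left
  apply le_antisymm
  · refine iSup_le fun p => ?_
    have h1 := cj_le_cj (g := (p : G)).2 hb.RV
    rwa [cj_eq_iff.2 (hPV p.2)] at h1
  · have h1 : NoFF.Basic.V (zc (S : Subgroup G)) P ≤ NoFF.Basic.V M.R P :=
      iSup_mono fun p => cj_le_cj.2 hZR
    exact h1

/-- `V ≤ O₂(C_G(R)) ≤ B` -/
theorem zl_le_o2_centR' (h : Hyp S P) (M : Crd F (S : Subgroup G) P (zl (S : Subgroup G) P)) :
    zl (S : Subgroup G) P ≤ o2 (centralizer (M.R : Set G)) ∧ o2 (centralizer (M.R : Set G)) ≤ M.B := by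
  have hG := h.ctx.char2
  have hb := bl_of hG h.star M
  have hVS : zl (S : Subgroup G) P ≤ (S : Subgroup G) := (BL.zl_le_o2 hG hb).trans (hb.QB.trans hb.BS)
  have hZR : zc (S : Subgroup G) ≤ M.R := by
    rw [M.zc_eq hVS (MinSimple.VModule.zc_le_zl _ _)]
    exact inf_le_left
  set K := centralizer (M.R : Set G) with hK
  have hKC : K ≤ CZ (S : Subgroup G) := centralizer_le hZR
  have hVK : zl (S : Subgroup G) P ≤ K := by
    intro v hv
    rw [hK, mem_centralizer_iff]
    exact fun r hr => M.comm (hb.RV hr) hv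
  constructor
  · let O : Subgroup G := ⨆ k : K, cj (k : G) (zl (S : Subgroup G) P)
    have hO1 : zl (S : Subgroup G) P ≤ O := by
      have := le_iSup (fun k : K => cj (k : G) (zl (S : Subgroup G) P)) 1
      rwa [OneMemClass.coe_one, cj_one] at this
    have hOW : O ≤ WW (S : Subgroup G) P := iSup_le fun k => conj_zl_le_WW (hKC k.2)
    have hO2 : IsPGroup 2 O := fun w => ⟨1, Subtype.ext (by simpa using h.W_sq w (hOW w.2))⟩
    have hOK : O ≤ K := iSup_le fun k => by
      have h1 := cj_le_cj (g := (k : G)).2 hVK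
      have h2 : cj (k : G) K = K := conj_self k.2
      rwa [h2] at h1
    have hn : K ≤ normalizer (O : Set G) := by
      have key : ∀ g ∈ K, cj g O ≤ O := by
        intro g hg
        rw [cj_le_iff]
        refine iSup_le fun k => ?_
        rw [le_cj_iff, inv_inv, cj_cj]
        exact le_iSup (fun k : K => cj (k : G) (zl (S : Subgroup G) P)) ⟨g * k, mul_mem hg k.2⟩
      intro g hg
      rw [← cj_eq_iff]
      refine le_antisymm (key g hg) ?_
      rw [le_cj_iff]
      exact key g⁻¹ (inv_mem hg)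
    exact hO1.trans (MinSimple.VModule.le_o2 hOK hO2 hn)
  · have hSN : (S : Subgroup G) ≤ normalizer (M.R : Set G) := hb.RS
    have hsyl : Cfsg.Agent.ZN.ChoiceSit.Syl (S : Subgroup G) (normalizer (M.R : Set G)) :=
      ⟨hSN, S.isPGroup', fun _ _ hT hST => S.is_maximal' hT hST⟩
    have hKN : K ≤ normalizer (M.R : Set G) := centralizer_le_normalizer _
    have hcj : ∀ c ∈ normalizer (M.R : Set G), c ∈ normalizer (o2 K : Set G) := by
      intro c hc
      have h1 : ChoiceBase.cj c K = K := by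
        have h2 : cj c K = K := by rw [hK, cj_centralizer, cj_eq_iff.2 hc]
        exact h2
      rw [ChoiceBase.mem_normalizer_iff_cj, ← Cfsg.Agent.ZN.ChoiceSit.o2_cj, h1]
    have h1 : o2 K ≤ o2 (normalizer (M.R : Set G)) :=
      MinSimple.VModule.le_o2 ((MinSimple.VModule.o2_le K).trans hKN) (Cfsg.Agent.ZN.ChoiceSit.isPGroup_o2 K) hcj
    exact le_inf (h1.trans (Cfsg.Agent.ZN.ChoiceSit.o2_le_syl hsyl)) (MinSimple.VModule.o2_le K)

/-- **The geometry of the points `R^g`** -/
theorem geoR' (h : Hyp S P) (M : Crd F (S : Subgroup G) P (zl (S : Subgroup G) P)) :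
    Geo M.B M.R (normalizer (M.R : Set G)) {P} := by
  have hG := h.ctx.char2
  have hb := bl_of hG h.star M
  obtain ⟨hV1, hV2⟩ := zl_le_o2_centR' h M
  have hVe := V_R_eq' h M
  have hVS : zl (S : Subgroup G) P ≤ (S : Subgroup G) := (BL.zl_le_o2 hG hb).trans (hb.QB.trans hb.BS)
  exact
    { ZS := hb.RV.trans (hV1.trans hV2)
      cent := inf_le_right
      SP := by rintro Q rfl; exact hb.BS.trans hb.star.le
      abel := by
        rintro Q rfl
        rw [hVe]
        exact fun v hv => mem_centralizer_iff.2 fun w hw => M.comm hw hv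
      core := by
        rintro Q rfl p hpp x hx hxc
        rw [hVe] at hxc
        have h1 : x ∈ o2 Q := by
          rw [← h.inf_centralizer]
          exact ⟨hb.BS hx, hxc⟩
        have h3 : cj p (o2 Q) = o2 Q := cj_eq_iff.2 (MinSimple.VModule.le_normalizer_o2 Q hpp)
        rw [← h3] at h1
        exact cj_le_cj.2 hb.QB h1
      noff := by
        rintro Q rfl Q' rfl g h1 h2
        rw [hVe] at h1 h2 ⊢
        exact h.geo.noff _ (Set.mem_singleton _) _ (Set.mem_singleton _) g h1 h2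
      CZ := le_rfl
      cen := centralizer_le_normalizer _
      low := by
        rintro Q rfl c hc
        rw [hVe]
        have h1 : cj c (o2 (centralizer (M.R : Set G))) = o2 (centralizer (M.R : Set G)) := by
          have h2 : ChoiceBase.cj c (centralizer (M.R : Set G)) = centralizer (M.R : Set G) := by
            have h3 : cj c (centralizer (M.R : Set G)) = centralizer (M.R : Set G) := by
              rw [cj_centralizer, cj_eq_iff.2 hc]
            exact h3
          have h4 : ChoiceBase.cj c (o2 (centralizer (M.R : Set G))) = o2 (centralizer (M.R : Set G)) := by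
            rw [← Cfsg.Agent.ZN.ChoiceSit.o2_cj, h2]
          exact h4
        rw [← h1] at hV1
        exact hV1.trans (cj_le_cj.2 hV2)
      Zsq := fun z hz => by rw [pow_two]; exact M.sq (hb.RV hz) }

end geo

/-- **`PB` from the frame.** -/
theorem pb_of' (h : Hyp S P) (M : Crd F (S : Subgroup G) P (zl (S : Subgroup G) P))
    (hNS : normalizer ((S : Subgroup G) : Set G) ≤ normalizer (M.R : Set G))
    (hti : ∀ z ∈ M.R, z ≠ 1 → ∀ g : G, g * z = z * g → g ∈ normalizer (M.R : Set G))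
    (hNB : normalizer (M.B : Set G) ≤ normalizer (zl (S : Subgroup G) P : Set G))
    (hW : PT.ws (zl (S : Subgroup G) P) M.R ≤
      centralizer ((PT.ws (zl (S : Subgroup G) P) M.R : Subgroup G) : Set G)) :
    PB S M.B P (zl (S : Subgroup G) P) M.R where
  SP := h.star.isLoc.le
  PN := MinSimple.VModule.le_normalizer_zl _ _
  ZV := M.R_le
  VB := fun v hv => ⟨h.V_le_S hv, mem_centralizer_iff.2 fun r hr => M.comm (M.R_le hr) hv⟩
  BS := inf_le_left
  Zne := by
    intro hb
    have h1 := M.card_R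
    rw [hb, card_bot] at h1
    exact absurd h1 Finite.one_lt_card.ne
  SN := M.S_R
  mem_B := fun s hs hc => ⟨hs, mem_centralizer_iff.2 fun z hz => (hc z hz).symm⟩
  cen := fun z hz s hs => (mem_centralizer_iff.1 hs.2 z hz).symm
  omega := by
    intro x hx hx2 hc
    exact M.mem_R_of_cent S.isPGroup' h.V_le_S (MinSimple.VModule.zc_le_zl _ _) x hx
      (by rw [pow_two]; exact hx2) hc
  Vsq := fun v hv => M.sq hv
  part := by
    intro v hv hv1
    obtain ⟨p, hp, h1⟩ := M.part hv hv1
    exact ⟨p, hp, h1⟩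
  act := fun s hs v hv => M.act_mem hs hv
  free := fun s hs v hv hvR hsv => M.free' hs hv hvR hsv
  full := fun v hv hvR z hz => M.full' hv hvR hz
  torus := fun s hs t ht hsV htV => M.torus hs ht hsV htV
  card := M.card_V_R
  Wcomm := hW
  ti := hti
  NS := hNS
  tor := by
    intro z hz hz1
    obtain ⟨k, hk, hkR, h1⟩ := M.tor hz hz1
    exact ⟨k, hk, hkR, h1⟩
  NB := hNB

/-- (T6) -/
theorem omB_of' (h : Hyp S P) (M : Crd F (S : Subgroup G) P (zl (S : Subgroup G) P))
    (hT6 : zc (o2 P) = zl (S : Subgroup G) P) :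
    OmB M.B (zl (S : Subgroup G) P) := by
  intro y hy hyV hy2 hc
  have h1 : (S : Subgroup G) ⊓ centralizer (zl (S : Subgroup G) P : Set G) = o2 P :=
    h.inf_centralizer
  rw [← hT6]
  have h3 : y ∈ o2 P := by rw [← h1]; exact ⟨hy.1, hyV⟩
  refine ChoiceBase.mem_zc.2 ⟨h3, by rw [pow_two]; exact hy2, fun s hs => ?_⟩
  rw [← h1] at hs
  exact hc s ⟨hs.1, centralizer_le M.R_le hs.2⟩ hs.2

/-- **The frame `(R, B)`**, any level. -/
theorem pb' (h : Hyp S P) (M : Crd F (S : Subgroup G) P (zl (S : Subgroup G) P))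
    (hNS : normalizer ((S : Subgroup G) : Set G) ≤ normalizer (M.R : Set G))
    (hNB : normalizer (M.B : Set G) ≤ normalizer (zl (S : Subgroup G) P : Set G))
    (hU : ∀ R' : Subgroup G, IsParS (S : Subgroup G) R' → R' ≤ normalizer (M.R : Set G) ∨
      zc (S : Subgroup G) ⊓ centralizer (R' : Set G) = ⊥)
    (hCZ : CZ (S : Subgroup G) ≤ normalizer (M.R : Set G)) :
    PB S M.B P (zl (S : Subgroup G) P) M.R := by
  have hti := ti' h M hNS hU hCZ
  refine pb_of' h M hNS hti hNB ?_
  exact PT.wcomm_of M.S_R hti hNS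
    (by
      intro z hz hz1
      obtain ⟨k, hk, hkR, h1⟩ := M.tor hz hz1
      exact ⟨k, hk, hkR, h1⟩)
    (by
      intro hb
      have h1 := M.card_R
      rw [hb, card_bot] at h1
      exact absurd h1 Finite.one_lt_card.ne)
    (MinSimple.VModule.le_normalizer_zl _ _)
    (by
      intro v hv hv1
      obtain ⟨p, hp, h1⟩ := M.part hv hv1
      exact ⟨p, hp, h1⟩) (geoR' h M) (V_R_eq' h M)

end Cfsg.Agent.Omega.NO3S.Fld
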