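import Cfsg.Agent.Omega.NO3S.Fld.NS
import Cfsg.Agent.Omega.NO3S.PB.Basic

/-!
# Fld: the geometry with the points `R^g` and `C = N_G(R)`

* `PB.geo`, `PB.exists_crit` : for `Hyp S P` and `PB S B P V_P R`: the geometry `Geo B R (N_G(R)) {P}` and a critical pair;
* `geoR` : the same from `Hyp S P` and adapted coordinates;
* `wcomm_of` : the field `Wcomm` of `PB` from the other ones and `Geo`.
-/

set_option autoImplicit false
set_option linter.unusedSectionVars false
set_option linter.unusedVariables false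

namespace Cfsg.Agent.Omega.NO3S

open Subgroup Cfsg Cfsg.Agent.ZN Cfsg.Agent.Omega.MinPar Cfsg.Agent.Omega.Frame Cfsg.Agent.Omega.FrameNOFF
open Cfsg.Agent.Omega.NoFF.Lines Cfsg.Agent.Omega.NoFF.Basic
open scoped Pointwise

universe u

variable {G : Type u} [Group G] [Finite G] {S : Sylow 2 G} {P B R : Subgroup G}

namespace PT

section raw

variable {V Z : Subgroup G} (SN : (S : Subgroup G) ≤ normalizer (Z : Set G))
  (ti : ∀ z ∈ Z, z ≠ 1 → ∀ g : G, g * z = z * g → g ∈ normalizer (Z : Set G))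
  (NS : normalizer ((S : Subgroup G) : Set G) ≤ normalizer (Z : Set G))
  (tor : ∀ z ∈ Z, z ≠ 1 → ∃ k ∈ P, k ∈ normalizer (Z : Set G) ∧ ∀ s ∈ (S : Subgroup G), s * (k * z * k⁻¹) = k * z * k⁻¹ * s)
include SN ti NS tor

/-- (T2) from the raw hypotheses -/
theorem pt_eq_raw {g z : G} (hz : z ∈ Z) (hz' : z ∈ cj g Z) (hz1 : z ≠ 1) : cj g Z = Z := by
  obtain ⟨k, hk, hkZ, hks⟩ := tor z hz hz1
  have hT : ((k⁻¹ • S : Sylow 2 G) : Subgroup G) ≤ normalizer ((cj g Z : Subgroup G) : Set G) := by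
    intro s hs
    have h1 := hks _ (mem_cj.1 hs)
    have h2 := congrArg (fun t => k⁻¹ * t * k) h1
    have h3 : s * z = z * s := by simpa [mul_assoc] using h2
    rw [← cj_normalizer, mem_cj]
    refine ti _ (mem_cj.1 hz') (fun e => hz1 ?_) _ ?_
    · have h2 := congrArg (fun t => g * t * g⁻¹) e
      simpa [mul_assoc] using h2
    · have h2 := congrArg (fun t => g⁻¹ * t * g) h3
      simpa [mul_assoc] using h2
  have h2 : ((g • S : Sylow 2 G) : Subgroup G) ≤ normalizer ((cj g Z : Subgroup G) : Set G) := by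
    rw [coe_smul, ← cj_normalizer]
    exact cj_le_cj.2 SN
  obtain ⟨m, hm, hmS⟩ := exists_conj h2 hT
  have hn : k * m * g ∈ normalizer ((S : Subgroup G) : Set G) := by
    rw [← cj_eq_iff]
    have e1 : cj m (cj g (S : Subgroup G)) = cj k⁻¹ (S : Subgroup G) := hmS
    rw [mul_assoc, ← cj_cj, ← cj_cj, e1, cj_cj, mul_inv_cancel, cj_one]
  have h3 := cj_eq_iff.2 (NS hn)
  rw [mul_assoc, ← cj_cj, ← cj_cj, cj_eq_iff.2 hm] at h3
  have h4 : cj g Z = cj k⁻¹ Z := by
    rw [← cj_inj (g := k), h3, cj_cj, mul_inv_cancel, cj_one]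
  rw [h4, cj_eq_iff]
  exact inv_mem hkZ

/-- the lines on the point `Z` are the `N_G(Z)`-conjugates of `V` -/
theorem exists_norm_raw (Zne : Z ≠ ⊥) (PN : P ≤ normalizer (V : Set G))
    (part : ∀ v ∈ V, v ≠ 1 → ∃ p ∈ P, v ∈ cj p Z) {L : Subgroup G} (hL : IsCj V L) (hZL : Z ≤ L) :
    ∃ c ∈ normalizer (Z : Set G), L = cj c V := by
  obtain ⟨g, rfl⟩ := hL
  obtain ⟨z, hz, hz1⟩ : ∃ z ∈ Z, z ≠ 1 := by
    by_contra hcon
    push Not at hcon
    exact Zne ((eq_bot_iff_forall _).2 hcon)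
  obtain ⟨p, hp, hzp⟩ := part _ (mem_cj.1 (hZL hz)) (fun e => hz1 (by
    have h2 := congrArg (fun t => g * t * g⁻¹) e
    simpa [mul_assoc] using h2))
  have h1 : z ∈ cj (g * p) Z := by
    rw [← cj_cj, mem_cj]
    exact hzp
  have h2 := pt_eq_raw SN ti NS tor hz h1 hz1
  refine ⟨g * p, cj_eq_iff.1 h2, ?_⟩
  rw [← cj_cj, cj_eq_iff.2 (PN hp)]

/-- the field `Wcomm` -/
theorem wcomm_of (Zne : Z ≠ ⊥) (PN : P ≤ normalizer (V : Set G))
    (part : ∀ v ∈ V, v ≠ 1 → ∃ p ∈ P, v ∈ cj p Z) (geo : Geo B Z (normalizer (Z : Set G)) {P})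
    (hV : NoFF.Basic.V Z P = V) : ws V Z ≤ centralizer ((ws V Z : Subgroup G) : Set G) := by
  have h1 : ws V Z ≤ W Z (normalizer (Z : Set G)) {P} := by
    refine ws_le fun L hL hZL => ?_
    obtain ⟨c, hc, rfl⟩ := exists_norm_raw SN ti NS tor Zne PN part hL hZL
    have h2 := line_le (Z := Z) (C := normalizer (Z : Set G)) (F := {P}) (Set.mem_singleton P) hc
    rwa [hV] at h2
  exact comm_mono geo.W_comm h1 h1

end raw

namespace PB

theorem V_eq {V Z : Subgroup G} (h : PB S B P V Z) : NoFF.Basic.V Z P = V := by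
  apply le_antisymm
  · refine iSup_le fun p => ?_
    have h1 := cj_le_cj (g := (p : G)).2 h.ZV
    rwa [cj_eq_iff.2 (h.PN p.2)] at h1
  · intro v hv
    by_cases hv1 : v = 1
    · rw [hv1]; exact one_mem _
    · obtain ⟨p, hp, hvp⟩ := h.part v hv hv1
      exact (le_iSup (fun p : P => MulAut.conj (p : G) • Z) ⟨p, hp⟩) hvp

variable (hp : Hyp S P) (h : PB S B P (zl (S : Subgroup G) P) R)
include hp h

/-- **The geometry of the points `R^g`.** -/
theorem geo : Geo B R (normalizer (R : Set G)) {P} where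
  ZS := h.ZV.trans h.VB
  cent := h.B_le
  SP := by rintro Q rfl; exact h.BP
  abel := by
    rintro Q rfl
    rw [h.V_eq]
    exact fun v hv => mem_centralizer_iff.2 fun w hw => h.Vcomm hw hv
  core := by
    rintro Q rfl p hpp x hx hxc
    rw [h.V_eq] at hxc
    have h1 : x ∈ o2 Q := by
      rw [← hp.inf_centralizer]
      exact ⟨h.BS hx, hxc⟩
    have h2 : o2 Q ≤ B := by
      rw [← hp.inf_centralizer]
      rintro y ⟨hy, hyc⟩
      exact h.mem_B y hy fun z hz => (mem_centralizer_iff.1 hyc z (h.ZV hz)).symm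
    have h3 : cj p (o2 Q) = o2 Q := cj_eq_iff.2 (MinSimple.VModule.le_normalizer_o2 Q hpp)
    rw [← h3] at h1
    exact cj_le_cj.2 h2 h1
  noff := by
    rintro Q rfl Q' rfl g h1 h2
    rw [h.V_eq] at h1 h2 ⊢
    exact hp.geo.noff _ (Set.mem_singleton _) _ (Set.mem_singleton _) g h1 h2
  CZ := le_rfl
  cen := centralizer_le_normalizer _
  low := by
    rintro Q rfl c hc
    rw [h.V_eq]
    have h1 : cj c⁻¹ (zl (S : Subgroup G) Q) ≤ ws (zl (S : Subgroup G) Q) R := by
      refine le_ws ⟨c⁻¹, rfl⟩ ?_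
      rw [← cj_eq_iff.2 (inv_mem hc)]
      exact cj_le_cj.2 h.ZV
    have h2 := h1.trans h.ws_le_B
    rwa [cj_le_iff, inv_inv] at h2
  Zsq := fun z hz => by rw [pow_two]; exact h.Vsq z (h.ZV hz)

/-- `Ω₁(Z(S)) ≤ R` -/
theorem zc_le_R : zc (S : Subgroup G) ≤ R := by
  intro z hz
  have h1 := ChoiceBase.mem_zc.1 hz
  have h2 : z ∈ B := h.mem_B z h1.1 fun r hr => by
    exact (h1.2.2 r (h.VS (h.ZV hr))).symm
  exact h.omega z h2 (by rw [← pow_two]; exact h1.2.1) fun s hs => h1.2.2 s (h.BS hs)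

theorem CZ_le : CZ (S : Subgroup G) ≤ normalizer (R : Set G) := by
  obtain ⟨z, hz, hz1⟩ : ∃ z ∈ zc (S : Subgroup G), z ≠ 1 := by
    obtain ⟨z, hz1⟩ := Subgroup.ne_bot_iff_exists_ne_one.1 hp.zc_ne
    exact ⟨z, z.2, fun h => hz1 (Subtype.ext h)⟩
  intro g hg
  exact h.ti z (h.zc_le_R hp hz) hz1 g (mem_centralizer_iff.1 hg z hz).symm

/-- There is a critical pair of points `R^g`. -/
theorem exists_crit : ∃ n, 1 ≤ n ∧ ∃ y, Crit R (normalizer (R : Set G)) {P} n 1 y :=
  (h.geo hp).exists_crit (Set.singleton_nonempty P) h.Zne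
    fun _ hU h1 h3 => hp.nonLoc _ hU (h1 P rfl) ((h.CZ_le hp).trans h3)

end PB

end PT

namespace Fld

open Cfsg.Agent.Omega.NO3S.PT

variable {F : Type*} [Field F] [Finite F] [CharP F 2]

/-- `⟨R^P⟩ = V` -/
theorem V_R_eq (h : Hyp S P) (M : Crd F (S : Subgroup G) P (zl (S : Subgroup G) P)) :
    NoFF.Basic.V M.R P = zl (S : Subgroup G) P := by
  have hb := br_of h.ctx.char2 h.star M
  have hG := h.ctx.char2
  have hVS : zl (S : Subgroup G) P ≤ (S : Subgroup G) := (BR.zl_le_o2 hG hb).trans (hb.QB.trans hb.BS)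
  have hPV : P ≤ normalizer (zl (S : Subgroup G) P : Set G) := MinSimple.VModule.le_normalizer_zl _ _
  have hZR : zc (S : Subgroup G) ≤ M.R := by
    rw [M.zc_eq hVS (MinSimple.VModule.zc_le_zl _ _)]
    exact inf_le_left
  apply le_antisymm
  · refine iSup_le fun p => ?_
    have h1 := cj_le_cj (g := (p : G)).2 hb.RV
    rwa [cj_eq_iff.2 (hPV p.2)] at h1
  · have h1 : NoFF.Basic.V (zc (S : Subgroup G)) P ≤ NoFF.Basic.V M.R P :=
      iSup_mono fun p => cj_le_cj.2 hZR
    exact h1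

/-- `V ≤ O₂(C_G(R)) ≤ B` -/
theorem zl_le_o2_centR (h : Hyp S P) (M : Crd F (S : Subgroup G) P (zl (S : Subgroup G) P)) :
    zl (S : Subgroup G) P ≤ o2 (centralizer (M.R : Set G)) ∧ o2 (centralizer (M.R : Set G)) ≤ M.B := by
  have hb := br_of h.ctx.char2 h.star M
  have hG := h.ctx.char2
  have hVS : zl (S : Subgroup G) P ≤ (S : Subgroup G) := (BR.zl_le_o2 hG hb).trans (hb.QB.trans hb.BS)
  have hZR : zc (S : Subgroup G) ≤ M.R := by
    rw [M.zc_eq hVS (MinSimple.VModule.zc_le_zl _ _)]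
    exact inf_le_left
  set K := centralizer (M.R : Set G) with hK
  have hKC : K ≤ CZ (S : Subgroup G) := centralizer_le hZR
  have hVK : zl (S : Subgroup G) P ≤ K := by
    intro v hv
    rw [hK, mem_centralizer_iff]
    exact fun r hr => M.comm (hb.RV hr) hv
  constructor
  · let O : Subgroup G := ⨆ k : K, cj (k : G) (zl (S : Subgroup G) P)
    have hO1 : zl (S : Subgroup G) P ≤ O := by
      have := le_iSup (fun k : K => cj (k : G) (zl (S : Subgroup G) P)) 1
      rwa [OneMemClass.coe_one, cj_one] at this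
    have hOW : O ≤ WW (S : Subgroup G) P := iSup_le fun k => conj_zl_le_WW (hKC k.2)
    have hO2 : IsPGroup 2 O := fun w => ⟨1, Subtype.ext (by simpa using h.W_sq w (hOW w.2))⟩
    have hOK : O ≤ K := iSup_le fun k => by
      have h1 := cj_le_cj (g := (k : G)).2 hVK
      have h2 : cj (k : G) K = K := conj_self k.2
      rwa [h2] at h1
    have hn : K ≤ normalizer (O : Set G) := by
      have key : ∀ g ∈ K, cj g O ≤ O := by
        intro g hg
        rw [cj_le_iff]
        refine iSup_le fun k => ?_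
        rw [le_cj_iff, inv_inv, cj_cj]
        exact le_iSup (fun k : K => cj (k : G) (zl (S : Subgroup G) P)) ⟨g * k, mul_mem hg k.2⟩
      intro g hg
      rw [← cj_eq_iff]
      refine le_antisymm (key g hg) ?_
      rw [le_cj_iff]
      exact key g⁻¹ (inv_mem hg)
    exact hO1.trans (MinSimple.VModule.le_o2 hOK hO2 hn)
  · have hSN : (S : Subgroup G) ≤ normalizer (M.R : Set G) := hb.RS
    have hsyl : Cfsg.Agent.ZN.ChoiceSit.Syl (S : Subgroup G) (normalizer (M.R : Set G)) :=
      ⟨hSN, S.isPGroup', fun _ _ hT hST => S.is_maximal' hT hST⟩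
    have hKN : K ≤ normalizer (M.R : Set G) := centralizer_le_normalizer _
    have hcj : ∀ c ∈ normalizer (M.R : Set G), c ∈ normalizer (o2 K : Set G) := by
      intro c hc
      have h1 : ChoiceBase.cj c K = K := by
        have h2 : cj c K = K := by rw [hK, cj_centralizer, cj_eq_iff.2 hc]
        exact h2
      rw [ChoiceBase.mem_normalizer_iff_cj, ← Cfsg.Agent.ZN.ChoiceSit.o2_cj, h1]
    have h1 : o2 K ≤ o2 (normalizer (M.R : Set G)) :=
      MinSimple.VModule.le_o2 ((MinSimple.VModule.o2_le K).trans hKN) (Cfsg.Agent.ZN.ChoiceSit.isPGroup_o2 K) hcj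
    exact le_inf (h1.trans (Cfsg.Agent.ZN.ChoiceSit.o2_le_syl hsyl)) (MinSimple.VModule.o2_le K)

/-- **The geometry of the points `R^g`** -/
theorem geoR (h : Hyp S P) (M : Crd F (S : Subgroup G) P (zl (S : Subgroup G) P)) :
    Geo M.B M.R (normalizer (M.R : Set G)) {P} := by
  have hb := br_of h.ctx.char2 h.star M
  have hG := h.ctx.char2
  obtain ⟨hV1, hV2⟩ := zl_le_o2_centR h M
  have hVe := V_R_eq h M
  have hVS : zl (S : Subgroup G) P ≤ (S : Subgroup G) := (BR.zl_le_o2 hG hb).trans (hb.QB.trans hb.BS)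
  exact
    { ZS := hb.RV.trans (hV1.trans hV2)
      cent := inf_le_right
      SP := by rintro Q rfl; exact hb.BS.trans hb.star.le
      abel := by
        rintro Q rfl
        rw [hVe]
        exact fun v hv => mem_centralizer_iff.2 fun w hw => M.comm hw hv
      core := by
        rintro Q rfl p hpp x hx hxc
        rw [hVe] at hxc
        have h1 : x ∈ o2 Q := by
          rw [← h.inf_centralizer]
          exact ⟨hb.BS hx, hxc⟩
        have h3 : cj p (o2 Q) = o2 Q := cj_eq_iff.2 (MinSimple.VModule.le_normalizer_o2 Q hpp)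
        rw [← h3] at h1
        exact cj_le_cj.2 hb.QB h1
      noff := by
        rintro Q rfl Q' rfl g h1 h2
        rw [hVe] at h1 h2 ⊢
        exact h.geo.noff _ (Set.mem_singleton _) _ (Set.mem_singleton _) g h1 h2
      CZ := le_rfl
      cen := centralizer_le_normalizer _
      low := by
        rintro Q rfl c hc
        rw [hVe]
        have h1 : cj c (o2 (centralizer (M.R : Set G))) = o2 (centralizer (M.R : Set G)) := by
          have h2 : ChoiceBase.cj c (centralizer (M.R : Set G)) = centralizer (M.R : Set G) := by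
            have h3 : cj c (centralizer (M.R : Set G)) = centralizer (M.R : Set G) := by
              rw [cj_centralizer, cj_eq_iff.2 hc]
            exact h3
          have h4 : ChoiceBase.cj c (o2 (centralizer (M.R : Set G))) = o2 (centralizer (M.R : Set G)) := by
            rw [← Cfsg.Agent.ZN.ChoiceSit.o2_cj, h2]
          exact h4
        rw [← h1] at hV1
        exact hV1.trans (cj_le_cj.2 hV2)
      Zsq := fun z hz => by rw [pow_two]; exact M.sq (hb.RV hz) }

end Fld

end Cfsg.Agent.Omega.NO3S
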