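import Cfsg.Agent.Omega.NO3S.OneLine.Of

/-!
# Fld: what LEMMA UNIQ over `B` needs from the FF theorem

`Pt S P` (`P ∈ P(S)` a member with `J(S) ≰ O₂(P)`; `V = V_P`, `V₁ = C_V(J(S))`, `D = C_V(O²(P))`):
no over-offenders on `V`, `|C_S(V₁) : O₂(P)| ≤ |V₁|` and `|V| |D| ≤ |V₁|²`.
`pt_of` : it holds, by the FF theorem (`k` natural `SL₂(q)`-modules or `k` even-subset modules).
-/

set_option autoImplicit false
set_option linter.unusedSectionVars false
set_option linter.unusedVariables false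

namespace Cfsg.Agent.Omega.NO3S.Fld

open Subgroup Cfsg Cfsg.Agent.ZN Cfsg.Agent.ZN.ChoiceBase Cfsg.Agent.Omega.MinPar
open Cfsg.Agent.ZN.ChoiceSit (Syl o2_le_syl)
open Cfsg.Agent.Omega.SQ1.Bau (mem_AA_of_comm zj_le_AA elem_comm elem_sq)
open Cfsg.Agent.Omega.SQ1.BauK (V1 mem_V1)
open Cfsg.Agent.Omega.SQ1
open Cfsg.Agent.PLocal.ElemAbSup Cfsg.Agent.PLocal.ThompsonJ
open Cfsg.Agent.MinSimple.VModule (zc_le zc_le_zl zl_le le_o2 le_normalizer_zl le_normalizer_o2)
open Cfsg.Agent.Omega.SQ1.FFOne Cfsg.Agent.Omega.SQ1.FFSym Cfsg.Agent.Lib.SL2Mat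
open Cfsg.Agent.Omega.FFThm (NatK SymK Off NoOver ActsSym)
open Cfsg.Agent.Omega.FrameFF (cv)
open Cfsg.Agent.Omega.NatPair (ap ap_zero' ap_one' ap_one ap_mul ap_add ap_smul ext2)
open Cfsg.Agent.Omega.NO3S.OneLine (syT syl_of minH card_mul_relIndex)

universe u

variable {G : Type u} [Group G]

/-- What is used of the FF theorem for a member of `P(S)`. -/
structure Pt (S P : Subgroup G) : Prop where
  no : NoOver (zl S P) P
  cen : (o2 P).relIndex (S ⊓ centralizer (V1 S (zl S P) : Set G)) ≤ Nat.card (V1 S (zl S P))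
  sq : Nat.card (zl S P) * Nat.card (cv S P) ≤ Nat.card (V1 S (zl S P)) ^ 2

/-- An injection modulo `K` bounds the index. -/
theorem relIndex_le_card {K C : Subgroup G} {X : Type*} [Finite X] (f : C → X)
    (hf : ∀ x y : C, f x = f y → (x : G)⁻¹ * y ∈ K) : K.relIndex C ≤ Nat.card X := by
  rw [relIndex, index]
  refine Nat.card_le_card_of_injective (fun q : C ⧸ K.subgroupOf C => f q.out) ?_
  intro q q' h
  have h1 := hf _ _ h
  rw [← QuotientGroup.out_eq' q, ← QuotientGroup.out_eq' q', QuotientGroup.eq, mem_subgroupOf]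
  exact h1

/-! ### Natural modules -/

section nat

variable [Finite G] {ι : Type} {F : Type*} [Field F] [Finite F] [CharP F 2] [Finite ι] [Nonempty ι]
  {H T V V0 : Subgroup G}

theorem natCen (hm : MinH H T) (M : FFK ι F H T V V0) :
    (o2 H).relIndex (T ⊓ centralizer (V1 T V : Set G)) ≤ Nat.card (ι → F) := by
  let S : Subgroup G :=
    { carrier := {g | g ∈ H ∧ ∃ c, M.Up g c}
      mul_mem' := by
        rintro a b ⟨ha, c, hc⟩ ⟨hb, d, hd⟩
        exact ⟨mul_mem ha hb, c + d, FFK.Up.mul M hb hc hd⟩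
      one_mem' := ⟨one_mem H, 0, FFK.Up.one M⟩
      inv_mem' := by
        rintro a ⟨ha, c, hc⟩
        exact ⟨inv_mem ha, -c, FFK.Up.inv M ha hc⟩ }
  have hle : jj T ⊔ o2 H ≤ S := by
    refine sup_le (fun j hj => ⟨hm.syl.1 (jj_le T hj), M.jj_up hm hj⟩) fun x hx => ?_
    exact ⟨hm.syl.1 (o2_le_syl hm.syl hx), 0, M.up_zero_of_mem_Q hx⟩
  have key : ∀ x : (T ⊓ centralizer (V1 T V : Set G) : Subgroup G), ∃ c, M.Up x c := fun x => by
    have h1 := FFK.field hm M x.2.1 fun v hv => (mem_centralizer_iff.1 x.2.2 v hv).symm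
    exact (hle h1).2
  choose f hf using key
  refine relIndex_le_card f fun x y hxy => ?_
  have h1 := FFK.Up.mul M (hm.syl.1 y.2.1) (FFK.Up.inv M (hm.syl.1 x.2.1) (hf x)) (hf y)
  rw [hxy, neg_add_cancel] at h1
  exact M.mem_Q_of_up_zero hm (mul_mem (inv_mem x.2.1) y.2.1) h1

theorem natCard (hm : MinH H T) (M : FFK ι F H T V V0) :
    Nat.card V = Nat.card (V1 T V) * Nat.card (ι → F) := by
  have h1 := M.card_VS (Set.univ)
  have h2 : M.VS Set.univ = V1 T V := by
    ext v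
    rw [M.mem_VS, M.mem_V1_iff hm]
    exact ⟨fun h => ⟨h.1, fun i => h.2 i trivial⟩, fun h => ⟨h.1, fun i _ => h.2 i⟩⟩
  rw [h2] at h1
  rw [h1]
  congr 1
  exact Nat.card_congr (Equiv.arrowCongr (Equiv.Set.univ ι) (Equiv.refl F))

theorem natCard1 (hm : MinH H T) (M : FFK ι F H T V V0) :
    Nat.card (V1 T V) = Nat.card V0 * Nat.card (ι → F) := by
  have hmul : ∀ v ∈ V1 T V, ∀ w ∈ V1 T V, (fun (v : G) (i : ι) => M.π i v 0) (v * w) =
      (fun (v : G) (i : ι) => M.π i v 0) v + (fun (v : G) (i : ι) => M.π i v 0) w := by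
    intro v hv w hw
    funext i
    show M.π i (v * w) 0 = M.π i v 0 + M.π i w 0
    rw [M.map_mul i v hv.1 w hw.1]; rfl
  have hmul' : ∀ v ∈ V1 T V, ∀ w ∈ V1 T V, (fun (v : G) (i : (Set.univ : Set ι)) => M.π i v 0) (v * w) =
      (fun (v : G) (i : (Set.univ : Set ι)) => M.π i v 0) v + (fun (v : G) (i : (Set.univ : Set ι)) => M.π i v 0) w := by
    intro v hv w hw
    funext i
    exact congrFun (hmul v hv w hw) i
  have h0V : V0 ≤ V1 T V := fun v hv => (M.mem_V1_iff hm).2
    ⟨M.V0V hv, fun i => by rw [(M.ker v (M.V0V hv)).2 hv i]; rfl⟩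
  refine card_of_map (fun (v : G) (i : ι) => M.π i v 0) hmul h0V ?_ ?_
  · intro v hv
    have hv' := (M.mem_V1_iff hm).1 hv
    rw [← M.ker v hv'.1]
    constructor
    · intro h i
      exact ext2 (congrFun h i) (hv'.2 i)
    · intro h
      funext i
      show M.π i v 0 = 0
      rw [h i]; rfl
  · intro c
    obtain ⟨v, hv, h⟩ := FFK.pi_surj (S := (Set.univ : Set ι)) (K := V1 T V)
      (fun (v : G) (i : (Set.univ : Set ι)) => M.π i v 0) hmul' (by
        intro i a
        obtain ⟨v, hv, e, hj⟩ := M.surj i ![a, 0]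
        refine ⟨v, (M.mem_V1_iff hm).2 ⟨hv, fun j => ?_⟩, ?_, fun j hji => ?_⟩
        · by_cases hj' : j = i
          · subst hj'; rw [e]; rfl
          · rw [hj j hj']; rfl
        · show M.π i v 0 = a
          rw [e]; rfl
        · show M.π j v 0 = 0
          rw [hj j fun h => hji (Subtype.ext h)]; rfl) (fun j => c j)
    refine ⟨v, hv, ?_⟩
    funext i
    exact congrFun h ⟨i, trivial⟩

end nat

/-! ### Even-subset modules -/

section sym

variable [Finite G] {T H Q V D : Subgroup G} {k n : ℕ} {o : Fin n} {e : G → Fin k → Fin n → ZMod 2}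
  {ι : Type} {J : ι → Fin k} {X Y : ι → Fin n} {t r : ι → G}

theorem two_eq {a : ZMod 2} (h : a ≠ 0) : a = 1 := by
  revert a; decide

/-- the coordinates of `u i` -/
theorem e_u_val (h : SyT T H Q V D o e) (c : SyT.Ch T H V D o e J X Y t r) (i l : ι) [Decidable (l = i)] :
    e (u H V D e (J i) (X i) (Y i)) (J l) (X l) = (if l = i then 1 else 0) ∧
      e (u H V D e (J i) (X i) (Y i)) (J l) (Y l) = (if l = i then 1 else 0) := by
  have h1 := h.e_u (J i) (X i) (Y i)
  rw [h1]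
  have hxy := (c.tr i).1
  by_cases hli : l = i
  · subst hli
    rw [if_pos rfl]
    constructor
    · rw [Pi.add_apply, Pi.add_apply, E_self, E_ne fun h => hxy h.2, add_zero]
    · rw [Pi.add_apply, Pi.add_apply, E_self, E_ne fun h => hxy h.2.symm, zero_add]
  · rw [if_neg hli]
    by_cases hJ : J l = J i
    · obtain ⟨a1, a2, a3, a4⟩ := c.cases h hli hJ
      constructor
      · rw [Pi.add_apply, Pi.add_apply, E_ne fun h => a1 h.2, E_ne fun h => a2 h.2, add_zero]
      · rw [Pi.add_apply, Pi.add_apply, E_ne fun h => a3 h.2, E_ne fun h => a4 h.2, add_zero]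
    · constructor
      · rw [Pi.add_apply, Pi.add_apply, E_ne fun h => hJ h.1, E_ne fun h => hJ h.1, add_zero]
      · rw [Pi.add_apply, Pi.add_apply, E_ne fun h => hJ h.1, E_ne fun h => hJ h.1, add_zero]

theorem D_le_V1 (h : SyT T H Q V D o e) (c : SyT.Ch T H V D o e J X Y t r) : D ≤ V1 T V := fun v hv =>
  mem_V1.2 ⟨h.DV hv, fun j hj => (mem_centralizer_iff.1 (c.EE_cent h (c.Jt h hj)) v (Or.inr hv)).symm⟩

theorem u_mem_V1 (h : SyT T H Q V D o e) (c : SyT.Ch T H V D o e J X Y t r) (i : ι) :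
    u H V D e (J i) (X i) (Y i) ∈ V1 T V :=
  mem_V1.2 ⟨h.u_mem _ _ _, fun j hj =>
    (mem_centralizer_iff.1 (c.EE_cent h (c.Jt h hj)) _ (Or.inl ⟨i, rfl⟩)).symm⟩

/-- vectors of `V₁` with given coordinates -/
theorem exists_V1 (h : SyT T H Q V D o e) (c : SyT.Ch T H V D o e J X Y t r) [Finite ι] (f : ι → ZMod 2) :
    ∃ w ∈ V1 T V, ∀ l, e w (J l) (X l) = f l ∧ e w (J l) (Y l) = f l := by
  classical
  have := Fintype.ofFinite ι
  have key : ∀ s : Finset ι, ∃ w ∈ V1 T V, ∀ l, e w (J l) (X l) = (if l ∈ s then f l else 0) ∧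
      e w (J l) (Y l) = (if l ∈ s then f l else 0) := by
    intro s
    induction s using Finset.induction_on with
    | empty =>
      refine ⟨1, one_mem _, fun l => ?_⟩
      rw [h.e_one]
      simp
    | insert i s hi ih =>
      obtain ⟨w, hw, hwl⟩ := ih
      by_cases hf : f i = 0
      · refine ⟨w, hw, fun l => ?_⟩
        rw [(hwl l).1, (hwl l).2]
        by_cases hl : l = i
        · subst hl
          simp [hi, hf]
        · simp [hl]
      · refine ⟨w * u H V D e (J i) (X i) (Y i), mul_mem hw (u_mem_V1 h c i), fun l => ?_⟩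
        obtain ⟨h1, h2⟩ := e_u_val h c i l
        rw [h.mul w hw.1 _ (h.u_mem _ _ _), Pi.add_apply, Pi.add_apply, Pi.add_apply, h1, h2, (hwl l).1, (hwl l).2]
        by_cases hl : l = i
        · subst hl
          simp [hi, two_eq hf]
        · simp [hl]
  obtain ⟨w, hw, h1⟩ := key Finset.univ
  exact ⟨w, hw, fun l => by simpa using h1 l⟩

/-- a vector of `V` is determined modulo `D` by its coordinates at the transposed points -/
theorem mem_D_of (h : SyT T H Q V D o e) (c : SyT.Ch T H V D o e J X Y t r) {v : G} (hv : v ∈ V)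
    (h1 : ∀ l, e v (J l) (X l) = 0 ∧ e v (J l) (Y l) = 0) : v ∈ D := by
  rw [← h.ker v hv]
  have key : ∀ j x, x ≠ o → e v j x = 0 := by
    intro j x hx
    obtain ⟨y, hy⟩ := h.cover SymCyc.exists_pow j hx
    obtain ⟨i, hiJ, -, -, hi⟩ := c.exists_idx h hy
    rcases hi with ⟨hi, -⟩ | ⟨-, hi⟩
    · rw [← hiJ, ← hi]; exact (h1 i).1
    · rw [← hiJ, ← hi]; exact (h1 i).2
  funext j x
  by_cases hx : x = o
  · subst hx
    have h2 := h.even v hv j
    rw [Finset.sum_eq_single x (fun y _ hy => key j y hy) (fun hx => absurd (Finset.mem_univ x) hx)] at h2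
    exact h2
  · exact key j x hx

/-- the coordinates of the vectors fixed by `J(T)` -/
theorem e_V1 (h : SyT T H Q V D o e) (c : SyT.Ch T H V D o e J X Y t r) {v : G} (hv : v ∈ V1 T V) (l : ι) :
    e v (J l) (X l) = e v (J l) (Y l) := by
  have h1 := (mem_V1.1 hv).2 (t l) (c.tJ l)
  have h2 := (c.tg l).act v hv.1 (J l) (Y l)
  rw [Equiv.Perm.one_apply, Pi.mulSingle_eq_same, Equiv.swap_apply_right, h1, mul_inv_cancel_right] at h2
  exact h2

theorem mem_V1_of (h : SyT T H Q V D o e) (c : SyT.Ch T H V D o e J X Y t r) [Finite ι] {v : G} (hv : v ∈ V)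
    (h1 : ∀ l, e v (J l) (X l) = e v (J l) (Y l)) : v ∈ V1 T V := by
  obtain ⟨w, hw, h2⟩ := exists_V1 h c fun l => e v (J l) (X l)
  have h3 : v * w ∈ D := by
    refine mem_D_of h c (mul_mem hv hw.1) fun l => ?_
    rw [h.mul v hv w hw.1, Pi.add_apply, Pi.add_apply, Pi.add_apply, (h2 l).1, (h2 l).2, ← h1 l]
    exact ⟨CharTwo.add_self_eq_zero _, CharTwo.add_self_eq_zero _⟩
  have h4 := mul_mem (D_le_V1 h c h3) (inv_mem hw)
  rwa [mul_inv_cancel_right] at h4

theorem symCard1 (h : SyT T H Q V D o e) (c : SyT.Ch T H V D o e J X Y t r) [Finite ι] :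
    Nat.card (V1 T V) = Nat.card D * Nat.card (ι → ZMod 2) := by
  refine card_of_map (fun (v : G) (i : ι) => e v (J i) (X i)) ?_ (D_le_V1 h c) ?_ ?_
  · intro v hv w hw
    funext i
    show e (v * w) (J i) (X i) = e v (J i) (X i) + e w (J i) (X i)
    rw [h.mul v hv.1 w hw.1]; rfl
  · intro v hv
    constructor
    · intro h1
      refine mem_D_of h c hv.1 fun l => ?_
      rw [← e_V1 h c hv l]
      exact ⟨congrFun h1 l, congrFun h1 l⟩
    · intro h1
      funext i
      show e v (J i) (X i) = 0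
      rw [(h.ker v hv.1).2 h1]; rfl
  · intro f
    obtain ⟨w, hw, h1⟩ := exists_V1 h c f
    exact ⟨w, hw, funext fun l => (h1 l).1⟩

theorem symCard (h : SyT T H Q V D o e) (c : SyT.Ch T H V D o e J X Y t r) [Finite ι] :
    Nat.card V ≤ Nat.card (V1 T V) * Nat.card (ι → ZMod 2) := by
  rw [← card_mul_relIndex (inf_le_left : V1 T V ≤ V)]
  refine Nat.mul_le_mul_left _ (relIndex_le_card (fun (v : V) (i : ι) =>
    e (v : G) (J i) (X i) + e (v : G) (J i) (Y i)) fun x y hxy => ?_)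
  refine mem_V1_of h c (mul_mem (inv_mem x.2) y.2) fun l => ?_
  rw [h.mul _ (inv_mem x.2) _ y.2, h.e_inv x.2]
  have h1 : e (x : G) (J l) (X l) + e (x : G) (J l) (Y l) = e (y : G) (J l) (X l) + e (y : G) (J l) (Y l) :=
    congrFun hxy l
  have h2 := CharTwo.add_self_eq_zero (e (y : G) (J l) (X l))
  have h3 := CharTwo.add_self_eq_zero (e (x : G) (J l) (Y l))
  simp only [Pi.add_apply]
  linear_combination h1 + h2 - h3

/-- the elements of `T` centralising `V₁` -/
theorem symCen (h : SyT T H Q V D o e) (c : SyT.Ch T H V D o e J X Y t r) [Finite ι] :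
    Q.relIndex (T ⊓ centralizer (V1 T V : Set G)) ≤ Nat.card (ι → ZMod 2) := by
  classical
  have key : ∀ x : (T ⊓ centralizer (V1 T V : Set G) : Subgroup G), ∃ τ, Gd H V D e τ x ∧ (∀ j, τ j o = o) ∧ ∀ i,
      (τ (J i) (X i) = X i ∧ τ (J i) (Y i) = Y i) ∨ (τ (J i) (X i) = Y i ∧ τ (J i) (Y i) = X i) := by
    rintro ⟨x, hx, hxc⟩
    have hxc' : ∀ v ∈ V1 T V, x * v = v * x := fun v hv => (mem_centralizer_iff.1 hxc v hv).symm
    obtain ⟨σ, τ, hxa, h0⟩ := h.exists_act hx
    have key : ∀ j a b, SyT.Tr T H V D e j a b → σ j = j ∧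
        ((τ j a = a ∧ τ j b = b) ∨ (τ j a = b ∧ τ j b = a)) := by
      intro j a b hT
      obtain ⟨i, -, -, hi, -⟩ := c.exists_idx h hT
      have h1 := h.u_conj (h.TH hx) hxa j a b
      have h2 := hxc' _ (u_mem_V1 h c i)
      rw [hi] at h2
      have h3 : u H V D e (σ j) (τ j a) (τ j b) = u H V D e j a b := by
        rw [← h1, h2]; group
      exact h.u_inj (fun e => hT.1 ((τ j).injective e)) h3
    have hσ : σ = 1 := by
      ext j
      obtain ⟨z, hz, -⟩ := h.exists_third o o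
      obtain ⟨y, hy⟩ := h.cover SymCyc.exists_pow j hz
      rw [(key j z y hy).1]; rfl
    subst hσ
    exact ⟨τ, ⟨h.TH hx, fun d hd => hxc' d (D_le_V1 h c hd), hxa⟩, h0, fun i => (key _ _ _ (c.tr i)).2⟩
  choose f hf h0 hf' using key
  refine relIndex_le_card (fun x i => if f x (J i) (X i) = X i then (0 : ZMod 2) else 1) fun x y hxy => ?_
  have h1 : f x = f y := by
    funext j
    ext1 z
    by_cases hz : z = o
    · rw [hz, h0, h0]
    · obtain ⟨z', hz'⟩ := h.cover SymCyc.exists_pow j hz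
      obtain ⟨i, hiJ, -, -, hi⟩ := c.exists_idx h hz'
      have hne := (c.tr i).1
      have h2 := congrFun hxy i
      have h3 : (f x (J i) (X i) = X i) ↔ (f y (J i) (X i) = X i) := by
        by_cases h4 : f x (J i) (X i) = X i <;> by_cases h5 : f y (J i) (X i) = X i
        · exact ⟨fun _ => h5, fun _ => h4⟩
        · simp [h4, h5] at h2
        · simp [h4, h5] at h2
        · exact ⟨fun h => absurd h h4, fun h => absurd h h5⟩
      have h6 : f x (J i) (X i) = f y (J i) (X i) ∧ f x (J i) (Y i) = f y (J i) (Y i) := by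
        rcases hf' x i with ⟨a1, a2⟩ | ⟨a1, a2⟩ <;> rcases hf' y i with ⟨b1, b2⟩ | ⟨b1, b2⟩
        · exact ⟨a1.trans b1.symm, a2.trans b2.symm⟩
        · exact absurd ((h3.1 a1).symm.trans b1) hne
        · exact absurd ((h3.2 b1).symm.trans a1) hne
        · exact ⟨a1.trans b1.symm, a2.trans b2.symm⟩
      rw [← hiJ]
      rcases hi with ⟨hi, -⟩ | ⟨-, hi⟩
      · rw [← hi]; exact h6.1
      · rw [← hi]; exact h6.2
  have h2 := h.gd_mul (h.gd_inv (hf x)) (hf y)
  rw [h1, inv_mul_cancel] at h2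
  refine h.cT _ (mul_mem (inv_mem x.2.1) y.2.1) fun v hv => ?_
  have h3 := h.gd_sim h2 h.gd_one v hv
  rw [one_mul, inv_one, mul_one] at h3
  calc (x : G)⁻¹ * y * v = ((x : G)⁻¹ * y * v * ((x : G)⁻¹ * y)⁻¹) * ((x : G)⁻¹ * y) := by group
    _ = v * ((x : G)⁻¹ * y) := by rw [h3]

end sym

/-! ### The result -/

variable [Finite G] {S : Sylow 2 G} {R : Subgroup G}

/-- **A member of `P*(S)` with `J(S) ≰ O₂(R)`.** -/
theorem pt_of (hFF : FFThm.Stmt.{u}) (hG : IsCharacteristicTwoType G) (hR : IsParS (S : Subgroup G) R)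
    (hJ : ¬ jj (S : Subgroup G) ≤ o2 R) : Pt (S : Subgroup G) R := by
  have hsyl := syl_of hR
  have hch := hR.isLoc.char2 S hG
  have hm := minH hG hR
  have hJC : ¬ jj (S : Subgroup G) ≤ centralizer (zl (S : Subgroup G) R : Set G) := by
    intro hle
    apply hJ
    rw [← IsParS.inf_centralizer S hG hR]
    exact le_inf (jj_le _) hle
  obtain ⟨A, hA, hAV⟩ : ∃ A ∈ AA (S : Subgroup G), ¬ A ≤ centralizer (zl (S : Subgroup G) R : Set G) := by
    by_contra hcon
    push Not at hcon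
    apply hJC
    rw [jj_eq]
    exact sSup_le hcon
  have hoff : Off (zl (S : Subgroup G) R) A := SQ1.FFOf.off_of_AA hm hA hAV
  obtain ⟨hno, hcon⟩ := hFF G (S : Subgroup G) R hsyl hR.toIsMinPar hch ⟨A, hA.2.1.trans hsyl.1, hoff⟩
  rcases hcon with ⟨F, _, _, _, k, hk, ⟨M⟩⟩ | ⟨k, m, hk, hm2, ⟨M⟩⟩
  · have : Nonempty (Fin k) := ⟨⟨0, hk⟩⟩
    let N := (natKB_of hsyl hch hJ hk M).toFFK hm
    have h1 := natCen hm N
    have h2 := natCard hm N
    have h3 := natCard1 hm N
    refine ⟨hno, h1.trans ?_, ?_⟩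
    · rw [h3]
      exact Nat.le_mul_of_pos_left _ Nat.card_pos
    · rw [h2, pow_two, mul_assoc]
      refine Nat.mul_le_mul_left _ ?_
      rw [h3, mul_comm]
  · have hcs : (R ⊓ centralizer (zl (S : Subgroup G) R : Set G)) ⊔ (S : Subgroup G) ≠ R := by
      intro e
      apply hR.not_zc
      rw [← e]
      refine sup_le ?_ ?_
      · exact (inf_le_right.trans (centralizer_le (zc_le_zl _ _))).trans (centralizer_le_normalizer _)
      · refine le_trans (fun s hs => ?_) (centralizer_le_normalizer _)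
        exact mem_centralizer_iff.2 fun z hz => ((mem_zc.1 hz).2.2 s hs).symm
    have h := syT hm hcs ⟨A, hA, hoff⟩ hno M hk (by omega) SQ1.FFOf.cv_le SQ1.FFOf.cv_norm
    obtain ⟨ι, J, X, Y, t, r, c⟩ := h.exists_ch
    have : Finite ι := Finite.of_injective _ fun i j hij => c.inj i j hij
    have h1 := symCen h c
    have h2 := symCard h c
    have h3 := symCard1 h c
    refine ⟨hno, h1.trans ?_, ?_⟩
    · rw [h3]
      exact Nat.le_mul_of_pos_left _ Nat.card_pos
    · calc _ ≤ Nat.card (V1 (S : Subgroup G) (zl (S : Subgroup G) R)) * Nat.card (ι → ZMod 2) *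
            Nat.card (cv (S : Subgroup G) R) := Nat.mul_le_mul_right _ h2
        _ = Nat.card (V1 (S : Subgroup G) (zl (S : Subgroup G) R)) *
            (Nat.card (cv (S : Subgroup G) R) * Nat.card (ι → ZMod 2)) := by ring
        _ = _ := by rw [← h3, pow_two]

end Cfsg.Agent.Omega.NO3S.Fld
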