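import Cfsg.Agent.Omega.NO3S.Fld.LevU
import Cfsg.Agent.Omega.NO3S.Fld.LevBR
import Cfsg.Agent.Omega.NO3S.Fld.UniqLev

/-!
# Fld at every level: LEMMA U for `P`, and (NS) `N_G(B) ≤ N_G(V)`

`M : Crd F S P V`, `V = V_P`, `R = M.R`, `B = S ∩ C(R)`; `X` elementary abelian, `AA` a family of best offenders of `S` on
`X` (`OneLine.BFam S X L AA`), `P ≤ N(X)`, `V ≤ X`, some `A ∈ AA` is not contained in `O₂(P)`, `Ω₁(Z(O₂(P))) = V`.

* `le_zl_ofX` : `E ≤ O₂(P) ∩ X`, `[E, O₂(P)] ≤ R`, no over-offender of `O₂(P)` on `E` (module form) ⟹ `E ≤ V_P`;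
* `norm_B_le_R_bl` : `N_G(B) ≤ N_G(R)` (no hypothesis);
* **`norm_B_le_V_fam`** : `N_G(B) ≤ N_G(X)` ⟹ `N_G(B) ≤ N_G(V_P)`;
* **`norm_B_le_V_lev`** : `N_G(B) ≤ N_G(V_P)` at the level `K` (`Level.Lev S K`, `K ≤ O₂(P)`).
-/

set_option autoImplicit false
set_option linter.unusedSectionVars false
set_option linter.unusedVariables false

namespace Cfsg.Agent.Omega.NO3S.Fld

open Subgroup Cfsg Cfsg.Agent.ZN Cfsg.Agent.ZN.ChoiceBase Cfsg.Agent.Omega.MinPar
open Cfsg.Agent.Omega.NO3b.Ineq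
open Cfsg.Agent.Omega.SQ1.Bau (elem_comm elem_sq mem_sup_norm)
open Cfsg.Agent.PLocal.ElemAbSup Cfsg.Agent.PLocal.ThompsonJ
open Cfsg.Agent.Omega.NatPair (ext2 ap ap_zero' ap_one')
open Cfsg.Agent.Lib.SL2Mat
open Cfsg.Agent.Omega.FFThm (ElemM NoOverM OffM StmtM)
open Cfsg.Agent.Omega.NO3S.OneLine (BFam cj_elemM elemM_mono bo bo_fam)

universe u

variable {G : Type u} [Group G] [Finite G] {S : Sylow 2 G} {P X L : Subgroup G} {AA : Set (Subgroup G)}
variable {F : Type*} [Field F] [Finite F] [CharP F 2]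

omit [Finite G] in
theorem cidx_cj (n : G) (Y Z : Subgroup G) : cidx (cj n Y) (cj n Z) = cidx Y Z := by
  rw [cidx, cidx, ← cj_centralizer]
  exact relIndex_map_map_of_injective (f := (MulAut.conj n).toMonoidHom) (centralizer (Z : Set G)) Y
    (MulAut.conj n).injective

/-- offenders on all subgroups of `X`, as an inequality of `cidx` -/
theorem BFam.cidx_le (hB : BFam (S : Subgroup G) X L AA) (hX : ∀ x ∈ X, ∀ y ∈ X, x * y = y * x) {Y : Subgroup G}
    (hYX : Y ≤ X) {A : Subgroup G} (hA : A ∈ AA) : cidx Y A ≤ cidx A Y :=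
  FFThm.relIndex_le_iff.1 (hB.off hX hYX hA)

/-- **LEMMA U for `P`, at every level.** -/
theorem le_zl_ofX (hG : IsCharacteristicTwoType G) (hP : IsParS (S : Subgroup G) P)
    (M : Crd F (S : Subgroup G) P (zl (S : Subgroup G) P)) (hB : BFam (S : Subgroup G) X L AA)
    (hX : IsElementaryAbelian 2 X) (hPX : P ≤ normalizer (X : Set G)) (hVX : zl (S : Subgroup G) P ≤ X)
    (hT : zc (o2 P) = zl (S : Subgroup G) P) (hAR : ∀ A ∈ AA, A ≤ centralizer (M.R : Set G))
    (hJ : ∃ A ∈ AA, ¬ A ≤ o2 P) {E : Subgroup G} (hEQ : E ≤ o2 P) (hEX : E ≤ X)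
    (hER : ∀ x ∈ E, ∀ t ∈ o2 P, t * x * t⁻¹ * x⁻¹ ∈ M.R)
    (hno : ∀ K : Subgroup G, K ≤ o2 P → ElemM E K → cidx K E ≤ cidx E K) :
    E ≤ zl (S : Subgroup G) P := by
  obtain ⟨A, hA, hAQ⟩ := hJ
  have hXc : ∀ x ∈ X, ∀ y ∈ X, x * y = y * x := elem_comm hX
  have hb := bl_of hG hP M
  have hAS := hB.le A hA
  have hAB : ∀ A ∈ AA, A ≤ M.B := fun A hA => le_inf (hB.le A hA) (hAR A hA)
  have hQS : o2 P ≤ (S : Subgroup G) := hb.QB.trans hb.BS
  have hVQ : zl (S : Subgroup G) P ≤ o2 P := BL.zl_le_o2 hG hb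
  have hsup : A ⊔ o2 P = M.B := BL.fam_sup hG hb hB hXc hAB hVX hA hAQ
  have hAn : A ≤ normalizer (o2 P : Set G) := (hAB A hA).trans (BL.B_norm hb)
  have hact : ∀ a ∈ A, ∃ t : F, ∀ x, a * M.e x * a⁻¹ = M.e ![x 0 + t * x 1, x 1] := by
    intro a ha
    obtain ⟨c, hc⟩ := M.exists_root (hAB A hA ha).1 (hAB A hA ha).2
    exact ⟨c, fun x => hc x⟩
  have hfull : ∀ t : F, ∃ a ∈ A, ∀ x, a * M.e x * a⁻¹ = M.e ![x 0 + t * x 1, x 1] := by
    intro t
    obtain ⟨s, hs, hsR, hst⟩ := M.exists_full t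
    have hsB : s ∈ A ⊔ o2 P := by rw [hsup]; exact ⟨hs, hsR⟩
    obtain ⟨a, ha, y, hy, rfl⟩ := mem_sup_norm hAn hsB
    refine ⟨a, ha, fun x => ?_⟩
    have h1 := hst x
    have h2 : y * M.e x = M.e x * y := BL.comm_o2 hG hb y hy _ (M.e_mem x)
    have e : a * y * M.e x * (a * y)⁻¹ = a * (y * M.e x) * y⁻¹ * a⁻¹ := by group
    rw [e, h2] at h1
    have e2 : a * (M.e x * y) * y⁻¹ * a⁻¹ = a * M.e x * a⁻¹ := by group
    rw [e2] at h1
    exact h1
  have hPQ : P ≤ normalizer (o2 P : Set G) := MinSimple.VModule.le_normalizer_o2 P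
  have hEgX : ∀ g ∈ P, cj g E ≤ X := fun g hg => by
    have := cj_mono g hEX
    rwa [cj_eq_of_mem_normalizer (hPX hg)] at this
  have hUX : LemU.UU P (zl (S : Subgroup G) P) E ≤ X := by
    refine sSup_le ?_
    rintro K (rfl | ⟨g, hg, rfl⟩)
    · exact hVX
    · exact hEgX g hg
  have key : LemU.HypX P (o2 P) (zl (S : Subgroup G) P) A E X M.e :=
    { QP := Subgroup.map_subtype_le _
      Qn := hPQ
      Vn := MinSimple.VModule.le_normalizer_zl _ _
      VQ := hVQ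
      QV := fun t ht => mem_centralizer_iff.2 fun v hv => (BL.comm_o2 hG hb t ht v hv).symm
      e_add := M.e_add
      e_inj := M.e_inj
      mem_iff := M.mem_iff
      Xel := ⟨hXc, fun x hx => by rw [← pow_two]; exact elem_sq hX x hx⟩
      PX := hPX
      VX := hVX
      EX := hEX
      AP := hAS.trans hb.star.le
      Aco := (hB.elem A hA).comm
      off := BFam.cidx_le hB hXc hUX hA
      act := hact
      full := hfull
      AQ := by
        rw [← IsParS.inf_centralizer S hG hP]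
        exact inf_le_inf_right _ hAS
      swap := by
        obtain ⟨w, hw, h1⟩ := M.lift (wm 1 one_ne_zero)
        refine ⟨w, hw, fun x => ?_⟩
        rw [h1]
        congr 1
        apply ext2
        · rw [ap_zero', wm_00, wm_01, zero_mul, zero_add, one_mul]; rfl
        · rw [ap_one', wm_10, wm_11, zero_mul, add_zero, inv_one, CharTwo.neg_eq, one_mul]; rfl
      EQ := hEQ
      ER := by
        intro x hx t ht
        obtain ⟨a, ha⟩ := hER x hx t ht
        exact ⟨a, ha.symm⟩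
      no := by
        intro K hK g hg
        have hg' := inv_mem hg
        have h1 : cj g⁻¹ K ≤ o2 P := by
          have := cj_mono g⁻¹ (hK.trans inf_le_right)
          rwa [cj_eq_of_mem_normalizer (hPQ hg')] at this
        have h2 : ElemM X (cj g⁻¹ K) :=
          cj_elemM (hPX hg') (elemM_mono (hB.elem A hA) le_rfl (hK.trans inf_le_left))
        have h3 := hno _ h1 (elemM_mono h2 hEX le_rfl)
        rw [← cidx_cj g, ← cidx_cj g E, cj_cj_inv] at h3
        exact h3 }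
  intro x hx
  rw [← hT]
  exact mem_zc.2 ⟨hEQ hx, elem_sq hX x (hEX hx), fun t ht => key.lemU x hx t ht⟩

/-- `N_G(B) ≤ N_G(R)` -/
theorem norm_B_le_R_bl (hG : IsCharacteristicTwoType G) (hP : IsParS (S : Subgroup G) P)
    (M : Crd F (S : Subgroup G) P (zl (S : Subgroup G) P)) {n : G}
    (hn : n ∈ normalizer (M.B : Set G)) : n ∈ normalizer (M.R : Set G) := by
  have hb := bl_of hG hP M
  have hVS : zl (S : Subgroup G) P ≤ (S : Subgroup G) := (BL.zl_le_o2 hG hb).trans (hb.QB.trans hb.BS)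
  have hB := M.mem_R_of_cent S.isPGroup' hVS (MinSimple.VModule.zc_le_zl _ _)
  have hRB : M.R ≤ M.B := fun r hr => hb.QB (BL.zl_le_o2 hG hb (hb.RV hr))
  apply mem_normalizer_of_cj_le
  intro x hx
  have hx' := mem_cj.1 hx
  have e : n * (n⁻¹ * x * n) * n⁻¹ = x := by group
  refine hB x ?_ ?_ fun b hbb => ?_
  · have h1 := (mem_normalizer_iff.1 hn _).1 (hRB hx')
    rwa [e] at h1
  · have h1 := congrArg (fun t => n * t * n⁻¹) (M.sq (M.R_le hx'))
    have e1 : n * (n⁻¹ * x * n * (n⁻¹ * x * n)) * n⁻¹ = x ^ 2 := by rw [pow_two]; group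
    simp only [e1, mul_one, mul_inv_cancel] at h1
    exact h1
  · have h1 : n⁻¹ * b * n ∈ M.B := by
      have := (mem_normalizer_iff.1 (inv_mem hn) b).1 hbb
      rwa [inv_inv] at this
    have h2 := congrArg (fun t => n * t * n⁻¹) (hb.cB _ h1 _ hx')
    have e1 : n * (n⁻¹ * b * n * (n⁻¹ * x * n)) * n⁻¹ = b * x := by group
    have e2 : n * (n⁻¹ * x * n * (n⁻¹ * b * n)) * n⁻¹ = x * b := by group
    simp only [e1, e2] at h2
    exact h2

/-- **(NS)** `N_G(B) ≤ N_G(V)`, at every level; `hno` : no over-offender on `V_P`. -/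
theorem norm_B_le_V_fam' (hG : IsCharacteristicTwoType G) (hP : IsParS (S : Subgroup G) P)
    (M : Crd F (S : Subgroup G) P (zl (S : Subgroup G) P)) (hno : NoOverM (zl (S : Subgroup G) P) P)
    (hB : BFam (S : Subgroup G) X L AA) (hX : IsElementaryAbelian 2 X) (hPX : P ≤ normalizer (X : Set G))
    (hVX : zl (S : Subgroup G) P ≤ X) (hT : zc (o2 P) = zl (S : Subgroup G) P)
    (hAR : ∀ A ∈ AA, A ≤ centralizer (M.R : Set G)) (hJ : ∃ A ∈ AA, ¬ A ≤ o2 P)
    {n : G} (hn : n ∈ normalizer (M.B : Set G)) (hnX : cj n (zl (S : Subgroup G) P) ≤ X) :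
    n ∈ normalizer (zl (S : Subgroup G) P : Set G) := by
  have hb := bl_of hG hP M
  have hXc : ∀ x ∈ X, ∀ y ∈ X, x * y = y * x := elem_comm hX
  have hBP : M.B ≤ P := hb.BS.trans hb.star.le
  have hVB : zl (S : Subgroup G) P ≤ M.B := (BL.zl_le_o2 hG hb).trans hb.QB
  have hnB : cj n M.B = M.B := cj_eq_of_mem_normalizer hn
  have hnR := norm_B_le_R_bl hG hP M hn
  set E : Subgroup G := cj n (zl (S : Subgroup G) P) with hE
  have hEB : E ≤ M.B := by rw [← hnB]; exact cj_mono n hVB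
  have hEQ : E ≤ o2 P := by
    rw [← IsParS.inf_centralizer S hG hP]
    refine le_inf (hEB.trans hb.BS) fun x hx => mem_centralizer_iff.2 fun v hv => ?_
    exact hXc v (hVX hv) x (hnX hx)
  have hle : E ≤ zl (S : Subgroup G) P := by
    refine le_zl_ofX hG hP M hB hX hPX hVX hT hAR hJ hEQ hnX ?_ ?_
    · -- `[E, B] ≤ R`
      intro x hx t ht
      have hx' := mem_cj.1 hx
      have ht' : n⁻¹ * t * n ∈ M.B := by
        have := (mem_normalizer_iff.1 (inv_mem hn) t).1 (hb.QB ht)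
        rwa [inv_inv] at this
      have h1 := hb.comm _ ht' _ hx'
      have h2 := (mem_normalizer_iff.1 hnR _).1 h1
      have e : n * (n⁻¹ * t * n * (n⁻¹ * x * n) * (n⁻¹ * t * n)⁻¹ * (n⁻¹ * x * n)⁻¹) * n⁻¹ = t * x * t⁻¹ * x⁻¹ := by
        group
      rwa [e] at h2
    · -- no over-offender
      intro K hK hKe
      have hKB : cj n⁻¹ K ≤ P := by
        have h5 : cj n⁻¹ M.B = M.B := cj_eq_of_mem_normalizer (inv_mem hn)
        exact (cj_mono n⁻¹ (hK.trans hb.QB)).trans (h5.le.trans hBP)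
      have hc : ∀ c : G, c ∈ centralizer (E : Set G) → n⁻¹ * c * n ∈ centralizer (zl (S : Subgroup G) P : Set G) := by
        intro c hc
        rw [hE, ← cj_centralizer, mem_cj] at hc
        exact hc
      have hKe' : ElemM (zl (S : Subgroup G) P) (cj n⁻¹ K) := by
        constructor
        · intro a ha
          rw [mem_cj, inv_inv] at ha
          have h1 := hc _ (hKe.sq _ ha)
          have e : n⁻¹ * (n * a * n⁻¹) ^ 2 * n = a ^ 2 := by rw [pow_two, pow_two]; group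
          rwa [e] at h1
        · intro a ha b hb
          rw [mem_cj, inv_inv] at ha hb
          have h1 := hc _ (hKe.comm _ ha _ hb)
          have e : n⁻¹ * (n * a * n⁻¹ * (n * b * n⁻¹) * (n * a * n⁻¹)⁻¹ * (n * b * n⁻¹)⁻¹) * n =
              a * b * a⁻¹ * b⁻¹ := by group
          rwa [e] at h1
      have h1 := hno (cj n⁻¹ K) hKB hKe'
      have h2 := FFThm.relIndex_le_iff.1 h1
      have h3 : cidx (cj n⁻¹ K) (zl (S : Subgroup G) P) ≤ cidx (zl (S : Subgroup G) P) (cj n⁻¹ K) := h2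
      rw [← cidx_cj n, ← cidx_cj n (zl (S : Subgroup G) P), cj_cj_inv] at h3
      exact h3
  have heq : E = zl (S : Subgroup G) P := by
    refine Subgroup.eq_of_le_of_card_ge hle ?_
    rw [hE, card_cj]
  rw [mem_normalizer_iff_cj]
  exact heq

/-- **(NS)** `N_G(B) ≤ N_G(V)`, at every level, by the FF theorem. -/
theorem norm_B_le_V_fam (hFF : StmtM.{u}) (hG : IsCharacteristicTwoType G) (hP : IsParS (S : Subgroup G) P)
    (M : Crd F (S : Subgroup G) P (zl (S : Subgroup G) P))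
    (hB : BFam (S : Subgroup G) X L AA) (hX : IsElementaryAbelian 2 X) (hPX : P ≤ normalizer (X : Set G))
    (hVX : zl (S : Subgroup G) P ≤ X) (hT : zc (o2 P) = zl (S : Subgroup G) P)
    (hAR : ∀ A ∈ AA, A ≤ centralizer (M.R : Set G)) (hJ : ∃ A ∈ AA, ¬ A ≤ o2 P)
    (hNX : normalizer (M.B : Set G) ≤ normalizer (X : Set G)) :
    normalizer (M.B : Set G) ≤ normalizer (zl (S : Subgroup G) P : Set G) := by
  intro n hn
  obtain ⟨A, hA, hAQ⟩ := hJ
  have hoff : OffM (zl (S : Subgroup G) P) A := by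
    refine OneLine.BFam.offM hB (elem_comm hX) hVX hA fun h => hAQ ?_
    rw [← IsParS.inf_centralizer S hG hP]
    exact le_inf (hB.le A hA) h
  obtain ⟨V0, hp⟩ := ptM_of hFF hG hP (hB.le A hA) hoff
  refine norm_B_le_V_fam' hG hP M hp.no hB hX hPX hVX hT hAR ⟨A, hA, hAQ⟩ hn ?_
  have h1 := cj_mono n hVX
  rwa [cj_eq_of_mem_normalizer (hNX hn)] at h1

/-- (NS) for the best offenders on `X`. -/
theorem norm_B_le_V_bo (hFF : StmtM.{u}) (hG : IsCharacteristicTwoType G) (hP : IsParS (S : Subgroup G) P)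
    (M : Crd F (S : Subgroup G) P (zl (S : Subgroup G) P))
    (hX : IsElementaryAbelian 2 X) (hPX : P ≤ normalizer (X : Set G))
    (hVX : zl (S : Subgroup G) P ≤ X) (hT : zc (o2 P) = zl (S : Subgroup G) P)
    (hAR : ∀ A ∈ bo (S : Subgroup G) X, A ≤ centralizer (M.R : Set G)) (hJ : ∃ A ∈ bo (S : Subgroup G) X, ¬ A ≤ o2 P)
    (hNX : normalizer (M.B : Set G) ≤ normalizer (X : Set G)) :
    normalizer (M.B : Set G) ≤ normalizer (zl (S : Subgroup G) P : Set G) :=
  norm_B_le_V_fam hFF hG hP M (bo_fam (S : Subgroup G) X) hX hPX hVX hT hAR hJ hNX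

/-- **(NS)** `N_G(B) ≤ N_G(V)` at the level `K`. -/
theorem norm_B_le_V_lev (h : Hyp S P) (M : Crd F (S : Subgroup G) P (zl (S : Subgroup G) P)) {K : Subgroup G}
    (hL : Level.Lev (S : Subgroup G) K) (hK : K ≤ o2 P) {A : Subgroup G} (hA : A ∈ Level.BO (S : Subgroup G) K)
    (hAQ : ¬ A ≤ o2 P) (hno : NoOverM (zl (S : Subgroup G) P) P) :
    normalizer (M.B : Set G) ≤ normalizer (zl (S : Subgroup G) P : Set G) := by
  intro n hn
  have hG := h.ctx.char2
  have hP := h.star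
  have hb := bl_of hG hP M
  have hQS : o2 P ≤ (S : Subgroup G) := hb.QB.trans hb.BS
  have hX := OneLine.zc_elem K
  have hXc : ∀ x ∈ zc K, ∀ y ∈ zc K, x * y = y * x := elem_comm hX
  have hQX : zc (o2 P) ≤ zc K := hL.zc_o2_le hK hQS
  have hVX : zl (S : Subgroup G) P ≤ zc K := (hP.isLoc.zl_le S hG).trans hQX
  have hPX : P ≤ normalizer (zc K : Set G) := (hL.le_norm_of_o2 hK hQS).trans (Level.normalizer_le_zc K)
  have hB := bo_fam (S : Subgroup G) (zc K)
  have hA' : A ∈ bo (S : Subgroup G) (zc K) := by rw [← OneLine.bo_eq]; exact hA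
  have hAR : ∀ A ∈ bo (S : Subgroup G) (zc K), A ≤ centralizer (M.R : Set G) := fun A hA =>
    M.off_le_centR (hB.le A hA) (elemM_mono (hB.elem A hA) hVX le_rfl) (hB.off hXc hVX hA)
  have hAB : ∀ A ∈ bo (S : Subgroup G) (zc K), A ≤ M.B := fun A hA => le_inf (hB.le A hA) (hAR A hA)
  have hVS : zl (S : Subgroup G) P ≤ (S : Subgroup G) := (BL.zl_le_o2 hG hb).trans hQS
  have hR := M.mem_R_of_cent S.isPGroup' hVS (MinSimple.VModule.zc_le_zl _ _)
  have hT := BL.zc_o2_fam hG hb hB hXc hAB hR hQX hA' hAQ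
  refine norm_B_le_V_fam' hG hP M hno hB hX hPX hVX hT hAR ⟨A, hA', hAQ⟩ hn ?_
  have h1 : n ∈ normalizer (zc K : Set G) := Level.normalizer_le_zc K (hL.norm _ (hK.trans hb.QB) hb.BS hn)
  have h2 := cj_mono n hVX
  rwa [cj_eq_of_mem_normalizer h1] at h2

end Cfsg.Agent.Omega.NO3S.Fld
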