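import Cfsg.Agent.Omega.NO3S.Fld.ZB

/-!
# Fld: `Ω₁(Z(J(S))) = R`

`BR.zj_eq` : the argument of `OneLine.Blk.zj_eq` over `B`; `Crd.opp` : `R ∩ R^x = 1` for some `x ∈ P`;
`zj_eq_R`, `zc_o2_eq`, `normalizer_le_R` : the results under `HypJ S P` and `NatP`, any `|Z|`.
-/

set_option autoImplicit false
set_option linter.unusedSectionVars false
set_option linter.unusedVariables false

namespace Cfsg.Agent.Omega.NO3S.Fld

open Subgroup Cfsg Cfsg.Agent.ZN Cfsg.Agent.ZN.ChoiceBase Cfsg.Agent.Omega.MinPar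
open Cfsg.Agent.ZN.ChoiceSit (Syl o2_le_syl)
open Cfsg.Agent.Omega.SQ1.Bau (mem_AA_of_comm zj_le_AA elem_comm elem_sq mem_sup_comm card_sup_comm mem_sup_norm)
open Cfsg.Agent.PLocal.ElemAbSup Cfsg.Agent.PLocal.ThompsonJ
open Cfsg.Agent.MinSimple.VModule (zc_le zc_le_zl zl_le le_o2 le_normalizer_zl le_normalizer_o2)
open Cfsg.Agent.Omega.NatPair (ext2 ap ap_zero' ap_one')
open Cfsg.Agent.Lib.SL2Mat
open Cfsg.Agent.Omega.NO3S.OneLine (conj_mem card_mul_relIndex minH exists_fixed zc_elem o2_le card_sup_norm)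

universe u

variable {G : Type u} [Group G] [Finite G] {S : Sylow 2 G} {P B R : Subgroup G}

namespace BR

variable (hG : IsCharacteristicTwoType G) (h : BR (S : Subgroup G) P B R)
include hG h

/-- **`Ω₁(Z(J(S))) = R`.** -/
theorem zj_eq (hB : ∀ y ∈ B, y ^ 2 = 1 → (∀ b ∈ B, b * y = y * b) → y ∈ R)
    {A : Subgroup G} (hA : A ∈ AA (S : Subgroup G)) (hAQ : ¬ A ≤ o2 P)
    (hsq : Nat.card (zl (S : Subgroup G) P) = Nat.card R ^ 2)
    {x : G} (hx : x ∈ P) (hxZ : R ⊓ cj x R = ⊥) :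
    zj (S : Subgroup G) = R := by
  have hQS := o2_le S h.star.toIsPar
  have hA' := replace hG h hA hAQ
  have hA'Q := sup_le_o2 hG h A
  have hzo2 := zc_o2 hG h hB hA hAQ
  -- `A' = (A ∩ Q) V ∈ A(Q)`
  have hmm : mm (S : Subgroup G) ≤ mm (o2 P) := by
    rw [mm_eq hA']
    exact card_le_mm hA'.1 hA'Q
  have hA'' : (A ⊓ o2 P) ⊔ zl (S : Subgroup G) P ∈ AA (o2 P) :=
    ⟨hA'.1, hA'Q, fun B hB hBQ => hA'.2.2 B hB (hBQ.trans hQS)⟩
  have hjj : jj (o2 P) ≤ jj (S : Subgroup G) := jj_mono hQS hmm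
  set V := zl (S : Subgroup G) P with hV
  set Y := zj (o2 P) with hY
  have hYc : ∀ y ∈ Y, ∀ w ∈ Y, y * w = w * y := fun y hy w hw => (mem_zj.1 hw).2.2 y (mem_zj.1 hy).1
  have hYe : IsElementaryAbelian 2 Y := isElementaryAbelian_iff.2 ⟨hYc, fun a ha => (mem_zj.1 ha).2.1⟩
  have hVY : V ≤ Y := fun v hv => mem_zj.2 ⟨le_jj hA'' (mem_sup_right hv), elem_sq (zl_elem hG h) v hv,
    fun y hy => comm_o2 hG h y (jj_le _ hy) v hv⟩
  have hYA' : Y ≤ (A ⊓ o2 P) ⊔ V := zj_le_AA hA''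
  have hZJ : R ≤ zj (S : Subgroup G) := by
    intro r hr
    refine mem_zj.2 ⟨le_jj hA (R_le_AA hG h hA hr), elem_sq (zl_elem hG h) r (h.RV hr), fun y hy => ?_⟩
    have h1 : jj (S : Subgroup G) ≤ B := by
      rw [jj_eq]
      exact sSup_le h.AB
    exact h.cB y (h1 hy) r hr
  have hPY : P ≤ normalizer (Y : Set G) := (MinSimple.VModule.le_normalizer_o2 P).trans
    (normalizer_le_of_cj (F := zj) zj_cj (o2 P))
  have hPV : P ≤ normalizer (V : Set G) := le_normalizer_zl _ _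
  -- `C_Y(A)`
  let YA : Subgroup G := Y ⊓ centralizer (A : Set G)
  have hYsplit : ∀ y ∈ Y, ∃ v ∈ V, ∃ c ∈ YA, y = v * c := by
    intro y hy
    obtain ⟨a, ha, v, hv, rfl⟩ := mem_sup_comm (A := A ⊓ o2 P) (B := V)
      (fun a ha v hv => comm_o2 hG h a ha.2 v hv) (hYA' hy)
    refine ⟨v, hv, a, ⟨?_, mem_centralizer_iff.2 fun b hb => elem_comm hA.1 b hb a ha.1⟩,
      comm_o2 hG h a ha.2 v hv⟩
    have h1 := mul_mem hy (inv_mem (hVY hv))
    rwa [mul_inv_cancel_right] at h1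
  have hVYA : V ⊓ YA = R := by
    apply le_antisymm
    · rintro v ⟨hv, -, hvA⟩
      obtain ⟨a, ha, haQ⟩ := SetLike.not_le_iff_exists.1 hAQ
      exact h.fix a (h.AB A hA ha) haQ v hv (mem_centralizer_iff.1 hvA a ha)
    · refine le_inf h.RV (le_inf (h.RV.trans hVY) fun z hz => ?_)
      exact mem_centralizer_iff.2 fun a ha => h.cB a (h.AB A hA ha) z hz
  have hVsupYA : V ⊔ YA = Y := by
    apply le_antisymm (sup_le hVY inf_le_left)
    intro y hy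
    obtain ⟨v, hv, c, hc, rfl⟩ := hYsplit y hy
    exact mul_mem_sup hv hc
  have hcYA : Nat.card Y * Nat.card R = Nat.card V * Nat.card YA := by
    have h1 := card_sup_comm (A := V) (B := YA) fun v hv c hc => hYc v (hVY hv) c hc.1
    rwa [hVsupYA, hVYA] at h1
  have hYY : Nat.card Y = Nat.card R * Nat.card YA := by
    have hp : 0 < Nat.card R := Nat.card_pos
    rw [hsq] at hcYA
    have e : Nat.card Y * Nat.card R = Nat.card R * Nat.card YA * Nat.card R := by rw [hcYA]; ring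
    exact Nat.eq_of_mul_eq_mul_right hp e
  -- `D = C_Y(⟨A, A^x⟩)`
  have hxY : cj x Y = Y := cj_eq_of_mem_normalizer (hPY hx)
  have hxV : cj x V = V := cj_eq_of_mem_normalizer (hPV hx)
  let YB : Subgroup G := cj x YA
  have hYB : YB ≤ Y := by
    have h1 : cj x YA ≤ cj x Y := cj_mono x inf_le_left
    rwa [hxY] at h1
  have hcYB : Nat.card YB = Nat.card YA := card_cj _ _
  let C : Subgroup G := YA ⊓ YB
  have hVC : V ⊓ C = ⊥ := by
    rw [eq_bot_iff, ← hxZ]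
    rintro v ⟨hv, hvA, hvB⟩
    refine ⟨hVYA ▸ ⟨hv, hvA⟩, ?_⟩
    rw [← hVYA, cj_inf, hxV]
    exact ⟨hv, hvB⟩
  have hCcard : Nat.card Y ≤ Nat.card V * Nat.card C := by
    have h1 := card_sup_comm (A := YA) (B := YB) fun a ha b hb => hYc a ha.1 b (hYB hb)
    have h2 : Nat.card ↥(YA ⊔ YB) ≤ Nat.card Y := Subgroup.card_le_of_le (sup_le inf_le_left hYB)
    have h3 : Nat.card YA * Nat.card YB ≤ Nat.card Y * Nat.card C := by
      rw [← h1]
      exact Nat.mul_le_mul_right _ h2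
    rw [hcYB] at h3
    have hp : 0 < Nat.card YA := Nat.card_pos
    rw [hYY, hsq]
    rw [hYY] at h3
    have e : Nat.card YA * Nat.card YA ≤ Nat.card YA * (Nat.card R * Nat.card C) := by
      calc _ ≤ Nat.card R * Nat.card YA * Nat.card C := h3
        _ = _ := by ring
    have h4 := Nat.le_of_mul_le_mul_left e hp
    calc Nat.card R * Nat.card YA ≤ Nat.card R * (Nat.card R * Nat.card C) := Nat.mul_le_mul_left _ h4
      _ = Nat.card R ^ 2 * Nat.card C := by ring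
  have hVsupC : V ⊔ C = Y := by
    refine Subgroup.eq_of_le_of_card_ge (sup_le hVY (inf_le_left.trans inf_le_left)) ?_
    have h1 := card_sup_comm (A := V) (B := C) fun v hv c hc => hYc v (hVY hv) c hc.1.1
    rw [hVC, Subgroup.card_bot, mul_one] at h1
    rw [h1]
    exact hCcard
  -- the final argument
  refine le_antisymm ?_ hZJ
  by_contra hne
  have hBp : IsPGroup 2 B := S.isPGroup'.to_le h.BS
  have hzjB : zj (S : Subgroup G) ≤ B := (zj_le_AA hA).trans (h.AB A hA)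
  obtain ⟨y, hy, hyZ, hyS⟩ := exists_fixed (M := R) hBp hzjB
    (h.BS.trans (le_normalizer.trans (normalizer_le_of_cj (F := zj) zj_cj (S : Subgroup G)))) hne
  have hy' := mem_zj.1 hy
  have hyA : ∀ B ∈ AA (S : Subgroup G), y ∈ B := fun B hB => zj_le_AA hB hy
  have hyQ : y ∈ o2 P := hA'Q (hyA _ hA')
  have hyY : y ∈ Y := mem_zj.2 ⟨le_jj hA'' (hyA _ hA'), hy'.2.1, fun w hw => hy'.2.2 w (hjj hw)⟩
  have hyA1 : y ∈ YA := ⟨hyY, mem_centralizer_iff.2 fun a ha => hy'.2.2 a (le_jj hA ha)⟩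
  obtain ⟨z, hz, c, hc, hyzc⟩ : ∃ z ∈ R, ∃ c ∈ C, y = z * c := by
    rw [← hVsupC] at hyY
    obtain ⟨v, hv, c, hc, rfl⟩ := mem_sup_comm (A := V) (B := C)
      (fun v hv c hc => hYc v (hVY hv) c hc.1.1) hyY
    refine ⟨v, ?_, c, hc, rfl⟩
    rw [← hVYA]
    refine ⟨hv, ?_⟩
    have h1 := mul_mem hyA1 (inv_mem hc.1)
    rwa [mul_inv_cancel_right] at h1
  have hcZ : c ∉ R := fun h1 => hyZ (hyzc ▸ mul_mem hz h1)
  have hcY : c ∈ Y := hc.1.1
  have hcQ0 : c ∈ o2 P := jj_le _ (mem_zj.1 hcY).1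
  have hcS : ∀ s ∈ B, s * c * s⁻¹ * c⁻¹ ∈ R := by
    intro s hs
    have h1 := hyS s hs
    have h2 : s * z = z * s := h.cB s hs z hz
    have e : s * y * s⁻¹ * y⁻¹ = s * c * s⁻¹ * c⁻¹ := by
      rw [hyzc]
      have h4 : s * (z * c) * s⁻¹ * (z * c)⁻¹ = (s * z) * c * s⁻¹ * c⁻¹ * z⁻¹ := by group
      have h5 : z * (s * c * s⁻¹ * c⁻¹) = s * c * s⁻¹ * c⁻¹ * z := by
        have h6 : s * c * s⁻¹ * c⁻¹ ∈ B :=
          mul_mem (mul_mem (mul_mem hs (h.QB hcQ0)) (inv_mem hs)) (inv_mem (h.QB hcQ0))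
        exact (h.cB _ h6 z hz).symm
      rw [h4, h2]
      calc z * s * c * s⁻¹ * c⁻¹ * z⁻¹ = z * (s * c * s⁻¹ * c⁻¹) * z⁻¹ := by group
        _ = s * c * s⁻¹ * c⁻¹ := by rw [h5]; group
    rwa [e] at h1
  -- `c` centralises `Q`
  obtain ⟨a₀, ha₀, ha₀Q⟩ := SetLike.not_le_iff_exists.1 hAQ
  have hcQ : ∀ t ∈ o2 P, t * c = c * t := by
    intro t ht
    have hbP : x * a₀ * x⁻¹ ∈ P := mul_mem (mul_mem hx (h.star.le (hA.2.1 ha₀))) (inv_mem hx)
    set b := x * a₀ * x⁻¹ with hb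
    have hbc : b * c = c * b := by
      have h1 : c ∈ YB := hc.2
      have h2 : c ∈ cj x (centralizer (A : Set G)) := cj_mono x inf_le_right h1
      rw [mem_cj, mem_centralizer_iff] at h2
      have h3 := h2 a₀ ha₀
      have h4 : x * (a₀ * (x⁻¹ * c * x)) * x⁻¹ = x * (x⁻¹ * c * x * a₀) * x⁻¹ := by rw [h3]
      rw [hb]
      calc x * a₀ * x⁻¹ * c = x * (a₀ * (x⁻¹ * c * x)) * x⁻¹ := by group
        _ = x * (x⁻¹ * c * x * a₀) * x⁻¹ := h4
        _ = c * (x * a₀ * x⁻¹) := by group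
    set e := t * c * t⁻¹ * c⁻¹ with he
    have heZ : e ∈ R := hcS t (h.QB ht)
    have heV : e ∈ V := h.RV heZ
    have heZ' : b * e * b⁻¹ ∈ R := by
      have h1 : b * t * b⁻¹ ∈ o2 P := conj_mem (MinSimple.VModule.le_normalizer_o2 P) hbP ht
      have h2 := hcS _ (h.QB h1)
      have h3 : b * c * b⁻¹ = c := by rw [hbc]; group
      have h4 : b * e * b⁻¹ = (b * t * b⁻¹) * (b * c * b⁻¹) * (b * t * b⁻¹)⁻¹ * (b * c * b⁻¹)⁻¹ := by
        rw [he]; group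
      rw [h4, h3]
      exact h2
    -- `[b, e] ∈ R ∩ R^x = 1`
    have h1 : b * e * b⁻¹ * e⁻¹ ∈ R ⊓ cj x R := by
      refine mem_inf.2 ⟨mul_mem heZ' (inv_mem heZ), ?_⟩
      rw [mem_cj]
      have h2 : x⁻¹ * e * x ∈ V := by
        have := conj_mem hPV (inv_mem hx) heV
        rwa [inv_inv] at this
      have h3 := h.comm a₀ (h.AB A hA ha₀) _ h2
      have h4 : x⁻¹ * (b * e * b⁻¹ * e⁻¹) * x = a₀ * (x⁻¹ * e * x) * a₀⁻¹ * (x⁻¹ * e * x)⁻¹ := by
        rw [hb]; group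
      rw [h4]
      exact h3
    rw [hxZ, mem_bot] at h1
    have h2 : e ∈ cj x R := by
      rw [mem_cj]
      have h3 : x⁻¹ * e * x ∈ V := by
        have := conj_mem hPV (inv_mem hx) heV
        rwa [inv_inv] at this
      refine h.fix a₀ (h.AB A hA ha₀) ha₀Q _ h3 ?_
      have h4 : b * e = e * b := by
        have := mul_inv_eq_one.1 h1
        calc b * e = b * e * b⁻¹ * b := by group
          _ = e * b := by rw [this]
      have h5 : x⁻¹ * (b * e) * x = x⁻¹ * (e * b) * x := by rw [h4]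
      calc a₀ * (x⁻¹ * e * x) = x⁻¹ * (b * e) * x := by rw [hb]; group
        _ = x⁻¹ * (e * b) * x := h5
        _ = x⁻¹ * e * x * a₀ := by rw [hb]; group
    have h3 : e ∈ R ⊓ cj x R := ⟨heZ, h2⟩
    rw [hxZ, mem_bot, he] at h3
    have := mul_inv_eq_one.1 h3
    calc t * c = t * c * t⁻¹ * t := by group
      _ = c * t := by rw [this]
  have hcV : c ∈ V := by
    rw [← hzo2]
    exact mem_zc.2 ⟨hcQ0, (mem_zj.1 hcY).2.1, hcQ⟩
  have h1 : c ∈ V ⊓ C := ⟨hcV, hc⟩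
  rw [hVC, mem_bot] at h1
  exact hcZ (h1 ▸ one_mem _)

end BR

/-! ### The results -/

section res

variable {F : Type*} [Field F] [Finite F] [CharP F 2]

/-- `R ∩ R^x = 1` for some `x ∈ P` -/
theorem Crd.opp {S P V : Subgroup G} (M : Crd F S P V) : ∃ x ∈ P, M.R ⊓ cj x M.R = ⊥ := by
  obtain ⟨x, hx, h1⟩ := M.lift (wm 1 one_ne_zero)
  refine ⟨x, hx, ?_⟩
  rw [eq_bot_iff]
  rintro _ ⟨⟨a, rfl⟩, hb⟩
  obtain ⟨b, hb1⟩ := mem_cj.1 hb
  have h2 := h1 ![b, 0]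
  rw [hb1] at h2
  have e : x * (x⁻¹ * M.e ![a, 0] * x) * x⁻¹ = M.e ![a, 0] := by group
  rw [e] at h2
  have h3 := congrFun (M.e_inj h2) 0
  rw [ap_zero', wm_00, wm_01] at h3
  have h4 : a = 0 := by simpa using h3
  rw [mem_bot, h4, ← M.e_zero]
  congr 1
  apply ext2 <;> simp

variable (h : HypJ S P)

theorem HypJ.facts (M : Crd F (S : Subgroup G) P (zl (S : Subgroup G) P)) (h : HypJ S P) :
    BR (S : Subgroup G) P M.B M.R ∧ zc (o2 P) = zl (S : Subgroup G) P ∧ zj (S : Subgroup G) = M.R := by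
  have hG := h.ctx.char2
  have hb := br_of hG h.star M
  have hVS : zl (S : Subgroup G) P ≤ (S : Subgroup G) := (BR.zl_le_o2 hG hb).trans (hb.QB.trans hb.BS)
  have hB := M.mem_R_of_cent S.isPGroup' hVS (zc_le_zl _ _)
  obtain ⟨A, hA, hAQ⟩ := exists_AA' h.jnot
  obtain ⟨x, hx, hx0⟩ := M.opp
  refine ⟨hb, BR.zc_o2 hG hb hB hA hAQ, BR.zj_eq hG hb hB hA hAQ ?_ hx hx0⟩
  rw [M.card_V_R, pow_two]

/-- `N_G(J(S)) ≤ N_G(R)` -/
theorem normalizer_jj_le_R (M : Crd F (S : Subgroup G) P (zl (S : Subgroup G) P)) (h : HypJ S P) :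
    normalizer (jj (S : Subgroup G) : Set G) ≤ normalizer (M.R : Set G) := by
  rw [← (HypJ.facts M h).2.2]
  intro g hg
  apply mem_normalizer_of_cj_le
  intro x hx
  rw [mem_cj] at hx
  have h1 := mem_zj.1 hx
  have key : ∀ y, y ∈ jj (S : Subgroup G) ↔ g * y * g⁻¹ ∈ jj (S : Subgroup G) := mem_normalizer_iff.1 hg
  refine mem_zj.2 ⟨?_, ?_, fun y hy => ?_⟩
  · have h2 := (key _).1 h1.1
    have e : g * (g⁻¹ * x * g) * g⁻¹ = x := by group
    rwa [e] at h2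
  · have e : (g⁻¹ * x * g) ^ 2 = g⁻¹ * x ^ 2 * g := by rw [pow_two, pow_two]; group
    have h2 := h1.2.1
    rw [e] at h2
    have e2 : x ^ 2 = g * (g⁻¹ * x ^ 2 * g) * g⁻¹ := by group
    rw [e2, h2]; group
  · have h2 : g⁻¹ * y * g ∈ jj (S : Subgroup G) := by
      rw [key]
      have e : g * (g⁻¹ * y * g) * g⁻¹ = y := by group
      rwa [e]
    have h3 := h1.2.2 _ h2
    have h4 : g * (g⁻¹ * y * g * (g⁻¹ * x * g)) * g⁻¹ = g * (g⁻¹ * x * g * (g⁻¹ * y * g)) * g⁻¹ := by rw [h3]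
    calc y * x = g * (g⁻¹ * y * g * (g⁻¹ * x * g)) * g⁻¹ := by group
      _ = g * (g⁻¹ * x * g * (g⁻¹ * y * g)) * g⁻¹ := h4
      _ = x * y := by group

/-- `N_G(S) ≤ N_G(R)` -/
theorem normalizer_S_le_R (M : Crd F (S : Subgroup G) P (zl (S : Subgroup G) P)) (h : HypJ S P) :
    normalizer ((S : Subgroup G) : Set G) ≤ normalizer (M.R : Set G) :=
  (normalizer_le_of_cj (F := jj) jj_cj (S : Subgroup G)).trans (normalizer_jj_le_R M h)

end res

end Cfsg.Agent.Omega.NO3S.Fld
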