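import Cfsg.Agent.Omega.NO3S.Fld.FourTwo

/-!
# Fld, `q = 4` (helper240, #15515), section (3), first half, with the repair of helper705 (#15839)

`|S : Q| = 2` and `J(L) ≤ Q` ⟹ `P₂` normalises `V`.

* `Cfg4.exists_jj_mul` : `S = J(S) Q`;
* `X_le_Y` : `X ≤ Y = Ω₁ Z(J(L))`; `comm_XS` : `[X, S] ≤ R`;
* `X_le_V` : `X ≤ V`;
* `Cfg4.norm_V` : `P₂ ≤ N_G(V)`.
-/

set_option autoImplicit false
set_option linter.unusedSectionVars false

namespace Cfsg.Agent.Omega.NO3S.Fld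

open Subgroup Cfsg Cfsg.Agent.ZN Cfsg.Agent.ZN.ChoiceBase Cfsg.Agent.Omega.MinPar Cfsg.Agent.Omega.FrameNOFF
open Cfsg.Agent.ZN.ChoiceSit (Syl syl_iff syl_not_dvd o2_le_syl isPGroup_o2)
open Cfsg.Agent.MinSimple.MinParabolic (IsMinPar)
open Cfsg.Agent.MinSimple.VModule (oddGen oddGen_le mem_oddGen le_normalizer_oddGen le_normalizer_o2 o2_le
  zc_le zc_le_zl le_normalizer_zl zc_sq zc_comm le_centralizer_zc)
open Cfsg.Agent.Omega.NO3b.EZero (cl cj_le_cl le_cl cl_le cj_cl le_normalizer_cl cent_symm cj_cent cj_norm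
  sq_of_comm oddGen_sup_syl mem_cj_self relIndex_cj le_normalizer_inf_cent)
open Cfsg.Agent.Omega.NO3b.K0 (conj_mem' cj_of_le cj_self)
open Cfsg.Agent.Omega.NO3S.NotFF (le_normalizer_of_forall normalizer_inf normalizer_sup normalizer_centralizer
  normalizer_commutator)
open Cfsg.Agent.Omega.SQ1.Bau (mem_AA_of_comm zj_le_AA elem_comm elem_sq card_sup_comm mem_sup_comm)
open scoped commutatorElement

universe u

namespace Cfg4

variable {G : Type u} [Group G] [Finite G] {S : Sylow 2 G} {P P2 R V3 : Subgroup G} {z : G}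
  (h : Cfg4 S P P2 R V3 z)
include h

theorem sylP : Syl (S : Subgroup G) P := h.hyp.toHyp.syl

theorem S_le_P : (S : Subgroup G) ≤ P := h.sylP.1

/-- the dichotomy for normal subgroups of `P` -/
theorem min_orP {K : Subgroup G} (hK : K ≤ P) (hKn : P ≤ normalizer (K : Set G)) :
    oddGen P ≤ K ∨ (S : Subgroup G) ⊓ K ≤ o2 P :=
  Cfsg.Agent.Omega.NO3b.K0.min_or h.sylP h.hyp.star.toIsMinPar hK hKn

theorem sup_SP : oddGen P ⊔ (S : Subgroup G) = P := oddGen_sup_syl h.sylP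

/-- `V = ⟨z^P⟩` -/
theorem V_le_of {C : Subgroup G} (hC : P ≤ normalizer (C : Set G)) (hz : z ∈ C) : zl (S : Subgroup G) P ≤ C := by
  refine iSup_le fun g => ?_
  rw [h.zS]
  have h1 : (zpowers z).map (MulAut.conj (g : G)).toMonoidHom = cj (g : G) (zpowers z) := rfl
  rw [h1]
  have h2 := cj_mono (g : G) (zpowers_le.2 hz)
  rwa [cj_of_le hC g.2] at h2

/-- `S = J(S) Q` if `|S : Q| = 2` -/
theorem exists_jj_mul (h2 : (o2 P2).relIndex (S : Subgroup G) = 2) {s : G} (hs : s ∈ (S : Subgroup G)) :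
    ∃ a ∈ jj (S : Subgroup G), ∃ q ∈ o2 P2, s = a * q := by
  by_cases hsQ : s ∈ o2 P2
  · exact ⟨1, one_mem _, s, hsQ, (one_mul s).symm⟩
  obtain ⟨a, ha, haQ⟩ := SetLike.not_le_iff_exists.1 h.not_jj_Q
  have haS := jj_le _ ha
  have h3 := Subgroup.mul_mem_iff_of_index_two (H := (o2 P2).subgroupOf (S : Subgroup G)) h2
    (a := ⟨a⁻¹, inv_mem haS⟩) (b := ⟨s, hs⟩)
  rw [mem_subgroupOf, mem_subgroupOf, mem_subgroupOf] at h3
  have h4 : a⁻¹ * s ∈ o2 P2 := h3.2 (by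
    change a⁻¹ ∈ o2 P2 ↔ s ∈ o2 P2
    rw [inv_mem_iff]
    exact ⟨fun h5 => absurd h5 haQ, fun h5 => absurd h5 hsQ⟩)
  exact ⟨a, ha, _, h4, by group⟩

/-- `J(L) ≤ Q` ⟹ `X ≤ Y` -/
theorem X_le_Y (hJ : jj (o2 P) ≤ o2 P2) : cl R P2 ≤ zj (o2 P) := by
  have key : ∀ A ∈ AA (o2 P), ∀ x ∈ cl R P2, ∀ a ∈ A, a * x = x * a := by
    intro A hA x hx a ha
    obtain ⟨h1, -⟩ := h.AA_L_iff.1 hA
    exact (mem_centralizer_iff.1 (h.AA_cent h1 ((le_jj hA).trans hJ) ha) x hx).symm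
  intro x hx
  rw [mem_zj]
  obtain ⟨A, hA⟩ := AA_nonempty (o2 P)
  have hxA : x ∈ A := mem_AA_of_comm (h.AA_L_iff.1 hA).1 (h.X_le_S hx) (h.X_sq x hx) (key A hA x hx)
  refine ⟨le_jj hA hxA, h.X_sq x hx, fun y hy => ?_⟩
  have h1 : jj (o2 P) ≤ centralizer ({x} : Set G) := by
    rw [jj_eq]
    refine sSup_le fun A hA a ha => ?_
    rw [mem_centralizer_iff]
    intro w hw
    rw [Set.mem_singleton_iff] at hw
    rw [hw]
    exact (key A hA x hx a ha).symm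
  exact (mem_centralizer_iff.1 (h1 hy) x rfl).symm

/-- `[X, S] ≤ R` -/
theorem comm_XS (h2 : (o2 P2).relIndex (S : Subgroup G) = 2) (hJ : jj (o2 P) ≤ o2 P2) {s x : G}
    (hs : s ∈ (S : Subgroup G)) (hx : x ∈ cl R P2) : s * x * s⁻¹ * x⁻¹ ∈ R := by
  obtain ⟨a, ha, q, hq, rfl⟩ := h.exists_jj_mul h2 hs
  have h3 := h.zpowers_le_R (h.comm_XQ hq hx)
  have h4 := conj_mem' h.mod.S_R (jj_le _ ha) h3
  have h5 := h.comm_YJ ha (h.X_le_Y hJ hx)
  have e : a * q * x * (a * q)⁻¹ * x⁻¹ = (a * (q * x * q⁻¹ * x⁻¹) * a⁻¹) * (a * x * a⁻¹ * x⁻¹) := by group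
  rw [e]
  exact mul_mem h4 h5

/-- `[Y, O²(P)] ≤ V` -/
theorem oddGen_le_kmod : oddGen P ≤ kmod P (zj (o2 P)) (zl (S : Subgroup G) P) h.P_Y (le_normalizer_zl _ _) := by
  rcases h.min_orP (kmod_le (h1 := h.P_Y) (h2 := le_normalizer_zl (S : Subgroup G) P))
    (norm_kmod h.P_Y (le_normalizer_zl (S : Subgroup G) P)) with h1 | h1
  · exact h1
  · exfalso
    apply h.hyp.jnot
    refine le_trans (fun g hg => ?_) h1
    refine ⟨jj_le _ hg, h.S_le_P (jj_le _ hg), fun y hy => ?_⟩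
    exact h.R_le_V (h.comm_YJ hg hy)

theorem V_cent_L {v l : G} (hv : v ∈ zl (S : Subgroup G) P) (hl : l ∈ o2 P) : v * l = l * v :=
  mem_centralizer_iff.1 ((h.mem_L_iff (h.L_le hl)).1 hl) v hv

/-- `[X, L] = 1` -/
theorem comm_XL (h2 : (o2 P2).relIndex (S : Subgroup G) = 2) (hJ : jj (o2 P) ≤ o2 P2) : ⁅cl R P2, o2 P⁆ = ⊥ := by
  set C := ⁅cl R P2, o2 P⁆ with hC
  have hCR : C ≤ R := by
    rw [hC, commutator_le]
    intro x hx l hl
    have h1 := inv_mem (h.comm_XS h2 hJ (h.L_le hl) hx)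
    have e : (l * x * l⁻¹ * x⁻¹)⁻¹ = ⁅x, l⁆ := by rw [commutatorElement_def]; group
    rwa [e] at h1
  have hCV : C ≤ zl (S : Subgroup G) P := hCR.trans h.R_le_V
  have hSC : (S : Subgroup G) ≤ normalizer (C : Set G) := normalizer_commutator (h.S_le.trans h.X_norm) h.S_L
  have hEC : oddGen P ≤ normalizer (C : Set G) := by
    refine le_normalizer_of_forall fun e he => ?_
    have heP := oddGen_le P he
    have h3 : C ≤ (C.comap (MulAut.conj e).toMonoidHom) := by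
      rw [hC, commutator_le]
      intro x hx l hl
      rw [mem_comap]
      have hk := (h.oddGen_le_kmod he).2 x (h.X_le_Y hJ hx)
      have hl' : e * l * e⁻¹ ∈ o2 P := conj_mem' (le_normalizer_o2 P) heP hl
      have h4 : ⁅x, e * l * e⁻¹⁆ ∈ C := commutator_mem_commutator hx hl'
      have h5 : (MulAut.conj e).toMonoidHom ⁅x, l⁆ = ⁅e * x * e⁻¹, e * l * e⁻¹⁆ := by
        rw [map_commutatorElement]; rfl
      rw [h5]
      set v := e * x * e⁻¹ * x⁻¹ with hv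
      have h6 : e * x * e⁻¹ = v * x := by rw [hv]; group
      rw [h6]
      have h7 : ⁅v * x, e * l * e⁻¹⁆ = (v * ⁅x, e * l * e⁻¹⁆ * v⁻¹) * ⁅v, e * l * e⁻¹⁆ := by
        simp only [commutatorElement_def]; group
      have h8 : ⁅v, e * l * e⁻¹⁆ = 1 := by
        rw [commutatorElement_eq_one_iff_mul_comm]
        exact h.V_cent_L hk hl'
      have h9 : v * ⁅x, e * l * e⁻¹⁆ * v⁻¹ = ⁅x, e * l * e⁻¹⁆ := by
        rw [mul_inv_eq_iff_eq_mul]
        exact (mem_centralizer_iff.1 (h.mod.comm (hCV h4)) v hk)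
      rw [h7, h8, h9, mul_one]
      exact h4
    intro c hc
    exact h3 hc
  have hPC : P ≤ normalizer (C : Set G) := h.sup_SP.ge.trans (sup_le hEC hSC)
  have hzC : z ∉ C := by
    intro h0
    have h1 := Subgroup.card_le_of_le ((h.V_le_of hPC h0).trans hCR)
    rw [h.mod.card, h.mod.cardR] at h1
    omega
  rcases h.mod.uni C hCV hSC with h1 | h1 | h1 | h1 | h1
  · exact h1
  · exact absurd (h1 ▸ mem_zpowers z) hzC
  · exact absurd (h1 ▸ h.z_mem_R) hzC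
  · exact absurd (h1 ▸ h.mod.R_le h.z_mem_R) hzC
  · exact absurd (h1 ▸ h.R_le_V h.z_mem_R) hzC

/-- `X ≤ V` -/
theorem X_le_V (h2 : (o2 P2).relIndex (S : Subgroup G) = 2) (hJ : jj (o2 P) ≤ o2 P2) :
    cl R P2 ≤ zl (S : Subgroup G) P := by
  have h1 := h.comm_XL h2 hJ
  rw [commutator_eq_bot_iff_le_centralizer] at h1
  intro x hx
  rw [← h.soc, ChoiceBase.mem_zc]
  exact ⟨h.Y_le_L (h.X_le_Y hJ hx), h.X_sq x hx, fun y hy => mem_centralizer_iff.1 (h1 hx) y hy⟩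

/-- **`|S : Q| = 2`, `J(L) ≤ Q` ⟹ `P₂ ≤ N_G(V)`** -/
theorem norm_V (h2 : (o2 P2).relIndex (S : Subgroup G) = 2) (hJ : jj (o2 P) ≤ o2 P2) :
    P2 ≤ normalizer (zl (S : Subgroup G) P : Set G) := by
  have hXV := h.X_le_V h2 hJ
  rcases h.mod.uni _ hXV (h.S_le.trans h.X_norm) with h1 | h1 | h1 | h1 | h1
  · exact absurd (h1 ▸ h.R_le_X h.z_mem_R) (by rw [mem_bot]; exact h.mod.z_ne)
  · exfalso
    have h3 := Subgroup.card_le_of_le h.R_le_X
    rw [h1, h.mod.cardR, Nat.card_zpowers, orderOf_eq_prime (by rw [pow_two]; exact h.z_sq) h.mod.z_ne] at h3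
    omega
  · exfalso
    apply h.mv
    have h3 := h.X_norm
    rwa [h1] at h3
  · -- `X = V₃`
    have h3 : V3 ≤ cl R P2 := h1.ge
    have h4 : jj (o2 P2) ≤ o2 P := by
      rw [jj_eq]
      refine sSup_le fun A hA => ?_
      obtain ⟨h5, h6⟩ := (h.AA_Q_iff hJ).1 hA
      intro a ha
      exact (h.mem_L_iff (h5.2.1 ha)).2 (h.cent_V_of_X h3 (h5.2.1 ha) (h.AA_cent h5 h6 ha))
    have h5 := h.UE_of_jj (h.jj_eq_of h4 hJ)
    refine h.sup_S.ge.trans (sup_le ?_ h.mod.S_V)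
    refine le_normalizer_of_forall fun e he v hv => ?_
    have h6 := hXV ((h5 he).2 v (h.V_le_U hv))
    have h7 := mul_mem h6 hv
    rwa [inv_mul_cancel_right] at h7
  · have h3 := h.X_norm
    rwa [h1] at h3

end Cfg4

end Cfsg.Agent.Omega.NO3S.Fld
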