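import Cfsg.Agent.Omega.NO3S.Fld.DEight
import Cfsg.Agent.Omega.FFThmM

/-!
# Fld, `q = 4`: the case `|S : O₂(P₂)| = 2` (#15515 (4))

`V` is the module of `DEight` for `S`, `z` its `S`-fixed vector; `S` is a Sylow 2-subgroup of `P ≤ C(z)`, `Q ≤ S` is
normal in `P`, `|S : Q| = 2`, `⟨V^P⟩` is abelian.  If `P` moves `R` then no `A ∈ A(S)` which centralises `V` lies outside
`Q`.
-/

set_option autoImplicit false
set_option linter.unusedSectionVars false

namespace Cfsg.Agent.Omega.NO3S.Fld.Dih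

open Subgroup Cfsg Cfsg.Agent.ZN.ChoiceBase Cfsg.Agent.ZN.ChoiceSit Cfsg.Agent.PLocal.ThompsonJ
open Cfsg.Agent.Omega.NO3S.Fld.DEight

universe u

variable {G : Type u} [Group G] [Finite G]

/-- The hypotheses of #15515 (4). -/
structure Sit (S P Q U V R V3 : Subgroup G) (z : G) : Prop where
  mod : Mod S V R V3 z
  syl : Syl S P
  Q_le : Q ≤ S
  norm : P ≤ normalizer (Q : Set G)
  idx : Q.relIndex S = 2
  cz : ∀ g ∈ P, g * z = z * g
  U_le : U ≤ S
  U_comm : U ≤ centralizer (U : Set G)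
  conj_le : ∀ g ∈ P, cj g V ≤ U
  moves : ∃ g ∈ P, ∃ s ∈ S, g * s * g⁻¹ ∉ normalizer (R : Set G)

section

variable {S P Q U V R V3 : Subgroup G} {z : G} (h : Sit S P Q U V R V3 z)
include h

theorem Sit.two {s t : G} (hs : s ∈ S) (ht : t ∈ S) (hsQ : s ∉ Q) (htQ : t ∉ Q) : s * t ∈ Q := by
  have h1 : (Q.subgroupOf S).index = 2 := h.idx
  have h2 := (mul_mem_iff_of_index_two h1 (a := ⟨s, hs⟩) (b := ⟨t, ht⟩)).2 (by
    rw [mem_subgroupOf, mem_subgroupOf]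
    exact iff_of_false hsQ htQ)
  exact h2

theorem Sit.conj_mem_Q {g x : G} (hg : g ∈ P) : g * x * g⁻¹ ∈ Q ↔ x ∈ Q :=
  ((mem_normalizer_iff.1 (h.norm hg)) x).symm

/-- The order of a product of two involutions outside `Q` modulo `Q` is odd. -/
theorem Sit.odd_pow {α β g : G} (hα : α ∈ S) (hαQ : α ∉ Q) (hα2 : α * α = 1) (hg : g ∈ P) (hβ : β = g * α * g⁻¹) :
    ∃ m : ℤ, (α * β) ^ (2 * m + 1) ∈ Q := by
  have hαP : α ∈ P := h.syl.1 hα
  have hβP : β ∈ P := by rw [hβ]; exact mul_mem (mul_mem hg hαP) (inv_mem hg)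
  have hβQ : β ∉ Q := by rw [hβ, h.conj_mem_Q hg]; exact hαQ
  have hβ2 : β * β = 1 := by
    rw [hβ]
    calc g * α * g⁻¹ * (g * α * g⁻¹) = g * (α * α) * g⁻¹ := by group
      _ = 1 := by rw [hα2]; group
  have hα' : α⁻¹ = α := inv_eq_of_mul_eq_one_left hα2
  have hβ' : β⁻¹ = β := inv_eq_of_mul_eq_one_left hβ2
  set ρ := α * β with hρ
  have hρP : ρ ∈ P := mul_mem hαP hβP
  have hinv : α * ρ * α⁻¹ = ρ⁻¹ := by
    rw [hρ, mul_inv_rev, hβ', hα', ← mul_assoc, hα2, one_mul]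
  have hinvk : ∀ k : ℤ, α * ρ ^ k * α⁻¹ = (ρ ^ k)⁻¹ := by
    intro k
    rw [← conj_zpow, hinv, inv_zpow]
  -- the order of `ρ` modulo `Q`
  have hex : ∃ m : ℕ, 0 < m ∧ ρ ^ m ∈ Q := ⟨orderOf ρ, orderOf_pos ρ, by rw [pow_orderOf_eq_one]; exact one_mem _⟩
  classical
  obtain ⟨m, ⟨hm0, hm⟩, hmin⟩ : ∃ m : ℕ, (0 < m ∧ ρ ^ m ∈ Q) ∧ ∀ k, k < m → ¬ (0 < k ∧ ρ ^ k ∈ Q) :=
    ⟨Nat.find hex, Nat.find_spec hex, fun k hk => Nat.find_min hex hk⟩
  rcases Nat.even_or_odd' m with ⟨k, hk | hk⟩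
  · exfalso
    have hk0 : 0 < k := by omega
    have hγQ : ρ ^ k ∉ Q := fun h0 => hmin k (by omega) ⟨hk0, h0⟩
    set γ := ρ ^ k with hγ
    have hγP : γ ∈ P := pow_mem hρP k
    have hγ2 : γ * γ ∈ Q := by rw [hγ, ← pow_add, ← two_mul, ← hk]; exact hm
    have hγα : α * γ * α⁻¹ = γ⁻¹ := by
      have := hinvk k
      rwa [zpow_natCast] at this
    -- `⟨γ⟩` is a 2-group modulo `Q`
    have hQ2 : IsPGroup 2 Q := h.syl.2.1.to_le h.Q_le
    have hz : IsPGroup 2 (zpowers γ) := by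
      have h1 : ∃ j, (γ * γ) ^ 2 ^ j = 1 := by
        obtain ⟨j, hj⟩ := hQ2 ⟨γ * γ, hγ2⟩
        exact ⟨j, by simpa using congrArg Subtype.val hj⟩
      obtain ⟨j, hj⟩ := h1
      have h2 : γ ^ 2 ^ (j + 1) = 1 := by
        rw [pow_succ', pow_mul, pow_two]
        exact hj
      have h3 : orderOf γ ∣ 2 ^ (j + 1) := orderOf_dvd_of_pow_eq_one h2
      obtain ⟨i, -, hi⟩ := (Nat.dvd_prime_pow Nat.prime_two).1 h3
      refine IsPGroup.of_card (n := i) ?_
      rw [Nat.card_zpowers, hi]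
    have hK : IsPGroup 2 (zpowers γ ⊔ Q : Subgroup G) :=
      IsPGroup.to_sup_of_normal_right' hz hQ2 (by
        rw [zpowers_le]; exact h.norm hγP)
    have hSK : S ≤ normalizer ((zpowers γ ⊔ Q : Subgroup G) : Set G) := by
      have hαK : α ∈ normalizer ((zpowers γ ⊔ Q : Subgroup G) : Set G) := by
        apply mem_normalizer_of_cj_le
        have e : cj α (zpowers γ ⊔ Q) = cj α (zpowers γ) ⊔ cj α Q := Subgroup.map_sup _ _ _
        rw [e]
        refine sup_le ?_ ?_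
        · rintro x ⟨y, hy, rfl⟩
          obtain ⟨i, rfl⟩ := mem_zpowers_iff.1 hy
          refine (le_sup_left : zpowers γ ≤ _) ?_
          have e2 : (MulAut.conj α).toMonoidHom (γ ^ i) = (γ ^ i)⁻¹ := by
            show α * γ ^ i * α⁻¹ = (γ ^ i)⁻¹
            rw [← conj_zpow, hγα, inv_zpow]
          rw [e2]
          exact inv_mem (zpow_mem (mem_zpowers γ) i)
        · rw [cj_eq_of_mem_normalizer (h.norm hαP)]
          exact le_sup_right
      intro s hs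
      by_cases hsQ : s ∈ Q
      · exact le_normalizer ((le_sup_right : Q ≤ zpowers γ ⊔ Q) hsQ)
      · have h1 : s * α ∈ Q := h.two hs hα hsQ hαQ
        have h2 : s = (s * α) * α⁻¹ := by group
        rw [h2]
        exact mul_mem (le_normalizer ((le_sup_right : Q ≤ zpowers γ ⊔ Q) h1)) (inv_mem hαK)
    have hT : IsPGroup 2 (S ⊔ (zpowers γ ⊔ Q) : Subgroup G) :=
      IsPGroup.to_sup_of_normal_right' h.syl.2.1 hK hSK
    have hTP : S ⊔ (zpowers γ ⊔ Q) ≤ P :=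
      sup_le h.syl.1 (sup_le (by rwa [zpowers_le]) (h.Q_le.trans h.syl.1))
    have hTS := h.syl.2.2 _ hTP hT le_sup_left
    have hγS : γ ∈ S := by
      rw [← hTS]
      exact (le_sup_right : _ ≤ S ⊔ (zpowers γ ⊔ Q)) ((le_sup_left : zpowers γ ≤ _) (mem_zpowers γ))
    have hαγ : α * γ ∈ Q := h.two hα hγS hαQ hγQ
    -- `γ ≡ α` mod `Q`, so `ρ⁻¹ ≡ ρ`
    have hρ2 : ρ ^ 2 ∈ Q := by
      have e1 : ρ⁻¹ * (α * γ) * ρ = ρ⁻¹ * α * ρ * γ := by
        have : γ * ρ = ρ * γ := by rw [hγ, ← pow_succ, pow_succ']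
        rw [mul_assoc, mul_assoc, mul_assoc, this]
        group
      have e2 : ρ⁻¹ * α * ρ = α * ρ ^ 2 := by
        have : ρ⁻¹ = α * ρ * α := by rw [← hinv, hα']
        rw [this]
        calc α * ρ * α * α * ρ = α * ρ * (α * α) * ρ := by group
          _ = α * ρ ^ 2 := by rw [hα2, pow_two]; group
      have h1 : ρ⁻¹ * (α * γ) * ρ ∈ Q := by
        have := (h.conj_mem_Q (inv_mem hρP) (x := α * γ)).2 hαγ
        rwa [inv_inv] at this
      rw [e1, e2] at h1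
      have h2 : α * ρ ^ 2 * γ * (α * γ)⁻¹ ∈ Q := mul_mem h1 (inv_mem hαγ)
      have h3 : α * ρ ^ 2 * γ * (α * γ)⁻¹ = α * ρ ^ 2 * α⁻¹ := by group
      rw [h3, h.conj_mem_Q hαP] at h2
      exact h2
    have hm2 : m = 2 := by
      have h1 : ¬ 2 < m := fun h0 => hmin 2 h0 ⟨by decide, hρ2⟩
      omega
    have hk1 : k = 1 := by omega
    have hγρ : γ = ρ := by rw [hγ, hk1, pow_one]
    apply hβQ
    rw [hγρ, hρ, ← mul_assoc, hα2, one_mul] at hαγ
    exact hαγ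
  · refine ⟨k, ?_⟩
    have : ((2 * (k : ℤ) + 1 : ℤ)) = ((2 * k + 1 : ℕ) : ℤ) := by push_cast; ring
    rw [this, zpow_natCast, ← hk]
    exact hm

theorem Sit.S_eq {α : G} (hα : α ∈ S) (hαQ : α ∉ Q) {N : Subgroup G} (hQ : Q ≤ N) (hN : α ∈ N) : S ≤ N := by
  intro s hs
  by_cases hsQ : s ∈ Q
  · exact hQ hsQ
  · have h1 : s * α ∈ Q := h.two hs hα hsQ hαQ
    have h2 : s = (s * α) * α⁻¹ := by group
    rw [h2]
    exact mul_mem (hQ h1) (inv_mem hN)

/-- `V₁ ∩ V₋₁ = ⟨z⟩`. -/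
theorem Sit.inf_eq {α ρ : G} {m : ℤ} (hα : α ∈ S) (hαQ : α ∉ Q) (hαV : α ∈ centralizer (V : Set G)) (hρ : ρ ∈ P)
    (hρR : ρ ∉ normalizer (R : Set G)) (hinv : α * ρ * α⁻¹ = ρ⁻¹) (hm : ρ ^ (2 * m + 1) ∈ Q) :
    cj ρ V ⊓ cj ρ⁻¹ V = zpowers z := by
  have hQV : Q ≤ normalizer (V : Set G) := h.Q_le.trans h.mod.S_V
  have hinvk : ∀ k : ℤ, α * ρ ^ k * α⁻¹ = ρ ^ (-k) := by
    intro k
    rw [← conj_zpow, hinv, inv_zpow']
  have hρk : ∀ k : ℤ, ρ ^ k ∈ P := fun k => zpow_mem hρ k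
  have hVm : ∀ k : ℤ, cj (ρ ^ (k + (2 * m + 1))) V = cj (ρ ^ k) V := by
    intro k
    rw [zpow_add, ← cj_cj, cj_eq_of_mem_normalizer (hQV hm)]
  have hVα : ∀ k : ℤ, cj α (cj (ρ ^ k) V) = cj (ρ ^ (-k)) V := by
    intro k
    have e : α * ρ ^ k = ρ ^ (-k) * α := by rw [← hinvk k]; group
    rw [cj_cj, e, ← cj_cj, cj_eq_of_mem_normalizer (h.mod.S_V hα)]
  have hVQ : ∀ q ∈ Q, ∀ k : ℤ, cj q (cj (ρ ^ k) V) = cj (ρ ^ k) V := by
    intro q hq k
    have h1 : ρ ^ (-k) * q * ρ ^ k ∈ Q := by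
      have := (h.conj_mem_Q (hρk (-k)) (x := q)).2 hq
      rwa [zpow_neg, inv_inv, ← zpow_neg] at this
    have e : q * ρ ^ k = ρ ^ k * (ρ ^ (-k) * q * ρ ^ k) := by
      rw [zpow_neg]; group
    rw [cj_cj, e, ← cj_cj, cj_eq_of_mem_normalizer (hQV h1)]
  -- `V_m ∩ V_{m+k} ≤ V_{m-k}`
  have hstep : ∀ i k : ℤ, ∀ x, x ∈ cj (ρ ^ i) V → x ∈ cj (ρ ^ (i + k)) V → x ∈ cj (ρ ^ (i - k)) V := by
    intro i k x hx hxk
    have h1 : (ρ ^ i)⁻¹ * x * ρ ^ i ∈ V := mem_cj.1 hx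
    have h2 : (ρ ^ i)⁻¹ * x * ρ ^ i ∈ cj (ρ ^ k) V := by
      rw [mem_cj]
      have := mem_cj.1 hxk
      rw [zpow_add, mul_inv_rev] at this
      have e : (ρ ^ k)⁻¹ * ((ρ ^ i)⁻¹ * x * ρ ^ i) * ρ ^ k = (ρ ^ k)⁻¹ * (ρ ^ i)⁻¹ * x * (ρ ^ i * ρ ^ k) := by group
      rw [e]; exact this
    have h3 : α * ((ρ ^ i)⁻¹ * x * ρ ^ i) * α⁻¹ = (ρ ^ i)⁻¹ * x * ρ ^ i := by
      rw [← mem_centralizer_iff.1 hαV _ h1, mul_assoc, mul_inv_cancel, mul_one]
    have h4 : (ρ ^ i)⁻¹ * x * ρ ^ i ∈ cj (ρ ^ (-k)) V := by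
      rw [← hVα k, ← h3]
      exact Subgroup.mem_map_of_mem _ h2
    rw [mem_cj] at h4 ⊢
    have e : (ρ ^ (i - k))⁻¹ * x * ρ ^ (i - k) = (ρ ^ (-k))⁻¹ * ((ρ ^ i)⁻¹ * x * ρ ^ i) * ρ ^ (-k) := by
      rw [sub_eq_add_neg, zpow_add, mul_inv_rev]; group
    rw [e]; exact h4
  set I := cj ρ V ⊓ cj ρ⁻¹ V with hI
  -- `I ≤ V_k` for all odd `k`
  have hodd : ∀ x ∈ I, ∀ j : ℤ, x ∈ cj (ρ ^ (2 * j + 1)) V ∧ x ∈ cj (ρ ^ (2 * j - 1)) V := by
    intro x hx j
    induction j using Int.induction_on with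
    | zero =>
      refine ⟨?_, ?_⟩
      · have := hx.1; simpa using this
      · have := hx.2; simpa using this
    | succ i IH =>
      have e1 : (2 * ((i : ℤ) + 1) - 1) = 2 * (i : ℤ) + 1 := by ring
      have e2 : (2 * ((i : ℤ) + 1) + 1) = 2 * (i : ℤ) + 1 - (-2) := by ring
      have e3 : (2 * (i : ℤ) + 1 + (-2)) = 2 * (i : ℤ) - 1 := by ring
      rw [e1, e2]
      exact ⟨hstep _ _ x IH.1 (by rw [e3]; exact IH.2), IH.1⟩
    | pred i IH =>
      have e1 : (2 * (-(i : ℤ) - 1) + 1) = 2 * (-(i : ℤ)) - 1 := by ring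
      have e2 : (2 * (-(i : ℤ) - 1) - 1) = 2 * (-(i : ℤ)) - 1 - 2 := by ring
      have e3 : (2 * (-(i : ℤ)) - 1 + 2) = 2 * (-(i : ℤ)) + 1 := by ring
      rw [e1, e2]
      exact ⟨IH.2, hstep _ _ x IH.2 (by rw [e3]; exact IH.1)⟩
  have hall : ∀ x ∈ I, ∀ k : ℤ, x ∈ cj (ρ ^ k) V := by
    intro x hx k
    rcases Int.even_or_odd' k with ⟨j, hj | hj⟩
    · rw [← hVm k, hj]
      have e : 2 * j + (2 * m + 1) = 2 * (j + m) + 1 := by ring
      rw [e]
      exact (hodd x hx _).1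
    · rw [hj]
      exact (hodd x hx _).1
  have hIV : I ≤ V := by
    intro x hx
    have := hall x hx 0
    rwa [zpow_zero, cj_one] at this
  have hSI : S ≤ normalizer (I : Set G) := by
    refine h.S_eq hα hαQ ?_ ?_
    · intro q hq
      rw [mem_normalizer_iff_cj, hI, cj_inf]
      have h1 := hVQ q hq 1
      have h2 := hVQ q hq (-1)
      rw [zpow_one] at h1
      rw [zpow_neg, zpow_one] at h2
      rw [h1, h2]
    · rw [mem_normalizer_iff_cj, hI, cj_inf]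
      have h1 := hVα 1
      have h2 := hVα (-1)
      rw [zpow_one, zpow_neg, zpow_one] at h1
      rw [zpow_neg, zpow_one, neg_neg, zpow_one] at h2
      rw [h1, h2, inf_comm]
  have hzI : z ∈ I := by
    have key : ∀ g ∈ P, z ∈ cj g V := by
      intro g hg
      rw [mem_cj, mul_assoc, ← h.cz g hg, ← mul_assoc, inv_mul_cancel, one_mul]
      exact h.mod.V3_le (h.mod.R_le h.mod.z_mem)
    exact ⟨key _ hρ, key _ (inv_mem hρ)⟩
  have hRI : ¬ R ≤ I := by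
    intro hR
    apply hρR
    have h2 : ρ ^ (2 : ℤ) ∈ centralizer (R : Set G) := by
      rw [mem_centralizer_iff]
      intro x hx
      have hxI := hR hx
      have h1 : ρ⁻¹ * x * ρ ∈ V := mem_cj.1 hxI.1
      have h3 := mem_centralizer_iff.1 hαV _ h1
      have h4 := mem_centralizer_iff.1 hαV _ (hIV hxI)
      have h5 : ρ * (ρ⁻¹ * x * ρ * α) * ρ⁻¹ = ρ * (α * (ρ⁻¹ * x * ρ)) * ρ⁻¹ := by rw [h3]
      have h6 : ρ * α * ρ⁻¹ = ρ ^ (2 : ℤ) * α := by
        have : α * ρ⁻¹ = ρ * α := by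
          have e := hinvk (-1)
          rw [zpow_neg, zpow_one, neg_neg, zpow_one] at e
          exact mul_inv_eq_iff_eq_mul.1 e
        rw [mul_assoc, this, ← mul_assoc, zpow_two]
      have h7 : x * (ρ * α * ρ⁻¹) = ρ * α * ρ⁻¹ * x := by
        calc x * (ρ * α * ρ⁻¹) = ρ * (ρ⁻¹ * x * ρ * α) * ρ⁻¹ := by group
          _ = ρ * (α * (ρ⁻¹ * x * ρ)) * ρ⁻¹ := h5
          _ = ρ * α * ρ⁻¹ * x := by group
      rw [h6] at h7
      have h8 : x * ρ ^ (2 : ℤ) * α = ρ ^ (2 : ℤ) * x * α := by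
        calc x * ρ ^ (2 : ℤ) * α = x * (ρ ^ (2 : ℤ) * α) := by group
          _ = ρ ^ (2 : ℤ) * α * x := h7
          _ = ρ ^ (2 : ℤ) * (x * α) := by rw [h4, mul_assoc]
          _ = ρ ^ (2 : ℤ) * x * α := by group
      exact mul_right_cancel h8
    have h3 : ρ ^ (2 : ℤ) ∈ normalizer (R : Set G) :=
      centralizer_le_normalizer _ h2
    have h4 : ρ = ρ ^ (2 * m + 1) * (ρ ^ (2 : ℤ)) ^ (-m) := by
      rw [← zpow_mul, ← zpow_add]
      have : 2 * m + 1 + 2 * -m = 1 := by ring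
      rw [this, zpow_one]
    rw [h4]
    exact mul_mem (h.mod.S_R (h.Q_le hm)) (zpow_mem h3 _)
  rcases h.mod.uni I hIV hSI with h1 | h1 | h1 | h1 | h1
  · rw [h1, mem_bot] at hzI
    exact absurd hzI h.mod.z_ne
  · exact h1
  · exact absurd h1.ge hRI
  · exact absurd (h.mod.R_le.trans h1.ge) hRI
  · exact absurd ((h.mod.R_le.trans h.mod.V3_le).trans h1.ge) hRI

omit h in
theorem card_eq {V B : Subgroup G} : B.relIndex V * Nat.card ↥(V ⊓ B) = Nat.card V := by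
  have e := relIndex_inf_mul_relIndex (⊥ : Subgroup G) B V
  rw [relIndex_bot_left, bot_inf_eq, relIndex_bot_left, mul_comm, inf_comm] at e
  exact e

/-- **#15515 (4).** -/
theorem Sit.false {A : Subgroup G} (hA : A ∈ AA S) (hAV : A ≤ centralizer (V : Set G)) (hAQ : ¬ A ≤ Q) : False := by
  obtain ⟨α, hαA, hαQ⟩ := SetLike.not_le_iff_exists.1 hAQ
  have hα : α ∈ S := hA.2.1 hαA
  have hαP : α ∈ P := h.syl.1 hα
  have hα2 : α * α = 1 := by rw [← pow_two]; exact hA.1.2 α hαA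
  have hα' : α⁻¹ = α := inv_eq_of_mul_eq_one_left hα2
  have hAcomm : ∀ a ∈ A, ∀ b ∈ A, a * b = b * a := fun a ha b hb =>
    (isElementaryAbelian_iff.1 hA.1).1 a ha b hb
  have hQR : Q ≤ normalizer (R : Set G) := h.Q_le.trans h.mod.S_R
  -- `ρ`
  obtain ⟨g, hg, s, hs, hgs⟩ := h.moves
  have hβR : g * α * g⁻¹ ∉ normalizer (R : Set G) := by
    intro hβ
    by_cases hsQ : s ∈ Q
    · exact hgs (hQR ((h.conj_mem_Q hg).2 hsQ))
    · have h1 : s * α ∈ Q := h.two hs hα hsQ hαQ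
      have h2 : g * (s * α) * g⁻¹ ∈ Q := (h.conj_mem_Q hg).2 h1
      have h3 : g * s * g⁻¹ = g * (s * α) * g⁻¹ * (g * α * g⁻¹)⁻¹ := by group
      exact hgs (h3 ▸ mul_mem (hQR h2) (inv_mem hβ))
  obtain ⟨m, hm⟩ := h.odd_pow hα hαQ hα2 hg rfl
  set β := g * α * g⁻¹ with hβ
  have hβP : β ∈ P := mul_mem (mul_mem hg hαP) (inv_mem hg)
  have hβ2 : β * β = 1 := by
    calc g * α * g⁻¹ * (g * α * g⁻¹) = g * (α * α) * g⁻¹ := by group
      _ = 1 := by rw [hα2]; group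
  have hβ' : β⁻¹ = β := inv_eq_of_mul_eq_one_left hβ2
  set ρ := α * β with hρ
  have hρP : ρ ∈ P := mul_mem hαP hβP
  have hinv : α * ρ * α⁻¹ = ρ⁻¹ := by
    rw [hρ, mul_inv_rev, hβ', hα', ← mul_assoc, hα2, one_mul]
  have hρR : ρ ∉ normalizer (R : Set G) := by
    intro h0
    apply hβR
    have : β = α⁻¹ * ρ := by rw [hρ]; group
    rw [this]
    exact mul_mem (inv_mem (h.mod.S_R hα)) h0
  have hαV : α ∈ centralizer (V : Set G) := hAV hαA
  have hinf := h.inf_eq hα hαQ hαV hρP hρR hinv hm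
  -- `V₁`, `V₂`
  have hρ'P : ρ⁻¹ ∈ P := inv_mem hρP
  set V1 := cj ρ V with hV1
  set V2 := cj ρ⁻¹ V with hV2
  have hα1 : cj α V1 = V2 := by
    have e : α * ρ = ρ⁻¹ * α := mul_inv_eq_iff_eq_mul.1 hinv
    rw [hV1, hV2, cj_cj, e, ← cj_cj, cj_eq_of_mem_normalizer (h.mod.S_V hα)]
  have hα21 : cj α V2 = V1 := by
    rw [← hα1, cj_cj, hα2, cj_one]
  have hV1U : V1 ≤ U := h.conj_le _ hρP
  have hV2U : V2 ≤ U := h.conj_le _ hρ'P
  have hVel : IsElementaryAbelian 2 V :=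
    isElementaryAbelian_iff.2 ⟨fun a ha b hb => mem_centralizer_iff.1 (h.mod.comm hb) a ha, h.mod.sq⟩
  have hV1el : IsElementaryAbelian 2 V1 := isElementaryAbelian_cj _ hVel
  have hV2el : IsElementaryAbelian 2 V2 := isElementaryAbelian_cj _ hVel
  have hcomm21 : V2 ≤ centralizer (V1 : Set G) :=
    hV2U.trans (h.U_comm.trans (centralizer_le hV1U))
  have hNel : IsElementaryAbelian 2 (V1 ⊔ V2 : Subgroup G) :=
    Cfsg.Agent.PLocal.ElemAbSup.isElementaryAbelian_sup hV1el hV2el hcomm21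
  have hcard1 : Nat.card V1 = 16 := by rw [hV1, card_cj, h.mod.card]
  -- `|V₁ ∩ V₂| ≤ 2`
  have hz2 : Nat.card (zpowers z) ≤ 2 := by
    rw [Nat.card_zpowers]
    exact Nat.le_of_dvd (by decide) (orderOf_dvd_of_pow_eq_one (h.mod.sq z (h.mod.V3_le (h.mod.R_le h.mod.z_mem))))
  set N := V1 ⊔ V2 with hN
  have hV1N : V1 ≤ N := le_sup_left
  have hV2N : V2 ≤ N := le_sup_right
  have hNS : N ≤ S := (sup_le hV1U hV2U).trans h.U_le
  -- elements of `V₁` centralised by `α`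
  have hfix : ∀ v ∈ V1, α * v = v * α → v ∈ zpowers z := by
    intro v hv hc
    rw [← hinf]
    refine ⟨hv, ?_⟩
    rw [← hα1]
    have : v = α * v * α⁻¹ := by rw [hc]; group
    rw [this]
    exact Subgroup.mem_map_of_mem _ hv
  have hidxα : 8 ≤ (centralizer ({α} : Set G)).relIndex V1 := by
    have h1 := card_eq (V := V1) (B := centralizer ({α} : Set G))
    have h2 : Nat.card ↥(V1 ⊓ centralizer ({α} : Set G)) ≤ 2 := by
      refine le_trans (Subgroup.card_le_of_le ?_) hz2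
      rintro v ⟨hv, hvc⟩
      exact hfix v hv (mem_centralizer_singleton_iff.1 hvc).symm
    rw [hcard1] at h1
    by_contra hcon
    push Not at hcon
    have := Nat.mul_le_mul (Nat.le_of_lt_succ hcon : (centralizer ({α} : Set G)).relIndex V1 ≤ 7) h2
    omega
  have hAN : ¬ A ≤ centralizer (N : Set G) := by
    intro h0
    have h1 : V1 ≤ zpowers z := fun v hv => hfix v hv (mem_centralizer_iff.1 (h0 hαA) v (hV1N hv)).symm
    have h2 := (Subgroup.card_le_of_le h1).trans hz2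
    omega
  have hmax : (centralizer (A : Set G)).relIndex N ≤ (centralizer (N : Set G)).relIndex A :=
    FFThm.relIndex_le_iff.1 (FFThm.off_of_AA hNel hNS hA hAN).le
  set D := A ⊓ Q with hD
  have hDA : D ≤ A := inf_le_left
  have hDQ : D ≤ Q := inf_le_right
  have hDc : centralizer (V1 : Set G) ⊓ D ≤ centralizer (N : Set G) := by
    rintro a ⟨ha1, haD⟩
    rw [mem_centralizer_iff]
    intro y hy
    have h1 : N ≤ centralizer ({a} : Set G) := by
      refine sup_le (fun x hx => ?_) (fun x hx => ?_)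
      · rw [mem_centralizer_singleton_iff]
        exact mem_centralizer_iff.1 ha1 x hx
      · rw [mem_centralizer_singleton_iff]
        rw [← hα1, mem_cj] at hx
        have h2 := mem_centralizer_iff.1 ha1 _ hx
        have h3 : α * a * α⁻¹ = a := by rw [hAcomm α hαA a (hDA haD)]; group
        calc x * a = α * (α⁻¹ * x * α * (α⁻¹ * (α * a * α⁻¹) * α)) * α⁻¹ := by rw [h3]; group
          _ = α * (α⁻¹ * x * α * a) * α⁻¹ := by group
          _ = α * (a * (α⁻¹ * x * α)) * α⁻¹ := by rw [h2]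
          _ = α * a * α⁻¹ * x := by group
          _ = a * x := by rw [h3]
    exact mem_centralizer_singleton_iff.1 (h1 hy)
  have hne0 : ∀ X Y : Subgroup G, X.relIndex Y ≠ 0 := fun X Y => by
    have : Finite (Y ⧸ X.subgroupOf Y) := inferInstance
    exact Nat.card_pos.ne'
  have hidx : (centralizer (N : Set G)).relIndex A ≤ (centralizer (V1 : Set G)).relIndex D * 2 := by
    refine (relIndex_le_of_le_left hDc (hne0 _ _)).trans ?_
    rw [← relIndex_inf_mul_relIndex, inf_eq_left.2 hDA]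
    refine Nat.mul_le_mul_left _ ?_
    have h1 : D.relIndex A = Q.relIndex A := by rw [hD]; exact inf_relIndex_left _ _
    rw [h1, ← h.idx]
    exact relIndex_le_of_le_right hA.2.1 (hne0 _ _)
  -- transport to `V`
  have hD'S : cj ρ⁻¹ D ≤ S := by
    refine le_trans ?_ h.Q_le
    have := cj_mono ρ⁻¹ hDQ
    rwa [cj_eq_of_mem_normalizer (h.norm hρ'P)] at this
  have hD'el : IsElementaryAbelian 2 (cj ρ⁻¹ D) := by
    apply isElementaryAbelian_cj
    exact isElementaryAbelian_iff.2 ⟨fun a ha b hb => hAcomm a (hDA ha) b (hDA hb), fun a ha => hA.1.2 a (hDA ha)⟩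
  have hD'on : ElemOn V (cj ρ⁻¹ D) :=
    ⟨fun a ha => by rw [hD'el.2 a ha]; exact one_mem _, fun a ha b hb => by
      have e : a * b = b * a := (isElementaryAbelian_iff.1 hD'el).1 a ha b hb
      have : a * b * a⁻¹ * b⁻¹ = 1 := by rw [e]; group
      rw [this]; exact one_mem _⟩
  have hidx4 : (centralizer (V1 : Set G)).relIndex D ≤ 4 := by
    have h1 := h.mod.le4 _ hD'S hD'on
    have h2 := relIndex_map_map_of_injective (f := (MulAut.conj ρ).toMonoidHom) (centralizer (V : Set G)) (cj ρ⁻¹ D)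
      (MulAut.conj ρ).injective
    have h3 : (centralizer (V : Set G)).map (MulAut.conj ρ).toMonoidHom = centralizer (V1 : Set G) :=
      cj_centralizer ρ V
    have h4 : (cj ρ⁻¹ D).map (MulAut.conj ρ).toMonoidHom = D := cj_cj_inv ρ D
    rw [h3, h4] at h2
    rw [h2]; exact h1
  have hNα : 8 ≤ (centralizer ({α} : Set G)).relIndex N :=
    hidxα.trans (relIndex_le_of_le_right hV1N (hne0 _ _))
  have hCA : centralizer (A : Set G) ≤ centralizer ({α} : Set G) :=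
    centralizer_le (Set.singleton_subset_iff.2 hαA)
  have hmul : (centralizer (A : Set G)).relIndex (centralizer ({α} : Set G) ⊓ N) *
      (centralizer ({α} : Set G)).relIndex N = (centralizer (A : Set G)).relIndex N := by
    rw [relIndex_inf_mul_relIndex, inf_eq_left.2 hCA]
  -- `A ∩ Q` centralises `v v^α`
  have hdiag : ∀ b ∈ D, ∀ v ∈ V1, b * (v * (α * v * α⁻¹)) = v * (α * v * α⁻¹) * b := by
    intro b hb v hv
    by_contra hcon
    have hv2 : α * v * α⁻¹ ∈ V2 := by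
      rw [← hα1]; exact Subgroup.mem_map_of_mem _ hv
    have hn : v * (α * v * α⁻¹) ∈ centralizer ({α} : Set G) ⊓ N := by
      refine mem_inf.2 ⟨?_, mul_mem (hV1N hv) (hV2N hv2)⟩
      rw [mem_centralizer_singleton_iff]
      have h1 : v * (α * v * α⁻¹) = α * v * α⁻¹ * v := mem_centralizer_iff.1 (hcomm21 hv2) v hv
      calc v * (α * v * α⁻¹) * α = α * v * α⁻¹ * v * α := by rw [h1]
        _ = α * (v * (α * v * α⁻¹)) * (α * α)⁻¹ * (α * α) := by
            rw [hα2, inv_one, mul_one, mul_one]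
            have : α⁻¹ * v * α = α * v * α⁻¹ := by rw [hα']
            calc α * v * α⁻¹ * v * α = α * v * (α⁻¹ * v * α) := by group
              _ = α * (v * (α * v * α⁻¹)) := by rw [this]; group
        _ = α * (v * (α * v * α⁻¹)) := by group
    have hnot : v * (α * v * α⁻¹) ∉ centralizer (A : Set G) := fun h0 =>
      hcon (mem_centralizer_iff.1 h0 b (hDA hb))
    have h2 : 2 ≤ (centralizer (A : Set G)).relIndex (centralizer ({α} : Set G) ⊓ N) := by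
      have h3 := hne0 (centralizer (A : Set G)) (centralizer ({α} : Set G) ⊓ N)
      have h4 : (centralizer (A : Set G)).relIndex (centralizer ({α} : Set G) ⊓ N) ≠ 1 := fun h5 =>
        hnot (relIndex_eq_one.1 h5 hn)
      omega
    have h5 := Nat.mul_le_mul h2 hNα
    rw [hmul] at h5
    omega
  have hQ1 : Q ≤ normalizer (V1 : Set G) := by
    intro q hq
    rw [mem_normalizer_iff_cj, hV1, cj_cj]
    have h1 : ρ⁻¹ * q * ρ ∈ Q := by
      have := (h.conj_mem_Q hρ'P (x := q)).2 hq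
      rwa [inv_inv] at this
    have e : q * ρ = ρ * (ρ⁻¹ * q * ρ) := by group
    rw [e, ← cj_cj, cj_eq_of_mem_normalizer (h.mod.S_V (h.Q_le h1))]
  have hQ2 : Q ≤ normalizer (V2 : Set G) := by
    intro q hq
    rw [mem_normalizer_iff_cj, hV2, cj_cj]
    have h1 : ρ * q * ρ⁻¹ ∈ Q := (h.conj_mem_Q hρP (x := q)).2 hq
    have e : q * ρ⁻¹ = ρ⁻¹ * (ρ * q * ρ⁻¹) := by group
    rw [e, ← cj_cj, cj_eq_of_mem_normalizer (h.mod.S_V (h.Q_le h1))]
  have hDcent : D ≤ centralizer (V1 : Set G) := by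
    intro b hb
    have hsm : ∀ v ∈ V1, b * v * b⁻¹ * v⁻¹ ∈ zpowers z := by
      intro v hv
      have hv2 : α * v * α⁻¹ ∈ V2 := by
        rw [← hα1]; exact Subgroup.mem_map_of_mem _ hv
      have hbv : b * v * b⁻¹ ∈ V1 := (mem_normalizer_iff.1 (hQ1 (hDQ hb)) v).1 hv
      have hbv2 : b * (α * v * α⁻¹) * b⁻¹ ∈ V2 := (mem_normalizer_iff.1 (hQ2 (hDQ hb)) _).1 hv2
      have h1 := hdiag b hb v hv
      have h2 : b * v * b⁻¹ * (b * (α * v * α⁻¹) * b⁻¹) = v * (α * v * α⁻¹) := by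
        calc b * v * b⁻¹ * (b * (α * v * α⁻¹) * b⁻¹) = b * (v * (α * v * α⁻¹)) * b⁻¹ := by group
          _ = v * (α * v * α⁻¹) * b * b⁻¹ := by rw [h1]
          _ = v * (α * v * α⁻¹) := by group
      have h3 : v⁻¹ * (b * v * b⁻¹) = α * v * α⁻¹ * (b * (α * v * α⁻¹) * b⁻¹)⁻¹ := by
        rw [eq_mul_inv_iff_mul_eq, mul_assoc, h2]; group
      have h4 : b * v * b⁻¹ * v⁻¹ = v⁻¹ * (b * v * b⁻¹) :=
        (isElementaryAbelian_iff.1 hV1el).1 _ hbv _ (inv_mem hv)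
      rw [← hinf]
      refine mem_inf.2 ⟨mul_mem hbv (inv_mem hv), ?_⟩
      rw [h4, h3]
      exact mul_mem hv2 (inv_mem hbv2)
    have hb' : ρ⁻¹ * b * ρ ∈ S := by
      have : ρ⁻¹ * b * ρ = ρ⁻¹ * b * (ρ⁻¹)⁻¹ := by rw [inv_inv]
      rw [this]
      exact hD'S (Subgroup.mem_map_of_mem _ hb)
    have h1 : ρ⁻¹ * b * ρ ∈ centralizer (V : Set G) := by
      refine h.mod.small _ hb' fun v hv => ?_
      have hv1 : ρ * v * ρ⁻¹ ∈ V1 := Subgroup.mem_map_of_mem _ hv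
      obtain ⟨i, hi⟩ := mem_zpowers_iff.1 (hsm _ hv1)
      have hzρ : ρ⁻¹ * z ^ i * ρ = z ^ i := by
        have h0 : ρ * z ^ i = z ^ i * ρ := ((show Commute ρ z from h.cz ρ hρP).zpow_right i).eq
        rw [mul_assoc, ← h0, ← mul_assoc, inv_mul_cancel, one_mul]
      have e : ρ⁻¹ * b * ρ * v * (ρ⁻¹ * b * ρ)⁻¹ * v⁻¹ =
          ρ⁻¹ * (b * (ρ * v * ρ⁻¹) * b⁻¹ * (ρ * v * ρ⁻¹)⁻¹) * ρ := by group
      rw [e, ← hi, hzρ]
      exact zpow_mem (mem_zpowers z) i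
    have h2 : b ∈ cj ρ (centralizer (V : Set G)) := mem_cj.2 h1
    rwa [cj_centralizer] at h2
  rw [relIndex_eq_one.2 hDcent] at hidx
  have h9 : (centralizer ({α} : Set G)).relIndex N ≤ (centralizer (A : Set G)).relIndex N := by
    rw [← hmul]
    exact Nat.le_mul_of_pos_left _ (Nat.pos_of_ne_zero (hne0 _ _))
  omega

end

end Cfsg.Agent.Omega.NO3S.Fld.Dih
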