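import Cfsg.Agent.Omega.FFBr.Def

/-!
# Offenders with few common fixed vectors

In the situation of the FF theorem (`FFBr.Abs`, `FFBr.AConcl`) let `J` be a family of offenders in `T` with at most one
common nontrivial fixed vector.  Then `|T| ≤ 2` (`card_le_two`).
-/

set_option autoImplicit false
set_option linter.unusedSectionVars false

namespace Cfsg.Agent.Omega.NO3S.Fld.FixJ

open Subgroup Cfsg.Agent.Lib.SL2Mat Cfsg.Agent.Omega.FFBr
open Cfsg.Agent.Omega.NatPair (ap)

universe u

section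

variable {X V : Type u} [Group X] [Finite X] [Group V] [Finite V] [MulDistribMulAction X V] {T : Sylow 2 X}
  {M : Subgroup X} (h : Abs X V T M) (J : Set (Subgroup X)) (hJ : ∀ A ∈ J, A ≤ (T : Subgroup X) ∧ AOff V A)
  (hu : ∀ v w : V, v ≠ 1 → w ≠ 1 → (∀ A ∈ J, ∀ a ∈ A, a • v = v) → (∀ A ∈ J, ∀ a ∈ A, a • w = w) → v = w)
include h hJ hu

omit h hJ hu in
theorem smul_odd {x : X} {v : V} (hv : v ∈ odd X V) : x • v ∈ odd X V := by
  intro y hy
  have h1 : Odd (orderOf (x⁻¹ * y * x)) := by
    have : orderOf (x⁻¹ * y * x) = orderOf y := by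
      have e := (MulAut.conj x⁻¹).orderOf_eq y
      rw [MulAut.conj_apply, inv_inv] at e
      exact e
    rwa [this]
  have h2 := hv _ h1
  have h3 : y • x • v = x • (x⁻¹ * y * x) • v := by
    rw [smul_smul, smul_smul]; congr 1; group
  rw [h3, h2]

/-- `C_V(O²(X)) = 1` -/
theorem odd_eq_bot : odd X V = ⊥ := by
  by_contra hne
  -- a `T`-fixed vector in `odd`
  obtain ⟨d, hd, hd1, hdT⟩ : ∃ d ∈ odd X V, d ≠ 1 ∧ ∀ t ∈ T, t • d = d := by
    let act : MulAction T (odd X V) :=
      { smul := fun t v => ⟨(t : X) • (v : V), smul_odd v.2⟩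
        one_smul := fun v => Subtype.ext (one_smul X (v : V))
        mul_smul := fun s t v => Subtype.ext (mul_smul (s : X) (t : X) (v : V)) }
    have h2 : 2 ∣ Nat.card (odd X V) := by
      have h3 : IsPGroup 2 (odd X V) := by
        intro v
        exact ⟨1, Subtype.ext (by
          show ((v : V)) ^ 2 ^ 1 = 1
          rw [pow_one, pow_two]; exact h.sq v)⟩
      obtain ⟨n, hn⟩ := IsPGroup.iff_card.1 h3
      rcases n with _ | n
      · exfalso
        apply hne
        rw [pow_zero] at hn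
        exact Subgroup.eq_bot_of_card_eq _ hn
      · rw [hn, pow_succ]; exact dvd_mul_left _ _
    have h4 := T.isPGroup'.exists_fixed_point_of_prime_dvd_card_of_fixed_point (α := odd X V) h2
      (a := ⟨1, one_mem _⟩) (fun t => Subtype.ext (smul_one (t : X)))
    obtain ⟨b, hb, hb1⟩ := h4
    refine ⟨b, b.2, fun h0 => hb1 (Subtype.ext h0.symm), fun t ht => ?_⟩
    exact congrArg Subtype.val (hb ⟨t, ht⟩)
  have hTd : ∀ v : V, (∀ t ∈ T, t • v = v) → v ∈ odd X V := by
    intro v hv
    by_cases hv1 : v = 1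
    · rw [hv1]; exact one_mem _
    · rw [hu v d hv1 hd1 (fun A hA a ha => hv a ((hJ A hA).1 ha)) (fun A hA a ha => hdT a ((hJ A hA).1 ha))]
      exact hd
  have htop : odd X V = ⊤ := h.gen _ fun v hv x => smul_odd (hTd v hv)
  have h2 : IsPGroup 2 X := by
    intro x
    obtain ⟨a, m, hm, hx⟩ := Nat.exists_eq_two_pow_mul_odd (n := orderOf x) (orderOf_pos x).ne'
    refine ⟨a, h.faith _ fun v => ?_⟩
    have h3 : v ∈ odd X V := htop ▸ mem_top v
    apply h3
    rw [orderOf_pow' _ (pow_ne_zero _ two_ne_zero), hx, Nat.gcd_eq_right (dvd_mul_right _ _),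
      Nat.mul_div_cancel_left _ (by positivity)]
    exact hm
  have hT : (T : Subgroup X) = ⊤ := (T.is_maximal' (IsPGroup.to_le (K := ⊤) (fun x => by
    obtain ⟨k, hk⟩ := h2 x
    exact ⟨k, Subtype.ext hk⟩) le_rfl) le_top).symm
  obtain ⟨v, hv, x, hx⟩ := h.nfix
  exact hx (hv x (show x ∈ (T : Subgroup X) by rw [hT]; exact mem_top x))

omit J hJ hu h in
theorem up_ap {F : Type} [Field F] (b : F) (x : Fin 2 → F) : ap (up b) x = ![x 0 + b * x 1, x 1] := by
  funext i
  fin_cases i <;> simp [ap, up]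

/-- The case of blocks `SL₂(F)`. -/
theorem nat_case {F : Type} [Field F] [Finite F] [CharP F 2] {k : ℕ} (hk : 0 < k) (N : AbsNat F (T : Subgroup X) V k) :
    Nat.card T ≤ 2 := by
  have hodd := odd_eq_bot h J hJ hu
  have he1 : N.e 1 = 0 := (N.ker 1).2 (one_mem _)
  have hker : ∀ v, N.e v = 0 → v = 1 := fun v hv => by
    have := (N.ker v).1 hv
    rwa [hodd, mem_bot] at this
  have hinv : ∀ v, N.e v⁻¹ = -N.e v := fun v => by
    have := N.mul v v⁻¹
    rw [mul_inv_cancel, he1] at this
    exact (neg_eq_of_add_eq_zero_right this.symm).symm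
  have hinj : ∀ v w, N.e v = N.e w → v = w := fun v w hvw => by
    have : N.e (v * w⁻¹) = 0 := by rw [N.mul, hinv, hvw, add_neg_cancel]
    exact mul_inv_eq_one.1 (hker _ this)
  have hfix : ∀ v, (∀ i, N.e v i 1 = 0) → ∀ A ∈ J, ∀ a ∈ A, a • v = v := by
    intro v hv A hA a ha
    obtain ⟨I, hI, -⟩ := N.off A (hJ A hA).1 (hJ A hA).2
    obtain ⟨b, -, hb⟩ := hI a ha
    apply hinj
    funext i
    rw [hb.1, up_ap, hv i, mul_zero, add_zero]
    funext j
    fin_cases j
    · rfl
    · exact (hv i).symm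
  have huniq : ∀ y y' : Fin k → Fin 2 → F, (∀ i, y i 1 = 0) → (∀ i, y' i 1 = 0) → y ≠ 0 → y' ≠ 0 → y = y' := by
    intro y y' hy hy' hy0 hy'0
    obtain ⟨v, hv⟩ := N.surj y
    obtain ⟨w, hw⟩ := N.surj y'
    have h1 : v = w := by
      refine hu v w ?_ ?_ (hfix v fun i => by rw [hv]; exact hy i) (hfix w fun i => by rw [hw]; exact hy' i)
      · rintro rfl; exact hy0 (hv ▸ he1)
      · rintro rfl; exact hy'0 (hw ▸ he1)
    rw [← hv, ← hw, h1]
  let i0 : Fin k := ⟨0, hk⟩
  have hk1 : ∀ i : Fin k, i = i0 := by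
    intro i
    by_contra hi
    have h1 := huniq (Function.update 0 i ![1, 0]) (Function.update 0 i0 ![1, 0]) (by
      intro j
      by_cases hj : j = i
      · subst hj; simp
      · simp [Function.update_of_ne hj]) (by
      intro j
      by_cases hj : j = i0
      · subst hj; simp
      · simp [Function.update_of_ne hj]) (by
      intro h0
      have := congrFun (congrFun h0 i) 0
      simp at this) (by
      intro h0
      have := congrFun (congrFun h0 i0) 0
      simp at this)
    have h2 := congrFun (congrFun h1 i) 0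
    rw [Function.update_self, Function.update_of_ne hi] at h2
    simp at h2
  have hF : ∀ a : F, a = 0 ∨ a = 1 := by
    intro a
    by_contra hcon
    push Not at hcon
    have h1 := huniq (fun _ => ![a, 0]) (fun _ => ![1, 0]) (fun i => rfl) (fun i => rfl) (by
      intro h0
      exact hcon.1 (congrFun (congrFun h0 i0) 0)) (by
      intro h0
      exact one_ne_zero (congrFun (congrFun h0 i0) 0))
    exact hcon.2 (congrFun (congrFun h1 i0) 0)
  -- `T` preserves the line `x₁ = 0`
  have hline : ∀ t ∈ T, ∀ v, N.e (t • v) i0 1 = 0 ↔ N.e v i0 1 = 0 := by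
    intro t ht v
    obtain ⟨σ, hσ⟩ := N.line t ht
    have := hσ v i0
    rwa [hk1 (σ i0)] at this
  obtain ⟨v0, hv0⟩ := N.surj fun _ => ![1, 0]
  obtain ⟨w0, hw0⟩ := N.surj fun _ => ![0, 1]
  have hall : ∀ v : V, v = 1 ∨ v = v0 ∨ v = w0 ∨ v = v0 * w0 := by
    intro v
    rcases hF (N.e v i0 0) with h0 | h0 <;> rcases hF (N.e v i0 1) with h1 | h1
    · left
      apply hker
      funext i j
      rw [hk1 i]
      fin_cases j
      · exact h0
      · exact h1
    · right; right; left
      apply hinj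
      rw [hw0]
      funext i j
      rw [hk1 i]
      fin_cases j
      · exact h0
      · exact h1
    · right; left
      apply hinj
      rw [hv0]
      funext i j
      rw [hk1 i]
      fin_cases j
      · exact h0
      · exact h1
    · right; right; right
      apply hinj
      rw [N.mul, hv0, hw0]
      funext i j
      rw [hk1 i]
      fin_cases j
      · show N.e v i0 0 = 1 + 0
        rw [h0, add_zero]
      · show N.e v i0 1 = 0 + 1
        rw [h1, zero_add]
  have hv01 : v0 ≠ 1 := by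
    rintro rfl
    rw [he1] at hv0
    exact one_ne_zero (congrFun (congrFun hv0 i0) 0).symm
  have hw01 : N.e w0 i0 1 ≠ 0 := by rw [hw0]; exact one_ne_zero
  have hvw1 : N.e (v0 * w0) i0 1 ≠ 0 := by
    rw [N.mul, hv0, hw0]
    show (0 : F) + 1 ≠ 0
    rw [zero_add]; exact one_ne_zero
  have hTv : ∀ t ∈ T, t • v0 = v0 := by
    intro t ht
    have h1 : N.e (t • v0) i0 1 = 0 := (hline t ht v0).2 (by rw [hv0]; rfl)
    rcases hall (t • v0) with h2 | h2 | h2 | h2
    · exfalso
      apply hv01
      have : v0 = t⁻¹ • t • v0 := (inv_smul_smul t v0).symm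
      rw [this, h2, smul_one]
    · exact h2
    · rw [h2] at h1; exact absurd h1 hw01
    · rw [h2] at h1; exact absurd h1 hvw1
  have hTw : ∀ t ∈ T, t • w0 = w0 ∨ t • w0 = v0 * w0 := by
    intro t ht
    have h1 : N.e (t • w0) i0 1 ≠ 0 := fun h0 => hw01 ((hline t ht w0).1 h0)
    rcases hall (t • w0) with h2 | h2 | h2 | h2
    · rw [h2, he1] at h1; exact absurd rfl h1
    · rw [h2, hv0] at h1; exact absurd rfl h1
    · exact Or.inl h2
    · exact Or.inr h2
  classical
  have hb : Nat.card Bool = 2 := by simp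
  refine (Nat.card_le_card_of_injective (fun t : T => decide ((t : X) • w0 = w0)) ?_).trans hb.le
  intro s t hst
  have hst' : (s : X) • w0 = (t : X) • w0 := by
    have h1 : ((s : X) • w0 = w0) ↔ ((t : X) • w0 = w0) := by
      simpa using hst
    by_cases h2 : (s : X) • w0 = w0
    · rw [h2, h1.1 h2]
    · rw [(hTw s s.2).resolve_left h2, (hTw t t.2).resolve_left fun h3 => h2 (h1.2 h3)]
  apply Subtype.ext
  have h3 : (t : X)⁻¹ * s = 1 := by
    apply h.faith
    intro v
    have hw : ((t : X)⁻¹ * s) • w0 = w0 := by rw [mul_smul, hst', inv_smul_smul]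
    have hv : ((t : X)⁻¹ * s) • v0 = v0 := by
      rw [mul_smul, hTv s s.2]
      nth_rewrite 1 [← hTv t t.2]
      rw [inv_smul_smul]
    rcases hall v with h2 | h2 | h2 | h2
    · rw [h2, smul_one]
    · rw [h2, hv]
    · rw [h2, hw]
    · rw [h2, smul_mul', hv, hw]
  exact (inv_mul_eq_one.1 h3).symm

omit h J hJ hu in
/-- Composition. -/
theorem actsSym_mul {k n : ℕ} {e : V → Fin k → Fin n → ZMod 2} {g g' : X} {τ τ' : Fin k → Equiv.Perm (Fin n)}
    (h1 : AActsSym e g 1 τ) (h2 : AActsSym e g' 1 τ') : AActsSym e (g * g') 1 (fun i => τ i * τ' i) := by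
  intro v i x
  have e1 := h1 (g' • v) i (τ' i x)
  have e2 := h2 v i x
  rw [Equiv.Perm.one_apply] at e1 e2 ⊢
  rw [mul_smul, Equiv.Perm.mul_apply, e1, e2]

omit h J hJ hu in
theorem update_mul {k n : ℕ} (i0 : Fin k) (s s' : Equiv.Perm (Fin n)) :
    (fun i => Function.update (1 : Fin k → Equiv.Perm (Fin n)) i0 s i *
      Function.update (1 : Fin k → Equiv.Perm (Fin n)) i0 s' i) =
      Function.update (1 : Fin k → Equiv.Perm (Fin n)) i0 (s * s') := by
  funext i
  by_cases hi : i = i0
  · subst hi; simp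
  · simp [Function.update_of_ne hi]

/-- The case of symmetric groups does not occur. -/
theorem sym_case {k m : ℕ} (hk : 0 < k) (hm : 2 ≤ m) (N : AbsSym (T : Subgroup X) V k m) : False := by
  classical
  have hodd := odd_eq_bot h J hJ hu
  have he1 : N.e 1 = 0 := (N.ker 1).2 (one_mem _)
  have hker : ∀ v, N.e v = 0 → v = 1 := fun v hv => by
    have := (N.ker v).1 hv
    rwa [hodd, mem_bot] at this
  have hinv : ∀ v, N.e v⁻¹ = -N.e v := fun v => by
    have := N.mul v v⁻¹
    rw [mul_inv_cancel, he1] at this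
    exact (neg_eq_of_add_eq_zero_right this.symm).symm
  have hinj : ∀ v w, N.e v = N.e w → v = w := fun v w hvw => by
    have : N.e (v * w⁻¹) = 0 := by rw [N.mul, hinv, hvw, add_neg_cancel]
    exact mul_inv_eq_one.1 (hker _ this)
  let i0 : Fin k := ⟨0, hk⟩
  have h5 : 5 ≤ 2 ^ m + 1 := by
    have : 2 ^ 2 ≤ 2 ^ m := Nat.pow_le_pow_right (by decide) hm
    omega
  -- even vectors in the block `i0`
  have hvec : ∀ f : Fin (2 ^ m + 1) → ZMod 2, ∑ x, f x = 0 → ∃ v, N.e v = Function.update (0 : Fin k → Fin (2 ^ m + 1) → ZMod 2) i0 f := by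
    intro f hf
    apply N.surj
    intro i
    by_cases hi : i = i0
    · subst hi; simpa using hf
    · simp [Function.update_of_ne hi]
  -- no element of `T` acts as a 3-cycle
  have h3cyc : ∀ s : Equiv.Perm (Fin (2 ^ m + 1)), s.IsThreeCycle → ∀ b ∈ T, ¬ AActsSym N.e b 1 (Function.update 1 i0 s) := by
    intro s hs b hb hact
    have hs3 : s * s * s = 1 := by
      have := hs.orderOf
      have h0 := pow_orderOf_eq_one s
      rw [this, pow_succ, pow_two] at h0
      exact h0
    have h1 := actsSym_mul hact hact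
    rw [update_mul] at h1
    have h2 := actsSym_mul h1 hact
    rw [update_mul] at h2
    rw [hs3] at h2
    have h4 : b * b * b = 1 := by
      apply h.faith
      intro v
      apply hinj
      funext i x
      have := h2 v i x
      have e : Function.update (1 : Fin k → Equiv.Perm (Fin (2 ^ m + 1))) i0 1 = 1 :=
        Function.update_eq_self i0 (1 : Fin k → Equiv.Perm (Fin (2 ^ m + 1)))
      rw [e] at this
      exact this
    have h6 : b = 1 := by
      obtain ⟨j, hj⟩ := T.isPGroup' ⟨b, hb⟩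
      have hj' : b ^ 2 ^ j = 1 := congrArg Subtype.val hj
      have h7 : orderOf b ∣ 3 := orderOf_dvd_of_pow_eq_one (by rw [pow_succ, pow_two]; exact h4)
      have h8 : orderOf b ∣ 2 ^ j := orderOf_dvd_of_pow_eq_one hj'
      have h9 : Nat.Coprime 3 (2 ^ j) := Nat.Coprime.pow_right _ (by decide)
      have h10 := Nat.dvd_gcd h7 h8
      rw [h9] at h10
      exact orderOf_eq_one_iff.1 (Nat.dvd_one.1 h10)
    rw [h6] at hact
    obtain ⟨x, hx⟩ : ∃ x, s x ≠ x := by
      by_contra hcon
      push Not at hcon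
      have : s = 1 := Equiv.ext hcon
      have h7 := hs.orderOf
      rw [this, orderOf_one] at h7
      omega
    obtain ⟨w, hw⟩ : ∃ w, w ∉ ({x, s x} : Finset (Fin (2 ^ m + 1))) := by
      by_contra hcon
      push Not at hcon
      have h7 := Finset.card_le_card (fun y _ => hcon y : (Finset.univ : Finset (Fin (2 ^ m + 1))) ⊆ {x, s x})
      rw [Finset.card_univ, Fintype.card_fin] at h7
      have h8 : ({x, s x} : Finset (Fin (2 ^ m + 1))).card ≤ 2 := Finset.card_le_two
      omega
    simp only [Finset.mem_insert, Finset.mem_singleton, not_or] at hw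
    obtain ⟨v, hv⟩ := hvec (Pi.single x 1 + Pi.single w 1) (by
      simp only [Pi.add_apply]
      rw [Finset.sum_add_distrib]
      simp [CharTwo.add_self_eq_zero])
    have h7 := hact v i0 x
    rw [one_smul, Equiv.Perm.one_apply, Function.update_self, hv, Function.update_self] at h7
    simp only [Pi.add_apply, Pi.single_eq_same] at h7
    rw [Pi.single_eq_of_ne hx, Pi.single_eq_of_ne (Ne.symm hw.2), Pi.single_eq_of_ne (Ne.symm hw.1)] at h7
    simp at h7
  -- the orbits
  let O : Fin (2 ^ m + 1) → Finset (Fin (2 ^ m + 1)) := fun x => Finset.univ.filter fun y =>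
    y = x ∨ ∃ b ∈ T, AActsSym N.e b 1 (Function.update 1 i0 (Equiv.swap x y))
  have hO : ∀ x y, y ∈ O x ↔ (y = x ∨ ∃ b ∈ T, AActsSym N.e b 1 (Function.update 1 i0 (Equiv.swap x y))) := by
    intro x y
    simp only [O, Finset.mem_filter, Finset.mem_univ, true_and]
  have h0O : ∀ x, x ≠ 0 → 0 ∉ O x := by
    intro x hx h0
    rw [hO] at h0
    rcases h0 with h0 | ⟨b, hb, hact⟩
    · exact hx h0.symm
    · have := N.fix0 b hb 1 _ hact i0
      rw [Function.update_self, Equiv.swap_apply_right] at this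
      exact hx this
  have htwo : ∀ x y y', y ∈ O x → y' ∈ O x → y ≠ x → y' ≠ x → y = y' := by
    intro x y y' hy hy' hyx hy'x
    by_contra hne
    rw [hO] at hy hy'
    obtain ⟨b, hb, h1⟩ := hy.resolve_left hyx
    obtain ⟨c, hc, h2⟩ := hy'.resolve_left hy'x
    have h3 := actsSym_mul h1 h2
    rw [update_mul] at h3
    exact h3cyc _ (Equiv.Perm.isThreeCycle_swap_mul_swap_same (Ne.symm hyx) (Ne.symm hy'x) hne) _
      (mul_mem hb hc) h3
  have hOinv : ∀ x, ∀ A ∈ J, ∀ a ∈ A, ∀ τ : Fin k → Equiv.Perm (Fin (2 ^ m + 1)),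
      (∀ i x, τ i x ≠ x → τ i (τ i x) = x ∧ ∃ b ∈ A, AActsSym N.e b 1 (Function.update 1 i (Equiv.swap x (τ i x)))) →
      ∀ y, y ∈ O x → τ i0 y ∈ O x := by
    intro x A hA a _ τ hτ y hy
    by_cases hne : τ i0 y = y
    · rw [hne]; exact hy
    obtain ⟨-, b, hb, hact⟩ := hτ i0 y hne
    have hbT := (hJ A hA).1 hb
    by_cases hyx : y = x
    · subst hyx
      exact (hO _ _).2 (Or.inr ⟨b, hbT, hact⟩)
    by_cases hy' : τ i0 y = x
    · rw [hy']; exact (hO _ _).2 (Or.inl rfl)
    exfalso
    obtain ⟨c, hc, hc1⟩ := ((hO _ _).1 hy).resolve_left hyx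
    have h1 : x ∈ O y := (hO _ _).2 (Or.inr ⟨c, hc, by rw [Equiv.swap_comm]; exact hc1⟩)
    have h2 : τ i0 y ∈ O y := (hO _ _).2 (Or.inr ⟨b, hbT, hact⟩)
    exact hy' (htwo y _ _ h2 h1 hne (Ne.symm hyx))
  -- the fixed vectors
  let f : Fin (2 ^ m + 1) → Fin (2 ^ m + 1) → ZMod 2 := fun x y =>
    (if y ∈ O x then 1 else 0) + if y = 0 then ((O x).card : ZMod 2) else 0
  have hfsum : ∀ x, ∑ y, f x y = 0 := by
    intro x
    simp only [f]
    rw [Finset.sum_add_distrib]
    simp [CharTwo.add_self_eq_zero]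
  have hfix : ∀ x v, N.e v = Function.update (0 : Fin k → Fin (2 ^ m + 1) → ZMod 2) i0 (f x) → ∀ A ∈ J, ∀ a ∈ A, a • v = v := by
    intro x v hv A hA a ha
    obtain ⟨-, hoff⟩ := N.off A (hJ A hA).1 (hJ A hA).2
    obtain ⟨τ, hact, hτ⟩ := hoff a ha
    apply hinj
    funext i y
    obtain ⟨y', rfl⟩ := (τ i).surjective y
    have h1 := hact v i y'
    rw [Equiv.Perm.one_apply] at h1
    rw [h1, hv]
    by_cases hi : i = i0
    · subst hi
      rw [Function.update_self]
      have hinvol : τ i0 (τ i0 y') = y' := by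
        by_cases hne : τ i0 y' = y'
        · rw [hne, hne]
        · exact (hτ i0 y' hne).1
      have h2 : τ i0 y' ∈ O x ↔ y' ∈ O x := by
        constructor
        · intro h3
          have := hOinv x A hA a ha τ hτ _ h3
          rwa [hinvol] at this
        · exact hOinv x A hA a ha τ hτ _
      have h0 : τ i0 0 = 0 := N.fix0 a ((hJ A hA).1 ha) 1 τ hact i0
      have h3 : τ i0 y' = 0 ↔ y' = 0 := by
        constructor
        · intro h4
          exact (τ i0).injective (h4.trans h0.symm)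
        · rintro rfl; exact h0
      simp only [f, h2, h3]
    · rw [Function.update_of_ne hi]; rfl
  -- two different ones
  have hne0 : ∃ x : Fin (2 ^ m + 1), x ≠ 0 := ⟨⟨1, by omega⟩, fun h0 => by
    have := congrArg Fin.val h0
    simp at this⟩
  obtain ⟨x, hx⟩ := hne0
  have hcard : (O x).card ≤ 2 := by
    by_contra hcon
    push Not at hcon
    have h1 : 2 ≤ ((O x).erase x).card := by
      have := Finset.pred_card_le_card_erase (s := O x) (a := x)
      omega
    obtain ⟨y, hy, y', hy', hne⟩ := Finset.one_lt_card.1 (by omega : 1 < ((O x).erase x).card)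
    rw [Finset.mem_erase] at hy hy'
    exact hne (htwo x y y' hy.2 hy'.2 hy.1 hy'.1)
  obtain ⟨w, hw⟩ : ∃ w, w ∉ insert 0 (O x) := by
    by_contra hcon
    push Not at hcon
    have h7 := Finset.card_le_card (fun y _ => hcon y : (Finset.univ : Finset (Fin (2 ^ m + 1))) ⊆ insert 0 (O x))
    rw [Finset.card_univ, Fintype.card_fin] at h7
    have h8 := Finset.card_insert_le (0 : Fin (2 ^ m + 1)) (O x)
    omega
  rw [Finset.mem_insert, not_or] at hw
  have hself : ∀ y, y ∈ O y := fun y => (hO y y).2 (Or.inl rfl)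
  obtain ⟨v1, hv1⟩ := hvec (f x) (hfsum x)
  obtain ⟨v2, hv2⟩ := hvec (f w) (hfsum w)
  have hfx : f x x = 1 := by simp [f, hself x, hx]
  have hfw : f w w = 1 := by simp [f, hself w, hw.1]
  have hfxw : f x w = 0 := by simp [f, hw.1, hw.2]
  have h1 : v1 = v2 := by
    refine hu v1 v2 ?_ ?_ (hfix x v1 hv1) (hfix w v2 hv2)
    · rintro rfl
      rw [he1] at hv1
      have := congrFun (congrFun hv1 i0) x
      rw [Function.update_self, hfx] at this
      exact zero_ne_one this
    · rintro rfl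
      rw [he1] at hv2
      have := congrFun (congrFun hv2 i0) w
      rw [Function.update_self, hfw] at this
      exact zero_ne_one this
  rw [h1, hv2] at hv1
  have := congrFun (congrFun hv1 i0) w
  rw [Function.update_self, Function.update_self, hfw, hfxw] at this
  exact one_ne_zero this

/-- **`|T| ≤ 2`.** -/
theorem card_le_two (hc : AConcl (T : Subgroup X) V) : Nat.card T ≤ 2 := by
  rcases hc with ⟨F, i1, i2, i3, k, hk, ⟨N⟩⟩ | ⟨k, m, hk, hm, ⟨N⟩⟩
  · exact nat_case h J hJ hu hk N
  · exact (sym_case h J hJ hu hk hm N).elim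

end

end Cfsg.Agent.Omega.NO3S.Fld.FixJ
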