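import Cfsg.Agent.ZN.ChoiceBase

/-!
# The chain inequality modulo `K`

`cmod K A = {x ∈ N(K) | [A, x] ⊆ K}` : the centraliser of `A` modulo `K`.

* `chain` : if `|B : C_B(V / K)| ≤ |V : C_V(B / K)|` for all `B ≤ E` and all members `V` of a family `𝓛`, then
  the same holds for `E` and the join of `𝓛`;
* `pair_le` : if `[A, N] ≤ ⟨z⟩`, `z` of order 2 and central, then `|A : C_A(N)| ≤ |N : C_N(A)|`.
-/

set_option autoImplicit false
set_option linter.unusedSectionVars false

namespace Cfsg.Agent.Omega.NO3S.Fld.Chain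

open Subgroup

universe u

variable {G : Type u} [Group G]

/-- The centraliser of `A` modulo `K`. -/
def cmod (K A : Subgroup G) : Subgroup G where
  carrier := {x | x ∈ normalizer (K : Set G) ∧ ∀ a ∈ A, a * x * a⁻¹ * x⁻¹ ∈ K}
  one_mem' := ⟨one_mem _, fun a _ => by
    have : a * 1 * a⁻¹ * (1 : G)⁻¹ = 1 := by group
    rw [this]; exact one_mem _⟩
  mul_mem' := by
    rintro x y ⟨hx, hx1⟩ ⟨hy, hy1⟩
    refine ⟨mul_mem hx hy, fun a ha => ?_⟩
    have e : a * (x * y) * a⁻¹ * (x * y)⁻¹ = a * x * a⁻¹ * x⁻¹ * (x * (a * y * a⁻¹ * y⁻¹) * x⁻¹) := by group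
    rw [e]
    exact mul_mem (hx1 a ha) ((mem_normalizer_iff.1 hx _).1 (hy1 a ha))
  inv_mem' := by
    rintro x ⟨hx, hx1⟩
    refine ⟨inv_mem hx, fun a ha => ?_⟩
    have e : a * x⁻¹ * a⁻¹ * x⁻¹⁻¹ = x⁻¹ * (a * x * a⁻¹ * x⁻¹)⁻¹ * x⁻¹⁻¹ := by group
    rw [e]
    exact (mem_normalizer_iff.1 (inv_mem hx) _).1 (inv_mem (hx1 a ha))

theorem mem_cmod {K A : Subgroup G} {x : G} :
    x ∈ cmod K A ↔ x ∈ normalizer (K : Set G) ∧ ∀ a ∈ A, a * x * a⁻¹ * x⁻¹ ∈ K := Iff.rfl

theorem cmod_anti {K A B : Subgroup G} (h : A ≤ B) : cmod K B ≤ cmod K A :=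
  fun _ hx => ⟨hx.1, fun a ha => hx.2 a (h ha)⟩

/-- The Galois connection. -/
theorem le_cmod_comm {K A B : Subgroup G} (hA : A ≤ normalizer (K : Set G)) (h : B ≤ cmod K A) : A ≤ cmod K B := by
  intro a ha
  refine ⟨hA ha, fun b hb => ?_⟩
  have e : b * a * b⁻¹ * a⁻¹ = (a * b * a⁻¹ * b⁻¹)⁻¹ := by group
  rw [e]
  exact inv_mem ((h hb).2 a ha)

theorem centralizer_le_cmod {K A B : Subgroup G} (hB : B ≤ normalizer (K : Set G)) :
    centralizer (A : Set G) ⊓ B ≤ cmod K A := by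
  rintro x ⟨hx, hxB⟩
  refine ⟨hB hxB, fun a ha => ?_⟩
  rw [mem_centralizer_iff.1 hx a ha]
  have : x * a * a⁻¹ * x⁻¹ = 1 := by group
  rw [this]; exact one_mem _

variable [Finite G]

theorem rel_ne (A B : Subgroup G) : A.relIndex B ≠ 0 :=
  Subgroup.index_ne_zero_of_finite (H := A.subgroupOf B)

theorem rel_pos (A B : Subgroup G) : 0 < A.relIndex B := Nat.pos_of_ne_zero (rel_ne _ _)

/-- **The chain inequality modulo `K`.** -/
theorem chain {K : Subgroup G} {𝓛 : Set (Subgroup G)} {E : Subgroup G} (hE : E ≤ normalizer (K : Set G))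
    (h : ∀ V ∈ 𝓛, ∀ B ≤ E, (cmod K V).relIndex B ≤ (cmod K B).relIndex V)
    (hL : ∀ V ∈ 𝓛, V ≤ normalizer (K : Set G)) :
    (cmod K (sSup 𝓛)).relIndex E ≤ (cmod K E).relIndex (sSup 𝓛) := by
  induction hn : Nat.card E using Nat.strong_induction_on generalizing E with
  | _ n ih =>
    by_cases hc : ∀ V ∈ 𝓛, E ≤ cmod K V
    · have h1 : sSup 𝓛 ≤ cmod K E := sSup_le fun V hV => le_cmod_comm (hL V hV) (hc V hV)
      rw [relIndex_eq_one.2 (le_cmod_comm hE h1)]
      exact rel_pos _ _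
    · push Not at hc
      obtain ⟨V, hV, hEV⟩ := hc
      have hVW : V ≤ sSup 𝓛 := le_sSup hV
      set W := sSup 𝓛 with hW
      set E₁ := cmod K V ⊓ E with hE₁
      have hE₁E : E₁ ≤ E := inf_le_right
      have hlt : Nat.card E₁ < n := by
        rw [← hn]
        refine lt_of_le_of_ne (Subgroup.card_le_of_le hE₁E) ?_
        intro heq
        have : E₁ = E := Subgroup.eq_of_le_of_card_ge hE₁E heq.ge
        exact hEV (by rw [← this]; exact inf_le_left)
      have h1 := ih _ hlt (E := E₁) (hE₁E.trans hE) (fun V' hV' B hB => h V' hV' B (hB.trans hE₁E)) rfl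
      have e1 : (cmod K W).relIndex E₁ * (cmod K V).relIndex E = (cmod K W).relIndex E := by
        rw [hE₁, relIndex_inf_mul_relIndex, inf_eq_left.2 (cmod_anti hVW)]
      have e2 : (cmod K E).relIndex (cmod K E₁ ⊓ W) * (cmod K E₁).relIndex W = (cmod K E).relIndex W := by
        rw [relIndex_inf_mul_relIndex, inf_eq_left.2 (cmod_anti hE₁E)]
      have h2 : V ≤ cmod K E₁ ⊓ W := le_inf (le_cmod_comm (hL V hV) inf_le_left) hVW
      have h3 : (cmod K E).relIndex V ≤ (cmod K E).relIndex (cmod K E₁ ⊓ W) :=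
        relIndex_le_of_le_right h2 (rel_ne _ _)
      rw [← e1, ← e2, mul_comm]
      exact Nat.mul_le_mul ((h V hV E le_rfl).trans h3) h1

theorem normalizer_bot : normalizer ((⊥ : Subgroup G) : Set G) = ⊤ := by
  rw [eq_top_iff]
  intro x _
  rw [mem_normalizer_iff]
  intro y
  constructor
  · intro hy
    rw [mem_bot.1 hy]
    simp
  · intro hy
    have h1 : x * y * x⁻¹ = 1 := mem_bot.1 hy
    have h2 : y = 1 := by
      have : y = x⁻¹ * (x * y * x⁻¹) * x := by group
      rw [this, h1]; group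
    rw [h2]; exact one_mem _

theorem cmod_bot (A : Subgroup G) : cmod ⊥ A = centralizer (A : Set G) := by
  ext x
  rw [mem_cmod, normalizer_bot, mem_centralizer_iff]
  constructor
  · rintro ⟨-, h⟩ a ha
    have := mem_bot.1 (h a ha)
    rw [mul_inv_eq_one, mul_inv_eq_iff_eq_mul] at this
    exact this
  · intro h
    refine ⟨mem_top _, fun a ha => ?_⟩
    rw [h a ha, mem_bot]; group

/-- The chain inequality for centralisers. -/
theorem chain_bot {𝓛 : Set (Subgroup G)} {E : Subgroup G}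
    (h : ∀ V ∈ 𝓛, ∀ B ≤ E, (centralizer (V : Set G)).relIndex B ≤ (centralizer (B : Set G)).relIndex V) :
    (centralizer ((sSup 𝓛 : Subgroup G) : Set G)).relIndex E ≤ (centralizer (E : Set G)).relIndex (sSup 𝓛) := by
  have := chain (K := (⊥ : Subgroup G)) (𝓛 := 𝓛) (E := E) (by rw [normalizer_bot]; exact le_top)
    (fun V hV B hB => by rw [cmod_bot, cmod_bot]; exact h V hV B hB) (fun V _ => by rw [normalizer_bot]; exact le_top)
  rwa [cmod_bot, cmod_bot] at this

/-- The kernel of `[·, n] : B → ⟨z⟩` has index at most 2. -/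
theorem relIndex_le_two {B : Subgroup G} {n z : G} (hz : z * z = 1)
    (h : ∀ b ∈ B, b * n * b⁻¹ * n⁻¹ = 1 ∨ b * n * b⁻¹ * n⁻¹ = z) :
    (centralizer ({n} : Set G)).relIndex B ≤ 2 := by
  have hzi : z⁻¹ = z := inv_eq_of_mul_eq_one_left hz
  by_cases hall : ∀ b ∈ B, b * n * b⁻¹ * n⁻¹ = 1
  · have : B ≤ centralizer ({n} : Set G) := by
      intro b hb
      rw [mem_centralizer_singleton_iff]
      have := hall b hb
      rw [mul_inv_eq_one, mul_inv_eq_iff_eq_mul] at this
      exact this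
    rw [relIndex_eq_one.2 this]; decide
  · push Not at hall
    obtain ⟨c, hc, hcn⟩ := hall
    have hcz := (h c hc).resolve_left hcn
    have hcn' : c * n * c⁻¹ = z * n := mul_inv_eq_iff_eq_mul.1 hcz
    have hz1 : z ≠ 1 := fun h0 => hcn (hcz.trans h0)
    refine le_of_eq (relIndex_eq_two_iff.2 ⟨c, hc, fun b hb => ?_⟩)
    have key : ∀ b ∈ B, b ∈ centralizer ({n} : Set G) ↔ b * n * b⁻¹ * n⁻¹ = 1 := by
      intro b _
      rw [mem_centralizer_singleton_iff, mul_inv_eq_one, mul_inv_eq_iff_eq_mul]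
    rw [key _ (mul_mem hb hc), key _ hb]
    have e : b * c * n * (b * c)⁻¹ * n⁻¹ = b * (c * n * c⁻¹) * b⁻¹ * n⁻¹ := by group
    rw [e, hcn']
    have hbz : b * z * b⁻¹ = z := by
      -- `z = [c, n]`, use `[b c, n]` and `[b, n]`
      have h1 := h b hb
      have h2 := h (b * c) (mul_mem hb hc)
      rw [e, hcn'] at h2
      have e3 : b * (z * n) * b⁻¹ * n⁻¹ = b * z * b⁻¹ * (b * n * b⁻¹ * n⁻¹) := by group
      rw [e3] at h2
      rcases h1 with h1 | h1 <;> rcases h2 with h2 | h2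
      · rw [h1, mul_one] at h2
        exfalso; apply hz1
        have : z = b⁻¹ * (b * z * b⁻¹) * b := by group
        rw [this, h2]; group
      · rwa [h1, mul_one] at h2
      · rw [h1] at h2
        rw [mul_eq_one_iff_eq_inv.1 h2, hzi]
      · rw [h1] at h2
        exfalso; apply hz1
        have h3 : b * z * b⁻¹ = 1 := mul_right_cancel (h2.trans (one_mul z).symm)
        have : z = b⁻¹ * (b * z * b⁻¹) * b := by group
        rw [this, h3]; group
    have e4 : b * (z * n) * b⁻¹ * n⁻¹ = z * (b * n * b⁻¹ * n⁻¹) := by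
      calc b * (z * n) * b⁻¹ * n⁻¹ = b * z * b⁻¹ * (b * n * b⁻¹ * n⁻¹) := by group
        _ = _ := by rw [hbz]
    rw [e4]
    rcases h b hb with h1 | h1
    · right
      refine ⟨h1, ?_⟩
      rw [h1, mul_one]; exact hz1
    · left
      rw [h1]
      exact ⟨hz, hz1⟩

/-- **Pairing into a group of order 2.** -/
theorem pair_le {A N : Subgroup G} {z : G} (hz : z * z = 1)
    (h : ∀ a ∈ A, ∀ n ∈ N, a * n * a⁻¹ * n⁻¹ = 1 ∨ a * n * a⁻¹ * n⁻¹ = z) :
    (centralizer (N : Set G)).relIndex A ≤ (centralizer (A : Set G)).relIndex N := by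
  have h1 := chain_bot (𝓛 := {V | ∃ n ∈ N, V = zpowers n}) (E := A) (by
    rintro _ ⟨n, hn, rfl⟩ B hB
    have hcz : centralizer ((zpowers n : Subgroup G) : Set G) = centralizer ({n} : Set G) := by
      rw [zpowers_eq_closure, centralizer_closure]
    by_cases hBn : B ≤ centralizer ({n} : Set G)
    · rw [hcz, relIndex_eq_one.2 hBn]
      exact rel_pos _ _
    · have h2 : (centralizer ({n} : Set G)).relIndex B ≤ 2 :=
        relIndex_le_two hz fun b hb => h b (hB hb) n hn
      have h3 : (centralizer (B : Set G)).relIndex (zpowers n) ≠ 1 := by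
        intro h4
        apply hBn
        intro b hb
        rw [mem_centralizer_singleton_iff]
        exact mem_centralizer_iff.1 (relIndex_eq_one.1 h4 (mem_zpowers n)) b hb
      have h4 := rel_pos (centralizer (B : Set G)) (zpowers n)
      rw [hcz]
      omega)
  have e : sSup {V | ∃ n ∈ N, V = zpowers n} = N := by
    apply le_antisymm
    · refine sSup_le ?_
      rintro _ ⟨n, hn, rfl⟩
      rwa [zpowers_le]
    · intro n hn
      have h2 : zpowers n ≤ sSup {V | ∃ n ∈ N, V = zpowers n} := le_sSup ⟨n, hn, rfl⟩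
      exact h2 (mem_zpowers n)
  rwa [e] at h1

end Cfsg.Agent.Omega.NO3S.Fld.Chain
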