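import Cfsg.Agent.Omega.NO3S.Fld.DEight
import Cfsg.Agent.Omega.NO3S.Fld.Chain
import Cfsg.Agent.Omega.FFThmM

/-!
# Fld, `q = 4`: the case `V ∩ X = R` (#15515 (1))

`V` is the module of `DEight` for `S`; `P ≤ C(z)` acts, `Q ≤ S` is normal in `P`; `U = ⟨V^P⟩ ≤ Q` is abelian,
`X = ⟨R^P⟩`, `V ∩ X = R`.

* `One.gain_of` : `|A₀ : C(X)| |A₀ : C(U)| ≤ |U : C_U(A₀)|` for `A₀ ≤ Q` elementary abelian modulo `C(U)`;
* `One.count_of` : if moreover `C_S(U) ≤ Q` and `A ≤ S` is elementary abelian modulo `C(U)` with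
  `|U : C_U(A)| ≤ |A : C_A(U)|` then `|X : C_X(A)| ≤ |A : A ∩ Q|`;
* `One.exact` : exactness for `A ∈ A(S)`.
-/

set_option autoImplicit false
set_option linter.unusedSectionVars false

namespace Cfsg.Agent.Omega.NO3S.Fld.GainOne

open Subgroup Cfsg Cfsg.Agent.ZN.ChoiceBase Cfsg.Agent.PLocal.ThompsonJ
open Cfsg.Agent.Omega.NO3S.Fld.DEight Cfsg.Agent.Omega.NO3S.Fld.Chain

universe u

variable {G : Type u} [Group G] [Finite G]

/-- The conjugates of `V` under `P`. -/
def conjs (P V : Subgroup G) : Set (Subgroup G) := {W | ∃ g ∈ P, W = cj g V}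

/-- The hypotheses of #15515 (1), without the FF theorem. -/
structure One (S P Q V R V3 : Subgroup G) (z : G) : Prop where
  mod : Mod S V R V3 z
  Q_le : Q ≤ S
  S_le : S ≤ P
  norm : P ≤ normalizer (Q : Set G)
  cz : ∀ g ∈ P, g * z = z * g
  comm : sSup (conjs P V) ≤ centralizer ((sSup (conjs P V) : Subgroup G) : Set G)
  U_le : sSup (conjs P V) ≤ Q
  inf : V ⊓ sSup (conjs P R) = R

theorem conj_mul {g a x : G} : g⁻¹ * (a * x * a⁻¹ * x⁻¹) * g =
    (g⁻¹ * a * g) * (g⁻¹ * x * g) * (g⁻¹ * a * g)⁻¹ * (g⁻¹ * x * g)⁻¹ := by group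

/-- Conjugation of a relative index of a centraliser. -/
theorem relIndex_conj (g : G) (V B : Subgroup G) :
    (centralizer ((cj g V : Subgroup G) : Set G)).relIndex B = (centralizer (V : Set G)).relIndex (cj g⁻¹ B) := by
  have h2 := relIndex_map_map_of_injective (f := (MulAut.conj g).toMonoidHom) (centralizer (V : Set G)) (cj g⁻¹ B)
    (MulAut.conj g).injective
  have h3 : (centralizer (V : Set G)).map (MulAut.conj g).toMonoidHom = centralizer ((cj g V : Subgroup G) : Set G) :=
    cj_centralizer g V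
  have h4 : (cj g⁻¹ B).map (MulAut.conj g).toMonoidHom = B := cj_cj_inv g B
  rw [h3, h4] at h2
  exact h2

theorem relIndex_conj' (g : G) (V B : Subgroup G) :
    (centralizer (B : Set G)).relIndex (cj g V) = (centralizer ((cj g⁻¹ B : Subgroup G) : Set G)).relIndex V := by
  have := relIndex_conj g⁻¹ B V
  rw [inv_inv] at this
  exact this.symm

theorem cj_cmod {K : Subgroup G} {g : G} (hg : g ∈ normalizer (K : Set G)) (A : Subgroup G) :
    cj g (cmod K A) = cmod K (cj g A) := by
  ext x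
  rw [mem_cj, mem_cmod, mem_cmod]
  have hg' := inv_mem hg
  constructor
  · rintro ⟨h1, h2⟩
    refine ⟨?_, ?_⟩
    · have e : x = g * (g⁻¹ * x * g) * g⁻¹ := by group
      rw [e]
      exact mul_mem (mul_mem hg h1) hg'
    · intro a ha
      rw [mem_cj] at ha
      have h3 := h2 _ ha
      rw [← conj_mul] at h3
      have h4 := (mem_normalizer_iff.1 hg _).1 h3
      have e : g * (g⁻¹ * (a * x * a⁻¹ * x⁻¹) * g) * g⁻¹ = a * x * a⁻¹ * x⁻¹ := by group
      rwa [e] at h4
  · rintro ⟨h1, h2⟩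
    refine ⟨mul_mem (mul_mem hg' h1) hg, ?_⟩
    intro a ha
    have h3 := h2 (g * a * g⁻¹) (Subgroup.mem_map_of_mem _ ha)
    have h4 := (mem_normalizer_iff.1 hg' _).1 h3
    rw [inv_inv, conj_mul] at h4
    have e : g⁻¹ * (g * a * g⁻¹) * g = a := by group
    rwa [e] at h4

theorem relIndex_cmod_conj {K : Subgroup G} {g : G} (hg : g ∈ normalizer (K : Set G)) (V B : Subgroup G) :
    (cmod K (cj g V)).relIndex B = (cmod K V).relIndex (cj g⁻¹ B) := by
  have h2 := relIndex_map_map_of_injective (f := (MulAut.conj g).toMonoidHom) (cmod K V) (cj g⁻¹ B)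
    (MulAut.conj g).injective
  have h3 : (cmod K V).map (MulAut.conj g).toMonoidHom = cmod K (cj g V) := cj_cmod hg V
  have h4 : (cj g⁻¹ B).map (MulAut.conj g).toMonoidHom = B := cj_cj_inv g B
  rw [h3, h4] at h2
  exact h2

theorem relIndex_cmod_conj' {K : Subgroup G} {g : G} (hg : g ∈ normalizer (K : Set G)) (V B : Subgroup G) :
    (cmod K B).relIndex (cj g V) = (cmod K (cj g⁻¹ B)).relIndex V := by
  have := relIndex_cmod_conj (inv_mem hg) B V
  rw [inv_inv] at this
  exact this.symm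

/-- `P` normalises `⟨V^P⟩`. -/
theorem le_normalizer_sSup {P V : Subgroup G} :
    P ≤ normalizer ((sSup (conjs P V) : Subgroup G) : Set G) := by
  intro g hg
  apply mem_normalizer_of_cj_le
  have : cj g (sSup (conjs P V)) ≤ sSup (conjs P V) := by
    rw [cj_le_iff]
    refine sSup_le ?_
    rintro _ ⟨k, hk, rfl⟩
    rw [← cj_le_iff, cj_cj]
    exact le_sSup ⟨g * k, mul_mem hg hk, rfl⟩
  exact this

theorem le_sSup_conjs {P V : Subgroup G} {g : G} (hg : g ∈ P) : cj g V ≤ sSup (conjs P V) := le_sSup ⟨g, hg, rfl⟩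

theorem self_le_sSup_conjs {P V : Subgroup G} : V ≤ sSup (conjs P V) := by
  have := le_sSup_conjs (V := V) (one_mem P)
  rwa [cj_one] at this

section

variable {S P Q V R V3 : Subgroup G} {z : G} (h : One S P Q V R V3 z)
include h

local notation "U" => sSup (conjs P V)
local notation "X" => sSup (conjs P R)

theorem One.zz : z * z = 1 := by
  rw [← pow_two]
  exact h.mod.sq z (h.mod.V3_le (h.mod.R_le h.mod.z_mem))

theorem One.mem_z {x : G} : x ∈ zpowers z ↔ x = 1 ∨ x = z := by
  constructor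
  · rintro ⟨n, rfl⟩
    obtain ⟨k, hk | hk⟩ := Int.even_or_odd' n
    · left
      show z ^ n = 1
      rw [hk, zpow_mul, show z ^ (2 : ℤ) = 1 by rw [zpow_two]; exact h.zz, one_zpow]
    · right
      show z ^ n = z
      rw [hk, zpow_add, zpow_mul, show z ^ (2 : ℤ) = 1 by rw [zpow_two]; exact h.zz, one_zpow, one_mul, zpow_one]
  · rintro (rfl | rfl)
    · exact one_mem _
    · exact Subgroup.mem_zpowers _

theorem One.XU : X ≤ U := by
  refine sSup_le ?_
  rintro _ ⟨g, hg, rfl⟩
  exact (cj_mono g (h.mod.R_le.trans h.mod.V3_le)).trans (le_sSup_conjs hg)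

theorem One.conj_Q {g x : G} (hg : g ∈ P) (hx : x ∈ Q) : g⁻¹ * x * g ∈ Q := by
  have := (mem_normalizer_iff.1 (inv_mem (h.norm hg)) x).1 hx
  rwa [inv_inv] at this

theorem One.cj_Q {g : G} (hg : g ∈ P) : cj g Q = Q := cj_eq_of_mem_normalizer (h.norm hg)

/-- `S` acts on `R` with commutators in `⟨z⟩`. -/
theorem One.R_comm {b x : G} (hb : b ∈ S) (hx : x ∈ R) : b * x * b⁻¹ * x⁻¹ = 1 ∨ b * x * b⁻¹ * x⁻¹ = z := by
  -- `R / ⟨z⟩` has order 2
  have hfix : b * z * b⁻¹ = z := by rw [h.mod.S_z b hb]; group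
  have hRc : ∀ x ∈ R, ∀ y ∈ R, x * y = y * x := fun x hx y hy =>
    mem_centralizer_iff.1 (h.mod.comm (h.mod.V3_le (h.mod.R_le hy))) x (h.mod.V3_le (h.mod.R_le hx))
  have hRsq : ∀ x ∈ R, x * x = 1 := fun x hx => by
    rw [← pow_two]; exact h.mod.sq x (h.mod.V3_le (h.mod.R_le hx))
  have hz1 := h.mod.z_ne
  by_cases h1 : b * x * b⁻¹ = x
  · left; rw [h1, mul_inv_cancel]
  by_cases hx1 : x = 1
  · left; rw [hx1]; group
  have hxz : x ≠ z := fun h0 => h1 (by rw [h0]; exact hfix)
  have hy : b * x * b⁻¹ ∈ R := (mem_normalizer_iff.1 (h.mod.S_R hb) x).1 hx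
  have hy1 : b * x * b⁻¹ ≠ 1 := fun h0 => hx1 (by
    have : x = b⁻¹ * (b * x * b⁻¹) * b := by group
    rw [this, h0]; group)
  have hyz : b * x * b⁻¹ ≠ z := fun h0 => hxz (by
    have e1 : x = b⁻¹ * (b * x * b⁻¹) * b := by group
    have e2 : z = b⁻¹ * (b * z * b⁻¹) * b := by group
    rw [e1, h0]
    calc b⁻¹ * z * b = b⁻¹ * (b * z * b⁻¹) * b := by rw [hfix]
      _ = z := by group)
  -- the four elements `1, z, x, x z`
  right
  have hxz' : x * z ≠ 1 := fun h0 => hxz (by rw [mul_eq_one_iff_eq_inv.1 h0]; exact inv_eq_of_mul_eq_one_left h.zz)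
  have h4 : b * x * b⁻¹ = x * z := by
    classical
    by_contra h5
    have hcard : ({⟨1, one_mem R⟩, ⟨z, h.mod.z_mem⟩, ⟨x, hx⟩, ⟨x * z, mul_mem hx h.mod.z_mem⟩, ⟨b * x * b⁻¹, hy⟩} :
        Finset R).card = 5 := by
      rw [Finset.card_insert_of_notMem, Finset.card_insert_of_notMem, Finset.card_insert_of_notMem,
        Finset.card_insert_of_notMem, Finset.card_singleton]
      · simp only [Finset.mem_singleton, Subtype.mk.injEq]
        exact fun h0 => h5 h0.symm
      · simp only [Finset.mem_insert, Finset.mem_singleton, Subtype.mk.injEq, not_or]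
        refine ⟨fun h0 => hz1 ?_, fun h0 => h1 h0.symm⟩
        exact left_eq_mul.1 h0
      · simp only [Finset.mem_insert, Finset.mem_singleton, Subtype.mk.injEq, not_or]
        refine ⟨fun h0 => hxz h0.symm, fun h0 => hx1 ?_, fun h0 => hyz h0.symm⟩
        exact right_eq_mul.1 h0
      · simp only [Finset.mem_insert, Finset.mem_singleton, Subtype.mk.injEq, not_or]
        exact ⟨fun h0 => hz1 h0.symm, fun h0 => hx1 h0.symm, fun h0 => hxz' h0.symm, fun h0 => hy1 h0.symm⟩
    have : Fintype R := Fintype.ofFinite R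
    have h6 : Fintype.card R = 4 := by rw [← Nat.card_eq_fintype_card, h.mod.cardR]
    have h7 := Finset.card_le_univ ({⟨1, one_mem R⟩, ⟨z, h.mod.z_mem⟩, ⟨x, hx⟩, ⟨x * z, mul_mem hx h.mod.z_mem⟩,
      ⟨b * x * b⁻¹, hy⟩} : Finset R)
    omega
  rw [h4, hRc x hx z h.mod.z_mem, mul_assoc, mul_inv_cancel, mul_one]

/-- Commutators in `⟨z⟩` and conjugation. -/
theorem One.le_cmod_z {g : G} (hg : g ∈ P) {W B : Subgroup G} (hW : W ≤ V)
    (hc : ∀ b ∈ B, ∀ x ∈ W, (g⁻¹ * b * g) * x * (g⁻¹ * b * g)⁻¹ * x⁻¹ ∈ zpowers z) :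
    cj g W ≤ cmod (zpowers z) B := by
  intro x hx
  rw [mem_cj] at hx
  have hxz : x * z = z * x := by
    have h0 : (g⁻¹ * x * g) * z = z * (g⁻¹ * x * g) :=
      mem_centralizer_iff.1 (h.mod.comm (h.mod.V3_le (h.mod.R_le h.mod.z_mem))) _ (hW hx)
    have hgz := h.cz g hg
    have e1 : x = g * (g⁻¹ * x * g) * g⁻¹ := by group
    have e2 : g⁻¹ * z = z * g⁻¹ := by
      rw [inv_mul_eq_iff_eq_mul, ← mul_assoc, hgz, mul_assoc, mul_inv_cancel, mul_one]
    rw [e1]
    calc g * (g⁻¹ * x * g) * g⁻¹ * z = g * (g⁻¹ * x * g) * (g⁻¹ * z) := by group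
      _ = g * ((g⁻¹ * x * g) * z) * g⁻¹ := by rw [e2]; group
      _ = g * z * (g⁻¹ * x * g) * g⁻¹ := by rw [h0]; group
      _ = z * (g * (g⁻¹ * x * g) * g⁻¹) := by rw [hgz]; group
  refine ⟨?_, fun b hb => ?_⟩
  · apply mem_normalizer_of_cj_le
    rintro _ ⟨y, hy, rfl⟩
    obtain ⟨i, rfl⟩ := mem_zpowers_iff.1 hy
    have e : (MulAut.conj x).toMonoidHom (z ^ i) = z ^ i := by
      show x * z ^ i * x⁻¹ = z ^ i
      rw [((show Commute x z from hxz).zpow_right i).eq]; group
    rw [e]
    exact zpow_mem (mem_zpowers z) i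
  · have h1 := hc b hb _ hx
    rw [← conj_mul, h.mem_z] at h1
    rw [h.mem_z]
    rcases h1 with h1 | h1
    · left
      have : b * x * b⁻¹ * x⁻¹ = g * (g⁻¹ * (b * x * b⁻¹ * x⁻¹) * g) * g⁻¹ := by group
      rw [this, h1]; group
    · right
      have : b * x * b⁻¹ * x⁻¹ = g * (g⁻¹ * (b * x * b⁻¹ * x⁻¹) * g) * g⁻¹ := by group
      rw [this, h1, h.cz g hg]; group

/-- `[X, Q] ≤ ⟨z⟩`. -/
theorem One.X_comm : X ≤ cmod (zpowers z) Q := by
  refine sSup_le ?_
  rintro _ ⟨g, hg, rfl⟩
  refine h.le_cmod_z hg (h.mod.R_le.trans h.mod.V3_le) fun b hb x hx => ?_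
  rw [h.mem_z]
  exact h.R_comm (h.Q_le (h.conj_Q hg hb)) hx

theorem One.cj_le_S {g : G} (hg : g ∈ P) {B : Subgroup G} (hB : B ≤ Q) : cj g⁻¹ B ≤ S := by
  refine le_trans ?_ h.Q_le
  have := cj_mono g⁻¹ hB
  rwa [cj_eq_of_mem_normalizer (h.norm (inv_mem hg))] at this

omit h in
theorem elemOn {B : Subgroup G} (hB : IsElementaryAbelian 2 B) : ElemOn V B :=
  ⟨fun a ha => by rw [hB.2 a ha]; exact one_mem _, fun a ha b hb => by
    have e : a * b = b * a := (isElementaryAbelian_iff.1 hB).1 a ha b hb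
    have : a * b * a⁻¹ * b⁻¹ = 1 := by rw [e]; group
    rw [this]; exact one_mem _⟩

omit h in
theorem elem_of_le {A B : Subgroup G} (hA : IsElementaryAbelian 2 A) (hB : B ≤ A) : IsElementaryAbelian 2 B :=
  isElementaryAbelian_iff.2 ⟨fun a ha b hb => (isElementaryAbelian_iff.1 hA).1 a (hB ha) b (hB hb),
    fun a ha => hA.2 a (hB ha)⟩

omit h in
theorem elemOn_mono {W A B : Subgroup G} (hA : ElemOn W A) (hB : B ≤ A) : ElemOn W B :=
  ⟨fun a ha => hA.sq a (hB ha), fun a ha b hb => hA.comm a (hB ha) b (hB hb)⟩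

omit h in
/-- conjugation of a group elementary abelian modulo `C(U)` -/
theorem elemOn_cj {B : Subgroup G} (hB : ElemOn (U : Subgroup G) B) {g : G} (hg : g ∈ P) : ElemOn V (cj g⁻¹ B) := by
  have key : ∀ x ∈ centralizer ((U : Subgroup G) : Set G), g⁻¹ * x * g ∈ centralizer (V : Set G) := by
    intro x hx
    have h1 := centralizer_le (show ((cj g V : Subgroup G) : Set G) ⊆ (U : Subgroup G) from le_sSup_conjs hg) hx
    rw [← cj_centralizer, mem_cj] at h1
    exact h1
  constructor
  · intro a ha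
    rw [mem_cj, inv_inv] at ha
    have h1 := key _ (hB.sq _ ha)
    have e : g⁻¹ * (g * a * g⁻¹) ^ 2 * g = a ^ 2 := by rw [pow_two, pow_two]; group
    rwa [e] at h1
  · intro a ha b hb
    rw [mem_cj, inv_inv] at ha hb
    have h1 := key _ (hB.comm _ ha _ hb)
    have e : g⁻¹ * ((g * a * g⁻¹) * (g * b * g⁻¹) * (g * a * g⁻¹)⁻¹ * (g * b * g⁻¹)⁻¹) * g =
      a * b * a⁻¹ * b⁻¹ := by group
    rwa [e] at h1

theorem One.ind {B : Subgroup G} (hB : ElemOn (U : Subgroup G) B) (hBQ : B ≤ Q) {g : G} (hg : g ∈ P) :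
    (centralizer ((cj g V : Subgroup G) : Set G)).relIndex B ≤ (centralizer (B : Set G)).relIndex (cj g V) := by
  rw [relIndex_conj g V B, relIndex_conj' g V B]
  exact h.mod.ind _ (h.cj_le_S hg hBQ) (elemOn_cj hB hg)

/-- `|B : C_B(R)| ≤ 2`. -/
theorem One.relIndex_R {B : Subgroup G} (hB : B ≤ S) : (centralizer (R : Set G)).relIndex B ≤ 2 := by
  have hz2 : Nat.card (zpowers z) = 2 := by
    rw [Nat.card_zpowers]
    exact orderOf_eq_prime (by rw [pow_two]; exact h.zz) h.mod.z_ne
  obtain ⟨r, hr, hrz⟩ : ∃ r ∈ R, r ∉ zpowers z := by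
    by_contra hcon
    push Not at hcon
    have := Subgroup.card_le_of_le (show R ≤ zpowers z from hcon)
    rw [hz2, h.mod.cardR] at this
    omega
  have hle : zpowers z ⊔ zpowers r ≤ R := by
    rw [sup_le_iff, zpowers_le, zpowers_le]; exact ⟨h.mod.z_mem, hr⟩
  have heq : zpowers z ⊔ zpowers r = R := by
    apply Subgroup.eq_of_le_of_card_ge hle
    have h1 : Nat.card ↥(zpowers z ⊔ zpowers r) ∣ 4 := by
      rw [← h.mod.cardR]; exact card_dvd_of_le hle
    have h2 : 2 ∣ Nat.card ↥(zpowers z ⊔ zpowers r) := by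
      rw [← hz2]; exact card_dvd_of_le le_sup_left
    have h3 : Nat.card ↥(zpowers z ⊔ zpowers r) ≠ 2 := by
      intro h4
      have h5 : zpowers z = zpowers z ⊔ zpowers r :=
        Subgroup.eq_of_le_of_card_ge le_sup_left (by rw [h4, hz2])
      apply hrz
      rw [h5]
      exact (le_sup_right : zpowers r ≤ _) (mem_zpowers r)
    rw [h.mod.cardR]
    have h4 := Nat.le_of_dvd (by decide) h1
    interval_cases Nat.card ↥(zpowers z ⊔ zpowers r) <;> simp_all
  have h1 : (centralizer ({r} : Set G)).relIndex B ≤ 2 :=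
    relIndex_le_two h.zz fun b hb => h.R_comm (hB hb) hr
  refine le_trans ?_ h1
  rw [← inf_relIndex_right (centralizer ({r} : Set G))]
  refine relIndex_le_of_le_left ?_ (rel_ne _ _)
  rintro b ⟨hb, hbB⟩
  have h2 : R ≤ centralizer ({b} : Set G) := by
    rw [← heq, sup_le_iff, zpowers_le, zpowers_le, mem_centralizer_singleton_iff, mem_centralizer_singleton_iff]
    refine ⟨(h.mod.S_z b (hB hbB)).symm, (mem_centralizer_singleton_iff.1 hb).symm⟩
  rw [mem_centralizer_iff]
  intro x hx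
  exact mem_centralizer_singleton_iff.1 (h2 hx)

theorem One.R_le_X : R ≤ X := self_le_sSup_conjs

/-- the element `b` moving `R` has `[V, b] ≰ X` -/
theorem One.not_le_cmod {b : G} (hb : b ∈ S) (hbR : b ∉ centralizer (R : Set G)) :
    ¬ ∀ v ∈ V, b * v * b⁻¹ * v⁻¹ ∈ X := by
  intro hcon
  have h1 : V ≤ V3 := by
    intro v hv
    refine h.mod.nCentR b hb hbR v hv ?_
    rw [← h.inf]
    exact mem_inf.2 ⟨mul_mem ((mem_normalizer_iff.1 (h.mod.S_V hb) v).1 hv) (inv_mem hv), hcon v hv⟩
  have := Subgroup.card_le_of_le h1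
  rw [h.mod.card, h.mod.cardV3] at this
  omega

/-- the inequality on `V / R` -/
theorem One.indX {B : Subgroup G} (hBQ : B ≤ Q) {g : G} (hg : g ∈ P) :
    (cmod X (cj g V)).relIndex B ≤ (cmod X B).relIndex (cj g V) := by
  have hgX : g ∈ normalizer ((X : Subgroup G) : Set G) := le_normalizer_sSup hg
  rw [relIndex_cmod_conj hgX, relIndex_cmod_conj' hgX]
  set B' := cj g⁻¹ B with hB'
  have hB'S : B' ≤ S := h.cj_le_S hg hBQ
  have hSX : S ≤ normalizer ((X : Subgroup G) : Set G) := h.S_le.trans le_normalizer_sSup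
  by_cases hR : B' ≤ centralizer (R : Set G)
  · have h1 : B' ≤ cmod X V := by
      refine le_cmod_comm (hB'S.trans hSX) fun v hv => ⟨?_, fun b hb => ?_⟩
      · exact hSX (h.Q_le (h.U_le (self_le_sSup_conjs hv)))
      · exact h.R_le_X (h.mod.centR b (hB'S hb) (hR hb) v hv)
    rw [relIndex_eq_one.2 h1]
    exact rel_pos _ _
  · obtain ⟨b, hb, hbR⟩ := SetLike.not_le_iff_exists.1 hR
    have h1 : (cmod X V).relIndex B' ≤ 2 := by
      refine le_trans ?_ (h.relIndex_R hB'S)
      rw [← inf_relIndex_right (centralizer (R : Set G))]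
      refine relIndex_le_of_le_left ?_ (rel_ne _ _)
      rintro c ⟨hc, hcB⟩
      refine ⟨hSX (hB'S hcB), fun v hv => ?_⟩
      have e : v * c * v⁻¹ * c⁻¹ = (c * v * c⁻¹ * v⁻¹)⁻¹ := by group
      rw [e]
      exact inv_mem (h.R_le_X (h.mod.centR c (hB'S hcB) hc v hv))
    have h2 : (cmod X B').relIndex V ≠ 1 := by
      intro h3
      have h4 := relIndex_eq_one.1 h3
      exact h.not_le_cmod (hB'S hb) hbR fun v hv => (h4 hv).2 b hb
    have h3 := rel_pos (cmod X B') V
    omega

/-- **The gain**, for `A` elementary abelian modulo `C(U)`. -/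
theorem One.gain_of {A : Subgroup G} (hA : ElemOn (U : Subgroup G) A) (hAQ : A ≤ Q) :
    (centralizer ((X : Subgroup G) : Set G)).relIndex A * (centralizer ((U : Subgroup G) : Set G)).relIndex A ≤
      (centralizer (A : Set G)).relIndex U := by
  have hAS : A ≤ S := hAQ.trans h.Q_le
  have hPX : P ≤ normalizer ((X : Subgroup G) : Set G) := le_normalizer_sSup
  have hSX : S ≤ normalizer ((X : Subgroup G) : Set G) := h.S_le.trans hPX
  have hUX : U ≤ normalizer ((X : Subgroup G) : Set G) := h.U_le.trans (h.Q_le.trans hSX)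
  set N := sSup {W | ∃ g ∈ P, W = cj g V ∧ ¬ A ≤ centralizer ((cj g R : Subgroup G) : Set G)} with hN
  set N3 := sSup {W | ∃ g ∈ P, W = cj g V3 ∧ ¬ A ≤ centralizer ((cj g R : Subgroup G) : Set G)} with hN3
  have hNU : N ≤ U := by
    refine sSup_le ?_
    rintro _ ⟨g, hg, rfl, -⟩
    exact le_sSup_conjs hg
  have hN3N : N3 ≤ N := by
    refine sSup_le ?_
    rintro _ ⟨g, hg, rfl, hgA⟩
    exact (cj_mono g h.mod.V3_le).trans (le_sSup ⟨g, hg, rfl, hgA⟩)
  have hmem : ∀ {g a : G} {W : Subgroup G}, a ∈ centralizer ((cj g W : Subgroup G) : Set G) ↔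
      g⁻¹ * a * g ∈ centralizer (W : Set G) := by
    intro g a W
    rw [← cj_centralizer, mem_cj]
  -- (a)
  have ha : (cmod X N).relIndex A ≤ (cmod X A).relIndex N := by
    refine chain (hAS.trans hSX) ?_ ?_
    · rintro _ ⟨g, hg, rfl, -⟩ B hB
      exact h.indX (hB.trans hAQ) hg
    · rintro _ ⟨g, hg, rfl, -⟩
      exact (le_sSup_conjs hg).trans hUX
  -- (b)
  have hb : (centralizer ((X : Subgroup G) : Set G)).relIndex A ≤ (cmod X N).relIndex A := by
    rw [← inf_relIndex_right (cmod X N)]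
    refine relIndex_le_of_le_left ?_ (rel_ne _ _)
    rintro a ⟨haN, haA⟩
    have h1 : X ≤ centralizer ({a} : Set G) := by
      refine sSup_le ?_
      rintro _ ⟨g, hg, rfl⟩
      by_cases hgA : A ≤ centralizer ((cj g R : Subgroup G) : Set G)
      · intro x hx
        rw [mem_centralizer_singleton_iff]
        exact mem_centralizer_iff.1 (hgA haA) x hx
      · have hVN : cj g V ≤ N := le_sSup ⟨g, hg, rfl, hgA⟩
        have ha' : g⁻¹ * a * g ∈ S := h.Q_le (h.conj_Q hg (hAQ haA))
        have haR : g⁻¹ * a * g ∈ centralizer (R : Set G) := by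
          by_contra hcon
          apply h.not_le_cmod ha' hcon
          intro v hv
          have h2 := haN.2 (g * v * g⁻¹) (hVN (Subgroup.mem_map_of_mem _ hv))
          have h3 := (mem_normalizer_iff.1 (inv_mem (hPX hg)) _).1 h2
          rw [inv_inv, conj_mul] at h3
          have e : g⁻¹ * (g * v * g⁻¹) * g = v := by group
          rw [e] at h3
          have e2 : g⁻¹ * a * g * v * (g⁻¹ * a * g)⁻¹ * v⁻¹ = (v * (g⁻¹ * a * g) * v⁻¹ * (g⁻¹ * a * g)⁻¹)⁻¹ := by
            group
          rw [e2]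
          exact inv_mem h3
        intro x hx
        rw [mem_centralizer_singleton_iff]
        exact mem_centralizer_iff.1 (hmem.2 haR) x hx
    rw [mem_centralizer_iff]
    intro x hx
    exact mem_centralizer_singleton_iff.1 (h1 hx)
  -- `[N₃, A] ≤ ⟨z⟩`
  have hN3z : N3 ≤ cmod (zpowers z) A := by
    refine sSup_le ?_
    rintro _ ⟨g, hg, rfl, hgA⟩
    refine h.le_cmod_z hg h.mod.V3_le fun b hb x hx => ?_
    have e : cj g⁻¹ A ≤ S := h.cj_le_S hg hAQ
    refine h.mod.out _ e (elemOn_cj hA hg) ?_ _ ?_ x hx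
    · intro hcon
      apply hgA
      intro a ha
      rw [hmem]
      apply hcon
      rw [mem_cj]
      have e2 : g⁻¹⁻¹ * (g⁻¹ * a * g) * g⁻¹ = a := by group
      rw [e2]; exact ha
    · rw [mem_cj]
      have e2 : g⁻¹⁻¹ * (g⁻¹ * b * g) * g⁻¹ = b := by group
      rw [e2]; exact hb
  -- (c)
  have hc : (centralizer (N3 : Set G)).relIndex A ≤ (centralizer (A : Set G)).relIndex N3 :=
    pair_le h.zz fun a ha n hn => h.mem_z.1 ((hN3z hn).2 a ha)
  -- (d)
  have hd : (centralizer (N : Set G)).relIndex A ≤ (centralizer (N3 : Set G)).relIndex A := by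
    rw [← inf_relIndex_right (centralizer (N3 : Set G))]
    refine relIndex_le_of_le_left ?_ (rel_ne _ _)
    rintro a ⟨haN, haA⟩
    have h1 : N ≤ centralizer ({a} : Set G) := by
      refine sSup_le ?_
      rintro _ ⟨g, hg, rfl, hgA⟩
      have h3N : cj g V3 ≤ N3 := le_sSup ⟨g, hg, rfl, hgA⟩
      have h2 : a ∈ centralizer ((cj g V3 : Subgroup G) : Set G) :=
        centralizer_le (by exact_mod_cast h3N) haN
      rw [hmem] at h2
      have h4 := hmem.2 (h.mod.faith _ (h.Q_le (h.conj_Q hg (hAQ haA))) h2)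
      intro x hx
      rw [mem_centralizer_singleton_iff]
      exact mem_centralizer_iff.1 h4 x hx
    rw [mem_centralizer_iff]
    intro x hx
    exact mem_centralizer_singleton_iff.1 (h1 hx)
  -- (e)
  have hNX : N ≤ normalizer ((X : Subgroup G) : Set G) := hNU.trans hUX
  have he : (centralizer (N : Set G)).relIndex A * (centralizer ((X : Subgroup G) : Set G)).relIndex A ≤
      (centralizer (A : Set G)).relIndex N := by
    have e1 : (centralizer (A : Set G)).relIndex (cmod X A ⊓ N) * (cmod X A).relIndex N =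
        (centralizer (A : Set G)).relIndex N := by
      rw [relIndex_inf_mul_relIndex, ← inf_relIndex_right (centralizer (A : Set G) ⊓ cmod X A),
        ← inf_relIndex_right (centralizer (A : Set G)) N]
      congr 1
      apply le_antisymm
      · exact le_inf (inf_le_left.trans inf_le_left) inf_le_right
      · exact le_inf (le_inf inf_le_left (centralizer_le_cmod hNX)) inf_le_right
    have h1 : N3 ≤ cmod X A ⊓ N := by
      refine le_inf (fun x hx => ⟨hNX (hN3N hx), fun a ha => ?_⟩) hN3N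
      have h2 := (hN3z hx).2 a ha
      exact (zpowers_le.2 (h.R_le_X h.mod.z_mem)) h2
    rw [← e1]
    exact Nat.mul_le_mul (hd.trans (hc.trans (relIndex_le_of_le_right h1 (rel_ne _ _)))) (hb.trans ha)
  -- (f)
  set AN := centralizer (N : Set G) ⊓ A with hAN
  have hANA : AN ≤ A := inf_le_right
  have hf : (centralizer ((U : Subgroup G) : Set G)).relIndex AN ≤ (centralizer (AN : Set G)).relIndex U := by
    refine chain_bot ?_
    rintro _ ⟨g, hg, rfl⟩ B hB
    exact h.ind (elemOn_mono hA (hB.trans hANA)) ((hB.trans hANA).trans hAQ) hg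
  -- (g)
  have hg : (centralizer (A : Set G)).relIndex (centralizer (AN : Set G) ⊓ U) * (centralizer (AN : Set G)).relIndex U =
      (centralizer (A : Set G)).relIndex U := by
    rw [relIndex_inf_mul_relIndex, inf_eq_left.2 (centralizer_le (by exact_mod_cast hANA))]
  have hNc : N ≤ centralizer (AN : Set G) ⊓ U :=
    le_inf (le_centralizer_iff.1 inf_le_left) hNU
  -- (h)
  have hh : (centralizer ((U : Subgroup G) : Set G)).relIndex AN * (centralizer (N : Set G)).relIndex A =
      (centralizer ((U : Subgroup G) : Set G)).relIndex A := by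
    rw [hAN, relIndex_inf_mul_relIndex, inf_eq_left.2 (centralizer_le (by exact_mod_cast hNU))]
  rw [← hh, ← hg]
  calc (centralizer ((X : Subgroup G) : Set G)).relIndex A *
        ((centralizer ((U : Subgroup G) : Set G)).relIndex AN * (centralizer (N : Set G)).relIndex A)
      = ((centralizer (N : Set G)).relIndex A * (centralizer ((X : Subgroup G) : Set G)).relIndex A) *
        (centralizer ((U : Subgroup G) : Set G)).relIndex AN := by ring
    _ ≤ (centralizer (A : Set G)).relIndex (centralizer (AN : Set G) ⊓ U) * (centralizer (AN : Set G)).relIndex U :=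
        Nat.mul_le_mul (he.trans (relIndex_le_of_le_right hNc (rel_ne _ _))) hf

/-- **The gain.** -/
theorem One.gain {A : Subgroup G} (hA : IsElementaryAbelian 2 A) (hAQ : A ≤ Q) :
    (centralizer ((X : Subgroup G) : Set G)).relIndex A * (centralizer ((U : Subgroup G) : Set G)).relIndex A ≤
      (centralizer (A : Set G)).relIndex U := h.gain_of (elemOn hA) hAQ

/-- `U` is elementary abelian. -/
theorem One.U_elem : IsElementaryAbelian 2 (U : Subgroup G) := by
  have hc : ∀ a ∈ U, ∀ b ∈ U, a * b = b * a := fun a ha b hb => mem_centralizer_iff.1 (h.comm hb) a ha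
  refine isElementaryAbelian_iff.2 ⟨hc, ?_⟩
  let D : Subgroup G :=
    { carrier := {c | c ∈ U ∧ c ^ 2 = 1}
      mul_mem' := by
        rintro a b ⟨ha, ha2⟩ ⟨hb, hb2⟩
        refine ⟨mul_mem ha hb, ?_⟩
        have hab : a * b = b * a := hc a ha b hb
        rw [pow_two] at ha2 hb2 ⊢
        calc a * b * (a * b) = a * (b * a) * b := by group
          _ = a * (a * b) * b := by rw [hab]
          _ = (a * a) * (b * b) := by group
          _ = 1 := by rw [ha2, hb2, one_mul]
      one_mem' := ⟨one_mem _, one_pow _⟩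
      inv_mem' := by
        rintro a ⟨ha, ha2⟩
        refine ⟨inv_mem ha, ?_⟩
        rw [inv_pow, ha2, inv_one] }
  have hD : U ≤ D := by
    refine sSup_le ?_
    rintro _ ⟨g, hg, rfl⟩ x hx
    refine ⟨le_sSup_conjs hg hx, ?_⟩
    rw [mem_cj] at hx
    have h2 := h.mod.sq _ hx
    have e : x ^ 2 = g * (g⁻¹ * x * g) ^ 2 * g⁻¹ := by rw [pow_two, pow_two]; group
    rw [e, h2]; group
  exact fun a ha => (hD ha).2

/-- **The count**, for `A ≤ S` elementary abelian modulo `C(U)`. -/
theorem One.count_of {A : Subgroup G} (hAS : A ≤ S) (hA : ElemOn (U : Subgroup G) A)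
    (hmax : (centralizer (A : Set G)).relIndex U ≤ (centralizer ((U : Subgroup G) : Set G)).relIndex A)
    (hC : centralizer ((U : Subgroup G) : Set G) ⊓ S ≤ Q) :
    (centralizer (A : Set G)).relIndex X ≤ Q.relIndex A := by
  set A0 := Q ⊓ A with hA0
  have hA0A : A0 ≤ A := inf_le_right
  have hA0Q : A0 ≤ Q := inf_le_left
  have hgain := h.gain_of (elemOn_mono hA hA0A) hA0Q
  have e1 : (centralizer ((U : Subgroup G) : Set G)).relIndex A0 * Q.relIndex A =
      (centralizer ((U : Subgroup G) : Set G)).relIndex A := by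
    rw [hA0, relIndex_inf_mul_relIndex, ← inf_relIndex_right (centralizer ((U : Subgroup G) : Set G) ⊓ Q),
      ← inf_relIndex_right (centralizer ((U : Subgroup G) : Set G)) A]
    congr 1
    apply le_antisymm
    · exact le_inf (inf_le_left.trans inf_le_left) inf_le_right
    · exact le_inf (le_inf inf_le_left ((inf_le_inf_left _ hAS).trans hC)) inf_le_right
  have e2 : (centralizer (A : Set G)).relIndex (centralizer (A0 : Set G) ⊓ U) *
      (centralizer (A0 : Set G)).relIndex U = (centralizer (A : Set G)).relIndex U := by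
    rw [relIndex_inf_mul_relIndex, inf_eq_left.2 (centralizer_le (by exact_mod_cast hA0A))]
  have e3 : (centralizer (A : Set G)).relIndex (centralizer (A0 : Set G) ⊓ X) *
      (centralizer (A0 : Set G)).relIndex X = (centralizer (A : Set G)).relIndex X := by
    rw [relIndex_inf_mul_relIndex, inf_eq_left.2 (centralizer_le (by exact_mod_cast hA0A))]
  have hpair : (centralizer (A0 : Set G)).relIndex X ≤ (centralizer ((X : Subgroup G) : Set G)).relIndex A0 := by
    refine pair_le (A := (X : Subgroup G)) (N := A0) h.zz fun x hx a ha => ?_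
    have h1 := h.mem_z.1 ((h.X_comm hx).2 a (hA0Q ha))
    have e : x * a * x⁻¹ * a⁻¹ = (a * x * a⁻¹ * x⁻¹)⁻¹ := by group
    rw [e]
    rcases h1 with h1 | h1
    · left; rw [h1, inv_one]
    · right; rw [h1]; exact inv_eq_of_mul_eq_one_left h.zz
  have hmono : (centralizer (A : Set G)).relIndex (centralizer (A0 : Set G) ⊓ X) ≤
      (centralizer (A : Set G)).relIndex (centralizer (A0 : Set G) ⊓ U) :=
    relIndex_le_of_le_right (inf_le_inf_left _ h.XU) (rel_ne _ _)
  have hcp := rel_pos (centralizer ((U : Subgroup G) : Set G)) A0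
  have key : (centralizer (A : Set G)).relIndex (centralizer (A0 : Set G) ⊓ U) *
      (centralizer ((X : Subgroup G) : Set G)).relIndex A0 ≤ Q.relIndex A := by
    have h1 : ((centralizer (A : Set G)).relIndex (centralizer (A0 : Set G) ⊓ U) *
        (centralizer ((X : Subgroup G) : Set G)).relIndex A0) * (centralizer ((U : Subgroup G) : Set G)).relIndex A0 ≤
        Q.relIndex A * (centralizer ((U : Subgroup G) : Set G)).relIndex A0 := by
      rw [mul_assoc, mul_comm (Q.relIndex A), e1]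
      refine le_trans ?_ hmax
      rw [← e2]
      exact Nat.mul_le_mul_left _ hgain
    exact Nat.le_of_mul_le_mul_right h1 hcp
  rw [← e3]
  exact (Nat.mul_le_mul hmono hpair).trans key

/-- **The count.** -/
theorem One.count {A : Subgroup G} (hA : A ∈ AA S) (hC : centralizer ((U : Subgroup G) : Set G) ⊓ S ≤ Q) :
    (centralizer (A : Set G)).relIndex X ≤ Q.relIndex A := by
  refine h.count_of hA.2.1 (elemOn hA.1) ?_ hC
  by_cases hne : A ≤ centralizer ((U : Subgroup G) : Set G)
  · rw [relIndex_eq_one.2 (le_centralizer_iff.1 hne)]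
    exact rel_pos _ _
  · exact FFThm.relIndex_le_iff.1 (FFThm.off_of_AA h.U_elem (h.U_le.trans h.Q_le) hA hne).le

/-- **Exactness**: no over-offender on `X / M` gives `C_X(A / M) = C_X(A)`. -/
theorem One.exact {A M : Subgroup G} (hA : A ∈ AA S) (hC : centralizer ((U : Subgroup G) : Set G) ⊓ S ≤ Q)
    (hM : M ≤ X) (hPM : P ≤ normalizer (M : Set G)) (hno : Q.relIndex A ≤ (cmod M A).relIndex X) :
    cmod M A ⊓ X ≤ centralizer (A : Set G) ∧ M ≤ centralizer (A : Set G) := by
  have hXM : X ≤ normalizer (M : Set G) := (h.XU.trans (h.U_le.trans (h.Q_le.trans h.S_le))).trans hPM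
  have h1 := h.count hA hC
  have h2 : centralizer (A : Set G) ⊓ X ≤ cmod M A ⊓ X := le_inf (centralizer_le_cmod hXM) inf_le_right
  have h3 : (centralizer (A : Set G) ⊓ X).relIndex (cmod M A ⊓ X) * (cmod M A ⊓ X).relIndex X =
      (centralizer (A : Set G) ⊓ X).relIndex X := relIndex_mul_relIndex _ _ _ h2 inf_le_right
  rw [inf_relIndex_right, inf_relIndex_right] at h3
  have h4 := rel_pos (cmod M A) X
  have h5 := rel_pos (centralizer (A : Set G) ⊓ X) (cmod M A ⊓ X)
  have h6 : (centralizer (A : Set G) ⊓ X).relIndex (cmod M A ⊓ X) = 1 := by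
    by_contra hcon
    have h7 : 2 ≤ (centralizer (A : Set G) ⊓ X).relIndex (cmod M A ⊓ X) := by omega
    have h8 := Nat.mul_le_mul_right ((cmod M A).relIndex X) h7
    omega
  have h7 : cmod M A ⊓ X ≤ centralizer (A : Set G) := (relIndex_eq_one.1 h6).trans inf_le_left
  refine ⟨h7, ?_⟩
  have h8 : M ≤ cmod M A := by
    intro m hm
    refine ⟨le_normalizer hm, fun a ha => ?_⟩
    exact mul_mem ((mem_normalizer_iff.1 (hPM (h.S_le (hA.2.1 ha))) m).1 hm) (inv_mem hm)
  exact (le_inf h8 hM).trans h7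

end

end Cfsg.Agent.Omega.NO3S.Fld.GainOne
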