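import Cfsg.Agent.Omega.NO3S.Fld.FourTwo
import Cfsg.Agent.Omega.NO3S.Fld.GainOne
import Cfsg.Agent.Omega.NO3S.Fld.FixJ
import Cfsg.Agent.Omega.NO3S.Fld.Dih

/-!
# Fld, `q = 4`: the case `V ∩ X = R` (#15515 (1)), end

* `chief_two` : `Y / N` a noncentral chief factor of the minimal parabolic `X`, `𝒥` a nonempty family of offenders with
  at most one common nontrivial fixed vector: `|T : O₂(X)| ≤ 2`;
* `exists_chief` : a noncentral chief factor between `N` and `Y`;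
* `Cfg4.idx_one` : `V ∩ X = R` ⟹ `|S : O₂(P₂)| = 2`;
* `Cfg4.dih` : `|S : O₂(P₂)| = 2` ⟹ `J(O₂(P)) ≤ O₂(P₂)` (#15515 (4));
* `Cfg4.idx`, `Cfg4.jj_L_le` : so always `|S : O₂(P₂)| = 2` and `J(O₂(P)) ≤ O₂(P₂)`.
-/

set_option autoImplicit false
set_option linter.unusedSectionVars false

namespace Cfsg.Agent.Omega.NO3S.Fld

open Subgroup Cfsg Cfsg.Agent.ZN Cfsg.Agent.ZN.ChoiceBase Cfsg.Agent.ZN.ChoiceSit
open Cfsg.Agent.MinSimple.MinParabolic (IsMinPar IsMin sup_eq_top_or_inf_le)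
open Cfsg.Agent.MinSimple.VModule (oddGen oddGen_le mem_oddGen le_normalizer_oddGen oddGen_le_of_sup)
open Cfsg.Agent.Omega.NO3b.K0
open Cfsg.Agent.Omega.NO3S.NotFF (commutator_le_of_odd)
open scoped commutatorElement

universe u

section

variable {G : Type u} [Group G] [Finite G] {X : Subgroup G}

/-- Offenders with at most one common nontrivial fixed vector on a chief factor. -/
theorem chief_two (h : FFBr.AStmt.{u}) {T : Subgroup G} (hT : Syl T X) (hmin : IsMinPar T X) {N Y : Subgroup G}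
    (hNY : N ≤ Y) (hYX : Y ≤ X) (hsq : ∀ y ∈ Y, y ^ 2 = 1) (hc : Y ≤ centralizer (Y : Set G))
    (hN : X ≤ normalizer (N : Set G)) (hY : X ≤ normalizer (Y : Set G))
    (chief : ∀ K : Subgroup G, N ≤ K → K ≤ Y → X ≤ normalizer (K : Set G) → K = N ∨ K = Y)
    (hmv : ¬ ⁅Y, oddGen X⁆ ≤ N) {𝒥 : Set (Subgroup G)} (hJ : ∀ A ∈ 𝒥, A ≤ T ∧ SOff X N Y A) (hJne : 𝒥.Nonempty)
    (hu : ∀ y ∈ Y, ∀ w ∈ Y, y ∉ N → w ∉ N → (∀ A ∈ 𝒥, ∀ a ∈ A, ⁅y, a⁆ ∈ N) → (∀ A ∈ 𝒥, ∀ a ∈ A, ⁅w, a⁆ ∈ N) →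
      y⁻¹ * w ∈ N) : (o2 X).relIndex T ≤ 2 := by
  have hfact : Fact (Nat.Prime 2) := ⟨Nat.prime_two⟩
  have hn : (N.subgroupOf Y).Normal := normal_subgroupOf_of_le_normalizer (hYX.trans hN)
  obtain ⟨M, hM⟩ := hmin.exists_isMin
  obtain ⟨P, hP⟩ := syl_iff.1 hT
  have hTP : T.subgroupOf X = (P : Subgroup X) := by
    rw [← hP, Subgroup.subgroupOf, comap_map_eq_self_of_injective X.subtype_injective]
  rw [hTP] at hM
  have hvc : ∀ v w : Y ⧸ N.subgroupOf Y, v * w = w * v := by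
    intro v w
    obtain ⟨y, rfl⟩ := QuotientGroup.mk_surjective v
    obtain ⟨z, rfl⟩ := QuotientGroup.mk_surjective w
    have h1 : y * z = z * y := Subtype.ext (mem_centralizer_iff.1 (hc z.2) _ y.2)
    rw [← QuotientGroup.mk_mul, h1, QuotientGroup.mk_mul]
  have hvs : ∀ v : Y ⧸ N.subgroupOf Y, v * v = 1 := by
    intro v
    obtain ⟨y, rfl⟩ := QuotientGroup.mk_surjective v
    have h1 : y * y = 1 := Subtype.ext (by
      have := hsq y y.2
      rw [sq] at this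
      exact this)
    rw [← QuotientGroup.mk_mul, h1, QuotientGroup.mk_one]
  have habs := abs_of_irr (cpr hN hY) (cpr_surjective hN hY) (cfaith hN hY) P M hM hvc hvs
    (cirr hN hY hNY chief) (codd hc hN hY hmv)
  set K : Subgroup G := (cpr hN hY).ker.map X.subtype with hK
  have hKX : K ≤ X := map_subtype_le _
  have hmemK : ∀ x : X, (x : G) ∈ K ↔ cpr hN hY x = 1 := by
    intro x
    constructor
    · rintro ⟨x', hx', hxx⟩
      have : x' = x := Subtype.ext hxx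
      rw [← this]
      exact hx'
    · intro hx
      exact ⟨x, hx, rfl⟩
  have ho2 : o2 X ≤ K := by
    have h1 : (pCore 2 X).map (cpr hN hY) = ⊥ :=
      habs.core _ (Normal.map inferInstance _ (cpr_surjective hN hY)) ((isPGroup_pCore 2).map _)
    exact map_mono ((map_eq_bot_iff (f := cpr hN hY) _).1 h1)
  have hKn : X ≤ normalizer (K : Set G) := by
    have key : ∀ x ∈ X, ∀ k ∈ K, x * k * x⁻¹ ∈ K := by
      intro x hx k hk
      have h1 := (hmemK ⟨k, hKX hk⟩).1 hk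
      refine (hmemK (⟨x, hx⟩ * ⟨k, hKX hk⟩ * ⟨x, hx⟩⁻¹)).2 ?_
      rw [map_mul, map_mul, map_inv, h1, mul_one, mul_inv_cancel]
    intro x hx
    rw [mem_normalizer_iff]
    intro k
    refine ⟨key x hx k, fun hk => ?_⟩
    have h3 := key x⁻¹ (inv_mem hx) _ hk
    rw [inv_inv] at h3
    have h4 : x⁻¹ * (x * k * x⁻¹) * x = k := by group
    rwa [h4] at h3
  have hKT : T ⊓ K ≤ o2 X := by
    rcases hmin.sup_eq_or_inf_le hT.2.1 (syl_not_dvd hT) hKX hKn with h1 | h1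
    · exfalso
      apply hmv
      have h2 : oddGen X ≤ K := oddGen_le_of_sup hKn h1.ge hT.1 hKX hT.2.1
      rw [commutator_le]
      intro y hy g hg
      exact (cpr_eq_one hc hN hY (x := ⟨g, hKX (h2 hg)⟩)).1 ((hmemK _).1 (h2 hg)) y hy
    · exact h1
  -- the offenders
  have key : ∀ A : Subgroup G, A ≤ T → SOff X N Y A →
      FFBr.AOff (Y ⧸ N.subgroupOf Y) ((A.subgroupOf X).map (cpr hN hY)) := by
    intro A hA ho
    have hAX : A ≤ X := hA.trans hT.1
    refine ⟨?_, ?_, ?_, ?_⟩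
    · rintro _ ⟨a, ha, rfl⟩ _ ⟨b, hb, rfl⟩
      have h2 : cpr hN hY (a * b * a⁻¹ * b⁻¹) = 1 :=
        (hmemK _).1 (ho2 (ho.comm a (mem_subgroupOf.1 ha) b (mem_subgroupOf.1 hb)))
      rw [map_mul, map_mul, map_mul, map_inv, map_inv, mul_inv_eq_one, mul_inv_eq_iff_eq_mul] at h2
      exact h2
    · rintro _ ⟨a, ha, rfl⟩
      have h2 : cpr hN hY (a ^ 2) = 1 := (hmemK _).1 (ho2 (ho.sq a (mem_subgroupOf.1 ha)))
      rwa [pow_two, map_mul] at h2
    · intro h0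
      apply ho.ne
      intro a ha
      have h1 : cpr hN hY ⟨a, hAX ha⟩ ∈ (A.subgroupOf X).map (cpr hN hY) := ⟨⟨a, hAX ha⟩, ha, rfl⟩
      rw [h0, mem_bot] at h1
      exact hKT ⟨hA ha, (hmemK ⟨a, hAX ha⟩).2 h1⟩
    · obtain ⟨D, hDY, hDA, hle⟩ := ho.ex
      have h4 : (o2 X).relIndex A ≤ Nat.card ((A.subgroupOf X).map (cpr hN hY)) := by
        have h5 : K.relIndex A = Nat.card ((A.subgroupOf X).map (cpr hN hY)) := by
          have h6 : K.relIndex A = (cpr hN hY).ker.relIndex (A.subgroupOf X) := by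
            have h7 := relIndex_map_map_of_injective (cpr hN hY).ker (A.subgroupOf X) X.subtype_injective
            rw [subgroupOf_map_subtype, inf_eq_left.2 hAX] at h7
            exact h7
          rw [h6, relIndex_ker]
        have hAK : A ⊓ K ≤ o2 X := (inf_le_inf_right _ hA).trans hKT
        rw [← h5, ← inf_relIndex_left A K]
        refine Nat.le_of_dvd (Nat.pos_of_ne_zero ?_) (relIndex_dvd_of_le_left A hAK)
        exact FiniteIndex.index_ne_zero (H := (A ⊓ K).subgroupOf A)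
      have h5 : (ClassTwoFusion.Quad.cv (Y ⧸ N.subgroupOf Y)
          ((A.subgroupOf X).map (cpr hN hY) : Set (CX hN hY))).index ≤ D.relIndex Y := by
        have h6 : (D.subgroupOf Y).map (QuotientGroup.mk' (N.subgroupOf Y)) ≤
            ClassTwoFusion.Quad.cv (Y ⧸ N.subgroupOf Y) ((A.subgroupOf X).map (cpr hN hY) : Set (CX hN hY)) := by
          rintro _ ⟨y, hy, rfl⟩ _ ⟨a, ha, rfl⟩
          exact (cpr_smul_eq_iff hc hN hY).2
            (hDA (commutator_mem_commutator (mem_subgroupOf.1 hy) (mem_subgroupOf.1 ha)))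
        refine (index_antitone h6).trans (Nat.le_of_dvd (Nat.pos_of_ne_zero
          (FiniteIndex.index_ne_zero (H := D.subgroupOf Y))) ?_)
        exact index_map_dvd _ (QuotientGroup.mk'_surjective _)
      exact h5.trans (hle.trans h4)
  obtain ⟨A₀, hA₀⟩ := hJne
  have hconc := (h _ _ _ _ habs ⟨_, key A₀ (hJ A₀ hA₀).1 (hJ A₀ hA₀).2⟩).2
  have hle : ∀ A : Subgroup G, A ≤ T → (A.subgroupOf X).map (cpr hN hY) ≤
      ((P.mapSurjective (cpr_surjective hN hY) : Sylow 2 (CX hN hY)) : Subgroup (CX hN hY)) := by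
    intro A hA
    rw [Sylow.coe_mapSurjective, ← hTP]
    exact map_mono fun a ha => mem_subgroupOf.2 (hA (mem_subgroupOf.1 ha))
  have hfin := FixJ.card_le_two habs {B | ∃ A ∈ 𝒥, B = (A.subgroupOf X).map (cpr hN hY)}
    (by
      rintro _ ⟨A, hA, rfl⟩
      exact ⟨hle A (hJ A hA).1, key A (hJ A hA).1 (hJ A hA).2⟩)
    (by
      intro v w hv hw hvf hwf
      obtain ⟨y, rfl⟩ := QuotientGroup.mk_surjective v
      obtain ⟨y', rfl⟩ := QuotientGroup.mk_surjective w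
      have h1 : ∀ y : Y, (QuotientGroup.mk y : Y ⧸ N.subgroupOf Y) ≠ 1 → (y : G) ∉ N := by
        intro y hy hyN
        exact hy ((QuotientGroup.eq_one_iff y).2 (mem_subgroupOf.2 hyN))
      have h2 : ∀ y : Y, (∀ A ∈ {B | ∃ A ∈ 𝒥, B = (A.subgroupOf X).map (cpr hN hY)}, ∀ a ∈ A,
          a • (QuotientGroup.mk y : Y ⧸ N.subgroupOf Y) = QuotientGroup.mk y) →
          ∀ A ∈ 𝒥, ∀ a ∈ A, ⁅(y : G), a⁆ ∈ N := by
        intro y hy A hA a ha
        have haX : a ∈ X := hT.1 ((hJ A hA).1 ha)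
        exact (cpr_smul_eq_iff hc hN hY (x := ⟨a, haX⟩)).1
          (hy _ ⟨A, hA, rfl⟩ _ ⟨⟨a, haX⟩, mem_subgroupOf.2 ha, rfl⟩)
      have h3 := hu y y.2 y' y'.2 (h1 y hv) (h1 y' hw) (h2 y hvf) (h2 y' hwf)
      exact QuotientGroup.eq.2 (mem_subgroupOf.2 h3))
    hconc
  have h5 : K.relIndex T = Nat.card ((P.mapSurjective (cpr_surjective hN hY) : Sylow 2 (CX hN hY)) :
      Subgroup (CX hN hY)) := by
    have h6 : K.relIndex T = (cpr hN hY).ker.relIndex (T.subgroupOf X) := by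
      have h7 := relIndex_map_map_of_injective (cpr hN hY).ker (T.subgroupOf X) X.subtype_injective
      rw [subgroupOf_map_subtype, inf_eq_left.2 hT.1] at h7
      exact h7
    rw [h6, relIndex_ker, hTP, Sylow.coe_mapSurjective]
  rw [← h5] at hfin
  refine le_trans ?_ hfin
  rw [← inf_relIndex_left T K]
  refine Nat.le_of_dvd (Nat.pos_of_ne_zero ?_) (relIndex_dvd_of_le_left T hKT)
  exact FiniteIndex.index_ne_zero (H := (T ⊓ K).subgroupOf T)

/-- A noncentral chief factor between `N` and `Y`. -/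
theorem exists_chief {N Y : Subgroup G}
    (hNY : N ≤ Y) (hsq : ∀ y ∈ Y, y ^ 2 = 1) (hY : Y ≤ centralizer (Y : Set G))
    (hN : X ≤ normalizer (N : Set G)) (hYn : X ≤ normalizer (Y : Set G)) (hE : ¬ ⁅Y, oddGen X⁆ ≤ N) :
    ∃ N' Y' : Subgroup G, N ≤ N' ∧ N' ≤ Y' ∧ Y' ≤ Y ∧ X ≤ normalizer (N' : Set G) ∧ X ≤ normalizer (Y' : Set G) ∧
      (∀ K : Subgroup G, N' ≤ K → K ≤ Y' → X ≤ normalizer (K : Set G) → K = N' ∨ K = Y') ∧
      ¬ ⁅Y', oddGen X⁆ ≤ N' := by
  obtain ⟨Y', hY', hYmin⟩ := Set.exists_min_image {Y' : Subgroup G | N ≤ Y' ∧ Y' ≤ Y ∧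
    X ≤ normalizer (Y' : Set G) ∧ ¬ ⁅Y', oddGen X⁆ ≤ N} (fun Y' => Nat.card Y') (Set.toFinite _)
    ⟨Y, hNY, le_rfl, hYn, hE⟩
  obtain ⟨h1, h2, h3, h4⟩ := hY'
  have hne : N ≠ Y' := by
    rintro rfl
    apply h4
    rw [← le_normalizer_iff_commutator_le_left]
    exact (oddGen_le X).trans hN
  obtain ⟨N', hN', hNmax⟩ := Set.exists_max_image {N' : Subgroup G | N ≤ N' ∧ N' ≤ Y' ∧ N' ≠ Y' ∧
    X ≤ normalizer (N' : Set G)} (fun N' => Nat.card N') (Set.toFinite _) ⟨N, le_rfl, h1, hne, hN⟩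
  obtain ⟨k1, k2, k3, k4⟩ := hN'
  have hYP : IsPGroup 2 Y := fun x => ⟨1, Subtype.ext (by simpa using hsq x x.2)⟩
  have hcomm : ∀ A B : Subgroup G, A ≤ Y → B ≤ Y → A ≤ normalizer (B : Set G) := fun A B hA hB =>
    (hA.trans (hY.trans (centralizer_le hB))).trans (centralizer_le_normalizer _)
  have hN'E : ⁅N', oddGen X⁆ ≤ N := by
    by_contra h0
    have h5 := hYmin N' ⟨k1, k2.trans h2, k4, h0⟩
    exact k3 (eq_of_le_of_card_ge k2 h5)
  have hY'E : ¬ ⁅Y', oddGen X⁆ ≤ N' := by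
    intro h0
    apply h4
    exact commutator_le_of_odd (oddGen_oddGen X) (hYP.to_le h2) ((oddGen_le X).trans h3)
      ((oddGen_le X).trans hN) (hcomm _ _ h2 hNY) ((commutator_mono h0 le_rfl).trans hN'E)
  exact ⟨N', Y', k1, k2, h2, k4, h3, (fun K hK1 hK2 hK3 => by
      by_cases hKY : K = Y'
      · exact Or.inr hKY
      · left
        have h6 := hNmax K ⟨k1.trans hK1, hK2, hKY, hK3⟩
        exact (eq_of_le_of_card_ge hK1 h6).symm), hY'E⟩

end

/-! ### `V ∩ X = R` -/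

open Cfsg.Agent.Omega.NO3b.EZero (cl cj_le_cl le_cl cl_le le_normalizer_cl cent_symm)
open Cfsg.Agent.Omega.NO3b.K0 (cj_self)
open Cfsg.Agent.Omega.MinPar

theorem cl_eq_sSup {G : Type u} [Group G] (V P : Subgroup G) : cl V P = sSup (GainOne.conjs P V) := by
  apply le_antisymm
  · exact cl_le fun p hp => le_sSup ⟨p, hp, rfl⟩
  · refine sSup_le ?_
    rintro _ ⟨p, hp, rfl⟩
    exact cj_le_cl hp

namespace Cfg4

variable {G : Type u} [Group G] [Finite G] {S : Sylow 2 G} {P P2 R V3 : Subgroup G} {z : G}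
  (h : Cfg4 S P P2 R V3 z)
include h

theorem one (hVX : zl (S : Subgroup G) P ⊓ cl R P2 = R) :
    GainOne.One (S : Subgroup G) P2 (o2 P2) (zl (S : Subgroup G) P) R V3 z where
  mod := h.mod
  Q_le := h.Q_le
  S_le := h.S_le
  norm := le_normalizer_o2 P2
  cz := fun _ hg => h.z_comm hg
  comm := by rw [← cl_eq_sSup]; exact h.U_comm
  U_le := by rw [← cl_eq_sSup]; exact h.U_le_Q
  inf := by rw [← cl_eq_sSup]; exact hVX

/-- `|X : C_X(A)| ≤ |A : A ∩ Q|`. -/
theorem count_one (hVX : zl (S : Subgroup G) P ⊓ cl R P2 = R) {A : Subgroup G} (hA : A ∈ AA (S : Subgroup G)) :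
    (centralizer (A : Set G)).relIndex (cl R P2) ≤ (o2 P2).relIndex A := by
  have h1 := (h.one hVX).count hA (by
    rw [← cl_eq_sSup, inf_comm]; exact h.inf_cent_U)
  rwa [← cl_eq_sSup] at h1

/-- **#15515 (1).** -/
theorem idx_one (hAS : FFBr.AStmt.{u}) (hVX : zl (S : Subgroup G) P ⊓ cl R P2 = R) :
    (o2 P2).relIndex (S : Subgroup G) = 2 := by
  have hzX : zpowers z ≤ cl R P2 := h.zpowers_le_R.trans h.R_le_X
  have hmv : ¬ ⁅cl R P2, oddGen P2⁆ ≤ zpowers z := by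
    intro h0
    apply h.E_R
    have h1 : ⁅R, oddGen P2⁆ ≤ R := (commutator_mono h.R_le_X le_rfl).trans (h0.trans h.zpowers_le_R)
    exact le_normalizer_iff_commutator_le_left.2 h1
  obtain ⟨N, Y, hzN, hNY, hYX, hN, hY, chief, hE⟩ := exists_chief hzX h.X_sq h.X_comm h.P2_zpowers h.X_norm hmv
  have hXS := h.X_le_S
  have hYP : Y ≤ P2 := (hYX.trans hXS).trans h.S_le
  have hYc : Y ≤ centralizer (Y : Set G) := hYX.trans (h.X_comm.trans (centralizer_le hYX))
  have hYN : Y ≤ normalizer (N : Set G) := hYP.trans hN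
  have hno := noOv hAS h.syl h.par.toIsMinPar
  have hAc : ∀ A ∈ AA (S : Subgroup G), (∀ a ∈ A, a ^ 2 ∈ o2 P2) ∧ ∀ a ∈ A, ∀ b ∈ A, a * b * a⁻¹ * b⁻¹ ∈ o2 P2 := by
    intro A hA
    refine ⟨fun a ha => by rw [hA.1.2 a ha]; exact one_mem _, fun a ha b hb => ?_⟩
    rw [SQ1.Bau.elem_comm hA.1 a ha b hb, mul_inv_cancel_right, mul_inv_cancel]; exact one_mem _
  have hD : ∀ A ∈ AA (S : Subgroup G), ⁅Chain.cmod N A ⊓ Y, A⁆ ≤ N := by
    intro A _
    rw [commutator_le]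
    intro y hy a ha
    have h1 := (mem_inf.1 hy).1.2 a ha
    have e : ⁅y, a⁆ = (a * y * a⁻¹ * y⁻¹)⁻¹ := by rw [commutatorElement_def]; group
    rw [e]; exact inv_mem h1
  have hle : ∀ A ∈ AA (S : Subgroup G), (centralizer (A : Set G)).relIndex Y ≤ (o2 P2).relIndex A := fun A hA =>
    (relIndex_le_of_le_right hYX (Chain.rel_ne _ _)).trans (h.count_one hVX hA)
  have hge : ∀ A ∈ AA (S : Subgroup G), (o2 P2).relIndex A ≤ (Chain.cmod N A).relIndex Y := by
    intro A hA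
    have := hno N Y A (Chain.cmod N A ⊓ Y) hNY hYP (fun y hy => h.X_sq y (hYX hy)) hYc hN hY chief hE
      (hA.2.1.trans h.S_le) (hAc A hA).1 (hAc A hA).2 inf_le_right (hD A hA)
    rwa [inf_relIndex_right] at this
  have hsub : ∀ A : Subgroup G, centralizer (A : Set G) ⊓ Y ≤ Chain.cmod N A ⊓ Y := fun A =>
    le_inf (Chain.centralizer_le_cmod hYN) inf_le_right
  have hexact : ∀ A ∈ AA (S : Subgroup G), Chain.cmod N A ⊓ Y ≤ centralizer (A : Set G) := by
    intro A hA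
    have h1 := hle A hA
    have h2 := hge A hA
    have h3 : (centralizer (A : Set G) ⊓ Y).relIndex (Chain.cmod N A ⊓ Y) * (Chain.cmod N A ⊓ Y).relIndex Y =
        (centralizer (A : Set G) ⊓ Y).relIndex Y := relIndex_mul_relIndex _ _ _ (hsub A) inf_le_right
    rw [inf_relIndex_right, inf_relIndex_right] at h3
    have h4 := Chain.rel_pos (Chain.cmod N A) Y
    have h5 := Chain.rel_pos (centralizer (A : Set G) ⊓ Y) (Chain.cmod N A ⊓ Y)
    have h6 : (centralizer (A : Set G) ⊓ Y).relIndex (Chain.cmod N A ⊓ Y) = 1 := by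
      by_contra hcon
      have h7 : 2 ≤ (centralizer (A : Set G) ⊓ Y).relIndex (Chain.cmod N A ⊓ Y) := by omega
      have h8 := Nat.mul_le_mul_right ((Chain.cmod N A).relIndex Y) h7
      omega
    exact (relIndex_eq_one.1 h6).trans inf_le_left
  -- the common fixed vectors
  have hfixR : ∀ y ∈ Y, (∀ A ∈ {A | A ∈ AA (S : Subgroup G) ∧ ¬ A ≤ o2 P2}, ∀ a ∈ A, ⁅y, a⁆ ∈ N) → y ∈ R := by
    intro y hy hfix
    have h1 : ∀ A ∈ AA (S : Subgroup G), A ≤ centralizer ({y} : Set G) := by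
      intro A hA a ha
      rw [mem_centralizer_singleton_iff]
      by_cases hAQ : A ≤ o2 P2
      · exact (mem_centralizer_iff.1 (h.AA_cent hA hAQ ha) y (hYX hy)).symm
      · have h2 : y ∈ Chain.cmod N A ⊓ Y := by
          refine mem_inf.2 ⟨⟨hYN hy, fun a ha => ?_⟩, hy⟩
          have h3 := hfix A ⟨hA, hAQ⟩ a ha
          have e : a * y * a⁻¹ * y⁻¹ = ⁅y, a⁆⁻¹ := by rw [commutatorElement_def]; group
          rw [e]; exact inv_mem h3
        exact mem_centralizer_iff.1 (hexact A hA h2) a ha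
    have h2 : jj (S : Subgroup G) ≤ centralizer ({y} : Set G) := by
      rw [jj_eq]; exact sSup_le h1
    have h3 : ∀ a ∈ jj (S : Subgroup G), a * y = y * a := fun a ha => mem_centralizer_singleton_iff.1 (h2 ha)
    rw [← h.zjS, mem_zj]
    exact ⟨mem_jj_of_comm (hXS (hYX hy)) (h.X_sq y (hYX hy)) h3, h.X_sq y (hYX hy), h3⟩
  have htwo := chief_two hAS h.syl h.par.toIsMinPar hNY hYP (fun y hy => h.X_sq y (hYX hy)) hYc hN hY chief hE
    (𝒥 := {A | A ∈ AA (S : Subgroup G) ∧ ¬ A ≤ o2 P2})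
    (by
      rintro A ⟨hA, hAQ⟩
      refine ⟨hA.2.1, (hAc A hA).1, (hAc A hA).2, hAQ, Chain.cmod N A ⊓ Y, inf_le_right, hD A hA, ?_⟩
      rw [inf_relIndex_right]
      refine le_trans ?_ (hle A hA)
      rw [← inf_relIndex_right (centralizer (A : Set G)), ← inf_relIndex_right (Chain.cmod N A)]
      exact relIndex_le_of_le_left (hsub A) (Chain.rel_ne _ _))
    (by
      obtain ⟨A, hA, hAQ⟩ := h.exists_AA_not_Q
      exact ⟨A, hA, hAQ⟩)
    (by
      intro y hy w hw hyN hwN hyf hwf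
      have hyR := hfixR y hy hyf
      have hwR := hfixR w hw hwf
      have hzN' : z ∈ N := hzN (mem_zpowers z)
      have hy1 : y ≠ 1 := fun h0 => hyN (h0 ▸ one_mem _)
      have hyz : z ≠ y := fun h0 => hyN (h0 ▸ hzN')
      have hw1 : w ≠ 1 := fun h0 => hwN (h0 ▸ one_mem _)
      rcases eq_of_card_four h.mod.cardR (fun v hv => h.mod.sq v (h.R_le_V hv)) h.z_mem_R h.mod.z_ne hyR hy1
        hyz hwR hw1 with e | e | e
      · rw [e] at hwN; exact absurd hzN' hwN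
      · rw [e, inv_mul_cancel]; exact one_mem _
      · have hc : z * y = y * z := mem_centralizer_iff.1 (h.mod.comm (h.R_le_V hyR)) z (h.R_le_V h.z_mem_R)
        rw [e, hc, inv_mul_cancel_left]; exact hzN')
  have h0 := Chain.rel_pos (o2 P2) (S : Subgroup G)
  have h1 : (o2 P2).relIndex (S : Subgroup G) ≠ 1 := fun h2 => h.not_S_le (relIndex_eq_one.1 h2)
  omega

theorem V_cases : zl (S : Subgroup G) P ⊓ cl R P2 = R ∨ V3 ≤ cl R P2 := by
  have hn : (S : Subgroup G) ≤ normalizer ((zl (S : Subgroup G) P ⊓ cl R P2 : Subgroup G) : Set G) :=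
    NotFF.normalizer_inf h.mod.S_V (h.S_le.trans h.X_norm)
  have hR : R ≤ zl (S : Subgroup G) P ⊓ cl R P2 := le_inf h.R_le_V h.R_le_X
  rcases h.mod.uni _ inf_le_left hn with h1 | h1 | h1 | h1 | h1
  · exfalso
    rw [h1, le_bot_iff] at hR
    have := h.mod.cardR
    rw [hR, Subgroup.card_bot] at this
    omega
  · exfalso
    rw [h1] at hR
    have h2 := Subgroup.card_le_of_le hR
    have h3 : Nat.card (zpowers z) ≤ 2 := by
      rw [Nat.card_zpowers]
      exact Nat.le_of_dvd (by decide) (orderOf_dvd_of_pow_eq_one (by rw [pow_two]; exact h.z_sq))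
    rw [h.mod.cardR] at h2
    omega
  · exact Or.inl h1
  · exact Or.inr (h1.ge.trans inf_le_right)
  · exact Or.inr ((h.mod.V3_le.trans h1.ge).trans inf_le_right)

/-- the normal closure of `S` in `P₂` moves `R` -/
theorem moves : ∃ g ∈ P2, ∃ s ∈ (S : Subgroup G), g * s * g⁻¹ ∉ normalizer (R : Set G) := by
  by_contra hcon
  push Not at hcon
  have h1 : cl (S : Subgroup G) P2 ≤ normalizer (R : Set G) := by
    refine cl_le fun p hp => ?_
    rintro _ ⟨s, hs, rfl⟩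
    exact hcon p hp s hs
  have h2 : cl (S : Subgroup G) P2 ≤ P2 := cl_le fun p hp => by
    have h3 := cj_mono p h.S_le
    rwa [cj_self hp] at h3
  rcases h.min_or h2 (le_normalizer_cl _ _) with h3 | h3
  · exact h.E_R (h3.trans h1)
  · exact h.not_S_le ((le_inf le_rfl (le_cl _ _)).trans h3)

theorem sit (hidx : (o2 P2).relIndex (S : Subgroup G) = 2) :
    Dih.Sit (S : Subgroup G) P2 (o2 P2) (cl (zl (S : Subgroup G) P) P2) (zl (S : Subgroup G) P) R V3 z where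
  mod := h.mod
  syl := h.syl
  Q_le := h.Q_le
  norm := le_normalizer_o2 P2
  idx := hidx
  cz := fun _ hg => h.z_comm hg
  U_le := h.U_le_S
  U_comm := h.U_comm
  conj_le := fun _ hg => cj_le_cl hg
  moves := h.moves

/-- **#15515 (4).** -/
theorem dih (hidx : (o2 P2).relIndex (S : Subgroup G) = 2) : jj (o2 P) ≤ o2 P2 := by
  rw [jj_eq]
  refine sSup_le fun A hA => ?_
  by_contra hcon
  obtain ⟨hAS, hAL⟩ := h.AA_L_iff.1 hA
  exact (h.sit hidx).false hAS (fun a ha => (h.mem_L_iff (hAS.2.1 ha)).1 (hAL ha)) hcon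

/-- `|S : Q| = 2` -/
theorem idx (hAS : FFBr.AStmt.{u}) : (o2 P2).relIndex (S : Subgroup G) = 2 := by
  rcases h.V_cases with h1 | h1
  · exact h.idx_one hAS h1
  · exact h.two h1 hAS

/-- `J(O₂(P)) ≤ O₂(P₂)` -/
theorem jj_L_le (hAS : FFBr.AStmt.{u}) : jj (o2 P) ≤ o2 P2 := h.dih (h.idx hAS)

end Cfg4

end Cfsg.Agent.Omega.NO3S.Fld
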