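import Cfsg.Agent.Omega.NO3S.Fld.CfgOf
import Cfsg.Agent.Omega.NO3S.Fld.RedFourOne
import Cfsg.Agent.Omega.NO3S.Fld.FourThree
import Cfsg.Agent.Omega.NO3b.K0.FFLem

/-!
# Fld, `q = 4`: the end of the reduction

* `ff_of` : the FF-LEMMA for `P₂ ∈ P(S)`, `P₂ ≤ C_G(Z)`, `J(S) ≰ O₂(P₂)`;
* `red4_or` : `C_G(Z) ≤ N_G(R)`, or `Cfg4` with some `P₂ ≤ N_G(V)`.
-/

set_option autoImplicit false
set_option linter.unusedSectionVars false

namespace Cfsg.Agent.Omega.NO3S.Fld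

open Subgroup Cfsg Cfsg.Agent.ZN Cfsg.Agent.ZN.ChoiceBase Cfsg.Agent.Omega.MinPar Cfsg.Agent.Omega.FrameNOFF
open Cfsg.Agent.ZN.ChoiceSit (Syl o2_le_syl)
open Cfsg.Agent.MinSimple.VModule (oddGen oddGen_le)

universe u

variable {G : Type u} [Group G] [Finite G] {S : Sylow 2 G} {P P2 : Subgroup G}

/-- The FF-LEMMA for a minimal parabolic in `C_G(Z)`. -/
theorem ff_of (hAS : FFBr.AStmt.{u}) (par : IsPar (S : Subgroup G) P2) (le : P2 ≤ CZ (S : Subgroup G))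
    (hJ : ¬ jj (S : Subgroup G) ≤ o2 P2) : zc (o2 P2) ≤ centralizer (oddGen P2 : Set G) := by
  have hsyl : Syl (S : Subgroup G) P2 := ⟨par.le, S.isPGroup', fun _ _ hT hST => S.is_maximal' hT hST⟩
  have hQS : o2 P2 ≤ (S : Subgroup G) := o2_le_syl hsyl
  refine NO3b.K0.ff_lemma hAS hsyl par.toIsMinPar hJ ((MinSimple.VModule.zc_le _).trans (hQS.trans par.le)) (fun y hy => (ChoiceBase.mem_zc.1 hy).2.1)
    ?_ ?_ ?_ ?_
  · intro x hx
    rw [mem_centralizer_iff]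
    intro y hy
    exact (ChoiceBase.mem_zc.1 hx).2.2 y (ChoiceBase.mem_zc.1 hy).1
  · intro g hg
    have hgQ := MinSimple.VModule.le_normalizer_o2 P2 hg
    apply mem_normalizer_of_cj_le
    intro x hx
    rw [mem_cj] at hx
    have h1 := ChoiceBase.mem_zc.1 hx
    have hcj : ∀ y, y ∈ o2 P2 ↔ g⁻¹ * y * g ∈ o2 P2 := by
      intro y
      have := mem_normalizer_iff.1 (inv_mem hgQ) y
      rwa [inv_inv] at this
    refine ChoiceBase.mem_zc.2 ⟨(hcj x).2 h1.1, ?_, fun y hy => ?_⟩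
    · have e : x ^ 2 = g * (g⁻¹ * x * g) ^ 2 * g⁻¹ := by rw [pow_two, pow_two]; group
      rw [e, h1.2.1]; group
    · have h2 := h1.2.2 _ ((hcj y).1 hy)
      have e1 : y * x = g * (g⁻¹ * y * g * (g⁻¹ * x * g)) * g⁻¹ := by group
      have e2 : x * y = g * (g⁻¹ * x * g * (g⁻¹ * y * g)) * g⁻¹ := by group
      rw [e1, e2, h2]
  · intro q hq
    rw [mem_centralizer_iff]
    intro y hy
    exact ((ChoiceBase.mem_zc.1 hy).2.2 q hq).symm
  · rintro x ⟨hx, hxS⟩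
    have h1 := ChoiceBase.mem_zc.1 hx
    have hxZ : x ∈ zc (S : Subgroup G) := ChoiceBase.mem_zc.2 ⟨hQS h1.1, h1.2.1, fun s hs => mem_centralizer_iff.1 hxS s hs⟩
    rw [mem_centralizer_iff]
    intro g hg
    exact (mem_centralizer_iff.1 (le (oddGen_le P2 hg)) x hxZ).symm

/-- `J(S) ≤ O₂(P₂)` implies that `P₂` normalises `Ω₁(Z(J(S)))`. -/
theorem norm_zj_of (par : IsPar (S : Subgroup G) P2) (hJ : jj (S : Subgroup G) ≤ o2 P2) :
    P2 ≤ normalizer (zj (S : Subgroup G) : Set G) := by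
  have hsyl : Syl (S : Subgroup G) P2 := ⟨par.le, S.isPGroup', fun _ _ hT hST => S.is_maximal' hT hST⟩
  have h1 : jj (o2 P2) = jj (S : Subgroup G) := jj_eq_of_jj_le hJ (o2_le_syl hsyl)
  intro p hp
  rw [mem_normalizer_iff_cj, ← zj_congr h1, ← zj_cj,
    NO3b.K0.cj_of_le (MinSimple.VModule.le_normalizer_o2 P2) hp]

/-- **`q = 4`**: `C_G(Z) ≤ N_G(R)`, or some `P₂ ∈ P(S)` in `C_G(Z) ∩ N_G(V)` moves `R`. -/
theorem red4_or {F : Type*} [Field F] [Finite F] [CharP F 2] (hAS : FFBr.AStmt.{u}) (h : HypJ S P)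
    (M : Crd F (S : Subgroup G) P (zl (S : Subgroup G) P)) (hF : Nat.card F = 4)
    (hZ : Nat.card (zc (S : Subgroup G)) ≠ 4) :
    CZ (S : Subgroup G) ≤ normalizer (M.R : Set G) ∨
      ∃ (P2 V3 : Subgroup G) (z : G), Cfg4 S P P2 M.R V3 z ∧ P2 ≤ normalizer (zl (S : Subgroup G) P : Set G) := by
  by_cases hall : ∀ P2 : Subgroup G, IsPar (S : Subgroup G) P2 → P2 ≤ CZ (S : Subgroup G) →
      P2 ≤ normalizer (M.R : Set G)
  · left
    have hloc : IsLoc (S : Subgroup G) (CZ (S : Subgroup G)) :=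
      isLoc_of_le_normalizer S (le_CZ S) (S.isPGroup'.to_le (MinSimple.VModule.zc_le _)) h.toHyp.zc_ne
        (centralizer_le_normalizer _)
    exact hloc.le_of_forall S (inf_le_right.trans (normalizer_S_le_R M h)) hall
  · right
    push Not at hall
    obtain ⟨P2, par, le, mv⟩ := hall
    have hzj : zj (S : Subgroup G) = M.R := (HypJ.facts M h).2.2
    have hJ : ¬ jj (S : Subgroup G) ≤ o2 P2 := fun h0 => mv (hzj ▸ norm_zj_of par h0)
    obtain ⟨V3, z, hc⟩ := exists_cfg4 h M hF hZ par le mv (ff_of hAS par le hJ)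
    exact ⟨P2, V3, z, hc, hc.norm_V (hc.idx hAS) (hc.jj_L_le hAS)⟩

end Cfsg.Agent.Omega.NO3S.Fld
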