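import Cfsg.Agent.Omega.NO3S.Fld.TI
import Cfsg.Agent.Omega.NO3S.Fld.NS
import Cfsg.Agent.Omega.NO3S.Fld.GeoR
import Cfsg.Agent.Omega.NO3S.Fld.UniqB
import Cfsg.Agent.Omega.NO3S.Fld.RedFourEnd
import Cfsg.Agent.Omega.FF.GlobEnd

/-!
# Fld: the frame `(R, B)` in the case `HypJ`

* `pb` : `PB S M.B P V M.R` from `HypJ S P`, `NatP` and `C_G(Z) ≤ N_G(R)`;
* `four_or_CZ` : `C_G(Z) ≤ N_G(R)` unless `|F| = 4` and `|Z| ≠ 4`;
* `exists_pb_or` : the frame, or the configuration `Cfg4` (`|F| = 4`).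
-/

set_option autoImplicit false
set_option linter.unusedSectionVars false
set_option linter.unusedVariables false

namespace Cfsg.Agent.Omega.NO3S.Fld

open Subgroup Cfsg Cfsg.Agent.ZN Cfsg.Agent.ZN.ChoiceBase Cfsg.Agent.Omega.MinPar
open Cfsg.Agent.Omega.Frame Cfsg.Agent.Omega.FrameNOFF
open Cfsg.Agent.Omega.NO3S.PT (PB OmB)
open Cfsg.Agent.MinSimple.VModule (zc_le_zl)

universe u

variable {G : Type u} [Group G] [Finite G] {S : Sylow 2 G} {P : Subgroup G}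
variable {F : Type*} [Field F] [Finite F] [CharP F 2]

/-- **The frame `(R, B)`** -/
theorem pb (h : HypJ S P) (M : Crd F (S : Subgroup G) P (zl (S : Subgroup G) P))
    (hCZ : CZ (S : Subgroup G) ≤ normalizer (M.R : Set G)) :
    PB S M.B P (zl (S : Subgroup G) P) M.R := by
  have hti := ti h M (fun R' hR' => (uniqB FF.Glob.ffthm h M hR').imp id fun e => ⟨e.1, e.2.2⟩) hCZ
  refine pb_of h M hti (norm_B_le_V h M) ?_
  exact PT.wcomm_of M.S_R hti (normalizer_S_le_R M h)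
    (by
      intro z hz hz1
      obtain ⟨k, hk, hkR, h1⟩ := M.tor hz hz1
      exact ⟨k, hk, hkR, h1⟩)
    (by
      intro hb
      have h1 := M.card_R
      rw [hb, card_bot] at h1
      exact absurd h1 Finite.one_lt_card.ne)
    (MinSimple.VModule.le_normalizer_zl _ _)
    (by
      intro v hv hv1
      obtain ⟨p, hp, h1⟩ := M.part hv hv1
      exact ⟨p, hp, h1⟩) (geoR h.toHypN.toHyp M) (V_R_eq h.toHypN.toHyp M)

/-- `|F| = 4` or `|F| ≥ 16` if `Ω₁(Z(S)) < R` -/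
theorem card_four_or (h : HypJ S P) (M : Crd F (S : Subgroup G) P (zl (S : Subgroup G) P))
    (hZ : Nat.card (zc (S : Subgroup G)) ≠ Nat.card F) : Nat.card F = 4 ∨ 16 ≤ Nat.card F := by
  have hn := M.not_le_centR h.toHypN.toHyp.V_le_S (zc_le_zl _ _) hZ
  obtain ⟨φ, h1, h2⟩ := M.exists_involution S.isPGroup' hn
  have h3 : orderOf φ = 2 := by
    rw [orderOf_eq_prime_iff]
    refine ⟨?_, h1⟩
    ext x
    rw [pow_two]
    exact h2 x
  have h4 := Red.card_eq_pow φ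
  rw [h3] at h4
  have := Fintype.ofFinite F
  obtain ⟨n, -, hn⟩ := FiniteField.card F 2
  rw [← Nat.card_eq_fintype_card] at hn
  have h5 : (2 : ℕ) ∣ Nat.card (Red.K φ 1) := by
    have h6 : (2 : ℕ) ∣ Nat.card (Red.K φ 1) ^ 2 := by
      rw [← h4, hn]
      exact dvd_pow_self 2 n.ne_zero
    exact Nat.prime_two.dvd_of_dvd_pow h6
  obtain ⟨k, hk⟩ := h5
  have hk0 : 0 < k := by
    rcases Nat.eq_zero_or_pos k with h6 | h6
    · have : 2 ≤ Nat.card (Red.K φ 1) := Red.two_le_card_K_one φ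
      omega
    · exact h6
  rcases Nat.lt_or_ge k 2 with h6 | h6
  · left
    have : k = 1 := by omega
    rw [h4, hk, this]
    norm_num
  · right
    rw [h4, hk]
    nlinarith

theorem CZ_le_of_eq (h : HypJ S P) (M : Crd F (S : Subgroup G) P (zl (S : Subgroup G) P))
    (hZ : Nat.card (zc (S : Subgroup G)) = Nat.card F) : CZ (S : Subgroup G) ≤ normalizer (M.R : Set G) := by
  have h1 := M.le_centR h.toHypN.toHyp.V_le_S (zc_le_zl _ _) hZ
  have h2 := M.zc_eq h.toHypN.toHyp.V_le_S (zc_le_zl _ _)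
  have h3 : zc (S : Subgroup G) = M.R := by
    rw [h2, inf_eq_left]
    rwa [le_centralizer_iff]
  rw [← h3]
  exact centralizer_le_normalizer _

/-- **THEOREM RED**: `C_G(Z) ≤ N_G(R)` unless `|F| = 4` and `|Z| ≠ 4` -/
theorem four_or_CZ (h : HypJ S P) (M : Crd F (S : Subgroup G) P (zl (S : Subgroup G) P)) :
    CZ (S : Subgroup G) ≤ normalizer (M.R : Set G) ∨ (Nat.card F = 4 ∧ Nat.card (zc (S : Subgroup G)) ≠ 4) := by
  by_cases hZ : Nat.card (zc (S : Subgroup G)) = Nat.card F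
  · exact Or.inl (CZ_le_of_eq h M hZ)
  · rcases card_four_or h M hZ with h4 | h16
    · exact Or.inr ⟨h4, by rwa [h4] at hZ⟩
    · exact Or.inl (red M h h16)

/-- **The frame `(R, B)`, or the configuration `Cfg4` with `|F| = 4`.** -/
theorem exists_pb_or (h : HypJ S P) (M : Crd F (S : Subgroup G) P (zl (S : Subgroup G) P)) :
    (PB S M.B P (zl (S : Subgroup G) P) M.R ∧ OmB M.B (zl (S : Subgroup G) P)) ∨
      ∃ (P2 V3 : Subgroup G) (z : G), Nat.card F = 4 ∧ Nat.card (zc (S : Subgroup G)) ≠ 4 ∧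
        Cfg4 S P P2 M.R V3 z ∧ P2 ≤ normalizer (zl (S : Subgroup G) P : Set G) := by
  rcases four_or_CZ h M with h1 | ⟨h4, hZ⟩
  · exact Or.inl ⟨pb h M h1, omB_of h M⟩
  · rcases red4_or FF.Glob.aStmt h M h4 hZ with h1 | ⟨P2, V3, z, h1, h2⟩
    · exact Or.inl ⟨pb h M h1, omB_of h M⟩
    · exact Or.inr ⟨P2, V3, z, h4, hZ, h1, h2⟩

end Cfsg.Agent.Omega.NO3S.Fld
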