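import Cfsg.Agent.Omega.NO3S.Fld.FourOrb
import Cfsg.Agent.Omega.NO3S.Fld.FourThree

/-!
# Fld, `q = 4` (helper240, #15515), section (3): `P₂ ≤ N_G(V)` gives a `P₁` with `|V_{P₁}| = 4`

* `Cfg4.exists_four` : `P₂ ≤ N_G(V)` ⟹ some `P₁ ∈ P*(S)`, `P₁ ≤ P`, with `⟨P₁, C_G(Z)⟩` nonlocal and `|V_{P₁}| = 4`;
* `Cfg4.main_of` : the same from `|S : O₂(P₂)| = 2` and `J(O₂(P)) ≤ O₂(P₂)`.
-/

set_option autoImplicit false
set_option linter.unusedSectionVars false

namespace Cfsg.Agent.Omega.NO3S.Fld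

open Subgroup Cfsg Cfsg.Agent.ZN Cfsg.Agent.ZN.ChoiceBase Cfsg.Agent.Omega.MinPar Cfsg.Agent.Omega.FrameNOFF
open Cfsg.Agent.Omega.NatPair (ap ap_zero' ap_one' ext2)
open Cfsg.Agent.Omega.NO3b.K0 (conj_mem' cj_of_le)
open Cfsg.Agent.Omega.NO3S.NotFF (le_normalizer_of_forall)
open Cfsg.Agent.MinSimple.VModule (zc_le_zl le_normalizer_zl normalizer_le_normalizer_zc)
open Cfsg.Agent.Lib.SL2Mat
open Cfsg.Agent.Omega.NO3S.Fld.DEight (of_sig_eq exists_ne)

universe u

namespace Cfg4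

variable {G : Type u} [Group G] [Finite G] {S : Sylow 2 G} {P P2 R V3 : Subgroup G} {z : G}
  (h : Cfg4 S P P2 R V3 z) {F : Type*} [Field F] [CharP F 2] (M : Crd F (S : Subgroup G) P (zl (S : Subgroup G) P))
  (hF : Nat.card F = 4) (hMR : M.R = R)
include h hF hMR

theorem exists_fld : ∃ s ∈ (S : Subgroup G), ∃ σ c, M.Act s σ c ∧ σ ≠ RingEquiv.refl F := by
  obtain ⟨s, hs, hsR⟩ := SetLike.not_le_iff_exists.1 h.mod.fld
  obtain ⟨σ, c, h1⟩ := M.exists_act hs
  refine ⟨s, hs, σ, c, h1, fun h0 => hsR ?_⟩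
  rw [← hMR]
  exact h1.mem_centR.2 h0

theorem zz_eq : FourEnd.zz M = z := by
  have hz := h.z_mem_R
  rw [← hMR] at hz
  obtain ⟨a, ha⟩ := hz
  obtain ⟨s, hs, σ, c, h1, hσ⟩ := h.exists_fld M hF hMR
  have h2 := h1 ![a, 0]
  rw [ha] at h2
  have h3 := h.z_comm (h.S_le hs)
  rw [h3, mul_inv_cancel_right, ← ha] at h2
  have h4 := congrFun (M.e_inj h2) 0
  simp only [Matrix.cons_val_zero] at h4
  have h5 : a = σ a := by simpa using h4
  rcases of_sig_eq hF hσ h5.symm with h6 | h6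
  · exfalso
    apply h.mod.z_ne
    rw [← ha, h6, ← M.e_zero]
    congr 1
    apply ext2 <;> simp
  · rw [← ha, h6]
    rfl

/-- **`P₂ ≤ N_G(V)` gives a `P₁` with `|V_{P₁}| = 4`** -/
theorem exists_four (hV : P2 ≤ normalizer (zl (S : Subgroup G) P : Set G)) :
    ∃ P1 : Subgroup G, IsParS (S : Subgroup G) P1 ∧ P1 ≤ P ∧ NonLoc P1 (CZ (S : Subgroup G)) ∧
      Nat.card (zl (S : Subgroup G) P1) = 4 := by
  have hz := h.zz_eq M hF hMR
  have hfld := h.exists_fld M hF hMR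
  have hPV : P ≤ normalizer (zl (S : Subgroup G) P : Set G) := le_normalizer_zl _ _
  have hP2H : P2 ≤ FourEnd.HH M := by
    intro p hp
    rw [FourEnd.mem_HH]
    refine ⟨hV hp, ?_⟩
    rw [hz]
    exact h.z_comm hp
  have hR : ¬ FourEnd.HH M ≤ normalizer (M.R : Set G) := by
    intro h0
    apply h.mv
    rw [← hMR]
    exact hP2H.trans h0
  have h3 := FourEnd.not_V3 M hPV hF hR
  have hfus : ∀ x y : Fin 2 → F, M.e x ∉ zpowers z → M.e y ∉ zpowers z → FourEnd.Fus M (M.e x) (M.e y) := by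
    intro x y hx hy
    rw [← hz] at hx hy
    exact FourEnd.fus M hF hfld hR h3 hx hy
  -- the torus
  obtain ⟨w, hw0, hw1⟩ := exists_ne hF
  obtain ⟨k, hkP, hk⟩ := M.lift (dg w hw0)
  have hk' : ∀ x : Fin 2 → F, k * M.e x * k⁻¹ = M.e ![w * x 0, w⁻¹ * x 1] := by
    intro x
    rw [hk]
    congr 1
    apply ext2
    · rw [ap_zero', dg, mk_00, mk_01]; simp
    · rw [ap_one', dg, mk_10, mk_11]; simp
  have hkR : k ∈ normalizer (R : Set G) := by
    rw [← hMR, mem_normalizer_iff_cj]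
    refine Subgroup.eq_of_le_of_card_ge ?_ ?_
    · rintro _ ⟨r, ⟨a, rfl⟩, rfl⟩
      show k * M.e ![a, 0] * k⁻¹ ∈ M.R
      rw [hk', M.e_mem_R]
      simp
    · rw [card_cj]
  have hL : IsLoc (S : Subgroup G) (P ⊓ normalizer (R : Set G)) :=
    h.hyp.star.isLoc.of_le S (le_inf h.S_le_P h.mod.S_R) inf_le_left
  have hLn : ¬ P ⊓ normalizer (R : Set G) ≤ normalizer (zc (S : Subgroup G) : Set G) := by
    intro h0
    have hkk : k ∈ P ⊓ normalizer (R : Set G) := ⟨hkP, hkR⟩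
    have hzz : z ∈ zc (S : Subgroup G) := by rw [h.zS]; exact mem_zpowers z
    have h1 := conj_mem' h0 hkk hzz
    rw [h.zS, ← hz, FourEnd.zz, hk'] at h1
    have h2 := (FourEnd.e_mem_zpowers M).1 h1
    simp only [Matrix.cons_val_zero, mul_one] at h2
    rcases h2.2 with h3 | h3
    · exact hw0 h3
    · exact hw1 h3
  obtain ⟨P1, hP1, hP1L, hP1n⟩ := IsLoc.exists_not_le S hL (inf_le_right.trans (normalizer_le_normalizer_zc _)) hLn
  have hP1S : IsParS (S : Subgroup G) P1 := ⟨hP1, hP1n⟩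
  have hP1P : P1 ≤ P := hP1L.trans inf_le_left
  have hP1R : P1 ≤ normalizer (R : Set G) := hP1L.trans inf_le_right
  refine ⟨P1, hP1S, hP1P, ?_, ?_⟩
  · intro U hU hU1 hU2
    refine h.hyp.nonLoc U hU (hPV.trans ?_) hU2
    obtain ⟨p, hp, hpz⟩ : ∃ p ∈ P1, p * z * p⁻¹ ∉ zpowers z := by
      by_contra hcon
      push Not at hcon
      apply hP1n
      rw [h.zS]
      refine le_normalizer_of_forall fun g hg v hv => ?_
      rcases h.mem_zpowers_iff'.1 hv with rfl | rfl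
      · rw [mul_one, mul_inv_cancel]
        exact one_mem _
      · exact hcon g hg
    have hHU : FourEnd.HH M ≤ normalizer (U : Set G) := by
      intro g hg
      apply hU2
      rw [mem_centralizer_iff]
      intro v hv
      rw [h.zS] at hv
      have hc : g * z = z * g := by
        have := ((FourEnd.mem_HH M).1 hg).2
        rwa [hz] at this
      rcases h.mem_zpowers_iff'.1 hv with rfl | rfl
      · rw [one_mul, mul_one]
      · exact hc.symm
    intro g hg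
    obtain ⟨y, hy⟩ := FourEnd.exists_y M hg ![1, 0]
    have hzg : g * z * g⁻¹ = M.e y := by rw [← hz]; exact hy
    by_cases hyz : M.e y ∈ zpowers z
    · apply hHU
      rw [FourEnd.mem_HH, hz]
      refine ⟨hg, ?_⟩
      rcases h.mem_zpowers_iff'.1 hyz with h4 | h4
      · rw [h4, conj_eq_one_iff] at hzg
        exact absurd hzg h.mod.z_ne
      · rw [h4, mul_inv_eq_iff_eq_mul] at hzg
        exact hzg
    · obtain ⟨x, hx⟩ := FourEnd.exists_y M (hPV (hP1P hp)) ![1, 0]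
      have hzp : p * z * p⁻¹ = M.e x := by rw [← hz]; exact hx
      rw [hzp] at hpz
      obtain ⟨c, hc, hcx⟩ := hfus x y hpz hyz
      have h5 : g⁻¹ * c * p ∈ FourEnd.HH M := by
        rw [FourEnd.mem_HH, hz]
        refine ⟨mul_mem (mul_mem (inv_mem hg) ((FourEnd.mem_HH M).1 hc).1) (hPV (hP1P hp)), ?_⟩
        rw [← mul_inv_eq_iff_eq_mul]
        have e1 : g⁻¹ * c * p * z * (g⁻¹ * c * p)⁻¹ = g⁻¹ * (c * (p * z * p⁻¹) * c⁻¹) * g := by group
        rw [e1, hzp, hcx, ← hzg]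
        group
      have e2 : g = c * p * (g⁻¹ * c * p)⁻¹ := by group
      rw [e2]
      exact mul_mem (mul_mem (hHU hc) (hU1 hp)) (inv_mem (hHU h5))
  · have h4 : zl (S : Subgroup G) P1 ≤ R := by
      refine iSup_le fun g => ?_
      have h5 : (zc (S : Subgroup G)).map (MulAut.conj (g : G)).toMonoidHom = cj (g : G) (zc (S : Subgroup G)) := rfl
      rw [h5, h.zS]
      have h6 := cj_mono (g : G) h.zpowers_le_R
      rwa [cj_of_le hP1R g.2] at h6
    have h5 : zpowers z ≤ zl (S : Subgroup G) P1 := by rw [← h.zS]; exact zc_le_zl _ _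
    have h6 : Nat.card (zpowers z) = 2 := by
      rw [Nat.card_zpowers]
      exact orderOf_eq_prime (by rw [pow_two]; exact h.z_sq) h.mod.z_ne
    have h7 : 2 < Nat.card (zl (S : Subgroup G) P1) := by
      by_contra hcon
      push Not at hcon
      have h8 : zpowers z = zl (S : Subgroup G) P1 := Subgroup.eq_of_le_of_card_ge h5 (by rw [h6]; exact hcon)
      apply hP1n
      rw [h.zS, h8]
      exact le_normalizer_zl _ _
    have h8 : Nat.card (zl (S : Subgroup G) P1) ∣ 4 := by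
      rw [← h.mod.cardR]
      exact card_dvd_of_le h4
    have h9 : Nat.card (zl (S : Subgroup G) P1) ≤ 4 := Nat.le_of_dvd (by norm_num) h8
    interval_cases hc : Nat.card (zl (S : Subgroup G) P1)
    · exact absurd h8 (by decide)
    · rfl

/-- **(3)**: `|S : O₂(P₂)| = 2` and `J(O₂(P)) ≤ O₂(P₂)` give a `P₁` with `|V_{P₁}| = 4` -/
theorem main_of (h2 : (o2 P2).relIndex (S : Subgroup G) = 2) (hJ : jj (o2 P) ≤ o2 P2) :
    ∃ P1 : Subgroup G, IsParS (S : Subgroup G) P1 ∧ P1 ≤ P ∧ NonLoc P1 (CZ (S : Subgroup G)) ∧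
      Nat.card (zl (S : Subgroup G) P1) = 4 := h.exists_four M hF hMR (h.norm_V h2 hJ)

end Cfg4

end Cfsg.Agent.Omega.NO3S.Fld
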