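import Cfsg.Agent.Omega.NO3S.Fld.RedFourEnd
import Cfsg.Agent.Omega.NO3S.Fld.FourEnd

/-!
# Fld, THEOREM RED (#15355, #15515), `|F| = 4`

* `red4` : `HypJ S P`, `V_P` natural for `SL₂(4)`, `|Ω₁(Z(S))| ≠ 4` ⟹ `C_G(Z) ≤ N_G(R)` or some `P₁ ∈ P*(S)`, `P₁ ≤ P`,
  has `⟨P₁, C_G(Z)⟩` nonlocal and `|V_{P₁}| = 4`.
-/

set_option autoImplicit false

namespace Cfsg.Agent.Omega.NO3S.Fld

open Subgroup Cfsg Cfsg.Agent.ZN Cfsg.Agent.Omega.MinPar Cfsg.Agent.Omega.FrameNOFF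

universe u

variable {G : Type u} [Group G] [Finite G] {S : Sylow 2 G} {P : Subgroup G}

/-- **THEOREM RED, `q = 4`.** -/
theorem red4 {F : Type*} [Field F] [Finite F] [CharP F 2] (hAS : FFBr.AStmt.{u}) (h : HypJ S P)
    (M : Crd F (S : Subgroup G) P (zl (S : Subgroup G) P)) (hF : Nat.card F = 4)
    (hZ : Nat.card (zc (S : Subgroup G)) ≠ 4) :
    CZ (S : Subgroup G) ≤ normalizer (M.R : Set G) ∨
      ∃ P1 : Subgroup G, IsParS (S : Subgroup G) P1 ∧ P1 ≤ P ∧ NonLoc P1 (CZ (S : Subgroup G)) ∧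
        Nat.card (zl (S : Subgroup G) P1) = 4 := by
  rcases red4_or hAS h M hF hZ with h1 | ⟨P2, V3, z, h2, h3⟩
  · exact Or.inl h1
  · exact Or.inr (h2.exists_four M hF rfl h3)

end Cfsg.Agent.Omega.NO3S.Fld
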