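import Cfsg.Agent.Omega.NO3S.Fld.LevRed
import Cfsg.Agent.Omega.NO3S.Fld.LevPB
import Cfsg.Agent.Omega.NO3S.Fld.LevNS
import Cfsg.Agent.Omega.NO3S.Fld.UniqLev
import Cfsg.Agent.Omega.NO3S.Fld.PBOf
import Cfsg.Agent.Omega.NO3S.Fld.RedFour
import Cfsg.Agent.Omega.Node.NO3SLevel

/-!
# The socket `RedL`: the frame `(R, B)` for a natural line at any level

* `frame_lev` : the frame at the level `K` from `C_G(Z) ≤ N_G(R)`;
* `card_four_or'`, `CZ_le_of_eq'` : `|F| = 4` or `|F| ≥ 16` if `|Z| < |F|`; `C_G(Z) ≤ N_G(R)` if `|Z| = |F|`;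
* `RedFourL` : `q = 4`, `|Z| = 2` at the level `n`, the only open input;
* `redL` : `RedL K` from `RedFourL`.
-/

set_option autoImplicit false
set_option linter.unusedSectionVars false

namespace Cfsg.Agent.Omega.NO3S.Fld

open Subgroup Cfsg Cfsg.Agent.ZN Cfsg.Agent.ZN.ChoiceBase Cfsg.Agent.Omega.MinPar
open Cfsg.Agent.Omega.Frame Cfsg.Agent.Omega.FrameNOFF
open Cfsg.Agent.Omega.NO3S.PT (PB OmB)
open Cfsg.Agent.MinSimple.VModule (zc_le zc_le_zl)
open Cfsg.Agent.Omega.NO3S.OneLine (zc_elem o2_le bo bo_eq)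
open Cfsg.Agent.Omega.NO3S.Level

universe u

section frame

variable {G : Type u} [Group G] [Finite G] {S : Sylow 2 G} {P K : Subgroup G}
variable {F : Type*} [Field F] [Finite F] [CharP F 2]

/-- LEMMA UNIQ over `B` at the level `K`. -/
theorem uniq_lev (h : HypN S P) (M : Crd F (S : Subgroup G) P (zl (S : Subgroup G) P)) (hL : LevF M K)
    (hpar : ∀ R : Subgroup G, IsParS (S : Subgroup G) R → K ≤ o2 R) {P' : Subgroup G}
    (hP' : IsParS (S : Subgroup G) P') :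
    P' ≤ normalizer (M.R : Set G) ∨
      (zl (S : Subgroup G) P' = zl (S : Subgroup G) P ∧ zc (S : Subgroup G) ⊓ centralizer (P' : Set G) = ⊥) := by
  have hG := h.ctx.char2
  have hb : ∀ R : Subgroup G, IsParS (S : Subgroup G) R → R ≤ normalizer (zc K : Set G) ∧ zc (o2 R) ≤ zc K :=
    fun R hR => ⟨(hL.lev.le_norm_of_o2 (hpar R hR) (o2_le S hR.toIsPar)).trans (normalizer_le_zc K),
      hL.lev.zc_o2_le (hpar R hR) (o2_le S hR.toIsPar)⟩
  have h1 := uniqB_bo FF.Glob.ffthmM hG h.noFF (zc_elem K) h.star M (hb P h.star).1 (hb P h.star).2 hL.zo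
    (fun A hA => (hL.AB A (by rw [bo_eq]; exact hA)).trans inf_le_right)
    (by rw [← bo_eq]; exact hL.cent.le) (by rw [← bo_eq]; exact hL.ex) hP' (hb P' hP').1 (hb P' hP').2
  rcases h1 with h1 | h1
  · exact Or.inl h1.2
  · exact Or.inr ⟨h1.1, h1.2.2⟩

/-- **The frame at the level `K`.** -/
theorem frame_lev (h : HypN S P) (M : Crd F (S : Subgroup G) P (zl (S : Subgroup G) P)) (hL : LevF M K)
    (hpar : ∀ R : Subgroup G, IsParS (S : Subgroup G) R → K ≤ o2 R)
    (hno : FFThm.NoOverM (zl (S : Subgroup G) P) P) (hCZ : CZ (S : Subgroup G) ≤ normalizer (M.R : Set G)) :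
    PB S M.B P (zl (S : Subgroup G) P) M.R ∧ OmB M.B (zl (S : Subgroup G) P) ∧
      ∀ Q : Subgroup G, IsParS (S : Subgroup G) Q →
        Q ≤ normalizer (M.R : Set G) ∨ zl (S : Subgroup G) Q = zl (S : Subgroup G) P := by
  obtain ⟨A, hA, hAQ⟩ := hL.ex
  refine ⟨?_, omB_of' h.toHyp M hL.zo, fun Q hQ => (uniq_lev h M hL hpar hQ).imp id fun e => e.1⟩
  exact pb' h.toHyp M hL.NS (norm_B_le_V_lev h.toHyp M hL.lev hL.le hA hAQ hno)
    (fun Q hQ => (uniq_lev h M hL hpar hQ).imp id fun e => e.2) hCZ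

/-- `|F| = 4` or `|F| ≥ 16` if `Ω₁(Z(S)) < R` -/
theorem card_four_or' (h : Hyp S P) (M : Crd F (S : Subgroup G) P (zl (S : Subgroup G) P))
    (hZ : Nat.card (zc (S : Subgroup G)) ≠ Nat.card F) : Nat.card F = 4 ∨ 16 ≤ Nat.card F := by
  have hn := M.not_le_centR h.V_le_S (zc_le_zl _ _) hZ
  obtain ⟨φ, h1, h2⟩ := M.exists_involution S.isPGroup' hn
  have h3 : orderOf φ = 2 := by
    rw [orderOf_eq_prime_iff]
    refine ⟨?_, h1⟩
    ext x
    rw [pow_two]
    exact h2 x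
  have h4 := Red.card_eq_pow φ
  rw [h3] at h4
  have := Fintype.ofFinite F
  obtain ⟨n, -, hn⟩ := FiniteField.card F 2
  rw [← Nat.card_eq_fintype_card] at hn
  have h5 : (2 : ℕ) ∣ Nat.card (Red.K φ 1) := by
    have h6 : (2 : ℕ) ∣ Nat.card (Red.K φ 1) ^ 2 := by
      rw [← h4, hn]
      exact dvd_pow_self 2 n.ne_zero
    exact Nat.prime_two.dvd_of_dvd_pow h6
  obtain ⟨k, hk⟩ := h5
  have hk0 : 0 < k := by
    rcases Nat.eq_zero_or_pos k with h6 | h6
    · have : 2 ≤ Nat.card (Red.K φ 1) := Red.two_le_card_K_one φ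
      omega
    · exact h6
  rcases Nat.lt_or_ge k 2 with h6 | h6
  · left
    have : k = 1 := by omega
    rw [h4, hk, this]
    norm_num
  · right
    rw [h4, hk]
    nlinarith

theorem CZ_le_of_eq' (h : Hyp S P) (M : Crd F (S : Subgroup G) P (zl (S : Subgroup G) P))
    (hZ : Nat.card (zc (S : Subgroup G)) = Nat.card F) : CZ (S : Subgroup G) ≤ normalizer (M.R : Set G) := by
  have h1 := M.le_centR h.V_le_S (zc_le_zl _ _) hZ
  have h2 := M.zc_eq h.V_le_S (zc_le_zl _ _)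
  have h3 : zc (S : Subgroup G) = M.R := by
    rw [h2, inf_eq_left]
    rwa [le_centralizer_iff]
  rw [← h3]
  exact centralizer_le_normalizer _

end frame

/-- **THEOREM RED for `q = 4`, `|Z| = 2`, at the level `n`** (helper240 #15515, helper417). -/
def RedFourL : Prop :=
  ∀ (G : Type u) [Group G] [Finite G], ∀ (S : Sylow 2 G) (P : Subgroup G), HypL S P →
    ∀ (F : Type) [Field F] [Finite F] [CharP F 2], Nat.card F = 4 → Nat.card (zc (S : Subgroup G)) ≠ 4 →
      ∀ (M : Crd F (S : Subgroup G) P (zl (S : Subgroup G) P)) (n : ℕ),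
        (∀ R : Subgroup G, IsParS (S : Subgroup G) R → lev (S : Subgroup G) n ≤ o2 R) →
          ¬ lev (S : Subgroup G) (n + 1) ≤ o2 P → CZ (S : Subgroup G) ≤ normalizer (M.R : Set G)

/-- **THE SOCKET `RedL`.** -/
theorem redL (h4 : RedFourL.{u}) (K : Cls.{u}) : RedL K := by
  intro G _ _ hK S P h F _ _ _ hq N
  left
  obtain ⟨M⟩ := exists_crd h.toHyp N
  have hG := h.ctx.char2
  by_cases hJ : jj (S : Subgroup G) ≤ o2 P
  · -- the level `n`
    obtain ⟨n, hn, hn1⟩ : ∃ n, (∀ R : Subgroup G, IsParS (S : Subgroup G) R → lev (S : Subgroup G) n ≤ o2 R) ∧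
        ¬ lev (S : Subgroup G) (n + 1) ≤ o2 P := by
      rcases h.stage with h1 | ⟨n, h1, h2⟩
      · exact absurd hJ h1
      · exact ⟨n, h1, h2⟩
    have hL := levF_of hG h.star M (hn P h.star) hn1
    have hCZ : CZ (S : Subgroup G) ≤ normalizer (M.R : Set G) := by
      by_cases hZ : Nat.card (zc (S : Subgroup G)) = Nat.card F
      · exact CZ_le_of_eq' h.toHyp M hZ
      · rcases card_four_or' h.toHyp M hZ with h5 | h16
        · exact h4 G S P h F h5 (by rwa [h5] at hZ) M n hn hn1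
        · exact red_lev h.toHyp M h16 (hn P h.star) hL.nxt
    obtain ⟨h1, h2, h3⟩ := frame_lev h.toHypN M hL hn h.concl.1 hCZ
    exact ⟨M.B, M.R, h1, h2, M.card_R, h3⟩
  · -- stage `-1`
    have h' : HypJ S P := ⟨h.toHypN, hJ⟩
    have hCZ : CZ (S : Subgroup G) ≤ normalizer (M.R : Set G) := by
      rcases four_or_CZ h' M with h1 | ⟨h5, hZ⟩
      · exact h1
      · rcases red4 FF.Glob.aStmt h' M h5 hZ with h1 | ⟨P1, h1, -, h2, h3⟩
        · exact h1
        · exact absurd h3 (h.four P1 ⟨h1, h2⟩)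
    exact ⟨M.B, M.R, pb h' M hCZ, omB_of h' M, M.card_R, fun Q hQ =>
      (uniqB FF.Glob.ffthm h' M hQ).imp (fun e => e.2) fun e => e.1⟩

end Cfsg.Agent.Omega.NO3S.Fld
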