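import Cfsg.Agent.Omega.NO3b.EndFix
import Cfsg.Agent.Omega.Half.SymPts

/-!
# Offenders and the Sylow 2-subgroup

`X` acts faithfully on the elementary abelian 2-group `V`, without fixed points of `O²(X)`, and the conclusion
`AConcl T V` of the FF theorem holds.

* `offender_le` : a subgroup normalised by `T` which contains one offender `E₁ ≤ T` contains all offenders
  `E₂ ≤ T` (the root groups, resp. the transpositions, in `T` are conjugate in `T`).
-/

set_option autoImplicit false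
set_option linter.unusedSectionVars false

namespace Cfsg.Agent.Omega.NO3S.Fld

open Subgroup Cfsg.Agent.Lib.SL2Mat Cfsg.Agent.Omega.FFBr
open Cfsg.Agent.Omega.NatPair (ap ap_mul ap_one ap_inv_ap ap_zero' ap_one')
open Cfsg.Agent.Omega.NO3b.EndFix Cfsg.Agent.Omega.NO3b.EndFix.Lift

variable {X V : Type*} [Group X] [Finite X] [Group V] [Finite V] [MulDistribMulAction X V] {T E₁ E₂ N : Subgroup X}

/-- the identity as a lift -/
theorem lift_id (hcom : ∀ u w : V, u * w = w * u) (hsq : ∀ u : V, u * u = 1)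
    (hf : ∀ x : X, (∀ v : V, x • v = v) → x = 1) (ho : ∀ v ∈ odd X V, v = 1) (hT : IsPGroup 2 T)
    {A : Subgroup X} (hA : A ≤ T) (h : AOff V A) : Lift (MonoidHom.id V) T A where
  comm := hcom
  sq := hsq
  surj := Function.surjective_id
  eqv _ _ := rfl
  ker := by
    intro u hu x _
    have h1 : u = 1 := hu
    rw [h1, smul_one]
  faith := hf
  odd := ho
  pT := hT
  AT := hA
  off := h
  full := fun _ h => h

section nat

variable {F : Type} [Field F] [Finite F] [CharP F 2] {k : ℕ}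

/-- the root group at `i` is contained in `N` -/
theorem root_mem (L : Lift (MonoidHom.id V) T E₁) (n : AbsNat F T V k)
    (hN : ∀ t ∈ T, ∀ x ∈ N, t * x * t⁻¹ ∈ N) (h : E₁ ≤ N) (i : Fin k) (b : F) :
    ∃ a ∈ N, Co n a fun j => up ((Pi.single i b : Fin k → F) j) := by
  obtain ⟨I, h1, h2⟩ := n.off E₁ L.AT L.off
  obtain ⟨i₀, hi₀⟩ : ∃ i₀, i₀ ∈ I := by
    by_contra hcon
    push Not at hcon
    refine L.off.ne ((Subgroup.eq_bot_iff_forall _).2 fun a ha => ?_)
    obtain ⟨b, hb, hc⟩ := h1 a ha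
    have hb0 : b = 0 := funext fun j => hb j (hcon j)
    refine Co.eq L n (B := fun _ => 1) ?_ (Co.one n)
    intro v j
    have h3 := hc.1 v j
    simp only [hb0, Pi.zero_apply, up_zero] at h3
    exact h3
  obtain ⟨t, ht, hti⟩ := n.trans i₀ i
  obtain ⟨I', h1', h2'⟩ := n.off _ (L.conj ht).AT (L.conj ht).off
  have hi : i ∈ I' := by
    by_contra hcon
    obtain ⟨a, ha, hac⟩ := h2 (Pi.single i₀ 1) fun j hj => by
      rw [Pi.single_eq_of_ne]
      rintro rfl
      exact hj hi₀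
    obtain ⟨b, hb, hbc⟩ := h1' _ ⟨a, ha, rfl⟩
    obtain ⟨w, hw⟩ := n.surj fun _ => ![0, 1]
    have h3 := hbc.1 (t • w) i
    have e1 : (MulAut.conj t).toMonoidHom a • t • w = t • a • w := by
      change (t * a * t⁻¹) • t • w = t • a • w
      rw [mul_smul, inv_smul_smul, mul_smul]
    simp only [e1, hb i hcon, up_zero, ap_one] at h3
    have h4 : n.e (t • (a • w * w)) i = 0 := by
      rw [smul_mul', n.mul, Pi.add_apply, h3]
      funext j
      exact CharTwo.add_self_eq_zero _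
    have h5 := (hti _).1 h4
    rw [n.mul, Pi.add_apply, hac.1, hw] at h5
    have h6 := congrFun h5 0
    simp only [Pi.single_eq_same] at h6
    rw [Pi.add_apply, ap_zero'] at h6
    simp at h6
  obtain ⟨a, ⟨a', ha', rfl⟩, hac⟩ := h2' (Pi.single i b) fun j hj => by
    rw [Pi.single_eq_of_ne]
    rintro rfl
    exact hj hi
  exact ⟨_, hN t ht a' (h ha'), hac.1⟩

theorem nat_le (L : Lift (MonoidHom.id V) T E₁) (L' : Lift (MonoidHom.id V) T E₂) (n : AbsNat F T V k)
    (hN : ∀ t ∈ T, ∀ x ∈ N, t * x * t⁻¹ ∈ N) (h : E₁ ≤ N) : E₂ ≤ N := by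
  classical
  intro a ha
  obtain ⟨I, h1, -⟩ := n.off E₂ L'.AT L'.off
  obtain ⟨b, -, hb⟩ := h1 a ha
  have key : ∀ s : Finset (Fin k), ∃ g ∈ N, Co n g fun j => up (if j ∈ s then b j else 0) := by
    intro s
    induction s using Finset.induction_on with
    | empty =>
      refine ⟨1, N.one_mem, ?_⟩
      intro v i
      simp only [Finset.notMem_empty, if_false, up_zero]
      rw [one_smul, ap_one]
    | insert i s hi ih =>
      obtain ⟨g, hg, hgc⟩ := ih
      obtain ⟨r, hr, hrc⟩ := root_mem L n hN h i (b i)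
      refine ⟨r * g, N.mul_mem hr hg, ?_⟩
      have h2 := hrc.mul hgc
      intro v j
      rw [h2 v j]
      change ap (up ((Pi.single i (b i) : Fin k → F) j) * up (if j ∈ s then b j else 0)) (n.e v j) = _
      rw [up_mul]
      congr 2
      by_cases hj : j = i
      · subst hj
        rw [Pi.single_eq_same, if_neg hi, if_pos (Finset.mem_insert_self _ _), add_zero]
      · rw [Pi.single_eq_of_ne hj, zero_add]
        simp only [Finset.mem_insert, hj, false_or]
  obtain ⟨g, hg, hgc⟩ := key Finset.univ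
  have h2 : a = g := by
    refine Co.eq L n (B := fun j => up (b j)) hb.1 ?_
    intro v i
    rw [hgc v i]
    simp only [Finset.mem_univ, if_true]
  rw [h2]
  exact hg

end nat

section sym

variable {k m : ℕ}

theorem sym_pow {s : AbsSym T V k m} {g : X} {τ : Fin k → Equiv.Perm (Fin (2 ^ m + 1))}
    (hg : AActsSym s.e g 1 τ) (n : ℕ) : AActsSym s.e (g ^ n) 1 fun i => τ i ^ n := by
  induction n with
  | zero =>
    intro v i x
    rw [pow_zero, one_smul]
    rfl
  | succ n ih =>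
    have h1 := sym_mul ih hg
    rw [pow_succ]
    exact h1

theorem sep_pts (hm : 2 ≤ m) (s : AbsSym T V k m) (i : Fin k) {p q : Fin (2 ^ m + 1)} (hpq : p ≠ q) :
    ∃ w, s.e w i p = 1 ∧ s.e w i q = 0 := by
  obtain ⟨r, h1, h2, -, -⟩ := exists_out hm p q p q
  obtain ⟨w, hw⟩ := exists_pair s i p r
  refine ⟨w, ?_, ?_⟩
  · rw [hw, Pi.single_eq_same, Pi.add_apply, Pi.single_eq_same, Pi.single_eq_of_ne h1.symm, add_zero]
  · rw [hw, Pi.single_eq_same, Pi.add_apply, Pi.single_eq_of_ne hpq.symm, Pi.single_eq_of_ne h2.symm, add_zero]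

theorem sym_unique (hm : 2 ≤ m) (s : AbsSym T V k m) {g : X} {τ τ' : Fin k → Equiv.Perm (Fin (2 ^ m + 1))}
    (h : AActsSym s.e g 1 τ) (h' : AActsSym s.e g 1 τ') : τ = τ' := by
  funext i
  ext1 x
  by_contra hne
  obtain ⟨w, h1, h2⟩ := sep_pts hm s i hne
  have h3 := h (g⁻¹ • w) i x
  have h4 := h' (g⁻¹ • w) i x
  rw [smul_inv_smul, Equiv.Perm.one_apply] at h3 h4
  rw [h1] at h3
  rw [h2, ← h3] at h4
  exact one_ne_zero h4.symm

theorem fix0' (s : AbsSym T V k m) {t : X} (ht : t ∈ T) {σ : Equiv.Perm (Fin k)}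
    {τ : Fin k → Equiv.Perm (Fin (2 ^ m + 1))} (h : AActsSym s.e t σ τ) (i : Fin k) (x : Fin (2 ^ m + 1)) :
    τ i x = 0 ↔ x = 0 := by
  rw [← (τ i).injective.eq_iff (a := x) (b := 0), s.fix0 t ht σ τ h i]

/-- the points of a transposition in `T` are not `0` -/
theorem tr_ne (s : AbsSym T V k m) {b : X} (hb : b ∈ T) {i : Fin k} {x y : Fin (2 ^ m + 1)} (hxy : x ≠ y)
    (h : Tr s b i x y) : x ≠ 0 ∧ y ≠ 0 := by
  have h1 := s.fix0 b hb 1 _ h i
  rw [Function.update_self] at h1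
  constructor
  · rintro rfl
    rw [Equiv.swap_apply_left] at h1
    exact hxy h1.symm
  · rintro rfl
    rw [Equiv.swap_apply_right] at h1
    exact hxy h1

/-- two transpositions in `T` with a common point are equal -/
theorem tr_unique (L : Lift (MonoidHom.id V) T E₁) (s : AbsSym T V k m) {b b' : X} (hb : b ∈ T)
    (hb' : b' ∈ T) {i : Fin k} {x y y' : Fin (2 ^ m + 1)} (hxy : x ≠ y) (hxy' : x ≠ y') (h : Tr s b i x y)
    (h' : Tr s b' i x y') : y = y' := by
  by_contra hne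
  have h1 := sym_pow (sym_mul h h') 3
  have h2 : (b * b') ^ 3 = 1 := by
    refine sym_eq L s h1 ?_
    intro v j z
    rw [one_smul]
    have : ((Function.update (1 : Fin k → Equiv.Perm (Fin (2 ^ m + 1))) i (Equiv.swap x y) ((1 : Equiv.Perm (Fin k)) j)) *
        (Function.update (1 : Fin k → Equiv.Perm (Fin (2 ^ m + 1))) i (Equiv.swap x y') j)) ^ 3 = 1 := by
      by_cases hj : j = i
      · subst hj
        rw [Equiv.Perm.one_apply, Function.update_self, Function.update_self]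
        have h3 := (Equiv.Perm.isThreeCycle_swap_mul_swap_same hxy hxy' hne).orderOf
        rw [← h3]
        exact pow_orderOf_eq_one _
      · rw [Equiv.Perm.one_apply, Function.update_of_ne hj, Function.update_of_ne hj]
        rfl
    simp only [this]
    rfl
  obtain ⟨n, hn⟩ := L.pT ⟨b * b', T.mul_mem hb hb'⟩
  have hn' : (b * b') ^ 2 ^ n = 1 := congrArg Subtype.val hn
  have h3 : b * b' = 1 := by
    have h4 := Nat.dvd_gcd (orderOf_dvd_of_pow_eq_one h2) (orderOf_dvd_of_pow_eq_one hn')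
    have h5 : Nat.gcd 3 (2 ^ n) = 1 := Nat.Coprime.pow_right n (by norm_num)
    rw [h5] at h4
    exact orderOf_eq_one_iff.1 (Nat.dvd_one.1 h4)
  obtain ⟨v, hv⟩ := exists_pair s i x y'
  have h4 : s.e v i x = s.e v i y' := by
    rw [hv, Pi.single_eq_same, Pi.add_apply, Pi.add_apply, Pi.single_eq_same, Pi.single_eq_same,
      Pi.single_eq_of_ne hxy', Pi.single_eq_of_ne hxy'.symm, add_zero, zero_add]
  have h5 : b' • v = v := (h'.fix_iff L v).2 h4
  have h6 : b • v = v := by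
    calc b • v = b • b' • v := by rw [h5]
      _ = v := by rw [← mul_smul, h3, one_smul]
  have h7 := (h.fix_iff L v).1 h6
  rw [hv, Pi.single_eq_same, Pi.add_apply, Pi.add_apply, Pi.single_eq_same, Pi.single_eq_of_ne hxy',
    Pi.single_eq_of_ne hxy.symm, Pi.single_eq_of_ne hne, add_zero, add_zero] at h7
  exact one_ne_zero h7

end sym

section trans

open Cfsg.Agent.Omega.Half.SymA (cy cy_zero cy_succ cy_pow exists_cy_pow)

variable {k m : ℕ} {TS : Sylow 2 X}

/-- an element of `T` which permutes the points `≠ 0` of every summand transitively -/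
theorem exists_cycle (L : Lift (MonoidHom.id V) (TS : Subgroup X) E₁) (s : AbsSym (TS : Subgroup X) V k m)
    (hm : 2 ≤ m) : ∃ t ∈ (TS : Subgroup X), ∃ τ : Fin k → Equiv.Perm (Fin (2 ^ m + 1)), AActsSym s.e t 1 τ ∧
    ∀ i x y, x ≠ 0 → y ≠ 0 → ∃ n : ℕ, (τ i ^ n) x = y := by
  have hfact : Fact (Nat.Prime 2) := ⟨Nat.prime_two⟩
  obtain ⟨g, hg, -⟩ := s.lift fun _ => cy m
  have h1 : g ^ 2 ^ m = 1 := by
    refine sym_eq L s (sym_pow hg (2 ^ m)) ?_
    intro v i x
    rw [cy_pow, one_smul]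
    rfl
  have h2 : IsPGroup 2 (zpowers g) := by
    rintro ⟨x, n, rfl⟩
    refine ⟨m, Subtype.ext ?_⟩
    change (g ^ n) ^ 2 ^ m = 1
    rw [← zpow_natCast, ← zpow_mul, mul_comm n, zpow_mul, zpow_natCast, h1, one_zpow]
  obtain ⟨R, hR⟩ := h2.exists_le_sylow
  obtain ⟨y, hy⟩ := MulAction.exists_smul_eq X R TS
  have h3 : y * g * y⁻¹ ∈ (TS : Subgroup X) := by
    rw [← hy, Sylow.coe_subgroup_smul, Subgroup.mem_pointwise_smul_iff_inv_smul_mem]
    have h4 : (MulAut.conj y)⁻¹ • (y * g * y⁻¹) = g := by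
      rw [MulAut.smul_def, MulAut.conj_inv_apply]
      group
    rw [h4]
    exact hR (mem_zpowers g)
  obtain ⟨σ, ρ, hρ⟩ := s.perm y
  have h4 := sym_mul (sym_mul hρ hg) (sym_inv hρ)
  have h5 : σ * 1 * σ⁻¹ = 1 := by rw [mul_one, mul_inv_cancel]
  rw [h5] at h4
  have h6 : ∀ i, ρ (σ⁻¹ i) 0 = 0 := by
    intro i
    have h7 := s.fix0 _ h3 1 _ h4 i
    simp only [Equiv.Perm.mul_apply, Equiv.Perm.one_apply] at h7
    have h8 : cy m ((ρ (σ⁻¹ i))⁻¹ 0) = (ρ (σ⁻¹ i))⁻¹ 0 := by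
      rw [Equiv.Perm.eq_inv_iff_eq]
      exact h7
    by_contra hne
    have h9 : (ρ (σ⁻¹ i))⁻¹ 0 ≠ 0 := by
      intro h10
      apply hne
      rw [Equiv.Perm.inv_eq_iff_eq] at h10
      exact h10.symm
    obtain ⟨a, ha⟩ := Fin.exists_succ_eq.2 h9
    rw [← ha, cy_succ, Fin.succ_inj] at h8
    have e3 : (1 : Fin (2 ^ m)) = 0 := add_eq_left.1 h8
    have h7 : 1 < 2 ^ m := Nat.one_lt_two_pow (by omega)
    have e4 := congrArg Fin.val e3
    rw [Fin.val_one', Fin.val_zero, Nat.mod_eq_of_lt h7] at e4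
    exact one_ne_zero e4
  refine ⟨_, h3, _, h4, fun i x z hx hz => ?_⟩
  have h7 : ∀ w : Fin (2 ^ m + 1), w ≠ 0 → (ρ (σ⁻¹ i))⁻¹ w ≠ 0 := by
    intro w hw h8
    rw [Equiv.Perm.inv_eq_iff_eq, h6] at h8
    exact hw h8
  obtain ⟨n, hn⟩ := exists_cy_pow m (h7 x hx) (h7 z hz)
  refine ⟨n, ?_⟩
  have h8 : ((ρ (σ⁻¹ i)) * cy m * (ρ (σ⁻¹ i))⁻¹) ^ n = (ρ (σ⁻¹ i)) * cy m ^ n * (ρ (σ⁻¹ i))⁻¹ := conj_pow
  change (((ρ (σ⁻¹ i)) * cy m * (ρ (σ⁻¹ i))⁻¹) ^ n) x = z
  rw [h8, Equiv.Perm.mul_apply, Equiv.Perm.mul_apply, hn]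
  exact Equiv.apply_symm_apply (ρ (σ⁻¹ i)) z

/-- `T` is transitive on the points `≠ 0` -/
theorem trans_pts (L : Lift (MonoidHom.id V) (TS : Subgroup X) E₁) (s : AbsSym (TS : Subgroup X) V k m)
    (hm : 2 ≤ m) (i j : Fin k) {x y : Fin (2 ^ m + 1)} (hx : x ≠ 0) (hy : y ≠ 0) :
    ∃ t ∈ (TS : Subgroup X), ∃ σ τ, AActsSym s.e t σ τ ∧ σ i = j ∧ τ i x = y := by
  obtain ⟨t, ht, σ, τ, h1, h2⟩ := s.trans i j
  obtain ⟨c, hc, ρ, h3, h4⟩ := exists_cycle L s hm
  obtain ⟨n, hn⟩ := h4 j (τ i x) y (fun h => hx ((fix0' s ht h1 i x).1 h)) hy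
  refine ⟨c ^ n * t, mul_mem (pow_mem hc n) ht, _, _, sym_mul (sym_pow h3 n) h1, ?_, ?_⟩
  · rw [Equiv.Perm.mul_apply, Equiv.Perm.one_apply, h2]
  · rw [Equiv.Perm.mul_apply, h2, hn]

theorem sym_le (L : Lift (MonoidHom.id V) (TS : Subgroup X) E₁) (L' : Lift (MonoidHom.id V) (TS : Subgroup X) E₂)
    (s : AbsSym (TS : Subgroup X) V k m) (hm : 2 ≤ m) (hN : ∀ t ∈ (TS : Subgroup X), ∀ x ∈ N, t * x * t⁻¹ ∈ N)
    (h : E₁ ≤ N) : E₂ ≤ N := by
  classical
  obtain ⟨b₁, hb₁, i₁, x₁, y₁, hxy₁, ht₁⟩ := exists_tr_mem L s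
  have hn₁ := tr_ne s (L.AT hb₁) hxy₁ ht₁
  -- all transpositions of `T` are in `N`
  have key : ∀ b ∈ (TS : Subgroup X), ∀ i x y, x ≠ y → Tr s b i x y → b ∈ N := by
    intro b hb i x y hxy htr
    have hn := tr_ne s hb hxy htr
    obtain ⟨t, ht, σ, τ, h1, h2, h3⟩ := trans_pts L s hm i₁ i hn₁.1 hn.1
    have h4 := ht₁.conj h1
    rw [h2, h3] at h4
    have h5 : t * b₁ * t⁻¹ ∈ (TS : Subgroup X) := mul_mem (mul_mem ht (L.AT hb₁)) (inv_mem ht)
    have h6 : x ≠ τ i₁ y₁ := by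
      rw [← h3]
      exact fun h7 => hxy₁ ((τ i₁).injective h7)
    have h7 := tr_unique L s hb h5 hxy h6 htr h4
    rw [← h7] at h4
    rw [sym_eq L s htr h4]
    exact hN t ht b₁ (h hb₁)
  have hmem : ∀ (ρ : Fin k → Equiv.Perm (Fin (2 ^ m + 1))) (p : Fin k × Fin (2 ^ m + 1)),
      (p ∈ Finset.univ.filter fun p : Fin k × Fin (2 ^ m + 1) => ρ p.1 p.2 ≠ p.2) ↔ ρ p.1 p.2 ≠ p.2 := by
    intro ρ p
    rw [Finset.mem_filter]
    exact ⟨fun h => h.2, fun h => ⟨Finset.mem_univ _, h⟩⟩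
  have main : ∀ n : ℕ, ∀ a ∈ E₂, ∀ τ : Fin k → Equiv.Perm (Fin (2 ^ m + 1)), AActsSym s.e a 1 τ →
      (Finset.univ.filter fun p : Fin k × Fin (2 ^ m + 1) => τ p.1 p.2 ≠ p.2).card = n → a ∈ N := by
    intro n
    induction n using Nat.strong_induction_on with
    | _ n ih =>
      intro a ha τ hτ hn
      by_cases hmv : ∃ i x, τ i x ≠ x
      · obtain ⟨i, x, hix⟩ := hmv
        obtain ⟨τ', hτ', h2⟩ := (s.off E₂ L'.AT L'.off).2 a ha
        have e := sym_unique hm s hτ hτ'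
        subst e
        obtain ⟨h3, b, hb, hbt⟩ := h2 i x hix
        have hbN : b ∈ N := key b (L'.AT hb) i x (τ i x) hix.symm hbt
        obtain ⟨ρ, hρ⟩ : ∃ ρ : Fin k → Equiv.Perm (Fin (2 ^ m + 1)), ρ = fun j =>
            (Function.update (1 : Fin k → Equiv.Perm (Fin (2 ^ m + 1))) i (Equiv.swap x (τ i x))) j * τ j := ⟨_, rfl⟩
        have h4 : AActsSym s.e (b * a) 1 ρ := by
          have := sym_mul hbt hτ
          rw [mul_one] at this
          rw [hρ]
          exact this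
        have h5 : b * a ∈ N := by
          refine ih _ ?_ (b * a) (E₂.mul_mem hb ha) ρ h4 rfl
          rw [← hn]
          apply Finset.card_lt_card
          rw [Finset.ssubset_iff_of_subset]
          · refine ⟨(i, x), (hmem τ (i, x)).2 hix, fun h6 => (hmem ρ (i, x)).1 h6 ?_⟩
            rw [hρ]
            simp only [Equiv.Perm.mul_apply, Function.update_self, Equiv.swap_apply_right]
          · rintro ⟨j, z⟩ hz
            refine (hmem τ (j, z)).2 fun h6 => (hmem ρ (j, z)).1 hz ?_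
            rw [hρ]
            simp only [Equiv.Perm.mul_apply]
            change (τ j) z = z at h6
            rw [h6]
            by_cases hj : j = i
            · subst hj
              rw [Function.update_self, Equiv.swap_apply_of_ne_of_ne]
              · rintro rfl
                exact hix h6
              · intro h7
                rw [h7] at h6
                rw [h6] at h3
                exact hix h3
            · rw [Function.update_of_ne hj]
              rfl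
        have h6 := N.mul_mem (N.inv_mem hbN) h5
        rwa [inv_mul_cancel_left] at h6
      · push Not at hmv
        have h3 : a = 1 := by
          refine sym_eq L s hτ ?_
          intro v i x
          rw [one_smul, hmv i x]
          rfl
        rw [h3]
        exact N.one_mem
  intro a ha
  obtain ⟨τ, hτ, -⟩ := (s.off E₂ L'.AT L'.off).2 a ha
  exact main _ a ha τ hτ rfl

/-- **A subgroup normalised by `T` which contains an offender `E₁ ≤ T` contains all offenders `E₂ ≤ T`.** -/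
theorem offender_le (hcom : ∀ u w : V, u * w = w * u) (hsq : ∀ u : V, u * u = 1)
    (hf : ∀ x : X, (∀ v : V, x • v = v) → x = 1) (ho : ∀ v ∈ odd X V, v = 1) (h : AConcl (TS : Subgroup X) V)
    (h1 : E₁ ≤ TS) (h1' : AOff V E₁) (h2 : E₂ ≤ TS) (h2' : AOff V E₂)
    (hN : ∀ t ∈ (TS : Subgroup X), ∀ x ∈ N, t * x * t⁻¹ ∈ N) (hE : E₁ ≤ N) : E₂ ≤ N := by
  have L := lift_id hcom hsq hf ho TS.isPGroup' h1 h1'
  have L' := lift_id hcom hsq hf ho TS.isPGroup' h2 h2'
  rcases h with ⟨F, i1, i2, i3, k, -, ⟨n⟩⟩ | ⟨k, m, -, hm, ⟨s⟩⟩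
  · exact nat_le L L' n hN hE
  · exact sym_le L L' s hm hN hE

end trans

end Cfsg.Agent.Omega.NO3S.Fld
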