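import Cfsg.Agent.Omega.NO3b.K0.Bridge
import Cfsg.Agent.Omega.NO3b.K0.Count
import Cfsg.Agent.Omega.NO3S.Fld.RootTr

/-!
# Exact offenders on the sections of a minimal parabolic

`X` is a minimal parabolic over its Sylow 2-subgroup `T`.

* `chief_le` : `Y / N` a noncentral chief factor, `A₁ ≤ L ≤ T` with `L` normal in `T`, `A₁`, `A₂ ≤ T` offenders on
  `Y / N`: then `A₂ ≤ L O₂(X)`;
* `sec_le` : the same for exact offenders on a section `Y / N` with `[Y, O²(X)] ≰ N`.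
-/

set_option autoImplicit false
set_option linter.unusedSectionVars false

namespace Cfsg.Agent.Omega.NO3S.Fld

open Subgroup Cfsg Cfsg.Agent.ZN Cfsg.Agent.ZN.ChoiceBase Cfsg.Agent.ZN.ChoiceSit
open Cfsg.Agent.MinSimple.MinParabolic (IsMinPar IsMin sup_eq_top_or_inf_le)
open Cfsg.Agent.MinSimple.VModule (oddGen oddGen_le mem_oddGen le_normalizer_oddGen oddGen_le_of_sup)
open Cfsg.Agent.Omega.NO3b.K0
open Cfsg.Agent.Omega.NO3S.NotFF (commutator_le_of_odd)
open scoped commutatorElement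

universe u

variable {G : Type u} [Group G] [Finite G] {X : Subgroup G}

/-- `A` is an offender on the section `Y / N` of `X` -/
structure SOff (X N Y A : Subgroup G) : Prop where
  sq : ∀ a ∈ A, a ^ 2 ∈ o2 X
  comm : ∀ a ∈ A, ∀ b ∈ A, a * b * a⁻¹ * b⁻¹ ∈ o2 X
  ne : ¬ A ≤ o2 X
  ex : ∃ D : Subgroup G, D ≤ Y ∧ ⁅D, A⁆ ≤ N ∧ D.relIndex Y ≤ (o2 X).relIndex A

theorem chief_le (h : FFBr.AStmt.{u}) {T : Subgroup G} (hT : Syl T X) (hmin : IsMinPar T X) {N Y : Subgroup G}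
    (hNY : N ≤ Y) (hYX : Y ≤ X) (hsq : ∀ y ∈ Y, y ^ 2 = 1) (hc : Y ≤ centralizer (Y : Set G))
    (hN : X ≤ normalizer (N : Set G)) (hY : X ≤ normalizer (Y : Set G))
    (chief : ∀ K : Subgroup G, N ≤ K → K ≤ Y → X ≤ normalizer (K : Set G) → K = N ∨ K = Y)
    (hmv : ¬ ⁅Y, oddGen X⁆ ≤ N) {A₁ A₂ L : Subgroup G} (hAL : A₁ ≤ L) (hLT : L ≤ T)
    (hTL : T ≤ normalizer (L : Set G)) (hAT : A₂ ≤ T) (h₁ : SOff X N Y A₁) (h₂ : SOff X N Y A₂) :
    A₂ ≤ L ⊔ o2 X := by
  have hfact : Fact (Nat.Prime 2) := ⟨Nat.prime_two⟩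
  have hn : (N.subgroupOf Y).Normal := normal_subgroupOf_of_le_normalizer (hYX.trans hN)
  obtain ⟨M, hM⟩ := hmin.exists_isMin
  obtain ⟨P, hP⟩ := syl_iff.1 hT
  have hTP : T.subgroupOf X = (P : Subgroup X) := by
    rw [← hP, Subgroup.subgroupOf, comap_map_eq_self_of_injective X.subtype_injective]
  rw [hTP] at hM
  have hvc : ∀ v w : Y ⧸ N.subgroupOf Y, v * w = w * v := by
    intro v w
    obtain ⟨y, rfl⟩ := QuotientGroup.mk_surjective v
    obtain ⟨z, rfl⟩ := QuotientGroup.mk_surjective w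
    have h1 : y * z = z * y := Subtype.ext (mem_centralizer_iff.1 (hc z.2) _ y.2)
    rw [← QuotientGroup.mk_mul, h1, QuotientGroup.mk_mul]
  have hvs : ∀ v : Y ⧸ N.subgroupOf Y, v * v = 1 := by
    intro v
    obtain ⟨y, rfl⟩ := QuotientGroup.mk_surjective v
    have h1 : y * y = 1 := Subtype.ext (by
      have := hsq y y.2
      rw [sq] at this
      exact this)
    rw [← QuotientGroup.mk_mul, h1, QuotientGroup.mk_one]
  have habs := abs_of_irr (cpr hN hY) (cpr_surjective hN hY) (cfaith hN hY) P M hM hvc hvs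
    (cirr hN hY hNY chief) (codd hc hN hY hmv)
  set K : Subgroup G := (cpr hN hY).ker.map X.subtype with hK
  have hKX : K ≤ X := map_subtype_le _
  have hmemK : ∀ x : X, (x : G) ∈ K ↔ cpr hN hY x = 1 := by
    intro x
    constructor
    · rintro ⟨x', hx', hxx⟩
      have : x' = x := Subtype.ext hxx
      rw [← this]
      exact hx'
    · intro hx
      exact ⟨x, hx, rfl⟩
  have ho2 : o2 X ≤ K := by
    have h1 : (pCore 2 X).map (cpr hN hY) = ⊥ :=
      habs.core _ (Normal.map inferInstance _ (cpr_surjective hN hY)) ((isPGroup_pCore 2).map _)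
    exact map_mono ((map_eq_bot_iff (f := cpr hN hY) _).1 h1)
  have hKn : X ≤ normalizer (K : Set G) := by
    have key : ∀ x ∈ X, ∀ k ∈ K, x * k * x⁻¹ ∈ K := by
      intro x hx k hk
      have h1 := (hmemK ⟨k, hKX hk⟩).1 hk
      refine (hmemK (⟨x, hx⟩ * ⟨k, hKX hk⟩ * ⟨x, hx⟩⁻¹)).2 ?_
      rw [map_mul, map_mul, map_inv, h1, mul_one, mul_inv_cancel]
    intro x hx
    rw [mem_normalizer_iff]
    intro k
    refine ⟨key x hx k, fun hk => ?_⟩
    have h3 := key x⁻¹ (inv_mem hx) _ hk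
    rw [inv_inv] at h3
    have h4 : x⁻¹ * (x * k * x⁻¹) * x = k := by group
    rwa [h4] at h3
  have hKT : T ⊓ K ≤ o2 X := by
    rcases hmin.sup_eq_or_inf_le hT.2.1 (syl_not_dvd hT) hKX hKn with h1 | h1
    · exfalso
      apply hmv
      have h2 : oddGen X ≤ K := oddGen_le_of_sup hKn h1.ge hT.1 hKX hT.2.1
      rw [commutator_le]
      intro y hy g hg
      exact (cpr_eq_one hc hN hY (x := ⟨g, hKX (h2 hg)⟩)).1 ((hmemK _).1 (h2 hg)) y hy
    · exact h1
  -- the offenders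
  have key : ∀ A : Subgroup G, A ≤ T → SOff X N Y A →
      FFBr.AOff (Y ⧸ N.subgroupOf Y) ((A.subgroupOf X).map (cpr hN hY)) := by
    intro A hA ho
    have hAX : A ≤ X := hA.trans hT.1
    refine ⟨?_, ?_, ?_, ?_⟩
    · rintro _ ⟨a, ha, rfl⟩ _ ⟨b, hb, rfl⟩
      have h2 : cpr hN hY (a * b * a⁻¹ * b⁻¹) = 1 :=
        (hmemK _).1 (ho2 (ho.comm a (mem_subgroupOf.1 ha) b (mem_subgroupOf.1 hb)))
      rw [map_mul, map_mul, map_mul, map_inv, map_inv, mul_inv_eq_one, mul_inv_eq_iff_eq_mul] at h2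
      exact h2
    · rintro _ ⟨a, ha, rfl⟩
      have h2 : cpr hN hY (a ^ 2) = 1 := (hmemK _).1 (ho2 (ho.sq a (mem_subgroupOf.1 ha)))
      rwa [pow_two, map_mul] at h2
    · intro h0
      apply ho.ne
      intro a ha
      have h1 : cpr hN hY ⟨a, hAX ha⟩ ∈ (A.subgroupOf X).map (cpr hN hY) := ⟨⟨a, hAX ha⟩, ha, rfl⟩
      rw [h0, mem_bot] at h1
      exact hKT ⟨hA ha, (hmemK ⟨a, hAX ha⟩).2 h1⟩
    · obtain ⟨D, hDY, hDA, hle⟩ := ho.ex
      have h4 : (o2 X).relIndex A ≤ Nat.card ((A.subgroupOf X).map (cpr hN hY)) := by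
        have h5 : K.relIndex A = Nat.card ((A.subgroupOf X).map (cpr hN hY)) := by
          have h6 : K.relIndex A = (cpr hN hY).ker.relIndex (A.subgroupOf X) := by
            have h7 := relIndex_map_map_of_injective (cpr hN hY).ker (A.subgroupOf X) X.subtype_injective
            rw [subgroupOf_map_subtype, inf_eq_left.2 hAX] at h7
            exact h7
          rw [h6, relIndex_ker]
        have hAK : A ⊓ K ≤ o2 X := (inf_le_inf_right _ hA).trans hKT
        rw [← h5, ← inf_relIndex_left A K]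
        refine Nat.le_of_dvd (Nat.pos_of_ne_zero ?_) (relIndex_dvd_of_le_left A hAK)
        exact FiniteIndex.index_ne_zero (H := (A ⊓ K).subgroupOf A)
      have h5 : (ClassTwoFusion.Quad.cv (Y ⧸ N.subgroupOf Y)
          ((A.subgroupOf X).map (cpr hN hY) : Set (CX hN hY))).index ≤ D.relIndex Y := by
        have h6 : (D.subgroupOf Y).map (QuotientGroup.mk' (N.subgroupOf Y)) ≤
            ClassTwoFusion.Quad.cv (Y ⧸ N.subgroupOf Y) ((A.subgroupOf X).map (cpr hN hY) : Set (CX hN hY)) := by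
          rintro _ ⟨y, hy, rfl⟩ _ ⟨a, ha, rfl⟩
          exact (cpr_smul_eq_iff hc hN hY).2
            (hDA (commutator_mem_commutator (mem_subgroupOf.1 hy) (mem_subgroupOf.1 ha)))
        refine (index_antitone h6).trans (Nat.le_of_dvd (Nat.pos_of_ne_zero
          (FiniteIndex.index_ne_zero (H := D.subgroupOf Y))) ?_)
        exact index_map_dvd _ (QuotientGroup.mk'_surjective _)
      exact h5.trans (hle.trans h4)
  -- no fixed points of `O²`
  have hodd : ∀ v ∈ FFBr.odd (CX hN hY) (Y ⧸ N.subgroupOf Y), v = 1 := by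
    rcases cirr hN hY hNY chief (FFBr.odd (CX hN hY) (Y ⧸ N.subgroupOf Y)) (fun x w hw y hy => by
      have h1 : Odd (orderOf (x⁻¹ * y * x)) := by
        have h2 : orderOf (x⁻¹ * y * x) = orderOf y := by
          have h3 := orderOf_injective (MulAut.conj x⁻¹).toMonoidHom (MulAut.conj x⁻¹).injective y
          have h4 : (MulAut.conj x⁻¹).toMonoidHom y = x⁻¹ * y * x := by
            change x⁻¹ * y * x⁻¹⁻¹ = _
            rw [inv_inv]
          rw [h4] at h3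
          exact h3
        rw [h2]
        exact hy
      have h2 := hw _ h1
      have h3 : y • x • w = x • ((x⁻¹ * y * x) • w) := by
        rw [← mul_smul, ← mul_smul]
        congr 1
        group
      rw [h3, h2]) with h1 | h1
    · intro v hv
      rw [h1] at hv
      exact mem_bot.1 hv
    · exact absurd h1 (codd hc hN hY hmv)
  have hconc := (h _ _ _ _ habs ⟨_, key A₂ hAT h₂⟩).2
  have hle : ∀ A : Subgroup G, A ≤ T → (A.subgroupOf X).map (cpr hN hY) ≤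
      ((P.mapSurjective (cpr_surjective hN hY) : Sylow 2 (CX hN hY)) : Subgroup (CX hN hY)) := by
    intro A hA
    rw [Sylow.coe_mapSurjective, ← hTP]
    exact map_mono fun a ha => mem_subgroupOf.2 (hA (mem_subgroupOf.1 ha))
  have hfin := offender_le hvc hvs (cfaith hN hY) hodd hconc (hle A₁ (hAL.trans hLT)) (key A₁ (hAL.trans hLT) h₁)
    (hle A₂ hAT) (key A₂ hAT h₂) (N := (L.subgroupOf X).map (cpr hN hY)) (by
      rintro t ht _ ⟨l, hl, rfl⟩
      rw [Sylow.coe_mapSurjective] at ht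
      obtain ⟨s, hs, rfl⟩ := ht
      have hs' : s ∈ T.subgroupOf X := by rw [hTP]; exact hs
      refine ⟨s * l * s⁻¹, ?_, by rw [map_mul, map_mul, map_inv]⟩
      exact mem_subgroupOf.2 ((mem_normalizer_iff.1 (hTL (mem_subgroupOf.1 hs')) _).1 (mem_subgroupOf.1 hl)))
    (map_mono fun a ha => mem_subgroupOf.2 (hAL (mem_subgroupOf.1 ha)))
  intro a ha
  have haX : a ∈ X := hT.1 (hAT ha)
  obtain ⟨l, hl, hla⟩ := hfin (show cpr hN hY ⟨a, haX⟩ ∈ (A₂.subgroupOf X).map (cpr hN hY) from ⟨⟨a, haX⟩, ha, rfl⟩)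
  have hl' : (l : G) ∈ L := mem_subgroupOf.1 hl
  have h1 : cpr hN hY (l⁻¹ * ⟨a, haX⟩) = 1 := by rw [map_mul, map_inv, hla, inv_mul_cancel]
  have h2 : (l : G)⁻¹ * a ∈ o2 X := hKT ⟨T.mul_mem (T.inv_mem (hLT hl')) (hAT ha), (hmemK _).2 h1⟩
  have h3 : a = (l : G) * ((l : G)⁻¹ * a) := by group
  rw [h3]
  exact mul_mem (mem_sup_left hl') (mem_sup_right h2)

theorem sec_le (h : FFBr.AStmt.{u}) {T : Subgroup G} (hT : Syl T X) (hmin : IsMinPar T X) {N Y : Subgroup G}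
    (hNY : N ≤ Y) (hYX : Y ≤ X) (hsq : ∀ y ∈ Y, y ^ 2 = 1) (hY : Y ≤ centralizer (Y : Set G))
    (hN : X ≤ normalizer (N : Set G)) (hYn : X ≤ normalizer (Y : Set G))
    (hE : ¬ ⁅Y, oddGen X⁆ ≤ N) {A₁ A₂ L : Subgroup G} (hAL : A₁ ≤ L) (hLT : L ≤ T)
    (hTL : T ≤ normalizer (L : Set G)) (hAT : A₂ ≤ T) (h₁ : SOff X N Y A₁) (h₂ : SOff X N Y A₂) :
    A₂ ≤ L ⊔ o2 X := by
  obtain ⟨Y', hY', hYmin⟩ := Set.exists_min_image {Y' : Subgroup G | N ≤ Y' ∧ Y' ≤ Y ∧
    X ≤ normalizer (Y' : Set G) ∧ ¬ ⁅Y', oddGen X⁆ ≤ N} (fun Y' => Nat.card Y') (Set.toFinite _)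
    ⟨Y, hNY, le_rfl, hYn, hE⟩
  obtain ⟨h1, h2, h3, h4⟩ := hY'
  have hne : N ≠ Y' := by
    rintro rfl
    apply h4
    rw [← le_normalizer_iff_commutator_le_left]
    exact (oddGen_le X).trans hN
  obtain ⟨N', hN', hNmax⟩ := Set.exists_max_image {N' : Subgroup G | N ≤ N' ∧ N' ≤ Y' ∧ N' ≠ Y' ∧
    X ≤ normalizer (N' : Set G)} (fun N' => Nat.card N') (Set.toFinite _) ⟨N, le_rfl, h1, hne, hN⟩
  obtain ⟨k1, k2, k3, k4⟩ := hN'
  have hYP : IsPGroup 2 Y := fun x => ⟨1, Subtype.ext (by simpa using hsq x x.2)⟩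
  have hcomm : ∀ A B : Subgroup G, A ≤ Y → B ≤ Y → A ≤ normalizer (B : Set G) := fun A B hA hB =>
    (hA.trans (hY.trans (centralizer_le hB))).trans (centralizer_le_normalizer _)
  have hN'E : ⁅N', oddGen X⁆ ≤ N := by
    by_contra h0
    have h5 := hYmin N' ⟨k1, k2.trans h2, k4, h0⟩
    exact k3 (eq_of_le_of_card_ge k2 h5)
  have hY'E : ¬ ⁅Y', oddGen X⁆ ≤ N' := by
    intro h0
    apply h4
    exact commutator_le_of_odd (oddGen_oddGen X) (hYP.to_le h2) ((oddGen_le X).trans h3)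
      ((oddGen_le X).trans hN) (hcomm _ _ h2 hNY) ((commutator_mono h0 le_rfl).trans hN'E)
  have hoff : ∀ A : Subgroup G, SOff X N Y A → SOff X N' Y' A := by
    rintro A ⟨a1, a2, a3, D, hDY, hDA, hle⟩
    refine ⟨a1, a2, a3, D ⊓ Y', inf_le_right, (commutator_mono inf_le_left le_rfl).trans (hDA.trans k1), ?_⟩
    rw [inf_relIndex_right]
    exact (relIndex_le_of_le_right h2 index_ne_zero_of_finite).trans hle
  exact chief_le h hT hmin k2 (h2.trans hYX) (fun y hy => hsq y (h2 hy))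
    (h2.trans (hY.trans (centralizer_le h2))) k4 h3 (fun K hK1 hK2 hK3 => by
      by_cases hKY : K = Y'
      · exact Or.inr hKY
      · left
        have h6 := hNmax K ⟨k1.trans hK1, hK2, hKY, hK3⟩
        exact (eq_of_le_of_card_ge hK1 h6).symm) hY'E hAL hLT hTL hAT (hoff _ h₁) (hoff _ h₂)

end Cfsg.Agent.Omega.NO3S.Fld
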