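import Cfsg.Agent.Omega.NO3S.Basic
import Cfsg.Agent.Omega.NO3S.Fld.DEight
import Cfsg.Agent.Omega.NO3S.Fld.Chief
import Cfsg.Agent.Omega.NO3b.K0.FullOff
import Cfsg.Agent.Omega.SQ1.Bau

/-!
# Fld, `q = 4` (helper240, #15515), section (0)

`V = V_P` natural for `SL₂(4)`, `Ω₁(Z(S)) = ⟨z⟩`, `P₂ ∈ P(S)` centralises `z` and moves `R = Ω₁ Z(J(S)) = C_V(J(S))`.
`L = O₂(P) = C_S(V)`, `Q = O₂(P₂)`, `E = O²(P₂)`, `X = ⟨R^P₂⟩ ≤ U = ⟨V^P₂⟩`.

* `Cfg4 S P P2 R V3 z` : this situation;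
* `U_comm`, `U_sq`, `U_le_Q` : `U ≤ Q` is elementary abelian;
* `comm_XQ` : `[X, Q] ≤ ⟨z⟩`; `not_Q_R` : `Q ≰ C(R)`; `min_or` : `E ≤ K` or `S ∩ K ≤ Q`;
* `AA_cent` : `A ∈ A(S)`, `A ≤ Q` ⟹ `[X, A] = 1`; `inf_cent_X` : `C_S(X) ≤ Q`;
* `root` : `A ∈ A(S)`, `A ≰ L` ⟹ `|A : C_A(V)| = |V : C_V(A)| = 4`, `C_V(A) = R`, `V (A ∩ L) ∈ A(S)`.
-/

set_option autoImplicit false
set_option linter.unusedSectionVars false

namespace Cfsg.Agent.Omega.NO3S.Fld

open Subgroup Cfsg Cfsg.Agent.ZN Cfsg.Agent.ZN.ChoiceBase Cfsg.Agent.Omega.MinPar Cfsg.Agent.Omega.FrameNOFF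
open Cfsg.Agent.ZN.ChoiceSit (Syl syl_iff syl_not_dvd o2_le_syl isPGroup_o2)
open Cfsg.Agent.MinSimple.MinParabolic (IsMinPar)
open Cfsg.Agent.MinSimple.VModule (oddGen oddGen_le mem_oddGen le_normalizer_oddGen le_normalizer_o2 o2_le
  zc_le zc_le_zl le_normalizer_zl zc_sq zc_comm le_centralizer_zc)
open Cfsg.Agent.Omega.NO3b.EZero (cl cj_le_cl le_cl cl_le cj_cl le_normalizer_cl cent_symm cj_cent cj_norm
  sq_of_comm oddGen_sup_syl mem_cj_self relIndex_cj le_normalizer_inf_cent)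
open Cfsg.Agent.Omega.NO3b.K0 (conj_mem' cj_of_le cj_self)
open Cfsg.Agent.Omega.NO3S.NotFF (le_normalizer_of_forall normalizer_inf normalizer_sup normalizer_centralizer
  normalizer_commutator)
open Cfsg.Agent.Omega.SQ1.Bau (mem_AA_of_comm zj_le_AA elem_comm elem_sq)
open scoped commutatorElement

universe u

/-- **The situation** (`q = 4`). -/
structure Cfg4 {G : Type u} [Group G] [Finite G] (S : Sylow 2 G) (P P2 R V3 : Subgroup G) (z : G) : Prop where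
  hyp : HypJ S P
  mod : DEight.Mod (S : Subgroup G) (zl (S : Subgroup G) P) R V3 z
  fix4 : ∀ b ∈ (S : Subgroup G), b ∉ centralizer (zl (S : Subgroup G) P : Set G) →
    Nat.card ↥(zl (S : Subgroup G) P ⊓ centralizer ({b} : Set G)) ≤ 4
  zS : zc (S : Subgroup G) = zpowers z
  par : IsPar (S : Subgroup G) P2
  le : P2 ≤ CZ (S : Subgroup G)
  mv : ¬ P2 ≤ normalizer (R : Set G)
  zjS : zj (S : Subgroup G) = R
  soc : zc (o2 P) = zl (S : Subgroup G) P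
  /-- the FF-LEMMA -/
  ff : zc (o2 P2) ≤ centralizer (oddGen P2 : Set G)

section basic

variable {G : Type u} [Group G]

theorem mem_normalizer_of {A : Subgroup G} {g : G} (h1 : ∀ a ∈ A, g * a * g⁻¹ ∈ A)
    (h2 : ∀ a ∈ A, g⁻¹ * a * g ∈ A) : g ∈ normalizer (A : Set G) := by
  rw [mem_normalizer_iff]
  intro a
  refine ⟨h1 a, fun h => ?_⟩
  have h3 := h2 _ h
  have e : g⁻¹ * (g * a * g⁻¹) * g = a := by group
  rwa [e] at h3

/-- the elements `x` of `Y` with `[x, q] ∈ D` for all `q ∈ Q` -/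
def cmod (Y Q D : Subgroup G) (hY : Y ≤ normalizer (D : Set G)) : Subgroup G where
  carrier := {x | x ∈ Y ∧ ∀ q ∈ Q, q * x * q⁻¹ * x⁻¹ ∈ D}
  one_mem' := ⟨one_mem _, fun q _ => by
    have : q * 1 * q⁻¹ * (1 : G)⁻¹ = 1 := by group
    rw [this]
    exact one_mem _⟩
  mul_mem' := by
    rintro x y ⟨hx, hx'⟩ ⟨hy, hy'⟩
    refine ⟨mul_mem hx hy, fun q hq => ?_⟩
    have e : q * (x * y) * q⁻¹ * (x * y)⁻¹ = (q * x * q⁻¹ * x⁻¹) * (x * (q * y * q⁻¹ * y⁻¹) * x⁻¹) := by group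
    rw [e]
    exact mul_mem (hx' q hq) ((mem_normalizer_iff.1 (hY hx) _).1 (hy' q hq))
  inv_mem' := by
    rintro x ⟨hx, hx'⟩
    refine ⟨inv_mem hx, fun q hq => ?_⟩
    have e : q * x⁻¹ * q⁻¹ * x⁻¹⁻¹ = x⁻¹ * (q * x * q⁻¹ * x⁻¹)⁻¹ * x⁻¹⁻¹ := by group
    rw [e]
    exact (mem_normalizer_iff.1 (hY (inv_mem hx)) _).1 (inv_mem (hx' q hq))

theorem mem_cmod {Y Q D : Subgroup G} {hY : Y ≤ normalizer (D : Set G)} {x : G} :
    x ∈ cmod Y Q D hY ↔ x ∈ Y ∧ ∀ q ∈ Q, q * x * q⁻¹ * x⁻¹ ∈ D := Iff.rfl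

/-- `cmod` is invariant under what normalises the data -/
theorem norm_cmod {Y Q D N : Subgroup G} {hY : Y ≤ normalizer (D : Set G)} (h1 : N ≤ normalizer (Y : Set G))
    (h2 : N ≤ normalizer (Q : Set G)) (h3 : N ≤ normalizer (D : Set G)) :
    N ≤ normalizer (cmod Y Q D hY : Set G) := by
  refine le_normalizer_of_forall fun g hg x hx => ?_
  refine ⟨conj_mem' h1 hg hx.1, fun q hq => ?_⟩
  have h4 : g⁻¹ * q * g ∈ Q := by
    have := conj_mem' h2 (inv_mem hg) hq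
    rwa [inv_inv] at this
  have h5 := conj_mem' h3 hg (hx.2 _ h4)
  have e : g * (g⁻¹ * q * g * x * (g⁻¹ * q * g)⁻¹ * x⁻¹) * g⁻¹ = q * (g * x * g⁻¹) * q⁻¹ * (g * x * g⁻¹)⁻¹ := by
    group
  rwa [e] at h5

/-- the elements `g` of `N` with `[x, g] ∈ D` for all `x ∈ Y` -/
def kmod (N Y D : Subgroup G) (h1 : N ≤ normalizer (Y : Set G)) (h2 : N ≤ normalizer (D : Set G)) : Subgroup G where
  carrier := {g | g ∈ N ∧ ∀ x ∈ Y, g * x * g⁻¹ * x⁻¹ ∈ D}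
  one_mem' := ⟨one_mem _, fun x _ => by
    have : 1 * x * (1 : G)⁻¹ * x⁻¹ = 1 := by group
    rw [this]
    exact one_mem _⟩
  mul_mem' := by
    rintro g k ⟨hg, hg'⟩ ⟨hk, hk'⟩
    refine ⟨mul_mem hg hk, fun x hx => ?_⟩
    have e : g * k * x * (g * k)⁻¹ * x⁻¹ = (g * (k * x * k⁻¹ * x⁻¹) * g⁻¹) * (g * x * g⁻¹ * x⁻¹) := by group
    rw [e]
    exact mul_mem (conj_mem' h2 hg (hk' x hx)) (hg' x hx)
  inv_mem' := by
    rintro g ⟨hg, hg'⟩
    refine ⟨inv_mem hg, fun x hx => ?_⟩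
    have h3 := hg' _ (conj_mem' h1 (inv_mem hg) hx)
    have h4 := conj_mem' h2 (inv_mem hg) (inv_mem h3)
    have e : g⁻¹ * (g * (g⁻¹ * x * g⁻¹⁻¹) * g⁻¹ * (g⁻¹ * x * g⁻¹⁻¹)⁻¹)⁻¹ * g⁻¹⁻¹ = g⁻¹ * (g⁻¹ * x * g * x⁻¹) * g := by
      group
    rw [e] at h4
    have h5 := conj_mem' h2 hg h4
    have e2 : g * (g⁻¹ * (g⁻¹ * x * g * x⁻¹) * g) * g⁻¹ = g⁻¹ * x * g⁻¹⁻¹ * x⁻¹ := by group
    rwa [e2] at h5

theorem mem_kmod {N Y D : Subgroup G} {h1 : N ≤ normalizer (Y : Set G)} {h2 : N ≤ normalizer (D : Set G)} {g : G} :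
    g ∈ kmod N Y D h1 h2 ↔ g ∈ N ∧ ∀ x ∈ Y, g * x * g⁻¹ * x⁻¹ ∈ D := Iff.rfl

theorem norm_kmod {N Y D : Subgroup G} (h1 : N ≤ normalizer (Y : Set G)) (h2 : N ≤ normalizer (D : Set G)) :
    N ≤ normalizer (kmod N Y D h1 h2 : Set G) := by
  refine le_normalizer_of_forall fun n hn g hg => ?_
  refine ⟨mul_mem (mul_mem hn hg.1) (inv_mem hn), fun x hx => ?_⟩
  have h4 : n⁻¹ * x * n ∈ Y := by
    have := conj_mem' h1 (inv_mem hn) hx
    rwa [inv_inv] at this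
  have h5 := conj_mem' h2 hn (hg.2 _ h4)
  have e : n * (g * (n⁻¹ * x * n) * g⁻¹ * (n⁻¹ * x * n)⁻¹) * n⁻¹ = n * g * n⁻¹ * x * (n * g * n⁻¹)⁻¹ * x⁻¹ := by
    group
  rwa [e] at h5

theorem kmod_le {N Y D : Subgroup G} {h1 : N ≤ normalizer (Y : Set G)} {h2 : N ≤ normalizer (D : Set G)} :
    kmod N Y D h1 h2 ≤ N := fun _ h => h.1

/-- `|Y : C_Y(A)| |C_Y(A)| = |Y|` -/
theorem relIndex_mul_card (Y C : Subgroup G) : C.relIndex Y * Nat.card ↥(Y ⊓ C) = Nat.card Y := by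
  have e := relIndex_inf_mul_relIndex (⊥ : Subgroup G) C Y
  rw [relIndex_bot_left, bot_inf_eq, relIndex_bot_left, mul_comm, inf_comm] at e
  exact e

/-- maximality of `A ∈ A(T)`: `|Y : C_Y(A)| ≤ |A : C_A(Y)|` for elementary abelian `Y ≤ T` -/
theorem AA_le [Finite G] {T A Y : Subgroup G} (hA : A ∈ AA T) (hYT : Y ≤ T) (hsq : ∀ y ∈ Y, y ^ 2 = 1)
    (hc : Y ≤ centralizer (Y : Set G)) :
    (centralizer (A : Set G)).relIndex Y ≤ (centralizer (Y : Set G)).relIndex A := by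
  have hY : IsElementaryAbelian 2 Y :=
    ⟨⟨⟨fun a b => Subtype.ext (mem_centralizer_iff.1 (hc b.2) a a.2)⟩⟩, hsq⟩
  by_cases hne : A ≤ centralizer (Y : Set G)
  · rw [relIndex_eq_one.2 hne]
    exact le_of_eq (relIndex_eq_one.2 (cent_symm hne))
  · exact FFThm.relIndex_le_iff.1 (FFThm.off_of_AA hY hYT hA hne).le

end basic

namespace Cfg4

variable {G : Type u} [Group G] [Finite G] {S : Sylow 2 G} {P P2 R V3 : Subgroup G} {z : G}
  (h : Cfg4 S P P2 R V3 z)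
include h

theorem syl : Syl (S : Subgroup G) P2 :=
  ⟨h.par.le, S.isPGroup', fun _ _ hT hST => S.is_maximal' hT hST⟩

theorem S_le : (S : Subgroup G) ≤ P2 := h.par.le

theorem Q_le : o2 P2 ≤ (S : Subgroup G) := o2_le_syl h.syl

theorem L_le : o2 P ≤ (S : Subgroup G) := h.hyp.star.isLoc.o2_le S

theorem V_le_S : zl (S : Subgroup G) P ≤ (S : Subgroup G) := h.hyp.toHyp.V_le_S

theorem R_le_V : R ≤ zl (S : Subgroup G) P := h.mod.R_le.trans h.mod.V3_le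

theorem z_mem_R : z ∈ R := h.mod.z_mem

theorem z_comm {g : G} (hg : g ∈ P2) : g * z = z * g := by
  have h1 : z ∈ zc (S : Subgroup G) := by rw [h.zS]; exact mem_zpowers z
  exact (mem_centralizer_iff.1 (h.le hg) z h1).symm

theorem z_comm_zpowers {g w : G} (hg : g ∈ P2) (hw : w ∈ zpowers z) : g * w * g⁻¹ = w := by
  obtain ⟨n, rfl⟩ := mem_zpowers_iff.1 hw
  have h1 : Commute g z := h.z_comm hg
  exact mul_inv_eq_iff_eq_mul.2 (h1.zpow_right n).eq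

theorem P2_zpowers : P2 ≤ normalizer (zpowers z : Set G) :=
  le_normalizer_of_forall fun g hg w hw => by rw [h.z_comm_zpowers hg hw]; exact hw

theorem zpowers_le_R : zpowers z ≤ R := zpowers_le.2 h.z_mem_R

theorem z_sq : z * z = 1 := by
  have := h.mod.sq z (h.R_le_V h.z_mem_R)
  rwa [pow_two] at this

theorem mem_zpowers_iff' {g : G} : g ∈ zpowers z ↔ g = 1 ∨ g = z := by
  constructor
  · intro hg
    obtain ⟨n, rfl⟩ := mem_zpowers_iff.1 hg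
    rcases Int.even_or_odd' n with ⟨k, rfl | rfl⟩
    · left
      rw [zpow_mul, zpow_ofNat, pow_two, h.z_sq, one_zpow]
    · right
      rw [zpow_add, zpow_mul, zpow_ofNat, pow_two, h.z_sq, one_zpow, one_mul, zpow_one]
  · rintro (rfl | rfl)
    · exact one_mem _
    · exact mem_zpowers _

/-- `U = ⟨V^P₂⟩ ≤ W` -/
theorem U_le_WW : cl (zl (S : Subgroup G) P) P2 ≤ WW (S : Subgroup G) P :=
  cl_le fun _ hp => conj_zl_le_WW (h.le hp)

theorem U_comm : cl (zl (S : Subgroup G) P) P2 ≤ centralizer (cl (zl (S : Subgroup G) P) P2 : Set G) :=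
  (h.U_le_WW.trans h.hyp.toHyp.W_comm).trans (centralizer_le h.U_le_WW)

theorem U_sq : ∀ u ∈ cl (zl (S : Subgroup G) P) P2, u ^ 2 = 1 := fun u hu => h.hyp.toHyp.W_sq u (h.U_le_WW hu)

theorem U_norm : P2 ≤ normalizer (cl (zl (S : Subgroup G) P) P2 : Set G) := le_normalizer_cl _ _

theorem X_norm : P2 ≤ normalizer (cl R P2 : Set G) := le_normalizer_cl _ _

theorem X_le_U : cl R P2 ≤ cl (zl (S : Subgroup G) P) P2 :=
  cl_le fun _ hp => (cj_mono _ h.R_le_V).trans (cj_le_cl hp)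

theorem V_le_U : zl (S : Subgroup G) P ≤ cl (zl (S : Subgroup G) P) P2 := le_cl _ _

theorem R_le_X : R ≤ cl R P2 := le_cl _ _

theorem U_le_P2 : cl (zl (S : Subgroup G) P) P2 ≤ P2 := cl_le fun p hp => by
  have h1 := cj_mono p (h.V_le_S.trans h.S_le)
  rwa [cj_self hp] at h1

theorem U_two : IsPGroup 2 (cl (zl (S : Subgroup G) P) P2) := fun x =>
  ⟨1, Subtype.ext (by simpa using h.U_sq x x.2)⟩

theorem U_le_Q : cl (zl (S : Subgroup G) P) P2 ≤ o2 P2 := ChoiceSit.le_o2 h.U_two h.U_le_P2 h.U_norm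

theorem X_le_Q : cl R P2 ≤ o2 P2 := h.X_le_U.trans h.U_le_Q

theorem U_le_S : cl (zl (S : Subgroup G) P) P2 ≤ (S : Subgroup G) := h.U_le_Q.trans h.Q_le

theorem X_le_S : cl R P2 ≤ (S : Subgroup G) := h.X_le_Q.trans h.Q_le

theorem X_sq : ∀ u ∈ cl R P2, u ^ 2 = 1 := fun u hu => h.U_sq u (h.X_le_U hu)

theorem X_comm : cl R P2 ≤ centralizer (cl R P2 : Set G) :=
  (h.X_le_U.trans h.U_comm).trans (centralizer_le h.X_le_U)

/-- the dichotomy for normal subgroups of `P₂` -/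
theorem min_or {K : Subgroup G} (hK : K ≤ P2) (hKn : P2 ≤ normalizer (K : Set G)) :
    oddGen P2 ≤ K ∨ (S : Subgroup G) ⊓ K ≤ o2 P2 :=
  Cfsg.Agent.Omega.NO3b.K0.min_or h.syl h.par.toIsMinPar hK hKn

theorem sup_S : oddGen P2 ⊔ (S : Subgroup G) = P2 := oddGen_sup_syl h.syl

/-- `E` moves `R` -/
theorem E_R : ¬ oddGen P2 ≤ normalizer (R : Set G) := by
  intro h0
  apply h.mv
  rw [← h.sup_S]
  exact sup_le h0 h.mod.S_R

theorem E_cent_R : ¬ oddGen P2 ≤ centralizer (R : Set G) := fun h0 =>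
  h.E_R (h0.trans (centralizer_le_normalizer _))

theorem not_S_le : ¬ (S : Subgroup G) ≤ o2 P2 := by
  intro h0
  apply h.par.not_le
  rw [le_antisymm h0 h.Q_le]
  exact le_normalizer_o2 P2

/-- `[R, S] ≤ ⟨z⟩` -/
theorem comm_RS {s r : G} (hs : s ∈ (S : Subgroup G)) (hr : r ∈ R) : s * r * s⁻¹ * r⁻¹ ∈ zpowers z := by
  by_cases hr1 : r ∈ zpowers z
  · rw [h.z_comm_zpowers (h.S_le hs) hr1, mul_inv_cancel]
    exact one_mem _
  rw [h.mem_zpowers_iff'] at hr1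
  push Not at hr1
  have hsr : s * r * s⁻¹ ∈ R := conj_mem' h.mod.S_R hs hr
  have hsr1 : s * r * s⁻¹ ≠ 1 := fun h0 => hr1.1 (conj_eq_one_iff.1 h0)
  have hrr : r * r = 1 := by
    have := h.mod.sq r (h.R_le_V hr)
    rwa [pow_two] at this
  rcases eq_of_card_four h.mod.cardR (fun v hv => h.mod.sq v (h.R_le_V hv)) h.z_mem_R h.mod.z_ne hr hr1.1
    (Ne.symm hr1.2) hsr hsr1 with e | e | e
  · -- `s r s⁻¹ = z` is impossible
    exfalso
    apply hr1.2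
    have h1 : r = s⁻¹ * (s * r * s⁻¹) * s := by group
    rw [h1, e]
    have h2 := h.z_comm (h.S_le hs)
    rw [mul_assoc, ← h2, inv_mul_cancel_left]
  · rw [e, mul_inv_cancel]; exact one_mem _
  · rw [e, mul_inv_cancel_right]
    exact mem_zpowers z

/-- `[X, Q] ≤ ⟨z⟩` -/
theorem comm_XQ {q x : G} (hq : q ∈ o2 P2) (hx : x ∈ cl R P2) : q * x * q⁻¹ * x⁻¹ ∈ zpowers z := by
  have hX : cl R P2 ≤ normalizer (zpowers z : Set G) := (h.X_le_S.trans h.S_le).trans h.P2_zpowers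
  have h1 : cl R P2 ≤ cmod (cl R P2) (o2 P2) (zpowers z) hX := by
    refine cl_le fun p hp => ?_
    have h2 : R ≤ cmod (cl R P2) (o2 P2) (zpowers z) hX := fun r hr =>
      ⟨h.R_le_X hr, fun q hq => h.comm_RS (h.Q_le hq) hr⟩
    have h3 := cj_mono p h2
    rwa [cj_of_le (norm_cmod h.X_norm (le_normalizer_o2 P2) h.P2_zpowers) hp] at h3
  exact (h1 hx).2 q hq

/-- `Q ≰ C(R)` -/
theorem not_Q_R : ¬ o2 P2 ≤ centralizer (R : Set G) := by
  intro h0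
  have h1 : R ≤ zc (o2 P2) := fun r hr => ChoiceBase.mem_zc.2 ⟨h.X_le_Q (h.R_le_X hr), h.X_sq r (h.R_le_X hr),
    fun y hy => (mem_centralizer_iff.1 (h0 hy) r hr).symm⟩
  exact h.E_cent_R (cent_symm (h1.trans h.ff))

theorem not_Q_V : ¬ o2 P2 ≤ centralizer (zl (S : Subgroup G) P : Set G) := fun h0 =>
  h.not_Q_R (h0.trans (centralizer_le h.R_le_V))

/-- the conjugates of `A ∈ A(S)`, `A ≤ Q` -/
theorem AA_cj {A : Subgroup G} (hA : A ∈ AA (S : Subgroup G)) (hAQ : A ≤ o2 P2) {p : G} (hp : p ∈ P2) :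
    cj p A ∈ AA (S : Subgroup G) := by
  refine ⟨isElementaryAbelian_cj p hA.1, ?_, fun B hB hBS => ?_⟩
  · have h1 := cj_mono p hAQ
    rw [cj_of_le (le_normalizer_o2 P2) hp] at h1
    exact h1.trans h.Q_le
  · rw [card_cj]
    exact hA.2.2 B hB hBS

theorem AA_R {A : Subgroup G} (hA : A ∈ AA (S : Subgroup G)) : A ≤ centralizer (R : Set G) := by
  intro a ha
  rw [mem_centralizer_iff]
  intro r hr
  rw [← h.zjS] at hr
  exact ((mem_zj.1 hr).2.2 a (le_jj hA ha)).symm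

/-- `A ∈ A(S)`, `A ≤ Q` ⟹ `[X, A] = 1` -/
theorem AA_cent {A : Subgroup G} (hA : A ∈ AA (S : Subgroup G)) (hAQ : A ≤ o2 P2) :
    A ≤ centralizer (cl R P2 : Set G) := by
  apply cent_symm
  refine cl_le fun p hp => ?_
  have h1 := cent_symm (h.AA_R (h.AA_cj hA hAQ (inv_mem hp)))
  have h2 := cj_cent (g := p) h1
  rwa [cj_cj_inv] at h2

/-- `C_S(X) ≤ Q` -/
theorem inf_cent_X : (S : Subgroup G) ⊓ centralizer (cl R P2 : Set G) ≤ o2 P2 := by
  rcases h.min_or (K := P2 ⊓ centralizer (cl R P2 : Set G)) inf_le_left (le_normalizer_inf_cent h.X_norm) with h1 | h1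
  · exact absurd ((h1.trans inf_le_right).trans (centralizer_le h.R_le_X)) h.E_cent_R
  · exact (le_inf inf_le_left (inf_le_inf_right _ h.S_le)).trans h1

theorem inf_cent_U : (S : Subgroup G) ⊓ centralizer (cl (zl (S : Subgroup G) P) P2 : Set G) ≤ o2 P2 :=
  (inf_le_inf_left _ (centralizer_le h.X_le_U)).trans h.inf_cent_X

/-- `J(S) ≰ Q` -/
theorem not_jj_Q : ¬ jj (S : Subgroup G) ≤ o2 P2 := by
  intro h0
  apply h.mv
  have h1 : jj (o2 P2) = jj (S : Subgroup G) := jj_eq_of_jj_le h0 h.Q_le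
  have h2 : zj (o2 P2) = R := (zj_congr h1).trans h.zjS
  rw [← h2]
  intro p hp
  rw [mem_normalizer_iff_cj, ← zj_cj, cj_of_le (le_normalizer_o2 P2) hp]

theorem exists_AA_not_Q : ∃ A ∈ AA (S : Subgroup G), ¬ A ≤ o2 P2 := by
  by_contra hcon
  push Not at hcon
  apply h.not_jj_Q
  rw [jj_eq]
  exact sSup_le hcon

theorem exists_AA_not_L : ∃ A ∈ AA (S : Subgroup G), ¬ A ≤ o2 P := by
  by_contra hcon
  push Not at hcon
  apply h.hyp.jnot
  rw [jj_eq]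
  exact sSup_le hcon

theorem mem_L_iff {x : G} (hx : x ∈ (S : Subgroup G)) : x ∈ o2 P ↔ x ∈ centralizer (zl (S : Subgroup G) P : Set G) := by
  rw [← h.hyp.toHyp.inf_centralizer]
  exact ⟨fun h1 => h1.2, fun h1 => ⟨hx, h1⟩⟩

/-- the root groups -/
theorem root {A : Subgroup G} (hA : A ∈ AA (S : Subgroup G)) (hAL : ¬ A ≤ o2 P) :
    zl (S : Subgroup G) P ⊓ centralizer (A : Set G) = R ∧
      (centralizer (zl (S : Subgroup G) P : Set G)).relIndex A = 4 ∧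
      (centralizer (A : Set G)).relIndex (zl (S : Subgroup G) P) = 4 := by
  obtain ⟨b, hb, hbL⟩ := SetLike.not_le_iff_exists.1 hAL
  have hbS := hA.2.1 hb
  have hbV : b ∉ centralizer (zl (S : Subgroup G) P : Set G) := fun h0 => hbL ((h.mem_L_iff hbS).2 h0)
  have h1 := h.fix4 b hbS hbV
  have h2 : R ≤ zl (S : Subgroup G) P ⊓ centralizer (A : Set G) := le_inf h.R_le_V (cent_symm (h.AA_R hA))
  have h3 : zl (S : Subgroup G) P ⊓ centralizer (A : Set G) ≤ zl (S : Subgroup G) P ⊓ centralizer ({b} : Set G) :=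
    inf_le_inf_left _ (centralizer_le (Set.singleton_subset_iff.2 hb))
  have h4 : Nat.card ↥(zl (S : Subgroup G) P ⊓ centralizer (A : Set G)) ≤ 4 := (Subgroup.card_le_of_le h3).trans h1
  have h5 : R = zl (S : Subgroup G) P ⊓ centralizer (A : Set G) := eq_of_le_of_card_ge h2 (by rw [h.mod.cardR]; exact h4)
  have h6 := relIndex_mul_card (zl (S : Subgroup G) P) (centralizer (A : Set G))
  rw [← h5, h.mod.cardR, h.mod.card] at h6
  have h7 : (centralizer (A : Set G)).relIndex (zl (S : Subgroup G) P) = 4 := by omega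
  have h8 := AA_le hA h.V_le_S h.mod.sq h.mod.comm
  have h9 := h.mod.ind A hA.2.1 ⟨fun a ha => by
    rw [elem_sq hA.1 a ha]; exact one_mem _, fun a ha b hb => by
    rw [elem_comm hA.1 a ha b hb, mul_inv_cancel_right, mul_inv_cancel]; exact one_mem _⟩
  exact ⟨h5.symm, by omega, h7⟩

end Cfg4

end Cfsg.Agent.Omega.NO3S.Fld
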