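import Cfsg.Agent.Omega.NO3S.Fld.FourBase
import Cfsg.Agent.Omega.NO3S.Level.Fam

/-!
# The replacement theorem for best offenders (one vector)

`A` is a best offender on the abelian group `X`, `v ∈ X`, `tr A v = ⟨[v, a] | a ∈ A⟩`.

* `tr_best` : `A_v = C_A([v, A])` is a best offender on `X` and `C_X(A_v) = [v, A] C_X(A)`;
* `best_cut` : a subgroup `B` of `A` with `|B| |C_U(B)| = |A| |C_U(A)|` (`U ≤ X`) is a best offender on `X`;
* `comm_bot` : `[U, A] ≤ [U, A, A]` ⟹ `[U, A] = 1` in a nilpotent group.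
-/

set_option autoImplicit false
set_option linter.unusedSectionVars false

namespace Cfsg.Agent.Omega.NO3S.Fld

open Subgroup Cfsg Cfsg.Agent.ZN Cfsg.Agent.ZN.ChoiceBase Cfsg.Agent.Omega.MinPar
open Cfsg.Agent.Omega.NO3b.K0 (conj_mem' cj_of_le cj_self)
open Cfsg.Agent.Omega.NO1.BestOff (Best)
open Cfsg.Agent.Omega.FFThm (OffM ElemM)
open Cfsg.Agent.Omega.NO3S.Level (Lev BO nxt)
open scoped commutatorElement

universe u

variable {G : Type u} [Group G]

/-- `[v, A]` -/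
def tr (A : Subgroup G) (v : G) : Subgroup G := closure {c | ∃ a ∈ A, c = a * v * a⁻¹ * v⁻¹}

theorem mem_tr {A : Subgroup G} {v a : G} (ha : a ∈ A) : a * v * a⁻¹ * v⁻¹ ∈ tr A v :=
  subset_closure ⟨a, ha, rfl⟩

theorem tr_le {X A : Subgroup G} (hA : A ≤ normalizer (X : Set G)) {v : G} (hv : v ∈ X) : tr A v ≤ X := by
  rw [tr, closure_le]
  rintro _ ⟨a, ha, rfl⟩
  exact mul_mem (conj_mem' hA ha hv) (inv_mem hv)

/-- `[a, [b, v]] = [b, [a, v]]` -/
theorem tr_symm {X A : Subgroup G} (hXc : ∀ x ∈ X, ∀ y ∈ X, x * y = y * x) (hA : A ≤ normalizer (X : Set G))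
    (hE : ElemM X A) {v a b : G} (hv : v ∈ X) (ha : a ∈ A) (hb : b ∈ A) :
    b * (a * v * a⁻¹ * v⁻¹) * b⁻¹ * (a * v * a⁻¹ * v⁻¹)⁻¹ =
      a * (b * v * b⁻¹ * v⁻¹) * a⁻¹ * (b * v * b⁻¹ * v⁻¹)⁻¹ := by
  have hav := conj_mem' hA ha hv
  have hbv := conj_mem' hA hb hv
  have hab : a * b * v * (a * b)⁻¹ ∈ X := conj_mem' hA (mul_mem ha hb) hv
  have hpe : b * a * v * (b * a)⁻¹ = a * b * v * (a * b)⁻¹ := by
    have h1 := mem_centralizer_iff.1 (hE.comm b hb a ha) _ hab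
    have e : b * a * v * (b * a)⁻¹ = (b * a * b⁻¹ * a⁻¹) * (a * b * v * (a * b)⁻¹) * (b * a * b⁻¹ * a⁻¹)⁻¹ := by
      group
    rw [e, ← h1, mul_inv_cancel_right]
  have e1 : b * (a * v * a⁻¹ * v⁻¹) * b⁻¹ * (a * v * a⁻¹ * v⁻¹)⁻¹ =
      (b * a * v * (b * a)⁻¹) * ((b * v * b⁻¹)⁻¹ * v * (a * v * a⁻¹)⁻¹) := by group
  have e2 : a * (b * v * b⁻¹ * v⁻¹) * a⁻¹ * (b * v * b⁻¹ * v⁻¹)⁻¹ =
      (a * b * v * (a * b)⁻¹) * ((a * v * a⁻¹)⁻¹ * v * (b * v * b⁻¹)⁻¹) := by group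
  rw [e1, e2, hpe]
  congr 1
  rw [hXc _ (mul_mem (inv_mem hbv) hv) _ (inv_mem hav), hXc _ (inv_mem hbv) _ hv, ← mul_assoc]

theorem mem_cent_tr {X A : Subgroup G} (hXc : ∀ x ∈ X, ∀ y ∈ X, x * y = y * x)
    (hA : A ≤ normalizer (X : Set G)) (hE : ElemM X A) {v a : G} (hv : v ∈ X) (ha : a ∈ A) :
    a ∈ centralizer (tr A v : Set G) ↔ a * v * a⁻¹ * v⁻¹ ∈ centralizer (A : Set G) := by
  constructor
  · intro h
    rw [mem_centralizer_iff]
    intro b hb
    have h1 := mem_centralizer_iff.1 h _ (mem_tr (v := v) hb)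
    have h2 := tr_symm hXc hA hE hv ha hb
    have h3 : a * (b * v * b⁻¹ * v⁻¹) * a⁻¹ * (b * v * b⁻¹ * v⁻¹)⁻¹ = 1 := by
      rw [← h1, mul_inv_cancel_right, mul_inv_cancel]
    rw [h3, mul_inv_eq_one, mul_inv_eq_iff_eq_mul] at h2
    exact h2
  · intro h
    have h1 : tr A v ≤ centralizer ({a} : Set G) := by
      rw [tr, closure_le]
      rintro _ ⟨b, hb, rfl⟩
      show b * v * b⁻¹ * v⁻¹ ∈ centralizer ({a} : Set G)
      rw [mem_centralizer_singleton_iff]
      have h2 := tr_symm hXc hA hE hv ha hb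
      have h3 := mem_centralizer_iff.1 h b hb
      rw [h3, mul_inv_cancel_right, mul_inv_cancel] at h2
      have h4 := h2.symm
      rw [mul_inv_eq_one, mul_inv_eq_iff_eq_mul] at h4
      exact h4.symm
    rw [mem_centralizer_iff]
    intro w hw
    exact mem_centralizer_singleton_iff.1 (h1 hw)

/-- an injection of cosets -/
theorem relIndex_le_of_map [Finite G] {A H W F : Subgroup G} (c : G → G) (hc : ∀ a ∈ A, c a ∈ W)
    (h : ∀ a ∈ A, ∀ b ∈ A, (c a)⁻¹ * c b ∈ F → a⁻¹ * b ∈ H) : H.relIndex A ≤ F.relIndex W := by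
  change Nat.card (A ⧸ H.subgroupOf A) ≤ Nat.card (W ⧸ F.subgroupOf W)
  let f : (A ⧸ H.subgroupOf A) → (W ⧸ F.subgroupOf W) := fun q => QuotientGroup.mk ⟨c (q.out : A), hc _ (q.out : A).2⟩
  have hf : Function.Injective f := by
    intro p q hpq
    have h1 := QuotientGroup.eq.1 hpq
    rw [mem_subgroupOf] at h1
    have h2 := h _ (p.out : A).2 _ (q.out : A).2 h1
    rw [← Quotient.out_eq' p, ← Quotient.out_eq' q]
    change (((p.out : A) : A ⧸ H.subgroupOf A)) = ((q.out : A) : A ⧸ _)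
    rw [QuotientGroup.eq, mem_subgroupOf]
    exact h2
  exact Nat.card_le_card_of_injective f hf

/-- **The replacement theorem** -/
theorem tr_best' [Finite G] {X A : Subgroup G} (hXc : ∀ x ∈ X, ∀ y ∈ X, x * y = y * x)
    (hAn : A ≤ normalizer (X : Set G)) (hA : Best X A) {v : G} (hv : v ∈ X) :
    Best X (A ⊓ centralizer (tr A v : Set G)) ∧
      X ⊓ centralizer ((A ⊓ centralizer (tr A v : Set G) : Subgroup G) : Set G) =
        tr A v ⊔ (X ⊓ centralizer (A : Set G)) ∧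
      Nat.card A * Nat.card ↥(X ⊓ centralizer (A : Set G)) ≤ Nat.card ↥(A ⊓ centralizer (tr A v : Set G)) *
        Nat.card ↥(X ⊓ centralizer ((A ⊓ centralizer (tr A v : Set G) : Subgroup G) : Set G)) := by
  set B := A ⊓ centralizer (tr A v : Set G) with hB
  set F := X ⊓ centralizer (A : Set G) with hF
  have htX := tr_le hAn hv
  have h1 : (centralizer (tr A v : Set G)).relIndex A ≤ F.relIndex (tr A v ⊔ F) := by
    refine relIndex_le_of_map (fun a => a * v * a⁻¹ * v⁻¹) (fun a ha => mem_sup_left (mem_tr ha)) ?_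
    intro a ha b hb hab
    rw [mem_cent_tr hXc hAn hA.toElemM hv (mul_mem (inv_mem ha) hb)]
    have hca : a * v * a⁻¹ * v⁻¹ ∈ X := htX (mem_tr ha)
    have hcb : b * v * b⁻¹ * v⁻¹ ∈ X := htX (mem_tr hb)
    rw [hXc _ (inv_mem hca) _ hcb] at hab
    have e : a⁻¹ * b * v * (a⁻¹ * b)⁻¹ * v⁻¹ =
        a⁻¹ * ((b * v * b⁻¹ * v⁻¹) * (a * v * a⁻¹ * v⁻¹)⁻¹) * a := by group
    have h2 := mem_centralizer_iff.1 hab.2 a ha
    rw [e, mul_assoc, ← h2, inv_mul_cancel_left]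
    exact hab.2
  have h2 := relIndex_mul_card A (centralizer (tr A v : Set G))
  have h3 := relIndex_mul_card (tr A v ⊔ F) F
  rw [inf_eq_right.2 (le_sup_right : F ≤ tr A v ⊔ F)] at h3
  have h4 : tr A v ⊔ F ≤ X ⊓ centralizer (B : Set G) := by
    refine sup_le (le_inf htX ?_) (inf_le_inf_left _ (centralizer_le inf_le_left))
    intro w hw
    rw [mem_centralizer_iff]
    intro b hb
    exact (mem_centralizer_iff.1 hb.2 w hw).symm
  have h5 : Nat.card A * Nat.card F ≤ Nat.card B * Nat.card ↥(tr A v ⊔ F) := by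
    rw [← h2, ← h3]
    calc (centralizer (tr A v : Set G)).relIndex A * Nat.card ↥(A ⊓ centralizer (tr A v : Set G)) * Nat.card F
        = (centralizer (tr A v : Set G)).relIndex A * (Nat.card B * Nat.card F) := by rw [← hB]; ring
      _ ≤ F.relIndex (tr A v ⊔ F) * (Nat.card B * Nat.card F) := Nat.mul_le_mul_right _ h1
      _ = _ := by ring
  have h6 : Nat.card B * Nat.card ↥(X ⊓ centralizer (B : Set G)) ≤ Nat.card A * Nat.card F := by
    refine hA.max B inf_le_left (le_inf inf_le_left ?_)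
    exact inf_le_right.trans (centralizer_le htX)
  have h7 : tr A v ⊔ F = X ⊓ centralizer (B : Set G) := by
    refine Subgroup.eq_of_le_of_card_ge h4 ?_
    exact Nat.le_of_mul_le_mul_left (h6.trans h5) Nat.card_pos
  refine ⟨⟨⟨fun a ha => hA.sq a ha.1, fun a ha b hb => hA.comm a ha.1 b hb.1⟩, ?_⟩, h7.symm, by rw [← h7]; exact h5⟩
  intro Y hY hYc
  rw [← h7]
  refine (hA.max Y (hY.trans inf_le_left) (le_trans ?_ hYc)).trans h5
  refine le_inf (le_inf inf_le_left ?_) inf_le_right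
  exact inf_le_right.trans (centralizer_le htX)

/-- the replacement theorem -/
theorem tr_best [Finite G] {X A : Subgroup G} (hXc : ∀ x ∈ X, ∀ y ∈ X, x * y = y * x)
    (hAn : A ≤ normalizer (X : Set G)) (hA : Best X A) {v : G} (hv : v ∈ X) :
    Best X (A ⊓ centralizer (tr A v : Set G)) ∧
      X ⊓ centralizer ((A ⊓ centralizer (tr A v : Set G) : Subgroup G) : Set G) =
        tr A v ⊔ (X ⊓ centralizer (A : Set G)) :=
  ⟨(tr_best' hXc hAn hA hv).1, (tr_best' hXc hAn hA hv).2.1⟩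

/-- the exact subgroups of a best offender -/
theorem best_cut [Finite G] {X U A B : Subgroup G} (hXc : ∀ x ∈ X, ∀ y ∈ X, x * y = y * x) (hA : Best X A)
    (hUX : U ≤ X) (h1 : A ⊓ centralizer (U : Set G) ≤ B) (h2 : B ≤ A)
    (h3 : Nat.card A * Nat.card ↥(U ⊓ centralizer (A : Set G)) ≤
      Nat.card B * Nat.card ↥(U ⊓ centralizer (B : Set G))) : Best X B := by
  refine ⟨NO1.BestOff.ElemM.mono hA.toElemM h2, fun Y hY hYc => ?_⟩
  have hAX : A ⊓ centralizer (X : Set G) ≤ B := le_trans (inf_le_inf_left _ (centralizer_le hUX)) h1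
  have h4 := Level.best_sub hXc hA hUX h1 h2
  have h5 : Nat.card A * Nat.card ↥(X ⊓ centralizer (A : Set G)) ≤
      Nat.card B * Nat.card ↥(X ⊓ centralizer (B : Set G)) := by
    have hp : 0 < Nat.card ↥(U ⊓ centralizer (A : Set G)) := Nat.card_pos
    refine Nat.le_of_mul_le_mul_right (c := Nat.card ↥(U ⊓ centralizer (A : Set G))) (le_trans ?_ h4) hp
    calc Nat.card A * Nat.card ↥(X ⊓ centralizer (A : Set G)) * Nat.card ↥(U ⊓ centralizer (A : Set G))
        = Nat.card A * Nat.card ↥(U ⊓ centralizer (A : Set G)) * Nat.card ↥(X ⊓ centralizer (A : Set G)) := by ring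
      _ ≤ _ := Nat.mul_le_mul_right _ h3
  exact (hA.max Y (hY.trans h2) (le_trans (le_inf hAX inf_le_right) hYc)).trans h5

/-- `[U, A] ≤ [U, A, A]` ⟹ `[U, A] = 1` -/
theorem comm_bot {P U A : Subgroup G} (hP : Group.IsNilpotent P) (hU : U ≤ P) (hA : A ≤ P)
    (h : ⁅U, A⁆ ≤ ⁅⁅U, A⁆, A⁆) : ⁅U, A⁆ = ⊥ := by
  obtain ⟨n, hn⟩ := (Subgroup.isNilpotent_iff_lowerCentralSeries P).1 hP
  have key : ∀ k : ℕ, ⁅U, A⁆ ≤ P.lowerCentralSeries k := by
    intro k
    induction k with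
    | zero => exact (commutator_mono hU hA).trans (commutator_le_self P)
    | succ k ih =>
      rw [Subgroup.lowerCentralSeries_succ]
      exact h.trans (commutator_mono ih hA)
  have := key n
  rw [hn] at this
  exact le_bot_iff.1 this

end Cfsg.Agent.Omega.NO3S.Fld
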