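import Cfsg.Agent.Omega.NO3S.Fld.FourBase
import Cfsg.Agent.Omega.NO3S.Level.Fam

/-!
# Fld, `q = 4`, at a level `K` (#16560 (4)): the situation

`Lv4 S P P2 R V3 K z` : `V = V_P` natural for `SL₂(4)`, `Ω₁(Z(S)) = ⟨z⟩`, `P₂ ∈ P(S)` centralises `z` and moves `R`,
`K` a level (`Lev S K`), `K ≤ O₂(P) = L`, `K ≤ O₂(P₂) = Q`, `J⁺ = nxt S K ≰ Q`, `J⁺ ≤ C(R)`; `A` ranges over the best
offenders `BO S K` on `Ω₁(Z(K))`. `X = ⟨R^P₂⟩ ≤ U = ⟨V^P₂⟩ ≤ Ω₁(Z(K))`.

* `Lv4.BO_le` : `|W : C_W(A)| ≤ |A : C_A(W)|` for `W ≤ Ω₁(Z(K))`;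
* `comm_XQ`, `not_Q_R`, `min_or`, `BO_cent` (`A ≤ Q` ⟹ `[X, A] = 1`), `inf_cent_X`;
* `root` : `A ≰ L` ⟹ `|A : C_A(V)| = |V : C_V(A)| = 4`, `C_V(A) = R`.
-/

set_option autoImplicit false
set_option linter.unusedSectionVars false

namespace Cfsg.Agent.Omega.NO3S.Fld

open Subgroup Cfsg Cfsg.Agent.ZN Cfsg.Agent.ZN.ChoiceBase Cfsg.Agent.Omega.MinPar Cfsg.Agent.Omega.FrameNOFF
open Cfsg.Agent.ZN.ChoiceSit (Syl syl_iff syl_not_dvd o2_le_syl isPGroup_o2)
open Cfsg.Agent.MinSimple.MinParabolic (IsMinPar)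
open Cfsg.Agent.MinSimple.VModule (oddGen oddGen_le mem_oddGen le_normalizer_oddGen le_normalizer_o2 o2_le
  zc_le zc_le_zl le_normalizer_zl zc_sq zc_comm le_centralizer_zc)
open Cfsg.Agent.Omega.NO3b.EZero (cl cj_le_cl le_cl cl_le cj_cl le_normalizer_cl cent_symm cj_cent cj_norm
  sq_of_comm oddGen_sup_syl mem_cj_self relIndex_cj le_normalizer_inf_cent)
open Cfsg.Agent.Omega.NO3b.K0 (conj_mem' cj_of_le cj_self)
open Cfsg.Agent.Omega.NO3S.NotFF (le_normalizer_of_forall normalizer_inf normalizer_sup normalizer_centralizer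
  normalizer_commutator)
open Cfsg.Agent.Omega.NO3S.Level (Lev BO nxt)
open scoped commutatorElement

universe u

/-- **The situation at a level** (`q = 4`). -/
structure Lv4 {G : Type u} [Group G] [Finite G] (S : Sylow 2 G) (P P2 R V3 K : Subgroup G) (z : G) : Prop where
  hyp : Hyp S P
  mod : DEight.Mod (S : Subgroup G) (zl (S : Subgroup G) P) R V3 z
  fix4 : ∀ b ∈ (S : Subgroup G), b ∉ centralizer (zl (S : Subgroup G) P : Set G) →
    Nat.card ↥(zl (S : Subgroup G) P ⊓ centralizer ({b} : Set G)) ≤ 4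
  zS : zc (S : Subgroup G) = zpowers z
  par : IsPar (S : Subgroup G) P2
  le : P2 ≤ CZ (S : Subgroup G)
  mv : ¬ P2 ≤ normalizer (R : Set G)
  soc : zc (o2 P) = zl (S : Subgroup G) P
  /-- the FF-LEMMA -/
  ff : zc (o2 P2) ≤ centralizer (oddGen P2 : Set G)
  lev : Lev (S : Subgroup G) K
  KL : K ≤ o2 P
  KQ : K ≤ o2 P2
  nQ : ¬ nxt (S : Subgroup G) K ≤ o2 P2
  cR : nxt (S : Subgroup G) K ≤ centralizer (R : Set G)

namespace Lv4

variable {G : Type u} [Group G] [Finite G] {S : Sylow 2 G} {P P2 R V3 K : Subgroup G} {z : G}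
  (h : Lv4 S P P2 R V3 K z)
include h

theorem syl : Syl (S : Subgroup G) P2 :=
  ⟨h.par.le, S.isPGroup', fun _ _ hT hST => S.is_maximal' hT hST⟩

theorem S_le : (S : Subgroup G) ≤ P2 := h.par.le

theorem Q_le : o2 P2 ≤ (S : Subgroup G) := o2_le_syl h.syl

theorem L_le : o2 P ≤ (S : Subgroup G) := h.hyp.star.isLoc.o2_le S

theorem V_le_S : zl (S : Subgroup G) P ≤ (S : Subgroup G) := h.hyp.V_le_S

theorem R_le_V : R ≤ zl (S : Subgroup G) P := h.mod.R_le.trans h.mod.V3_le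

theorem z_mem_R : z ∈ R := h.mod.z_mem

theorem z_comm {g : G} (hg : g ∈ P2) : g * z = z * g := by
  have h1 : z ∈ zc (S : Subgroup G) := by rw [h.zS]; exact mem_zpowers z
  exact (mem_centralizer_iff.1 (h.le hg) z h1).symm

theorem z_comm_zpowers {g w : G} (hg : g ∈ P2) (hw : w ∈ zpowers z) : g * w * g⁻¹ = w := by
  obtain ⟨n, rfl⟩ := mem_zpowers_iff.1 hw
  have h1 : Commute g z := h.z_comm hg
  exact mul_inv_eq_iff_eq_mul.2 (h1.zpow_right n).eq

theorem P2_zpowers : P2 ≤ normalizer (zpowers z : Set G) :=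
  le_normalizer_of_forall fun g hg w hw => by rw [h.z_comm_zpowers hg hw]; exact hw

theorem zpowers_le_R : zpowers z ≤ R := zpowers_le.2 h.z_mem_R

theorem z_sq : z * z = 1 := by
  have := h.mod.sq z (h.R_le_V h.z_mem_R)
  rwa [pow_two] at this

theorem mem_zpowers_iff' {g : G} : g ∈ zpowers z ↔ g = 1 ∨ g = z := by
  constructor
  · intro hg
    obtain ⟨n, rfl⟩ := mem_zpowers_iff.1 hg
    rcases Int.even_or_odd' n with ⟨k, rfl | rfl⟩
    · left
      rw [zpow_mul, zpow_ofNat, pow_two, h.z_sq, one_zpow]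
    · right
      rw [zpow_add, zpow_mul, zpow_ofNat, pow_two, h.z_sq, one_zpow, one_mul, zpow_one]
  · rintro (rfl | rfl)
    · exact one_mem _
    · exact mem_zpowers _

/-- `U = ⟨V^P₂⟩ ≤ W` -/
theorem U_le_WW : cl (zl (S : Subgroup G) P) P2 ≤ WW (S : Subgroup G) P :=
  cl_le fun _ hp => conj_zl_le_WW (h.le hp)

theorem U_comm : cl (zl (S : Subgroup G) P) P2 ≤ centralizer (cl (zl (S : Subgroup G) P) P2 : Set G) :=
  (h.U_le_WW.trans h.hyp.W_comm).trans (centralizer_le h.U_le_WW)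

theorem U_sq : ∀ u ∈ cl (zl (S : Subgroup G) P) P2, u ^ 2 = 1 := fun u hu => h.hyp.W_sq u (h.U_le_WW hu)

theorem U_norm : P2 ≤ normalizer (cl (zl (S : Subgroup G) P) P2 : Set G) := le_normalizer_cl _ _

theorem X_norm : P2 ≤ normalizer (cl R P2 : Set G) := le_normalizer_cl _ _

theorem X_le_U : cl R P2 ≤ cl (zl (S : Subgroup G) P) P2 :=
  cl_le fun _ hp => (cj_mono _ h.R_le_V).trans (cj_le_cl hp)

theorem V_le_U : zl (S : Subgroup G) P ≤ cl (zl (S : Subgroup G) P) P2 := le_cl _ _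

theorem R_le_X : R ≤ cl R P2 := le_cl _ _

theorem U_le_P2 : cl (zl (S : Subgroup G) P) P2 ≤ P2 := cl_le fun p hp => by
  have h1 := cj_mono p (h.V_le_S.trans h.S_le)
  rwa [cj_self hp] at h1

theorem U_two : IsPGroup 2 (cl (zl (S : Subgroup G) P) P2) := fun x =>
  ⟨1, Subtype.ext (by simpa using h.U_sq x x.2)⟩

theorem U_le_Q : cl (zl (S : Subgroup G) P) P2 ≤ o2 P2 := ChoiceSit.le_o2 h.U_two h.U_le_P2 h.U_norm

theorem X_le_Q : cl R P2 ≤ o2 P2 := h.X_le_U.trans h.U_le_Q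

theorem U_le_S : cl (zl (S : Subgroup G) P) P2 ≤ (S : Subgroup G) := h.U_le_Q.trans h.Q_le

theorem X_le_S : cl R P2 ≤ (S : Subgroup G) := h.X_le_Q.trans h.Q_le

theorem X_sq : ∀ u ∈ cl R P2, u ^ 2 = 1 := fun u hu => h.U_sq u (h.X_le_U hu)

theorem X_comm : cl R P2 ≤ centralizer (cl R P2 : Set G) :=
  (h.X_le_U.trans h.U_comm).trans (centralizer_le h.X_le_U)

/-- the dichotomy for normal subgroups of `P₂` -/
theorem min_or {N : Subgroup G} (hK : N ≤ P2) (hKn : P2 ≤ normalizer (N : Set G)) :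
    oddGen P2 ≤ N ∨ (S : Subgroup G) ⊓ N ≤ o2 P2 :=
  Cfsg.Agent.Omega.NO3b.K0.min_or h.syl h.par.toIsMinPar hK hKn

theorem sup_S : oddGen P2 ⊔ (S : Subgroup G) = P2 := oddGen_sup_syl h.syl

/-- `E` moves `R` -/
theorem E_R : ¬ oddGen P2 ≤ normalizer (R : Set G) := by
  intro h0
  apply h.mv
  rw [← h.sup_S]
  exact sup_le h0 h.mod.S_R

theorem E_cent_R : ¬ oddGen P2 ≤ centralizer (R : Set G) := fun h0 =>
  h.E_R (h0.trans (centralizer_le_normalizer _))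

theorem not_S_le : ¬ (S : Subgroup G) ≤ o2 P2 := by
  intro h0
  apply h.par.not_le
  rw [le_antisymm h0 h.Q_le]
  exact le_normalizer_o2 P2

/-- `[R, S] ≤ ⟨z⟩` -/
theorem comm_RS {s r : G} (hs : s ∈ (S : Subgroup G)) (hr : r ∈ R) : s * r * s⁻¹ * r⁻¹ ∈ zpowers z := by
  by_cases hr1 : r ∈ zpowers z
  · rw [h.z_comm_zpowers (h.S_le hs) hr1, mul_inv_cancel]
    exact one_mem _
  rw [h.mem_zpowers_iff'] at hr1
  push Not at hr1
  have hsr : s * r * s⁻¹ ∈ R := conj_mem' h.mod.S_R hs hr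
  have hsr1 : s * r * s⁻¹ ≠ 1 := fun h0 => hr1.1 (conj_eq_one_iff.1 h0)
  have hrr : r * r = 1 := by
    have := h.mod.sq r (h.R_le_V hr)
    rwa [pow_two] at this
  rcases eq_of_card_four h.mod.cardR (fun v hv => h.mod.sq v (h.R_le_V hv)) h.z_mem_R h.mod.z_ne hr hr1.1
    (Ne.symm hr1.2) hsr hsr1 with e | e | e
  · -- `s r s⁻¹ = z` is impossible
    exfalso
    apply hr1.2
    have h1 : r = s⁻¹ * (s * r * s⁻¹) * s := by group
    rw [h1, e]
    have h2 := h.z_comm (h.S_le hs)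
    rw [mul_assoc, ← h2, inv_mul_cancel_left]
  · rw [e, mul_inv_cancel]; exact one_mem _
  · rw [e, mul_inv_cancel_right]
    exact mem_zpowers z

/-- `[X, Q] ≤ ⟨z⟩` -/
theorem comm_XQ {q x : G} (hq : q ∈ o2 P2) (hx : x ∈ cl R P2) : q * x * q⁻¹ * x⁻¹ ∈ zpowers z := by
  have hX : cl R P2 ≤ normalizer (zpowers z : Set G) := (h.X_le_S.trans h.S_le).trans h.P2_zpowers
  have h1 : cl R P2 ≤ cmod (cl R P2) (o2 P2) (zpowers z) hX := by
    refine cl_le fun p hp => ?_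
    have h2 : R ≤ cmod (cl R P2) (o2 P2) (zpowers z) hX := fun r hr =>
      ⟨h.R_le_X hr, fun q hq => h.comm_RS (h.Q_le hq) hr⟩
    have h3 := cj_mono p h2
    rwa [cj_of_le (norm_cmod h.X_norm (le_normalizer_o2 P2) h.P2_zpowers) hp] at h3
  exact (h1 hx).2 q hq

/-- `Q ≰ C(R)` -/
theorem not_Q_R : ¬ o2 P2 ≤ centralizer (R : Set G) := by
  intro h0
  have h1 : R ≤ zc (o2 P2) := fun r hr => ChoiceBase.mem_zc.2 ⟨h.X_le_Q (h.R_le_X hr), h.X_sq r (h.R_le_X hr),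
    fun y hy => (mem_centralizer_iff.1 (h0 hy) r hr).symm⟩
  exact h.E_cent_R (cent_symm (h1.trans h.ff))

theorem not_Q_V : ¬ o2 P2 ≤ centralizer (zl (S : Subgroup G) P : Set G) := fun h0 =>
  h.not_Q_R (h0.trans (centralizer_le h.R_le_V))

/-! ### The level -/

theorem P_norm : P ≤ normalizer (K : Set G) := h.lev.le_norm_of_o2 h.KL h.L_le

theorem P2_norm : P2 ≤ normalizer (K : Set G) := h.lev.le_norm_of_o2 h.KQ h.Q_le

theorem P_zc : P ≤ normalizer (zc K : Set G) := h.P_norm.trans (Level.normalizer_le_zc K)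

theorem P2_zc : P2 ≤ normalizer (zc K : Set G) := h.P2_norm.trans (Level.normalizer_le_zc K)

theorem V_le_zc : zl (S : Subgroup G) P ≤ zc K := by
  rw [← h.soc]
  exact h.lev.zc_o2_le h.KL h.L_le

theorem U_le_zc : cl (zl (S : Subgroup G) P) P2 ≤ zc K := cl_le fun p hp => by
  have h1 := cj_mono p h.V_le_zc
  rwa [cj_of_le h.P2_zc hp] at h1

theorem zcK_sq : ∀ x ∈ zc K, x ^ 2 = 1 := fun _ hx => (ChoiceBase.mem_zc.1 hx).2.1

theorem zcK_comm : zc K ≤ centralizer (zc K : Set G) := fun _ hx =>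
  mem_centralizer_iff.2 fun _ hy => Lev.zc_comm hy hx

theorem zcK_le_S : zc K ≤ (S : Subgroup G) := (zc_le K).trans h.lev.le

omit h in
/-- a best offender offends on `W ≤ Ω₁(Z(K))` -/
theorem BO_le {A W : Subgroup G} (hA : A ∈ BO (S : Subgroup G) K) (hW : W ≤ zc K) :
    (centralizer (A : Set G)).relIndex W ≤ (centralizer (W : Set G)).relIndex A := by
  by_cases hne : A ≤ centralizer (W : Set G)
  · rw [relIndex_eq_one.2 hne]
    exact le_of_eq (relIndex_eq_one.2 (cent_symm hne))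
  · exact FFThm.relIndex_le_iff.1 (hA.2.offM hW hne).le

/-- the conjugates of `A ∈ BO(S, K)`, `A ≤ Q` -/
theorem BO_cj {A : Subgroup G} (hA : A ∈ BO (S : Subgroup G) K) (hAQ : A ≤ o2 P2) {p : G} (hp : p ∈ P2) :
    cj p A ∈ BO (S : Subgroup G) K ∧ cj p A ≤ o2 P2 := by
  have h1 := cj_mono p hAQ
  rw [cj_of_le (le_normalizer_o2 P2) hp] at h1
  exact ⟨Level.BO.conj hA (h.P2_norm hp) (h1.trans h.Q_le), h1⟩

/-- the conjugates of `A ∈ BO(S, K)`, `A ≤ L` -/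
theorem BO_cjP {A : Subgroup G} (hA : A ∈ BO (S : Subgroup G) K) (hAL : A ≤ o2 P) {p : G} (hp : p ∈ P) :
    cj p A ∈ BO (S : Subgroup G) K ∧ cj p A ≤ o2 P := by
  have h1 := cj_mono p hAL
  rw [cj_of_le (le_normalizer_o2 P) hp] at h1
  exact ⟨Level.BO.conj hA (h.P_norm hp) (h1.trans h.L_le), h1⟩

theorem BO_R {A : Subgroup G} (hA : A ∈ BO (S : Subgroup G) K) : A ≤ centralizer (R : Set G) :=
  (Level.BO.le_nxt hA).trans h.cR

/-- `A ∈ BO(S, K)`, `A ≤ Q` ⟹ `[X, A] = 1` -/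
theorem BO_cent {A : Subgroup G} (hA : A ∈ BO (S : Subgroup G) K) (hAQ : A ≤ o2 P2) :
    A ≤ centralizer (cl R P2 : Set G) := by
  apply cent_symm
  refine cl_le fun p hp => ?_
  have h1 := cent_symm (h.BO_R (h.BO_cj hA hAQ (inv_mem hp)).1)
  have h2 := cj_cent (g := p) h1
  rwa [cj_cj_inv] at h2

/-- `C_S(X) ≤ Q` -/
theorem inf_cent_X : (S : Subgroup G) ⊓ centralizer (cl R P2 : Set G) ≤ o2 P2 := by
  rcases h.min_or (N := P2 ⊓ centralizer (cl R P2 : Set G)) inf_le_left (le_normalizer_inf_cent h.X_norm) with h1 | h1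
  · exact absurd ((h1.trans inf_le_right).trans (centralizer_le h.R_le_X)) h.E_cent_R
  · exact (le_inf inf_le_left (inf_le_inf_right _ h.S_le)).trans h1

theorem inf_cent_U : (S : Subgroup G) ⊓ centralizer (cl (zl (S : Subgroup G) P) P2 : Set G) ≤ o2 P2 :=
  (inf_le_inf_left _ (centralizer_le h.X_le_U)).trans h.inf_cent_X

theorem inf_cent_zc : (S : Subgroup G) ⊓ centralizer (zc K : Set G) ≤ o2 P2 :=
  (inf_le_inf_left _ (centralizer_le h.U_le_zc)).trans h.inf_cent_U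

theorem exists_BO_not_Q : ∃ A ∈ BO (S : Subgroup G) K, ¬ A ≤ o2 P2 := by
  by_contra hcon
  push Not at hcon
  exact h.nQ (sup_le h.inf_cent_zc (sSup_le hcon))

theorem mem_L_iff {x : G} (hx : x ∈ (S : Subgroup G)) : x ∈ o2 P ↔ x ∈ centralizer (zl (S : Subgroup G) P : Set G) := by
  rw [← h.hyp.inf_centralizer]
  exact ⟨fun h1 => h1.2, fun h1 => ⟨hx, h1⟩⟩

theorem inf_cent_zc_L : (S : Subgroup G) ⊓ centralizer (zc K : Set G) ≤ o2 P := fun _ hx =>
  (h.mem_L_iff hx.1).2 (centralizer_le h.V_le_zc hx.2)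

/-- squares and commutators of `A` lie in `C_S(Ω₁(Z(K)))` -/
theorem BO_sq {A : Subgroup G} (hA : A ∈ BO (S : Subgroup G) K) {a : G} (ha : a ∈ A) :
    a ^ 2 ∈ (S : Subgroup G) ⊓ centralizer (zc K : Set G) :=
  ⟨pow_mem (hA.1 ha) 2, hA.2.sq a ha⟩

theorem BO_comm {A : Subgroup G} (hA : A ∈ BO (S : Subgroup G) K) {a b : G} (ha : a ∈ A) (hb : b ∈ A) :
    a * b * a⁻¹ * b⁻¹ ∈ (S : Subgroup G) ⊓ centralizer (zc K : Set G) :=
  ⟨(S : Subgroup G).mul_mem ((S : Subgroup G).mul_mem ((S : Subgroup G).mul_mem (hA.1 ha) (hA.1 hb))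
    ((S : Subgroup G).inv_mem (hA.1 ha))) ((S : Subgroup G).inv_mem (hA.1 hb)), hA.2.comm a ha b hb⟩

/-- the root groups -/
theorem root {A : Subgroup G} (hA : A ∈ BO (S : Subgroup G) K) (hAL : ¬ A ≤ o2 P) :
    zl (S : Subgroup G) P ⊓ centralizer (A : Set G) = R ∧
      (centralizer (zl (S : Subgroup G) P : Set G)).relIndex A = 4 ∧
      (centralizer (A : Set G)).relIndex (zl (S : Subgroup G) P) = 4 := by
  obtain ⟨b, hb, hbL⟩ := SetLike.not_le_iff_exists.1 hAL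
  have hbS := hA.1 hb
  have hbV : b ∉ centralizer (zl (S : Subgroup G) P : Set G) := fun h0 => hbL ((h.mem_L_iff hbS).2 h0)
  have h1 := h.fix4 b hbS hbV
  have h2 : R ≤ zl (S : Subgroup G) P ⊓ centralizer (A : Set G) := le_inf h.R_le_V (cent_symm (h.BO_R hA))
  have h3 : zl (S : Subgroup G) P ⊓ centralizer (A : Set G) ≤ zl (S : Subgroup G) P ⊓ centralizer ({b} : Set G) :=
    inf_le_inf_left _ (centralizer_le (Set.singleton_subset_iff.2 hb))
  have h4 : Nat.card ↥(zl (S : Subgroup G) P ⊓ centralizer (A : Set G)) ≤ 4 := (Subgroup.card_le_of_le h3).trans h1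
  have h5 : R = zl (S : Subgroup G) P ⊓ centralizer (A : Set G) := eq_of_le_of_card_ge h2 (by rw [h.mod.cardR]; exact h4)
  have h6 := relIndex_mul_card (zl (S : Subgroup G) P) (centralizer (A : Set G))
  rw [← h5, h.mod.cardR, h.mod.card] at h6
  have h7 : (centralizer (A : Set G)).relIndex (zl (S : Subgroup G) P) = 4 := by omega
  have h8 := BO_le hA h.V_le_zc
  have h9 := h.mod.ind A hA.1 ⟨fun a ha => centralizer_le h.V_le_zc (h.BO_sq hA ha).2,
    fun a ha b hb => centralizer_le h.V_le_zc (h.BO_comm hA ha hb).2⟩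
  exact ⟨h5.symm, by omega, h7⟩

end Lv4

end Cfsg.Agent.Omega.NO3S.Fld
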