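import Cfsg.Agent.Omega.NO3S.Fld.LevF
import Cfsg.Agent.Omega.NO3S.Fld.Red

/-!
# Fld, THEOREM RED at every level (helper781 #16560 (4), helper163 #15355)

* `ff_lemma_off` : the FF-LEMMA (helper151, `NO3b/K0/FFLem.lean`) for one offender `A ≤ T` on `Y`, `A ≰ O₂(X)`;
* `red_lev_par` : a minimal parabolic `X ≤ C_G(Z)` over `S` normalises `R = Ω₁(Z(lev (n + 1)))`, if `|F| ≥ 16` and
  `lev n ≤ O₂(P)`;
* `red_lev` : `C_G(Z) ≤ N_G(R)`.
-/

set_option autoImplicit false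
set_option linter.unusedSectionVars false

namespace Cfsg.Agent.Omega.NO3S.Fld

universe u

section fflem

open Subgroup Cfsg Cfsg.Agent.ZN Cfsg.Agent.ZN.ChoiceBase Cfsg.Agent.ZN.ChoiceSit
open Cfsg.Agent.MinSimple.MinParabolic (IsMinPar)
open Cfsg.Agent.MinSimple.VModule (oddGen oddGen_le mem_oddGen le_normalizer_oddGen oddGen_le_of_sup)
open Cfsg.Agent.Omega.NO3b Cfsg.Agent.Omega.NO3b.EZero Cfsg.Agent.Omega.NO3b.K0
open Cfsg.Agent.Omega.NO3S.NotFF (commutator_le_of_odd le_centralizer_of_commutator commutator_commutator_eq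
  normalizer_commutator le_normalizer_bot)
open Cfsg.Agent.Omega.FFThm (ElemM)
open scoped commutatorElement

variable {G : Type u} [Group G] [Finite G]

/-- **FF-LEMMA for one offender.** -/
theorem ff_lemma_off (hA : FFBr.AStmt.{u}) {T X Y A : Subgroup G} (hT : Syl T X) (hmin : IsMinPar T X)
    (hYX : Y ≤ X) (hsq : ∀ y ∈ Y, y ^ 2 = 1) (hcom : Y ≤ centralizer (Y : Set G))
    (hN : X ≤ normalizer (Y : Set G)) (hQ : o2 X ≤ centralizer (Y : Set G))
    (hfix : Y ⊓ centralizer (T : Set G) ≤ centralizer (oddGen X : Set G)) (hAT : A ≤ T) (hAQ : ¬ A ≤ o2 X)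
    (hAE : ElemM Y A) (hoff : Nat.card Y * Nat.card ↥(A ⊓ centralizer (Y : Set G)) ≤
      Nat.card A * Nat.card ↥(Y ⊓ centralizer (A : Set G))) :
    Y ≤ centralizer (oddGen X : Set G) := by
  by_contra hne
  have hNo := noOv hA hT hmin
  have hFO := fullOff hA hT hmin
  have hYP : IsPGroup 2 Y := fun x => ⟨1, Subtype.ext (by simpa using hsq x x.2)⟩
  have hEX : oddGen X ≤ X := oddGen_le X
  have hAX : A ≤ X := hAT.trans hT.1
  have hXY : X ≤ normalizer ((X ⊓ centralizer (Y : Set G) : Subgroup G) : Set G) := le_normalizer_inf_cent hN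
  have hTC : T ⊓ centralizer (Y : Set G) ≤ o2 X := by
    rcases min_or hT hmin (K := X ⊓ centralizer (Y : Set G)) inf_le_left hXY with h1 | h1
    · exact absurd (cent_symm (h1.trans inf_le_right)) hne
    · exact (le_inf inf_le_left (le_inf (inf_le_left.trans hT.1) inf_le_right)).trans h1
  have hAsq : ∀ a ∈ A, a ^ 2 ∈ o2 X := fun a ha => hTC ⟨pow_mem (hAT ha) 2, hAE.sq a ha⟩
  have hAcc : ∀ a ∈ A, ∀ b ∈ A, a * b * a⁻¹ * b⁻¹ ∈ o2 X := fun a ha b hb =>
    hTC ⟨T.mul_mem (T.mul_mem (T.mul_mem (hAT ha) (hAT hb)) (T.inv_mem (hAT ha))) (T.inv_mem (hAT hb)),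
      hAE.comm a ha b hb⟩
  -- the offender inequality
  have e1 : A ⊓ centralizer (Y : Set G) = A ⊓ o2 X :=
    le_antisymm (le_inf inf_le_left ((le_inf (inf_le_left.trans hAT) inf_le_right).trans hTC))
      (inf_le_inf_left A hQ)
  rw [e1] at hoff
  set i := (o2 X).relIndex A with hi
  have hi2 : 2 ≤ i := two_le_of_ne hAQ
  have hcY : (centralizer (A : Set G)).relIndex Y ≤ i := FFThm.relIndex_le_iff.1 hoff
  -- `Y₁ = [Y, O²(X)]`
  set Y₁ : Subgroup G := ⁅Y, oddGen X⁆ with hY₁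
  have hY₁Y : Y₁ ≤ Y := CTwo.Sit.commutator_le_of_norm (hEX.trans hN)
  have hXY₁ : X ≤ normalizer (Y₁ : Set G) := normalizer_commutator hN (le_normalizer_oddGen X)
  have hYE : ⁅Y₁, oddGen X⁆ = Y₁ := commutator_commutator_eq (oddGen_oddGen X) hYP (hEX.trans hN)
    (hYX.trans (le_normalizer_oddGen X))
  have hY₁ne : Y₁ ≠ ⊥ := fun h0 => hne (commutator_eq_bot_iff_le_centralizer.1 h0)
  have hc₁ : (centralizer (A : Set G)).relIndex Y₁ ≤ i :=
    (relIndex_le_of_le_right hY₁Y index_ne_zero_of_finite).trans hcY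
  have hsq₁ : ∀ y ∈ Y₁, y ^ 2 = 1 := fun y hy => hsq y (hY₁Y hy)
  have hcom₁ : Y₁ ≤ centralizer (Y₁ : Set G) := hY₁Y.trans (hcom.trans (centralizer_le hY₁Y))
  have hirr : ∀ K : Subgroup G, K ≤ Y₁ → X ≤ normalizer (K : Set G) → K ≠ Y₁ →
      K ≤ centralizer (oddGen X : Set G) := by
    intro K hK hXK hKne
    by_contra hE'
    have h1 := hNo.two hK (hY₁Y.trans hYX) hsq₁ hcom₁ hXK hXY₁
      (by rw [hYE]; exact fun h0 => hKne (le_antisymm hK h0)) hE' hAX hAsq hAcc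
    have h2 : i * i ≤ i := h1.trans hc₁
    nlinarith
  -- the full preimage
  set N₀ : Subgroup G := Y₁ ⊓ centralizer (oddGen X : Set G) with hN₀
  have hXc : X ≤ normalizer ((centralizer (oddGen X : Set G) : Subgroup G) : Set G) := by
    intro x hx
    rw [mem_normalizer_iff_cj, cj_centralizer, mem_normalizer_iff_cj.1 (le_normalizer_oddGen X hx)]
  have hXN₀ : X ≤ normalizer (N₀ : Set G) := by
    intro a ha
    rw [mem_normalizer_iff_cj, cj_inf, cj_of_le hXY₁ ha, cj_of_le hXc ha]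
  have hYX₁ : Y₁ ≤ X := hY₁Y.trans hYX
  have cjm : ∀ y ∈ Y₁, ∀ n ∈ N₀, y * n * y⁻¹ ∈ N₀ := fun y hy n hn =>
    (mem_normalizer_iff.1 (hXN₀ (hYX₁ hy)) n).1 hn
  let D : Subgroup G :=
    { carrier := {y | y ∈ Y₁ ∧ ∀ a ∈ A, ⁅y, a⁆ ∈ N₀}
      one_mem' := ⟨one_mem _, fun a _ => by rw [commutatorElement_one_left]; exact one_mem _⟩
      mul_mem' := by
        rintro y y' ⟨hy, hya⟩ ⟨hy', hya'⟩
        refine ⟨mul_mem hy hy', fun a ha => ?_⟩
        have e : ⁅y * y', a⁆ = (y * ⁅y', a⁆ * y⁻¹) * ⁅y, a⁆ := by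
          simp only [commutatorElement_def]; group
        rw [e]
        exact mul_mem (cjm y hy _ (hya' a ha)) (hya a ha)
      inv_mem' := by
        rintro y ⟨hy, hya⟩
        refine ⟨inv_mem hy, fun a ha => ?_⟩
        have e : ⁅y⁻¹, a⁆ = y⁻¹ * (⁅y, a⁆)⁻¹ * (y⁻¹)⁻¹ := by
          simp only [commutatorElement_def]; group
        rw [e]
        exact cjm _ (inv_mem hy) _ (inv_mem (hya a ha)) }
  have hDY : D ≤ Y₁ := fun y hy => hy.1
  have hDA : ⁅D, A⁆ ≤ N₀ := by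
    rw [commutator_le]
    exact fun y hy a ha => hy.2 a ha
  have h5 : i ≤ D.relIndex Y₁ := hNo.gen (N := N₀) inf_le_left hYX₁ hsq₁ hcom₁ hXN₀ hXY₁ (by
    rw [hYE]
    intro h0
    apply hY₁ne
    rw [← hYE]
    exact commutator_eq_bot_iff_le_centralizer.2 (h0.trans inf_le_right)) hAX hAsq hAcc hDY hDA
  have hCD : centralizer (A : Set G) ⊓ Y₁ ≤ D := by
    rintro y ⟨hy1, hy2⟩
    refine ⟨hy2, fun a ha => ?_⟩
    have e : ⁅y, a⁆ = 1 := by
      rw [commutatorElement_eq_one_iff_mul_comm]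
      exact (mem_centralizer_iff.1 hy1 a ha).symm
    rw [e]; exact one_mem _
  have h6 := relIndex_mul_relIndex (centralizer (A : Set G) ⊓ Y₁) D Y₁ hCD hDY
  have h7 : (centralizer (A : Set G) ⊓ Y₁).relIndex Y₁ = (centralizer (A : Set G)).relIndex Y₁ :=
    inf_relIndex_right _ _
  rw [h7] at h6
  have h8 : 0 < (centralizer (A : Set G) ⊓ Y₁).relIndex D := Nat.pos_of_ne_zero index_ne_zero_of_finite
  have h9 : (centralizer (A : Set G) ⊓ Y₁).relIndex D = 1 := by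
    have h10 : (centralizer (A : Set G) ⊓ Y₁).relIndex D * D.relIndex Y₁ ≤ 1 * D.relIndex Y₁ := by
      rw [h6, one_mul]; exact hc₁.trans h5
    have h11 : 0 < D.relIndex Y₁ := lt_of_lt_of_le (by omega) h5
    have h12 := Nat.le_of_mul_le_mul_right h10 h11
    omega
  have hDC : D ≤ centralizer (A : Set G) ⊓ Y₁ := relIndex_eq_one.1 h9
  have hidx : i = (centralizer (A : Set G)).relIndex Y₁ := by
    refine le_antisymm ?_ hc₁
    rw [← h6, h9, one_mul]
    exact h5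
  obtain ⟨y, hy, hyT, hyE⟩ := hFO Y₁ A hYX₁ hsq₁ hcom₁ hXY₁ (hQ.trans (centralizer_le hY₁Y)) hYE hY₁ne hirr hAT
    hAsq hAcc hAQ (fun y hy h => (hDC ⟨hy, fun a ha => ⟨(by
      have h1 := hXY₁ (hAX ha)
      have h2 := (mem_normalizer_iff.1 h1 y⁻¹).1 (inv_mem hy)
      have e : ⁅y, a⁆ = y * (a * y⁻¹ * a⁻¹) := by simp only [commutatorElement_def]; group
      rw [e]
      exact mul_mem hy h2), h a ha⟩⟩).1) hidx
  exact hyE (hfix ⟨hY₁Y hy, hyT⟩)

end fflem

open Subgroup Cfsg Cfsg.Agent.ZN Cfsg.Agent.ZN.ChoiceBase Cfsg.Agent.Omega.MinPar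
open Cfsg.Agent.Omega.Frame Cfsg.Agent.Omega.FrameNOFF
open Cfsg.Agent.ZN.ChoiceSit (Syl)
open Cfsg.Agent.MinSimple.MinParabolic (IsMinPar)
open Cfsg.Agent.MinSimple.VModule (oddGen oddGen_le)
open Cfsg.Agent.Omega.NO3b.EZero (cl cl_le oddGen_sup_syl)
open Cfsg.Agent.Omega.NO3S.OneLine (BFam elemM_mono)
open Cfsg.Agent.Omega.NO3S.Level

variable {G : Type u} [Group G] [Finite G] {S : Sylow 2 G} {P : Subgroup G}

/-- `Ω₁(Z(O₂(X)))` is centralised by `O²(X)` if there is an offender, `X ≤ C_G(Ω₁(Z(S)))`. -/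
theorem ff_lemma_zc {X A : Subgroup G} (hmin : IsMinPar (S : Subgroup G) X) (hXZ : X ≤ CZ (S : Subgroup G))
    (hAS : A ≤ (S : Subgroup G)) (hAQ : ¬ A ≤ o2 X) (hAE : FFThm.ElemM (zc (o2 X)) A)
    (hoff : Nat.card (zc (o2 X)) * Nat.card ↥(A ⊓ centralizer (zc (o2 X) : Set G)) ≤
      Nat.card A * Nat.card ↥(zc (o2 X) ⊓ centralizer (A : Set G))) :
    zc (o2 X) ≤ centralizer (oddGen X : Set G) := by
  have hT : Syl (S : Subgroup G) X := ⟨hmin.le, S.isPGroup', fun _ _ hT hST => S.is_maximal' hT hST⟩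
  refine ff_lemma_off FF.Glob.aStmt hT hmin ((ZN.zc_le _).trans (ChoiceSit.o2_le X)) (fun y hy => ZN.zc_sq hy)
    ((ZN.zc_le_centralizer _).trans (centralizer_le (ZN.zc_le _)))
    ((ZN.le_normalizer_o2 X).trans (normalizer_le_normalizer_zc _)) (ZN.le_centralizer_zc _) ?_ hAS hAQ hAE hoff
  rintro y ⟨hy, hyT⟩
  have h1 : y ∈ zc (S : Subgroup G) := ZN.mem_zc.2 ⟨ChoiceSit.o2_le_syl hT (ZN.zc_le _ hy),
    fun b hb => mem_centralizer_iff.1 hyT b hb, ZN.zc_sq hy⟩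
  rw [mem_centralizer_iff]
  intro x hx
  exact (mem_centralizer_iff.1 (hXZ (oddGen_le X hx)) y h1).symm

variable {F : Type*} [Field F] [Finite F] [CharP F 2]

/-- The last level in `O₂(X)`. -/
theorem exists_last {X : Subgroup G} {n : ℕ} (h0 : jj (S : Subgroup G) ≤ o2 X)
    (h1 : ¬ lev (S : Subgroup G) (n + 1) ≤ o2 X) :
    ∃ j, j ≤ n ∧ lev (S : Subgroup G) j ≤ o2 X ∧ ¬ lev (S : Subgroup G) (j + 1) ≤ o2 X := by
  induction n with
  | zero => exact ⟨0, le_rfl, h0, h1⟩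
  | succ n ih =>
    by_cases h2 : lev (S : Subgroup G) (n + 1) ≤ o2 X
    · exact ⟨n + 1, le_rfl, h2, h1⟩
    · obtain ⟨j, hj, h3⟩ := ih h2
      exact ⟨j, by omega, h3⟩

/-- **THEOREM RED at every level**, for one minimal parabolic. -/
theorem red_lev_par (h : Hyp S P) (M : Crd F (S : Subgroup G) P (zl (S : Subgroup G) P))
    (h16 : 16 ≤ Nat.card F) {n : ℕ} (hn : lev (S : Subgroup G) n ≤ o2 P)
    (hR : zc (lev (S : Subgroup G) (n + 1)) = M.R) {X : Subgroup G} (hX : IsMinPar (S : Subgroup G) X)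
    (hXZ : X ≤ CZ (S : Subgroup G)) : X ≤ normalizer (M.R : Set G) := by
  have hG := h.ctx.char2
  have hsyl : Syl (S : Subgroup G) X := ⟨hX.le, S.isPGroup', fun _ _ hT hST => S.is_maximal' hT hST⟩
  have hQXS : o2 X ≤ (S : Subgroup G) := ChoiceSit.o2_le_syl hsyl
  have hno := NO3b.K0.noOv FF.Glob.aStmt hsyl hX
  by_cases h1 : lev (S : Subgroup G) (n + 1) ≤ o2 X
  · have h2 := (lev_isLev (S : Subgroup G) (n + 1)).le_norm_of_o2 h1 hQXS
    have h3 := h2.trans (normalizer_le_zc _)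
    rwa [hR] at h3
  by_cases hJ : jj (S : Subgroup G) ≤ o2 X
  · obtain ⟨j, hjn, hj1, hj2⟩ := exists_last hJ h1
    have hL := lev_isLev (S : Subgroup G) j
    have hQS : o2 P ≤ (S : Subgroup G) := h.star.isLoc.o2_le S
    have hjP : lev (S : Subgroup G) j ≤ o2 P := (lev_mono (S : Subgroup G) hjn).trans hn
    have hVX : zl (S : Subgroup G) P ≤ zc (lev (S : Subgroup G) j) :=
      (h.star.isLoc.zl_le S hG).trans (hL.zc_o2_le hjP hQS)
    have hXn : X ≤ normalizer (zc (lev (S : Subgroup G) j) : Set G) :=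
      (hL.le_norm_of_o2 hj1 hQXS).trans (normalizer_le_zc _)
    have hXX : X ≤ normalizer ((X ⊓ centralizer (zc (lev (S : Subgroup G) j) : Set G) : Subgroup G) : Set G) :=
      NO3b.EZero.le_normalizer_inf_cent hXn
    rcases NO3b.K0.min_or hsyl hX (K := X ⊓ centralizer (zc (lev (S : Subgroup G) j) : Set G)) inf_le_left hXX with
      h2 | h2
    · -- `O²(X)` centralises `R`
      have h3 : oddGen X ≤ centralizer (M.R : Set G) :=
        (h2.trans inf_le_right).trans (centralizer_le (M.R_le.trans hVX))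
      rw [← oddGen_sup_syl hsyl]
      exact sup_le (h3.trans (centralizer_le_normalizer _)) M.S_R
    · have hfam := fam_BO (S : Subgroup G) (lev (S : Subgroup G) j)
      have hcm := zc_comm' (lev (S : Subgroup G) j)
      obtain ⟨A, hA, hAQ⟩ : ∃ A ∈ BO (S : Subgroup G) (lev (S : Subgroup G) j), ¬ A ≤ o2 X := by
        by_contra hcon
        push Not at hcon
        apply hj2
        show Level.nxt (S : Subgroup G) (lev (S : Subgroup G) j) ≤ o2 X
        refine sup_le ?_ (sSup_le hcon)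
        exact (le_inf inf_le_left (le_inf (inf_le_left.trans hX.le) inf_le_right)).trans h2
      have hU : cl (zl (S : Subgroup G) P) X ≤ zc (lev (S : Subgroup G) j) := cl_le fun x hx => by
        have h3 := cj_mono x hVX
        rwa [cj_eq_of_mem_normalizer (hXn hx)] at h3
      have hzX : zc (o2 X) ≤ zc (lev (S : Subgroup G) j) := hL.zc_o2_le hj1 hQXS
      have hAe := hfam.elem A hA
      refine Crd.norm_R' h M h16 hno hX hXZ
        (ff_lemma_zc hX hXZ hA.1 hAQ (elemM_mono hAe hzX le_rfl) (hfam.off hcm hzX hA)) hA.1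
        ⟨fun a ha => centralizer_le hU (hAe.sq a ha), fun a ha b hb => centralizer_le hU (hAe.comm a ha b hb)⟩
        (fun W hW => ?_) hAQ
      exact FFThm.relIndex_le_iff.1 (hfam.off hcm (hW.trans hU) hA)
  · exact Crd.norm_R h M h16 hno hX hXZ (NO3b.K0.ff_lemma_syl hX hJ hXZ) hJ

/-- **THEOREM RED at every level**: `C_G(Z) ≤ N_G(R)`. -/
theorem red_lev (h : Hyp S P) (M : Crd F (S : Subgroup G) P (zl (S : Subgroup G) P))
    (h16 : 16 ≤ Nat.card F) {n : ℕ} (hn : lev (S : Subgroup G) n ≤ o2 P)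
    (hR : zc (lev (S : Subgroup G) (n + 1)) = M.R) : CZ (S : Subgroup G) ≤ normalizer (M.R : Set G) := by
  refine (isLoc_centralizer_zc S h.ne).le_of_forall S ?_ fun X hX1 hXC => red_lev_par h M h16 hn hR hX1.toIsMinPar hXC
  refine inf_le_right.trans (((lev_isLev (S : Subgroup G) (n + 1)).norm _ (lev_le _ _) le_rfl).trans ?_)
  have h3 := normalizer_le_zc (lev (S : Subgroup G) (n + 1))
  rwa [hR] at h3

end Cfsg.Agent.Omega.NO3S.Fld
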