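import Cfsg.Agent.Omega.NO3S.Fld.LLess

/-!
# Fld, `q = 4` : `J(S) ≤ O₂(P)` (helper240)

* `FA S U` : the elementary abelian subgroups `A` of `S` with `A C_U(A) ∈ A(S)`;
* `B4.f4_jj` : it is a family `F4` if `J(S) ≤ O₂(P)`, `J(S) ≰ O₂(P₂)`;
* `B4.norm_V3_jj`, `B4.two_of_jj` : then `P₂ ≤ N_G(V₃)`, `|S : O₂(P₂)| = 2`.
-/

set_option autoImplicit false
set_option linter.unusedSectionVars false

namespace Cfsg.Agent.Omega.NO3S.Fld

open Subgroup Cfsg Cfsg.Agent.ZN Cfsg.Agent.ZN.ChoiceBase Cfsg.Agent.Omega.MinPar Cfsg.Agent.Omega.FrameNOFF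
open Cfsg.Agent.MinSimple.VModule (oddGen oddGen_le mem_oddGen le_normalizer_oddGen le_normalizer_o2 o2_le
  zc_le zc_le_zl le_normalizer_zl zc_sq zc_comm le_centralizer_zc)
open Cfsg.Agent.Omega.NO3b.EZero (cl cj_le_cl le_cl cl_le cj_cl le_normalizer_cl cent_symm cj_cent cj_norm
  sq_of_comm oddGen_sup_syl mem_cj_self relIndex_cj le_normalizer_inf_cent)
open Cfsg.Agent.Omega.NO3b.K0 (conj_mem' cj_of_le cj_self)
open Cfsg.Agent.Omega.SQ1.Bau (elem_comm elem_sq)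
open Cfsg.Agent.Omega.NO1.BestOff (Best)
open Cfsg.Agent.PLocal.ElemAbSup Cfsg.Agent.PLocal.ThompsonJ

universe u

/-- the elementary abelian subgroups `A` of `S` with `A C_U(A) ∈ A(S)` -/
def FA {G : Type u} [Group G] (S U : Subgroup G) : Set (Subgroup G) :=
  {A | A ≤ S ∧ IsElementaryAbelian 2 A ∧ A ⊔ (U ⊓ centralizer (A : Set G)) ∈ AA S}

section FA

variable {G : Type u} [Group G] [Finite G] {S U A B : Subgroup G}

theorem elem_sup (hU : IsElementaryAbelian 2 U) (hB : IsElementaryAbelian 2 B) :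
    IsElementaryAbelian 2 (B ⊔ (U ⊓ centralizer (B : Set G))) :=
  isElementaryAbelian_sup hB (isElementaryAbelian_mono hU inf_le_left) inf_le_right

/-- `|B C_U(B)| |A ∩ U| = |B| |C_U(B)|` for `A ∩ C(U) ≤ B ≤ A` -/
theorem card_FA (hU : IsElementaryAbelian 2 U) (hA : IsElementaryAbelian 2 A) (hBA : B ≤ A)
    (hAB : A ⊓ centralizer (U : Set G) ≤ B) :
    Nat.card ↥(B ⊔ (U ⊓ centralizer (B : Set G))) * Nat.card ↥(A ⊓ U) =
      Nat.card B * Nat.card ↥(U ⊓ centralizer (B : Set G)) := by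
  have h1 : Nat.card ↥(B ⊔ (U ⊓ centralizer (B : Set G))) * Nat.card ↥(B ⊓ (U ⊓ centralizer (B : Set G))) =
      Nat.card B * Nat.card ↥(U ⊓ centralizer (B : Set G)) := card_sup_mul_card_inf inf_le_right
  have h2 : B ⊓ (U ⊓ centralizer (B : Set G)) = A ⊓ U := by
    apply le_antisymm
    · exact fun x hx => ⟨hBA hx.1, hx.2.1⟩
    · intro x hx
      have hxB : x ∈ B := hAB ⟨hx.1, mem_centralizer_iff.2 fun y hy => elem_comm hU y hy x hx.2⟩
      exact ⟨hxB, hx.2, mem_centralizer_iff.2 fun y hy => elem_comm hA y (hBA hy) x hx.1⟩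
  rw [h2] at h1
  exact h1

theorem FA_max (hU : IsElementaryAbelian 2 U) (hUS : U ≤ S) (hA : A ∈ FA S U) (hBA : B ≤ A)
    (hAB : A ⊓ centralizer (U : Set G) ≤ B) :
    Nat.card B * Nat.card ↥(U ⊓ centralizer (B : Set G)) ≤ Nat.card A * Nat.card ↥(U ⊓ centralizer (A : Set G)) := by
  rw [← card_FA hU hA.2.1 hBA hAB, ← card_FA hU hA.2.1 le_rfl inf_le_left]
  refine Nat.mul_le_mul_right _ (hA.2.2.2.2 _ (elem_sup hU (isElementaryAbelian_mono hA.2.1 hBA)) ?_)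
  exact sup_le (hBA.trans hA.1) (inf_le_left.trans hUS)

theorem FA_cut (hU : IsElementaryAbelian 2 U) (hUS : U ≤ S) (hA : A ∈ FA S U) (hBA : B ≤ A)
    (hAB : A ⊓ centralizer (U : Set G) ≤ B)
    (hle : Nat.card A * Nat.card ↥(U ⊓ centralizer (A : Set G)) ≤
      Nat.card B * Nat.card ↥(U ⊓ centralizer (B : Set G))) : B ∈ FA S U := by
  refine ⟨hBA.trans hA.1, isElementaryAbelian_mono hA.2.1 hBA,
    elem_sup hU (isElementaryAbelian_mono hA.2.1 hBA), sup_le (hBA.trans hA.1) (inf_le_left.trans hUS), ?_⟩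
  intro D hD hDS
  refine (hA.2.2.2.2 D hD hDS).trans ?_
  rw [← card_FA hU hA.2.1 hBA hAB, ← card_FA hU hA.2.1 le_rfl inf_le_left] at hle
  exact Nat.le_of_mul_le_mul_right hle Nat.card_pos

theorem AA_sub_FA (hU : IsElementaryAbelian 2 U) (hUS : U ≤ S) (hA : A ∈ AA S) : A ∈ FA S U := by
  refine ⟨hA.2.1, hA.1, elem_sup hU hA.1, sup_le hA.2.1 (inf_le_left.trans hUS), fun D hD hDS => ?_⟩
  exact (hA.2.2 D hD hDS).trans (Subgroup.card_le_of_le le_sup_left)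

end FA

namespace B4

variable {G : Type u} [Group G] [Finite G] {S : Sylow 2 G} {P P2 R V3 : Subgroup G} {z : G}
  (h : B4 S P P2 R V3 z)
include h

theorem U_elem : IsElementaryAbelian 2 (cl (zl (S : Subgroup G) P) P2) :=
  ⟨⟨⟨fun a b => Subtype.ext (mem_centralizer_iff.1 (h.U_comm b.2) a a.2)⟩⟩, h.U_sq⟩

/-- **`FA(S, U)` is a family `F4`** -/
theorem f4_jj (hJ : jj (S : Subgroup G) ≤ o2 P) (hJQ : ¬ jj (S : Subgroup G) ≤ o2 P2) :
    F4 S P P2 (FA (S : Subgroup G) (cl (zl (S : Subgroup G) P) P2)) where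
  le := fun _ hA => hA.1
  best := fun A hA => by
    refine { sq := fun a ha => ?_, comm := fun a ha b hb => ?_,
             max := fun Y hY hYc => FA_max h.U_elem h.U_le_S hA hY hYc }
    · rw [elem_sq hA.2.1 a ha]; exact one_mem _
    · have e : a * b * a⁻¹ * b⁻¹ = 1 := by rw [elem_comm hA.2.1 a ha b hb]; group
      rw [e]; exact one_mem _
  cut := fun A hA B hB hAB hle => FA_cut h.U_elem h.U_le_S hA hB hAB hle
  cent := fun A hA hAQ => by
    apply cent_symm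
    refine cl_le fun p hp => ?_
    set B := A ⊔ (cl (zl (S : Subgroup G) P) P2 ⊓ centralizer (A : Set G)) with hB
    have hBQ : B ≤ o2 P2 := sup_le hAQ (inf_le_left.trans h.U_le_Q)
    have h1 := cj_mono p⁻¹ hBQ
    rw [cj_of_le (le_normalizer_o2 P2) (inv_mem hp)] at h1
    have h2 : cj p⁻¹ B ∈ AA (S : Subgroup G) := by
      have h3 := hA.2.2
      refine ⟨isElementaryAbelian_cj _ h3.1, h1.trans h.Q_le, fun D hD hDS => ?_⟩
      rw [card_cj]
      exact h3.2.2 D hD hDS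
    have h3 : cj p⁻¹ A ≤ centralizer (zl (S : Subgroup G) P : Set G) := by
      intro a ha
      have h4 : a ∈ cj p⁻¹ B := cj_mono p⁻¹ le_sup_left ha
      exact (h.mem_L_iff (h2.2.1 h4)).1 (hJ (le_jj h2 h4))
    have h4 := cj_cent (g := p) (cent_symm h3)
    rwa [cj_cj_inv] at h4
  ex := by
    by_contra hcon
    push Not at hcon
    apply hJQ
    rw [jj_eq]
    exact sSup_le fun A hA => hcon A (AA_sub_FA h.U_elem h.U_le_S hA)

/-- **`J(S) ≤ O₂(P)`, `J(S) ≰ O₂(P₂)` ⟹ `P₂ ≤ N_G(V₃)`** -/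
theorem norm_V3_jj (hAS : FFBr.AStmt.{u}) (hJ : jj (S : Subgroup G) ≤ o2 P)
    (hJQ : ¬ jj (S : Subgroup G) ≤ o2 P2) : P2 ≤ normalizer (V3 : Set G) := h.norm_V3 hAS (h.f4_jj hJ hJQ)

/-- **`J(S) ≤ O₂(P)`, `J(S) ≰ O₂(P₂)` ⟹ `|S : O₂(P₂)| = 2`** -/
theorem two_of_jj (hAS : FFBr.AStmt.{u}) (hJ : jj (S : Subgroup G) ≤ o2 P)
    (hJQ : ¬ jj (S : Subgroup G) ≤ o2 P2) : (o2 P2).relIndex (S : Subgroup G) = 2 :=
  h.two_of hAS (h.f4_jj hJ hJQ)

end B4

end Cfsg.Agent.Omega.NO3S.Fld
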