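import Cfsg.Agent.Omega.NO3S.Fld.LLess
import Cfsg.Agent.Omega.NO3S.Fld.LDih

/-!
# Fld, `q = 4`, at a level : `j < i` does not occur

* `Lv4.nxt_not_le` : `nxt S K ≰ O₂(P)`.
-/

set_option autoImplicit false
set_option linter.unusedSectionVars false

namespace Cfsg.Agent.Omega.NO3S.Fld

open Subgroup Cfsg Cfsg.Agent.ZN Cfsg.Agent.ZN.ChoiceBase Cfsg.Agent.Omega.MinPar Cfsg.Agent.Omega.FrameNOFF
open Cfsg.Agent.Omega.NO3S.Level (Lev BO nxt)

universe u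

namespace Lv4

variable {G : Type u} [Group G] [Finite G] {S : Sylow 2 G} {P P2 R V3 K : Subgroup G} {z : G}

/-- **`nxt S K ≰ O₂(P)`** -/
theorem nxt_not_le (h : Lv4 S P P2 R V3 K z) (hAS : FFBr.AStmt.{u}) : ¬ nxt (S : Subgroup G) K ≤ o2 P := by
  intro hT
  have h2 := h.two_of_le hAS hT
  obtain ⟨A, hA, hAQ⟩ := h.exists_BO_not_Q
  exact hAQ (h.dih h2 hA ((Level.BO.le_nxt hA).trans hT))

end Lv4

end Cfsg.Agent.Omega.NO3S.Fld
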