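import Cfsg.Agent.Omega.NO3S.Fld.Base
import Cfsg.Agent.LieRecognition.FieldSemilinear

/-!
# Fld, the module facts for `V = F²`

`M : Crd F S P V`.

* `Crd.R` : the line `{x₁ = 0}`; `Crd.card_R`, `Crd.R_le`, `Crd.S_R` (`S ≤ N(R)`), `Crd.S_V`;
* `Crd.Act s σ c` : `s` acts as `(x₀, x₁) ↦ (σ x₀ + c σ x₁, σ x₁)`; `Act.unique`, `Act.mul`, `Act.inv`;
* `Act.mem_centR : s ∈ C(R) ↔ σ = 1`, `Act.mem_centV : s ∈ C(V) ↔ σ = 1 ∧ c = 0`;
* `Crd.comm_R` : `[b, v] ∈ R` for `b ∈ S ∩ C(R)`, `Crd.fix` : `C_V(b) = R` for `b ∈ S ∩ C(R) - C(V)`;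
* `Crd.relIndex_B` : `|B : C_B(V)| = q`, `B = S ∩ C(R)`; `Crd.relIndex_le` : `|D : C_D(V)| ≤ q` for `D ≤ B`;
* `Crd.cyc` : `S = B ⟨s₀⟩`;
* `card_fixed` : `|F^σ|² = |F|` for an involution `σ`.
-/

set_option autoImplicit false
set_option linter.unusedSectionVars false
set_option linter.unusedVariables false

namespace Cfsg.Agent.Omega.NO3S.Fld

open Subgroup Cfsg Cfsg.Agent.ZN Cfsg.Agent.ZN.ChoiceBase Cfsg.Agent.Omega.MinPar
open Cfsg.Agent.Omega.NatPair (ext2)
open Cfsg.Agent.Omega.NO3S.OneLine (conj_mem)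

universe u

variable {G : Type u} [Group G]

/-! ### Fields -/

/-- `|F^σ|² = |F|` for an involution `σ`. -/
theorem card_fixed {F : Type*} [Field F] [Finite F] [CharP F 2] {σ : F ≃+* F} (h1 : σ ≠ RingEquiv.refl F)
    (h2 : ∀ x, σ (σ x) = x) : Nat.card {x : F // σ x = x} * Nat.card {x : F // σ x = x} = Nat.card F := by
  obtain ⟨w, hw⟩ : ∃ w, σ w ≠ w := by
    by_contra hc
    push Not at hc
    exact h1 (RingEquiv.ext hc)
  rw [← Nat.card_prod]
  apply le_antisymm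
  · -- `(a, b) ↦ a + b w` is injective
    refine Nat.card_le_card_of_injective (fun p : {x : F // σ x = x} × {x : F // σ x = x} =>
      (p.1 : F) + p.2 * w) ?_
    rintro ⟨⟨a, ha⟩, ⟨b, hb⟩⟩ ⟨⟨c, hc⟩, ⟨d, hd⟩⟩ h
    have h3 : a + b * w = c + d * w := h
    have h4 := congrArg σ h3
    rw [map_add, map_add, map_mul, map_mul, ha, hb, hc, hd] at h4
    have h5 : (b - d) * (σ w - w) = 0 := by linear_combination h4 - h3
    have h6 : b = d := by
      rcases mul_eq_zero.1 h5 with h | h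
      · exact sub_eq_zero.1 h
      · exact absurd (sub_eq_zero.1 h) hw
    subst h6
    have h7 : a = c := by linear_combination h3
    subst h7
    rfl
  · -- `x ↦ x + σ x`
    let φ : F →+ F := AddMonoidHom.mk' (fun x => x + σ x) (fun x y => by rw [map_add]; abel)
    have hk : Nat.card φ.ker = Nat.card {x : F // σ x = x} := by
      refine Nat.card_congr (Equiv.subtypeEquivRight fun x => ?_)
      rw [AddMonoidHom.mem_ker]
      show x + σ x = 0 ↔ _
      rw [CharTwo.add_eq_zero]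
      exact eq_comm
    have hr : Nat.card φ.range ≤ Nat.card {x : F // σ x = x} := by
      refine Nat.card_le_card_of_injective (fun y : φ.range => (⟨y.1, ?_⟩ : {x : F // σ x = x})) ?_
      · obtain ⟨y, x, rfl⟩ := y
        show σ (x + σ x) = x + σ x
        rw [map_add, h2, add_comm]
      · intro y y' h
        exact Subtype.ext (congrArg (fun t : {x : F // σ x = x} => (t : F)) h)
    have h3 : Nat.card φ.ker * Nat.card φ.range = Nat.card F := by
      rw [← AddSubgroup.index_ker, AddSubgroup.card_mul_index]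
    rw [Nat.card_prod, ← h3, hk]
    exact Nat.mul_le_mul_left _ hr

namespace Crd

variable {F : Type*} [Field F] {S P V : Subgroup G} (M : Crd F S P V)

theorem e_zero : M.e 0 = 1 := by
  have := M.e_add 0 0
  rw [add_zero] at this
  exact left_eq_mul.1 this

theorem e_neg (x : Fin 2 → F) : M.e (-x) = (M.e x)⁻¹ := by
  rw [eq_inv_iff_mul_eq_one, ← M.e_add, neg_add_cancel, M.e_zero]

theorem e_sub (x y : Fin 2 → F) : M.e (x - y) = M.e x * (M.e y)⁻¹ := by
  rw [sub_eq_add_neg, M.e_add, M.e_neg]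

theorem e_mem (x : Fin 2 → F) : M.e x ∈ V := (M.mem_iff _).2 ⟨x, rfl⟩

include M in
theorem comm {v w : G} (hv : v ∈ V) (hw : w ∈ V) : v * w = w * v := by
  obtain ⟨x, rfl⟩ := (M.mem_iff v).1 hv
  obtain ⟨y, rfl⟩ := (M.mem_iff w).1 hw
  rw [← M.e_add, ← M.e_add, add_comm]

include M in
theorem sq [CharP F 2] {v : G} (hv : v ∈ V) : v * v = 1 := by
  obtain ⟨x, rfl⟩ := (M.mem_iff v).1 hv
  rw [← M.e_add, show x + x = 0 from funext fun i => CharTwo.add_self_eq_zero (x i), M.e_zero]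

/-- The line `{x₁ = 0}`. -/
def R : Subgroup G where
  carrier := {g | ∃ a : F, M.e ![a, 0] = g}
  mul_mem' := by
    rintro _ _ ⟨a, rfl⟩ ⟨b, rfl⟩
    refine ⟨a + b, ?_⟩
    rw [← M.e_add]
    congr 1
    apply ext2 <;> simp
  one_mem' := ⟨0, by
    rw [← M.e_zero]
    congr 1
    apply ext2 <;> simp⟩
  inv_mem' := by
    rintro _ ⟨a, rfl⟩
    refine ⟨-a, ?_⟩
    rw [← M.e_neg]
    congr 1
    apply ext2 <;> simp

theorem mem_R {g : G} : g ∈ M.R ↔ ∃ a : F, M.e ![a, 0] = g := Iff.rfl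

theorem e_mem_R {x : Fin 2 → F} : M.e x ∈ M.R ↔ x 1 = 0 := by
  rw [mem_R]
  constructor
  · rintro ⟨a, ha⟩
    rw [← M.e_inj ha]
    rfl
  · intro h
    exact ⟨x 0, congrArg M.e (ext2 rfl h.symm)⟩

theorem R_le : M.R ≤ V := by
  rintro _ ⟨a, rfl⟩
  exact M.e_mem _

theorem card_R : Nat.card M.R = Nat.card F := by
  refine (Nat.card_congr (Equiv.ofBijective (fun a : F => (⟨M.e ![a, 0], a, rfl⟩ : M.R)) ⟨?_, ?_⟩)).symm
  · intro a b h
    have h1 := M.e_inj (congrArg Subtype.val h)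
    simpa using congrFun h1 0
  · rintro ⟨_, a, rfl⟩
    exact ⟨a, rfl⟩

include M in
theorem card_V : Nat.card V = Nat.card F * Nat.card F := by
  have h1 : Nat.card (Fin 2 → F) = Nat.card V := by
    refine Nat.card_congr (Equiv.ofBijective (fun x => ⟨M.e x, M.e_mem x⟩) ⟨?_, ?_⟩)
    · intro x y h
      exact M.e_inj (congrArg Subtype.val h)
    · rintro ⟨v, hv⟩
      obtain ⟨x, rfl⟩ := (M.mem_iff v).1 hv
      exact ⟨x, rfl⟩
  rw [← h1]
  simp [Nat.card_fun, pow_two]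

theorem card_V_R : Nat.card V = Nat.card M.R * Nat.card M.R := by rw [M.card_R, M.card_V]

/-- `s` acts as `(x₀, x₁) ↦ (σ x₀ + c σ x₁, σ x₁)`. -/
def Act (s : G) (σ : F ≃+* F) (c : F) : Prop :=
  ∀ x : Fin 2 → F, s * M.e x * s⁻¹ = M.e ![σ (x 0) + c * σ (x 1), σ (x 1)]

theorem exists_act {s : G} (hs : s ∈ S) : ∃ σ c, M.Act s σ c := M.act s hs

variable {M}

theorem Act.unique {s : G} {σ σ' : F ≃+* F} {c c' : F} (h : M.Act s σ c) (h' : M.Act s σ' c') :
    σ = σ' ∧ c = c' := by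
  have key : ∀ x : Fin 2 → F, σ (x 0) + c * σ (x 1) = σ' (x 0) + c' * σ' (x 1) := fun x => by
    have h1 := M.e_inj ((h x).symm.trans (h' x))
    simpa using congrFun h1 0
  have h1 : σ = σ' := by
    ext a
    have := key ![a, 0]
    simpa using this
  subst h1
  refine ⟨rfl, ?_⟩
  have := key ![0, 1]
  simpa using this

theorem Act.mul {s t : G} {σ τ : F ≃+* F} {c d : F} (h : M.Act s σ c) (h' : M.Act t τ d) :
    M.Act (s * t) (τ.trans σ) (c + σ d) := by
  intro x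
  have e1 : s * t * M.e x * (s * t)⁻¹ = s * (t * M.e x * t⁻¹) * s⁻¹ := by group
  rw [e1, h', h]
  congr 1
  apply ext2
  · simp only [Matrix.cons_val_zero, Matrix.cons_val_one, RingEquiv.trans_apply, map_add, map_mul]
    ring
  · show σ (τ (x 1)) = (τ.trans σ) (x 1)
    rfl

theorem act_one' : M.Act 1 (RingEquiv.refl F) 0 := by
  intro x
  rw [one_mul, inv_one, mul_one]
  congr 1
  apply ext2 <;> simp

theorem Act.inv {s : G} {σ : F ≃+* F} {c : F} (h : M.Act s σ c) : M.Act s⁻¹ σ.symm (σ.symm (-c)) := by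
  intro x
  have h1 := h ![σ.symm (x 0) + σ.symm (-c) * σ.symm (x 1), σ.symm (x 1)]
  have h2 : M.e ![σ.symm (x 0) + σ.symm (-c) * σ.symm (x 1), σ.symm (x 1)] =
      s⁻¹ * (s * M.e ![σ.symm (x 0) + σ.symm (-c) * σ.symm (x 1), σ.symm (x 1)] * s⁻¹) * s := by group
  rw [h2, h1, inv_inv]
  congr 3
  apply ext2
  · simp only [Matrix.cons_val_zero, Matrix.cons_val_one, map_add, map_mul, RingEquiv.apply_symm_apply]
    ring
  · show x 1 = σ (σ.symm (x 1))
    rw [RingEquiv.apply_symm_apply]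

theorem Act.mem_centR {s : G} {σ : F ≃+* F} {c : F} (h : M.Act s σ c) :
    s ∈ centralizer (M.R : Set G) ↔ σ = RingEquiv.refl F := by
  rw [mem_centralizer_iff]
  constructor
  · intro h1
    ext a
    have h2 := h1 _ ⟨a, rfl⟩
    have h3 := h ![a, 0]
    rw [← h2, mul_assoc, mul_inv_cancel, mul_one] at h3
    have h4 := congrFun (M.e_inj h3) 0
    simpa using h4.symm
  · rintro rfl _ ⟨a, rfl⟩
    have h3 := h ![a, 0]
    have h4 : (![(RingEquiv.refl F) ((![a, 0] : Fin 2 → F) 0) + c * (RingEquiv.refl F) ((![a, 0] : Fin 2 → F) 1),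
        (RingEquiv.refl F) ((![a, 0] : Fin 2 → F) 1)] : Fin 2 → F) = ![a, 0] := by
      apply ext2 <;> simp
    rw [h4, mul_inv_eq_iff_eq_mul] at h3
    exact h3.symm

theorem Act.mem_centV {s : G} {σ : F ≃+* F} {c : F} (h : M.Act s σ c) :
    s ∈ centralizer (V : Set G) ↔ σ = RingEquiv.refl F ∧ c = 0 := by
  constructor
  · intro h1
    have h2 : σ = RingEquiv.refl F := h.mem_centR.1 (centralizer_le M.R_le h1)
    subst h2
    refine ⟨rfl, ?_⟩
    have h3 := mem_centralizer_iff.1 h1 _ (M.e_mem ![0, 1])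
    have h4 := h ![0, 1]
    rw [← h3, mul_assoc, mul_inv_cancel, mul_one] at h4
    have h5 := congrFun (M.e_inj h4) 0
    simpa using h5.symm
  · rintro ⟨rfl, rfl⟩
    rw [mem_centralizer_iff]
    intro v hv
    obtain ⟨x, rfl⟩ := (M.mem_iff v).1 hv
    have h4 := h x
    have h5 : (![(RingEquiv.refl F) (x 0) + 0 * (RingEquiv.refl F) (x 1), (RingEquiv.refl F) (x 1)] : Fin 2 → F) = x := by
      apply ext2 <;> simp
    rw [h5, mul_inv_eq_iff_eq_mul] at h4
    exact h4.symm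

variable (M)

include M in
theorem S_V : S ≤ normalizer (V : Set G) := by
  have key : ∀ s ∈ S, ∀ v ∈ V, s * v * s⁻¹ ∈ V := by
    intro s hs v hv
    obtain ⟨x, rfl⟩ := (M.mem_iff v).1 hv
    obtain ⟨σ, c, h⟩ := M.exists_act hs
    rw [h]
    exact M.e_mem _
  intro s hs
  rw [mem_normalizer_iff]
  refine fun v => ⟨key s hs v, fun h => ?_⟩
  have := key s⁻¹ (inv_mem hs) _ h
  have e : s⁻¹ * (s * v * s⁻¹) * s⁻¹⁻¹ = v := by group
  rwa [e] at this

theorem S_R : S ≤ normalizer (M.R : Set G) := by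
  have key : ∀ s ∈ S, ∀ v ∈ M.R, s * v * s⁻¹ ∈ M.R := by
    rintro s hs _ ⟨a, rfl⟩
    obtain ⟨σ, c, h⟩ := M.exists_act hs
    rw [h, M.e_mem_R]
    simp
  intro s hs
  rw [mem_normalizer_iff]
  refine fun v => ⟨key s hs v, fun h => ?_⟩
  have := key s⁻¹ (inv_mem hs) _ h
  have e : s⁻¹ * (s * v * s⁻¹) * s⁻¹⁻¹ = v := by group
  rwa [e] at this

/-- the elements of `B = S ∩ C(R)` act as root elements -/
theorem exists_root {b : G} (hb : b ∈ S) (hb' : b ∈ centralizer (M.R : Set G)) :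
    ∃ c, M.Act b (RingEquiv.refl F) c := by
  obtain ⟨σ, c, h⟩ := M.exists_act hb
  obtain rfl := h.mem_centR.1 hb'
  exact ⟨c, h⟩

theorem comm_R {b v : G} (hb : b ∈ S) (hb' : b ∈ centralizer (M.R : Set G)) (hv : v ∈ V) :
    b * v * b⁻¹ * v⁻¹ ∈ M.R := by
  obtain ⟨c, h⟩ := M.exists_root hb hb'
  obtain ⟨x, rfl⟩ := (M.mem_iff v).1 hv
  rw [h, ← M.e_sub, M.e_mem_R]
  simp

theorem fix {b v : G} (hb : b ∈ S) (hb' : b ∈ centralizer (M.R : Set G)) (hbV : b ∉ centralizer (V : Set G))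
    (hv : v ∈ V) (hbv : b * v = v * b) : v ∈ M.R := by
  obtain ⟨c, h⟩ := M.exists_root hb hb'
  obtain ⟨x, rfl⟩ := (M.mem_iff v).1 hv
  rw [M.e_mem_R]
  have h1 := h x
  rw [hbv, mul_assoc, mul_inv_cancel, mul_one] at h1
  have h2 := congrFun (M.e_inj h1) 0
  have h3 : c * x 1 = 0 := by
    have h4 : x 0 = x 0 + c * x 1 := by simpa using h2
    exact left_eq_add.1 h4
  rcases mul_eq_zero.1 h3 with h4 | h4
  · exact absurd (h.mem_centV.2 ⟨rfl, h4⟩) hbV
  · exact h4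

/-- every root element is induced -/
theorem exists_full (c : F) : ∃ s ∈ S, s ∈ centralizer (M.R : Set G) ∧ M.Act s (RingEquiv.refl F) c := by
  obtain ⟨s, hs, h⟩ := M.full c
  have h' : M.Act s (RingEquiv.refl F) c := h
  exact ⟨s, hs, h'.mem_centR.2 rfl, h'⟩

theorem exists_ne_R : ∃ v ∈ V, v ∉ M.R := ⟨M.e ![0, 1], M.e_mem _, by rw [M.e_mem_R]; simp⟩

/-- the fixed points of `B` in `V` -/
theorem mem_R_of_comm {v : G} (hv : v ∈ V)
    (h : ∀ b ∈ S, b ∈ centralizer (M.R : Set G) → b * v = v * b) : v ∈ M.R := by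
  obtain ⟨s, hs, hs1, h1⟩ := M.exists_full 1
  refine M.fix hs hs1 (fun hc => ?_) hv (h s hs hs1)
  exact one_ne_zero (h1.mem_centV.1 hc).2

/-! ### The homomorphism `B → F` -/

/-- The root part. -/
noncomputable def rt (b : G) : F := open Classical in
  if h : ∃ c, M.Act b (RingEquiv.refl F) c then h.choose else 0

theorem rt_eq {b : G} {c : F} (h : M.Act b (RingEquiv.refl F) c) : M.rt b = c := by
  have h1 : ∃ c, M.Act b (RingEquiv.refl F) c := ⟨c, h⟩
  rw [rt, dif_pos h1]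
  exact (Act.unique h1.choose_spec h).2

theorem act_rt {b : G} (hb : b ∈ S) (hb' : b ∈ centralizer (M.R : Set G)) :
    M.Act b (RingEquiv.refl F) (M.rt b) := by
  obtain ⟨c, h⟩ := M.exists_root hb hb'
  rwa [M.rt_eq h]

theorem rt_mul {b c : G} (hb : b ∈ S) (hb' : b ∈ centralizer (M.R : Set G)) (hc : c ∈ S)
    (hc' : c ∈ centralizer (M.R : Set G)) : M.rt (b * c) = M.rt b + M.rt c := by
  have h := (M.act_rt hb hb').mul (M.act_rt hc hc')
  exact M.rt_eq h

/-- `B = S ∩ C(R)` -/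
abbrev B : Subgroup G := S ⊓ centralizer (M.R : Set G)

/-- the homomorphism `D → F` for `D ≤ B` -/
noncomputable def rtHom {D : Subgroup G} (hD : D ≤ M.B) : D →* Multiplicative F :=
  MonoidHom.mk' (fun d => Multiplicative.ofAdd (M.rt d)) (by
    rintro ⟨v, hv⟩ ⟨w, hw⟩
    exact congrArg Multiplicative.ofAdd (M.rt_mul (hD hv).1 (hD hv).2 (hD hw).1 (hD hw).2))

theorem ker_rtHom {D : Subgroup G} (hD : D ≤ M.B) :
    (M.rtHom hD).ker = (centralizer (V : Set G)).subgroupOf D := by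
  ext d
  rw [MonoidHom.mem_ker, mem_subgroupOf, (M.act_rt (hD d.2).1 (hD d.2).2).mem_centV]
  constructor
  · intro h
    exact ⟨rfl, congrArg Multiplicative.toAdd h⟩
  · intro h
    exact congrArg Multiplicative.ofAdd h.2

theorem relIndex_eq {D : Subgroup G} (hD : D ≤ M.B) :
    (centralizer (V : Set G)).relIndex D = Nat.card (M.rtHom hD).range := by
  rw [relIndex, ← M.ker_rtHom hD, Subgroup.index_ker]

theorem relIndex_le [Finite F] {D : Subgroup G} (hD : D ≤ M.B) : (centralizer (V : Set G)).relIndex D ≤ Nat.card F := by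
  rw [M.relIndex_eq hD]
  exact Nat.card_le_card_of_injective (fun x : (M.rtHom hD).range => Multiplicative.toAdd (x : Multiplicative F))
    (fun x y h => Subtype.ext (congrArg Multiplicative.ofAdd h))

theorem relIndex_B : (centralizer (V : Set G)).relIndex M.B = Nat.card F := by
  rw [M.relIndex_eq le_rfl]
  have h1 : (M.rtHom le_rfl).range = ⊤ := by
    rw [MonoidHom.range_eq_top]
    intro c
    obtain ⟨s, hs, hs', h⟩ := M.exists_full (Multiplicative.toAdd c)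
    exact ⟨⟨s, hs, hs'⟩, congrArg Multiplicative.ofAdd (M.rt_eq h)⟩
  rw [h1, Subgroup.card_top]
  rfl

/-- `D ≤ B` commuting modulo `C(V)` with some `s ∈ S` which induces an involution on `F`: `|D : C_D(V)|² ≤ q`. -/
theorem relIndex_sq_le [Finite F] [CharP F 2] {D : Subgroup G} (hD : D ≤ M.B) {s : G} {σ : F ≃+* F} {c : F}
    (hs : M.Act s σ c) (h1 : σ ≠ RingEquiv.refl F) (h2 : ∀ x, σ (σ x) = x)
    (hc : ∀ d ∈ D, s * d * s⁻¹ * d⁻¹ ∈ centralizer (V : Set G)) :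
    (centralizer (V : Set G)).relIndex D * (centralizer (V : Set G)).relIndex D ≤ Nat.card F := by
  rw [M.relIndex_eq hD, ← card_fixed h1 h2]
  have key : ∀ d ∈ D, σ (M.rt d) = M.rt d := by
    intro d hd
    have hd1 := M.act_rt (hD hd).1 (hD hd).2
    have h3 := (((hs.mul hd1).mul hs.inv).mul hd1.inv).mem_centV.1 (hc d hd)
    have h4 := h3.2
    have h5 : c + σ (M.rt d) + σ (σ.symm (-c)) + σ (σ.symm (-M.rt d)) = 0 := h4
    rw [RingEquiv.apply_symm_apply, RingEquiv.apply_symm_apply] at h5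
    linear_combination h5
  have hle : Nat.card (M.rtHom hD).range ≤ Nat.card {x : F // σ x = x} := by
    refine Nat.card_le_card_of_injective (fun x : (M.rtHom hD).range =>
      (⟨Multiplicative.toAdd (x : Multiplicative F), ?_⟩ : {x : F // σ x = x})) ?_
    · obtain ⟨x, ⟨d, hd⟩, rfl⟩ := x
      exact key d hd
    · intro x y h
      exact Subtype.ext (congrArg (fun t : {x : F // σ x = x} => Multiplicative.ofAdd (t : F)) h)
  exact Nat.mul_le_mul hle hle

/-! ### The field automorphisms -/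

/-- the field automorphism of `s ∈ S` -/
noncomputable def sgHom (M : Crd F S P V) : S →* (F ≃+* F) where
  toFun s := (M.exists_act s.2).choose
  map_one' := by
    obtain ⟨c, hc⟩ := (M.exists_act (one_mem S)).choose_spec
    exact (hc.unique act_one').1
  map_mul' s t := by
    obtain ⟨c, hc⟩ := (M.exists_act s.2).choose_spec
    obtain ⟨d, hd⟩ := (M.exists_act t.2).choose_spec
    obtain ⟨e, he⟩ := (M.exists_act (s * t).2).choose_spec
    have h1 := (he.unique (hc.mul hd)).1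
    exact h1

theorem sgHom_eq {s : S} {σ : F ≃+* F} {c : F} (h : M.Act s σ c) : M.sgHom s = σ := by
  obtain ⟨d, hd⟩ := (M.exists_act s.2).choose_spec
  exact (hd.unique h).1

theorem sgHom_eq_one {s : S} : M.sgHom s = 1 ↔ (s : G) ∈ centralizer (M.R : Set G) := by
  obtain ⟨σ, c, h⟩ := M.exists_act s.2
  rw [M.sgHom_eq h, h.mem_centR]
  rfl

/-- `S / B` is cyclic -/
theorem cyc [Finite F] : ∃ s₀ ∈ S, ∀ s ∈ S, ∃ k : ℕ, s * (s₀ ^ k)⁻¹ ∈ M.B := by
  have hc : IsCyclic (F ≃+* F) := LieRecognition.FieldSemilinear.isCyclic_ringAut F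
  have hc2 : IsCyclic M.sgHom.range := inferInstance
  obtain ⟨⟨_, s₀, rfl⟩, hg⟩ := hc2.exists_generator
  have hfin : Finite (F ≃+* F) := Finite.of_injective (fun σ : F ≃+* F => (σ : F → F)) DFunLike.coe_injective
  refine ⟨s₀, s₀.2, fun s hs => ?_⟩
  have h1 := hg ⟨M.sgHom ⟨s, hs⟩, ⟨⟨s, hs⟩, rfl⟩⟩
  rw [← mem_powers_iff_mem_zpowers] at h1
  obtain ⟨k, hk⟩ := h1
  have hk' : M.sgHom s₀ ^ k = M.sgHom ⟨s, hs⟩ := congrArg Subtype.val hk
  have h2 : M.sgHom (⟨s, hs⟩ * (s₀ ^ k)⁻¹) = 1 := by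
    rw [map_mul, map_inv, map_pow, hk', mul_inv_cancel]
  exact ⟨k, mem_inf.2 ⟨S.mul_mem hs (S.inv_mem (S.pow_mem s₀.2 k)), M.sgHom_eq_one.1 h2⟩⟩

/-! ### Elements and subgroups which induce an involution on `F` -/

theorem inv_unique [Finite F] {σ τ : F ≃+* F} (h1 : σ ≠ RingEquiv.refl F) (h2 : ∀ x, σ (σ x) = x)
    (h3 : τ ≠ RingEquiv.refl F) (h4 : ∀ x, τ (τ x) = x) : σ = τ := by
  classical
  by_contra hne
  have hc : IsCyclic (F ≃+* F) := LieRecognition.FieldSemilinear.isCyclic_ringAut F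
  have hfin : Finite (F ≃+* F) := Finite.of_injective (fun σ : F ≃+* F => (σ : F → F)) DFunLike.coe_injective
  have : Fintype (F ≃+* F) := Fintype.ofFinite _
  have h5 := IsCyclic.card_pow_eq_one_le (α := F ≃+* F) (n := 2) (by norm_num)
  have h6 : ({1, σ, τ} : Finset (F ≃+* F)) ⊆ Finset.univ.filter fun a : F ≃+* F => a ^ 2 = 1 := by
    intro a ha
    simp only [Finset.mem_insert, Finset.mem_singleton] at ha
    rw [Finset.mem_filter]
    refine ⟨Finset.mem_univ _, ?_⟩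
    rcases ha with rfl | rfl | rfl
    · exact one_pow 2
    · rw [pow_two]; exact RingEquiv.ext h2
    · rw [pow_two]; exact RingEquiv.ext h4
  have h7 := Finset.card_le_card h6
  have h8 : ({1, σ, τ} : Finset (F ≃+* F)).card = 3 := by
    rw [Finset.card_insert_of_notMem, Finset.card_insert_of_notMem, Finset.card_singleton]
    · rw [Finset.mem_singleton]; exact hne
    · rw [Finset.mem_insert, Finset.mem_singleton, not_or]
      exact ⟨fun h => h1 h.symm, fun h => h3 h.symm⟩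
  omega

/-- `C_R(s)` -/
theorem card_fixR {s : G} {σ : F ≃+* F} {c : F} (h : M.Act s σ c) :
    Nat.card ↥(M.R ⊓ centralizer ({s} : Set G)) = Nat.card {x : F // σ x = x} := by
  have key : ∀ a : F, σ a = a ↔ M.e ![a, 0] ∈ centralizer ({s} : Set G) := by
    intro a
    rw [mem_centralizer_singleton_iff]
    have h1 := h ![a, 0]
    have h2 : (![σ ((![a, 0] : Fin 2 → F) 0) + c * σ ((![a, 0] : Fin 2 → F) 1), σ ((![a, 0] : Fin 2 → F) 1)] :
        Fin 2 → F) = ![σ a, 0] := by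
      apply ext2 <;> simp
    rw [h2] at h1
    constructor
    · intro h3
      rw [h3, mul_inv_eq_iff_eq_mul] at h1
      exact h1.symm
    · intro h3
      rw [← h3, mul_assoc, mul_inv_cancel, mul_one] at h1
      have := congrFun (M.e_inj h1) 0
      simpa using this.symm
  refine (Nat.card_congr (Equiv.ofBijective (fun a : {x : F // σ x = x} =>
    (⟨M.e ![(a : F), 0], mem_inf.2 ⟨⟨a, rfl⟩, (key a).1 a.2⟩⟩ : ↥(M.R ⊓ centralizer ({s} : Set G)))) ⟨?_, ?_⟩)).symm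
  · intro a b h
    have h1 := M.e_inj (congrArg Subtype.val h)
    exact Subtype.ext (by simpa using congrFun h1 0)
  · rintro ⟨_, ⟨a, rfl⟩, ha⟩
    exact ⟨⟨a, (key a).2 ha⟩, rfl⟩

/-- `|C_R(s)|² = |R|` if `s` induces an involution on `F` -/
theorem card_fixR_sq [Finite F] [CharP F 2] {s : G} {σ : F ≃+* F} {c : F} (h : M.Act s σ c)
    (h1 : σ ≠ RingEquiv.refl F) (h2 : ∀ x, σ (σ x) = x) :
    Nat.card ↥(M.R ⊓ centralizer ({s} : Set G)) * Nat.card ↥(M.R ⊓ centralizer ({s} : Set G)) = Nat.card F := by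
  rw [M.card_fixR h, card_fixed h1 h2]

/-- the vectors fixed by `s` modulo `R` -/
def fixV {s : G} {σ : F ≃+* F} {c : F} (h : M.Act s σ c) : Subgroup G where
  carrier := {g | ∃ x : Fin 2 → F, σ (x 1) = x 1 ∧ M.e x = g}
  mul_mem' := by
    rintro _ _ ⟨x, hx, rfl⟩ ⟨y, hy, rfl⟩
    exact ⟨x + y, by rw [Pi.add_apply, map_add, hx, hy], M.e_add _ _⟩
  one_mem' := ⟨0, by simp, M.e_zero⟩
  inv_mem' := by
    rintro _ ⟨x, hx, rfl⟩
    exact ⟨-x, by rw [Pi.neg_apply, map_neg, hx], M.e_neg _⟩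

theorem mem_fixV {s : G} {σ : F ≃+* F} {c : F} (h : M.Act s σ c) {v : G} :
    v ∈ M.fixV h ↔ v ∈ V ∧ s * v * s⁻¹ * v⁻¹ ∈ M.R := by
  constructor
  · rintro ⟨x, hx, rfl⟩
    refine ⟨M.e_mem _, ?_⟩
    rw [h, ← M.e_sub, M.e_mem_R]
    simp [hx]
  · rintro ⟨hv, hvR⟩
    obtain ⟨x, rfl⟩ := (M.mem_iff v).1 hv
    rw [h, ← M.e_sub, M.e_mem_R] at hvR
    exact ⟨x, sub_eq_zero.1 (by simpa using hvR), rfl⟩

theorem card_fixV {s : G} {σ : F ≃+* F} {c : F} (h : M.Act s σ c) :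
    Nat.card (M.fixV h) = Nat.card F * Nat.card {x : F // σ x = x} := by
  rw [← Nat.card_prod]
  refine (Nat.card_congr (Equiv.ofBijective (fun a : F × {x : F // σ x = x} =>
    (⟨M.e ![a.1, (a.2 : F)], ![a.1, (a.2 : F)], a.2.2, rfl⟩ : M.fixV h)) ⟨?_, ?_⟩)).symm
  · rintro ⟨a, b⟩ ⟨a', b'⟩ h
    have h1 := M.e_inj (congrArg Subtype.val h)
    have h2 : a = a' := by simpa using congrFun h1 0
    have h3 : b = b' := Subtype.ext (by simpa using congrFun h1 1)
    rw [h2, h3]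
  · rintro ⟨_, x, hx, rfl⟩
    refine ⟨⟨x 0, ⟨x 1, hx⟩⟩, Subtype.ext ?_⟩
    show M.e ![x 0, x 1] = M.e x
    congr 1
    apply ext2 <;> rfl

/-- a subgroup of `S` with squares in `C(R)`, not in `C(R)`: all elements outside `C(R)` induce the same involution -/
theorem exists_phi [Finite F] {D : Subgroup G} (hD : D ≤ S) (hsq : ∀ a ∈ D, a ^ 2 ∈ centralizer (M.R : Set G))
    (hne : ¬ D ≤ centralizer (M.R : Set G)) : ∃ φ : F ≃+* F, φ ≠ RingEquiv.refl F ∧ (∀ x, φ (φ x) = x) ∧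
      ∀ a ∈ D, a ∉ centralizer (M.R : Set G) → ∃ c, M.Act a φ c := by
  obtain ⟨d, hd, hdR⟩ := SetLike.not_le_iff_exists.1 hne
  have key : ∀ a ∈ D, a ∉ centralizer (M.R : Set G) → ∃ σ c, M.Act a σ c ∧ σ ≠ RingEquiv.refl F ∧
      ∀ x, σ (σ x) = x := by
    intro a ha haR
    obtain ⟨σ, c, h⟩ := M.exists_act (hD ha)
    refine ⟨σ, c, h, fun h1 => haR (h.mem_centR.2 h1), fun x => ?_⟩
    have h2 := hsq a ha
    rw [pow_two] at h2
    have h3 := (h.mul h).mem_centR.1 h2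
    exact congrArg (fun τ : F ≃+* F => τ x) h3
  obtain ⟨φ, c, h, h1, h2⟩ := key d hd hdR
  refine ⟨φ, h1, h2, fun a ha haR => ?_⟩
  obtain ⟨σ, c', h', h1', h2'⟩ := key a ha haR
  obtain rfl := inv_unique h1' h2' h1 h2
  exact ⟨c', h'⟩

theorem relIndex_two [Finite F] {D : Subgroup G} (hD : D ≤ S) (hsq : ∀ a ∈ D, a ^ 2 ∈ centralizer (M.R : Set G))
    (hne : ¬ D ≤ centralizer (M.R : Set G)) : (centralizer (M.R : Set G)).relIndex D = 2 := by
  obtain ⟨φ, h1, h2, h3⟩ := M.exists_phi hD hsq hne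
  obtain ⟨d, hd, hdR⟩ := SetLike.not_le_iff_exists.1 hne
  rw [relIndex, Subgroup.index_eq_two_iff]
  refine ⟨⟨d, hd⟩, fun b => ?_⟩
  rw [mem_subgroupOf, mem_subgroupOf]
  obtain ⟨c, hc⟩ := h3 d hd hdR
  have hbd : ∀ σ c', M.Act (b : G) σ c' → ((b : G) * d ∈ centralizer (M.R : Set G) ↔ φ.trans σ = RingEquiv.refl F) :=
    fun σ c' h => (h.mul hc).mem_centR
  by_cases hb : (b : G) ∈ centralizer (M.R : Set G)
  · right
    refine ⟨hb, fun h4 => ?_⟩
    exact hdR ((Subgroup.mul_mem_cancel_left _ hb).1 h4)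
  · left
    refine ⟨?_, hb⟩
    obtain ⟨c', hc'⟩ := h3 b b.2 hb
    exact (hbd φ c' hc').2 (RingEquiv.ext h2)

/-- `|R : C_R(D)|² = |R|` -/
theorem card_fixR_D [Finite F] [CharP F 2] {D : Subgroup G} (hD : D ≤ S)
    (hsq : ∀ a ∈ D, a ^ 2 ∈ centralizer (M.R : Set G)) (hne : ¬ D ≤ centralizer (M.R : Set G)) :
    Nat.card ↥(M.R ⊓ centralizer (D : Set G)) * Nat.card ↥(M.R ⊓ centralizer (D : Set G)) = Nat.card F := by
  obtain ⟨φ, h1, h2, h3⟩ := M.exists_phi hD hsq hne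
  obtain ⟨d, hd, hdR⟩ := SetLike.not_le_iff_exists.1 hne
  obtain ⟨c, hc⟩ := h3 d hd hdR
  have e : M.R ⊓ centralizer (D : Set G) = M.R ⊓ centralizer ({d} : Set G) := by
    apply le_antisymm
    · exact inf_le_inf_left _ (centralizer_le (Set.singleton_subset_iff.2 hd))
    · rintro r ⟨hr, hrd⟩
      refine ⟨hr, mem_centralizer_iff.2 fun a ha => ?_⟩
      have hrd' : d * r = r * d := (mem_centralizer_singleton_iff.1 hrd).symm
      by_cases haR : a ∈ centralizer (M.R : Set G)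
      · exact (mem_centralizer_iff.1 haR r hr).symm
      · -- `a d⁻¹` centralises `R`
        obtain ⟨c', hc'⟩ := h3 a ha haR
        have h4 : a * d ∈ centralizer (M.R : Set G) := (hc'.mul hc).mem_centR.2 (RingEquiv.ext h2)
        have h5 := mem_centralizer_iff.1 h4 r hr
        calc a * r = a * (d * r) * d⁻¹ := by rw [hrd']; group
          _ = (a * d * r) * d⁻¹ := by group
          _ = (r * (a * d)) * d⁻¹ := by rw [← h5]
          _ = r * a := by group
  rw [e, M.card_fixR_sq hc h1 h2]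

/-! ### `Ω₁(Z(S))` -/

/-- some element of `S` induces a nontrivial field automorphism if `Ω₁(Z(S)) ≠ R` -/
theorem zc_eq (hV : V ≤ S) (hZ : zc S ≤ V) [CharP F 2] : zc S = M.R ⊓ centralizer (S : Set G) := by
  apply le_antisymm
  · intro z hz
    have h1 := mem_zc.1 hz
    exact ⟨M.mem_R_of_comm (hZ hz) fun b hb _ => h1.2.2 b hb, mem_centralizer_iff.2 fun s hs => h1.2.2 s hs⟩
  · rintro z ⟨hz, hzS⟩
    have hzV := M.R_le hz
    exact mem_zc.2 ⟨hV hzV, by rw [pow_two]; exact M.sq hzV, fun s hs => mem_centralizer_iff.1 hzS s hs⟩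

theorem not_le_centR (hV : V ≤ S) (hZ : zc S ≤ V) [CharP F 2] (hc : Nat.card (zc S) ≠ Nat.card F) :
    ¬ S ≤ centralizer (M.R : Set G) := by
  intro hle
  apply hc
  rw [M.zc_eq hV hZ, ← M.card_R, inf_eq_left.2]
  rw [le_centralizer_iff]
  exact hle

theorem le_centR (hV : V ≤ S) (hZ : zc S ≤ V) [CharP F 2] [Finite G] (hc : Nat.card (zc S) = Nat.card F) :
    S ≤ centralizer (M.R : Set G) := by
  rw [← le_centralizer_iff]
  have h1 : M.R ⊓ centralizer (S : Set G) = M.R := by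
    refine Subgroup.eq_of_le_of_card_ge inf_le_left ?_
    rw [← M.zc_eq hV hZ, hc, M.card_R]
  exact inf_eq_left.1 h1

end Crd

end Cfsg.Agent.Omega.NO3S.Fld
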