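import Cfsg.Agent.Omega.NO3S.Fld.FourBase
import Cfsg.Agent.Omega.NO3S.Fld.Mods

/-!
# Fld, `q = 4` (helper240, #15515), section (3), second half: the stabiliser of `z` in `N_G(V)`

`M : Crd F S P V`, `|F| = 4`, `z = e (1, 0)`, `H = N_G(V) ∩ C_G(z)` moves `R`, some element of `S` acts nontrivially on
`R`.

* `not_V3` : `H` moves `V₃ = {x₁ ∈ F₂}`;
* `trans` : `H` is transitive on `V - ⟨z⟩`.
-/

set_option autoImplicit false
set_option linter.unusedSectionVars false

namespace Cfsg.Agent.Omega.NO3S.Fld.FourEnd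

open Subgroup Cfsg Cfsg.Agent.ZN Cfsg.Agent.ZN.ChoiceBase Cfsg.Agent.Omega.MinPar Cfsg.Agent.Omega.FrameNOFF
open Cfsg.Agent.Omega.NatPair (ap ap_zero' ap_one' ext2)
open Cfsg.Agent.Omega.NO3b.K0 (conj_mem')
open Cfsg.Agent.Omega.NO3S.NotFF (le_normalizer_of_forall)
open Cfsg.Agent.Lib.SL2Mat
open Cfsg.Agent.Omega.NO3S.Fld.DEight (exists_omega sig_add of_sig_eq exists_ne)

universe u

section field

variable {F : Type*} [Field F] [CharP F 2]

/-- a fixed point free additive automorphism of `F₄` is a multiplication -/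
theorem mul_of_fpf (hF : Nat.card F = 4) {α : F → F} (hadd : ∀ a b, α (a + b) = α a + α b)
    (h0 : ∀ a, a ≠ 0 → α a ≠ 0) (h1 : ∀ a, a ≠ 0 → α a ≠ a) :
    ∃ u : F, u ≠ 0 ∧ u * u = u + 1 ∧ ∀ a, α a = u * a := by
  obtain ⟨w, hw, hall⟩ := exists_omega hF
  have hz : α 0 = 0 := by
    have := hadd 0 0
    rw [add_zero] at this
    exact left_eq_add.1 this
  have key : ∀ u : F, u * u = u + 1 → (∀ x : F, x = 0 ∨ x = 1 ∨ x = u ∨ x = u + 1) → α 1 = u →
      ∀ a, α a = u * a := by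
    intro u hu hall hu1
    have hu0 : u ≠ 0 := fun h => by rw [h] at hu; simp at hu
    have hu2 : α u = u + 1 := by
      rcases hall (α u) with h | h | h | h
      · exact absurd h (h0 u hu0)
      · exfalso
        have h3 : u + 1 ≠ 0 := by rw [← hu]; exact mul_ne_zero hu0 hu0
        refine h1 (u + 1) h3 ?_
        rw [hadd, h, hu1, add_comm]
      · exact absurd h (h1 u hu0)
      · exact h
    intro a
    rcases hall a with h | h | h | h
    · rw [h, hz, mul_zero]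
    · rw [h, hu1, mul_one]
    · rw [h, hu2, hu]
    · rw [h, hadd, hu2, hu1, mul_add, hu, mul_one]
  have hne : α 1 ≠ 0 := h0 1 one_ne_zero
  have hne1 : α 1 ≠ 1 := h1 1 one_ne_zero
  rcases hall (α 1) with h | h | h | h
  · exact absurd h hne
  · exact absurd h hne1
  · refine ⟨w, h ▸ hne, hw, key w hw hall h⟩
  · have e2 : w + 1 + 1 = w := by rw [add_assoc, CharTwo.add_self_eq_zero, add_zero]
    have e1 : (w + 1) * (w + 1) = w + 1 + 1 := by
      have e3 : (w + 1) * (w + 1) = w * w + (w + w) + 1 := by ring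
      rw [e3, hw, CharTwo.add_self_eq_zero, add_zero]
    refine ⟨w + 1, h ▸ hne, e1, key (w + 1) e1 (fun x => ?_) h⟩
    rcases hall x with hx | hx | hx | hx
    · exact Or.inl hx
    · exact Or.inr (Or.inl hx)
    · right; right; right
      rw [hx, e2]
    · exact Or.inr (Or.inr (Or.inl hx))

/-- two elements of `F₄ - F₂` -/
theorem eq_or_sig (hF : Nat.card F = 4) {σ : F ≃+* F} (hσ : σ ≠ RingEquiv.refl F) {x y : F} (hx0 : x ≠ 0)
    (hx1 : x ≠ 1) (hy0 : y ≠ 0) (hy1 : y ≠ 1) : y = x ∨ y = σ x := by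
  obtain ⟨w, hw, hall⟩ := exists_omega hF
  have h1 := sig_add hF hσ hx0 hx1
  have h2 : σ x = x + 1 := by
    have : σ x = (σ x + x) + x := by rw [add_assoc, CharTwo.add_self_eq_zero, add_zero]
    rw [this, h1, add_comm]
  have e2 : w + 1 + 1 = w := by rw [add_assoc, CharTwo.add_self_eq_zero, add_zero]
  rw [h2]
  rcases hall x with h | h | h | h
  · exact absurd h hx0
  · exact absurd h hx1
  · rcases hall y with h' | h' | h' | h'
    · exact absurd h' hy0
    · exact absurd h' hy1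
    · left; rw [h, h']
    · right; rw [h, h']
  · rcases hall y with h' | h' | h' | h'
    · exact absurd h' hy0
    · exact absurd h' hy1
    · right; rw [h, h', e2]
    · left; rw [h, h']

end field

variable {G : Type u} [Group G] {F : Type*} [Field F] [CharP F 2]

section v3

variable {S P V : Subgroup G} (M : Crd F S P V)

/-- `V₃ = {x₁ ∈ F₂}` -/
def V3 : Subgroup G where
  carrier := {g | ∃ x : Fin 2 → F, (x 1 = 0 ∨ x 1 = 1) ∧ M.e x = g}
  one_mem' := ⟨0, Or.inl rfl, M.e_zero⟩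
  mul_mem' := by
    rintro _ _ ⟨x, hx, rfl⟩ ⟨y, hy, rfl⟩
    refine ⟨x + y, ?_, M.e_add x y⟩
    rw [Pi.add_apply]
    rcases hx with hx | hx <;> rcases hy with hy | hy <;> rw [hx, hy]
    · left; exact add_zero 0
    · right; exact zero_add 1
    · right; exact add_zero 1
    · left; exact CharTwo.add_self_eq_zero 1
  inv_mem' := by
    rintro _ ⟨x, hx, rfl⟩
    refine ⟨-x, ?_, M.e_neg x⟩
    rw [Pi.neg_apply]
    rcases hx with hx | hx
    · left; rw [hx, neg_zero]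
    · right; rw [hx, CharTwo.neg_eq]

theorem mem_V3 {x : Fin 2 → F} : M.e x ∈ V3 M ↔ x 1 = 0 ∨ x 1 = 1 := by
  constructor
  · rintro ⟨y, hy, h⟩
    rwa [← M.e_inj h]
  · intro h
    exact ⟨x, h, rfl⟩

theorem R_le_V3 : M.R ≤ V3 M := by
  rintro _ ⟨a, rfl⟩
  exact ⟨_, Or.inl rfl, rfl⟩

/-- `z = e (1, 0)` -/
def zz : G := M.e ![1, 0]

theorem zz_mem_R : zz M ∈ M.R := ⟨1, rfl⟩

theorem zz_ne : zz M ≠ 1 := by
  intro h
  rw [zz, ← M.e_zero] at h
  have := congrFun (M.e_inj h) 0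
  simp at this

theorem e_mem_zpowers {x : Fin 2 → F} : M.e x ∈ zpowers (zz M) ↔ x 1 = 0 ∧ (x 0 = 0 ∨ x 0 = 1) := by
  have hsq : zz M * zz M = 1 := M.sq (M.R_le (zz_mem_R M))
  constructor
  · intro h
    obtain ⟨n, hn⟩ := mem_zpowers_iff.1 h
    rcases Int.even_or_odd' n with ⟨k, rfl | rfl⟩
    · rw [zpow_mul, zpow_ofNat, pow_two, hsq, one_zpow, ← M.e_zero] at hn
      rw [← M.e_inj hn]
      exact ⟨rfl, Or.inl rfl⟩
    · rw [zpow_add, zpow_mul, zpow_ofNat, pow_two, hsq, one_zpow, one_mul, zpow_one] at hn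
      rw [← M.e_inj hn]
      exact ⟨rfl, Or.inr rfl⟩
  · rintro ⟨h1, h2 | h2⟩
    · have : x = 0 := ext2 h2 h1
      rw [this, M.e_zero]
      exact one_mem _
    · have : x = ![1, 0] := ext2 h2 h1
      rw [this]
      exact mem_zpowers _

/-- the stabiliser of `z` in `N_G(V)` -/
def HH : Subgroup G := normalizer (V : Set G) ⊓ centralizer ({zz M} : Set G)

theorem mem_HH {g : G} : g ∈ HH M ↔ g ∈ normalizer (V : Set G) ∧ g * zz M = zz M * g := by
  rw [HH, mem_inf, mem_centralizer_singleton_iff]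

theorem HH_z {g : G} (hg : g ∈ HH M) : g * zz M * g⁻¹ = zz M := by
  rw [((mem_HH M).1 hg).2, mul_inv_cancel_right]

/-- the action of `g ∈ N_G(V)` -/
theorem exists_y {g : G} (hg : g ∈ normalizer (V : Set G)) (x : Fin 2 → F) : ∃ y, g * M.e x * g⁻¹ = M.e y := by
  obtain ⟨y, hy⟩ := (M.mem_iff _).1 ((mem_normalizer_iff.1 hg _).1 (M.e_mem x))
  exact ⟨y, hy.symm⟩

/-- `s (1, 0) = (1, 0)` for `s ∈ S` -/
theorem S_le_HH : S ≤ HH M := by
  intro s hs
  obtain ⟨σ, c, h⟩ := M.act s hs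
  rw [mem_HH]
  refine ⟨M.S_V hs, ?_⟩
  have h1 := h ![1, 0]
  have h2 : (![σ ((![1, 0] : Fin 2 → F) 0) + c * σ ((![1, 0] : Fin 2 → F) 1), σ ((![1, 0] : Fin 2 → F) 1)] : Fin 2 → F) =
      ![1, 0] := by
    apply ext2 <;> simp
  rw [h2, mul_inv_eq_iff_eq_mul] at h1
  exact h1

end v3

section alpha

variable [Finite G] {S : Sylow 2 G} {P V : Subgroup G} (M : Crd F (S : Subgroup G) P V)
  (hPV : P ≤ normalizer (V : Set G)) (hF : Nat.card F = 4) (hR : ¬ HH M ≤ normalizer (M.R : Set G))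

include hPV hF hR in
/-- (α) `H` moves `V₃` -/
theorem not_V3 : ¬ HH M ≤ normalizer (V3 M : Set G) := by
  intro h3
  have hSH : (S : Subgroup G) ≤ HH M := S_le_HH M
  have hHV : HH M ≤ normalizer (V : Set G) := inf_le_left
  have hHz : HH M ≤ normalizer (zpowers (zz M) : Set G) := by
    refine le_normalizer_of_forall fun g hg w hw => ?_
    obtain ⟨n, rfl⟩ := mem_zpowers_iff.1 hw
    have h1 : Commute g (zz M) := ((mem_HH M).1 hg).2
    have h2 : g * zz M ^ n * g⁻¹ = zz M ^ n := mul_inv_eq_iff_eq_mul.2 (h1.zpow_right n).eq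
    rw [h2]
    exact zpow_mem (mem_zpowers _) n
  have hzR : zpowers (zz M) ≤ M.R := zpowers_le.2 (zz_mem_R M)
  have hKn : HH M ≤ normalizer (kmod (HH M) (V3 M) (zpowers (zz M)) h3 hHz : Set G) := norm_kmod h3 hHz
  have hKR : kmod (HH M) (V3 M) (zpowers (zz M)) h3 hHz ≤ normalizer (M.R : Set G) := by
    refine le_normalizer_of_forall fun g hg r hr => ?_
    have h1 := hzR (hg.2 r (R_le_V3 M hr))
    have h2 := mul_mem h1 hr
    rwa [inv_mul_cancel_right] at h2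
  have hfr := MinSimple.Basic.frattini hSH S.isPGroup' (MinSimple.Basic.not_dvd_relIndex S hSH) hKn
  set K := kmod (HH M) (V3 M) (zpowers (zz M)) h3 hHz with hK
  obtain ⟨y, ⟨hyH, hyN⟩, hyR⟩ : ∃ y ∈ HH M ⊓ normalizer (((S : Subgroup G) ⊓ K : Subgroup G) : Set G),
      y ∉ normalizer (M.R : Set G) := by
    by_contra hcon
    push Not at hcon
    exact hR (hfr.trans (sup_le hKR hcon))
  obtain ⟨t, htS, ht⟩ := M.full 1
  have ht' : ∀ x : Fin 2 → F, t * M.e x * t⁻¹ = M.e ![x 0 + x 1, x 1] := fun x => by rw [ht, one_mul]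
  have htA : M.Act t (RingEquiv.refl F) 1 := ht
  have htV : t ∉ centralizer (V : Set G) := fun h0 => one_ne_zero (htA.mem_centV.1 h0).2
  have htK : t ∈ (S : Subgroup G) ⊓ K := by
    refine ⟨htS, hSH htS, ?_⟩
    rintro _ ⟨x, hx, rfl⟩
    rw [ht', ← M.e_sub, e_mem_zpowers]
    refine ⟨by simp, ?_⟩
    simp only [Pi.sub_apply, Matrix.cons_val_zero, add_sub_cancel_left]
    exact hx
  have hyt := conj_mem' (le_refl _) hyN htK
  obtain ⟨σ, c, hact⟩ := M.act _ hyt.1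
  have hact' : M.Act (y * t * y⁻¹) σ c := hact
  have hyV : y ∈ normalizer (V : Set G) := hHV hyH
  -- `σ ≠ 1`
  have hσ : σ ≠ RingEquiv.refl F := by
    intro h0
    apply hyR
    have h1 := hact'.mem_centR.2 h0
    have h2 : y * t * y⁻¹ ∉ centralizer (V : Set G) := by
      intro h4
      apply htV
      rw [mem_centralizer_iff]
      intro v hv
      have h5 := mem_centralizer_iff.1 h4 _ ((mem_normalizer_iff.1 hyV _).1 hv)
      have e1 : y * v * y⁻¹ * (y * t * y⁻¹) = y * (v * t) * y⁻¹ := by group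
      have e2 : y * t * y⁻¹ * (y * v * y⁻¹) = y * (t * v) * y⁻¹ := by group
      rw [e1, e2] at h5
      exact mul_left_cancel (mul_right_cancel h5)
    have h6 : ∀ r ∈ M.R, y * r * y⁻¹ ∈ M.R := by
      rintro _ ⟨a, rfl⟩
      refine M.fix hyt.1 h1 h2 ((mem_normalizer_iff.1 hyV _).1 (M.e_mem _)) ?_
      have h7 : t * M.e ![a, 0] = M.e ![a, 0] * t := by
        have h8 := ht' ![a, 0]
        have h9 : (![(![a, 0] : Fin 2 → F) 0 + (![a, 0] : Fin 2 → F) 1, (![a, 0] : Fin 2 → F) 1] : Fin 2 → F) = ![a, 0] := by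
          apply ext2 <;> simp
        rw [h9, mul_inv_eq_iff_eq_mul] at h8
        exact h8
      have e1 : y * t * y⁻¹ * (y * M.e ![a, 0] * y⁻¹) = y * (t * M.e ![a, 0]) * y⁻¹ := by group
      have e2 : y * M.e ![a, 0] * y⁻¹ * (y * t * y⁻¹) = y * (M.e ![a, 0] * t) * y⁻¹ := by group
      rw [e1, e2, h7]
    rw [mem_normalizer_iff_cj]
    refine Subgroup.eq_of_le_of_card_ge ?_ ?_
    · rintro _ ⟨r, hr, rfl⟩
      exact h6 r hr
    · rw [card_cj]
  -- `c ∈ F₂`
  have hc : c = 0 ∨ c = 1 := by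
    have h1 := hyt.2.2 (M.e ![0, 1]) ((mem_V3 M).2 (Or.inr rfl))
    rw [hact, ← M.e_sub, e_mem_zpowers] at h1
    simpa using h1.2
  -- a conjugate of `t` acts as `σ`
  obtain ⟨y', hy'H, hy'⟩ : ∃ y' ∈ HH M, ∀ x : Fin 2 → F, y' * t * y'⁻¹ * M.e x * (y' * t * y'⁻¹)⁻¹ =
      M.e ![σ (x 0), σ (x 1)] := by
    rcases hc with rfl | rfl
    · refine ⟨y, hyH, fun x => ?_⟩
      rw [hact, zero_mul, add_zero]
    · obtain ⟨c0, h0, h1⟩ := exists_ne hF
      obtain ⟨s, hs, hs1⟩ := M.full c0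
      have hs' : M.Act s (RingEquiv.refl F) c0 := hs1
      have hsi := hs'.inv
      refine ⟨s * y, mul_mem (hSH hs) hyH, fun x => ?_⟩
      have e1 : s * y * t * (s * y)⁻¹ = s * (y * t * y⁻¹) * s⁻¹ := by group
      rw [e1, ((hs'.mul hact').mul hsi) x]
      have h2 := sig_add hF hσ h0 h1
      have h3 : c0 + 1 + σ (-c0) = 0 := by
        rw [CharTwo.neg_eq]
        have : c0 + 1 + σ c0 = (σ c0 + c0) + 1 := by ring
        rw [this, h2, CharTwo.add_self_eq_zero]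
      congr 1
      apply ext2
      · have h4 : (c0 + (RingEquiv.refl F) (1 : F) + (σ.trans (RingEquiv.refl F)) ((RingEquiv.refl F).symm (-c0)) : F) =
            c0 + 1 + σ (-c0) := rfl
        simp only [Matrix.cons_val_zero]
        rw [h4, h3, zero_mul, add_zero]
        rfl
      · rfl
  have hy'V : y' ∈ normalizer (V : Set G) := hHV hy'H
  -- an element of order 3 which commutes with `σ`
  obtain ⟨c', hc'P, hc'⟩ := M.lift (mk 0 1 1 1 (by rw [zero_mul, one_mul, zero_sub, CharTwo.neg_eq]))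
  have hc'' : ∀ x : Fin 2 → F, c' * M.e x * c'⁻¹ = M.e ![x 1, x 0 + x 1] := by
    intro x
    rw [hc']
    congr 1
    apply ext2
    · rw [ap_zero', mk_00, mk_01]; simp
    · rw [ap_one', mk_10, mk_11]; simp
  set d := y'⁻¹ * c' * y' with hd
  have hdV : d ∈ normalizer (V : Set G) := mul_mem (mul_mem (inv_mem hy'V) (hPV hc'P)) hy'V
  -- `d` commutes with `t` on `V`
  have hdt : ∀ v ∈ V, t * (d * v * d⁻¹) * t⁻¹ = d * (t * v * t⁻¹) * d⁻¹ := by
    intro v hv
    obtain ⟨x, hx⟩ := (M.mem_iff _).1 ((mem_normalizer_iff.1 hy'V _).1 hv)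
    have e1 : t * (d * v * d⁻¹) * t⁻¹ = y'⁻¹ * (y' * t * y'⁻¹ * (c' * (y' * v * y'⁻¹) * c'⁻¹) * (y' * t * y'⁻¹)⁻¹) * y' := by
      rw [hd]; group
    have e2 : d * (t * v * t⁻¹) * d⁻¹ = y'⁻¹ * (c' * (y' * t * y'⁻¹ * (y' * v * y'⁻¹) * (y' * t * y'⁻¹)⁻¹) * c'⁻¹) * y' := by
      rw [hd]; group
    rw [e1, e2, ← hx, hc'', hy', hy', hc'']
    congr 3
    apply ext2
    · simp
    · simp [map_add]
  -- `d` has no fixed points
  have hdf : ∀ v ∈ V, d * v * d⁻¹ = v → v = 1 := by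
    intro v hv hdv
    obtain ⟨x, hx⟩ := (M.mem_iff _).1 ((mem_normalizer_iff.1 hy'V _).1 hv)
    have h1 : c' * M.e x * c'⁻¹ = M.e x := by
      rw [hx]
      have e1 : c' * (y' * v * y'⁻¹) * c'⁻¹ = y' * (d * v * d⁻¹) * y'⁻¹ := by rw [hd]; group
      rw [e1, hdv]
    rw [hc''] at h1
    have h2 := congrFun (M.e_inj h1) 0
    have h3 := congrFun (M.e_inj h1) 1
    simp only [Matrix.cons_val_zero, Matrix.cons_val_one] at h2 h3
    have h4 : x 0 = 0 := by
      exact right_eq_add.1 h3.symm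
    have h5 : x = 0 := ext2 h4 (h2.trans h4)
    rw [h5, M.e_zero] at hx
    exact conj_eq_one_iff.1 hx.symm
  choose φ hφ using fun x : Fin 2 → F => exists_y M hdV x
  have hφadd : ∀ x y, φ (x + y) = φ x + φ y := by
    intro x w
    apply M.e_inj
    rw [M.e_add, ← hφ, ← hφ, ← hφ, M.e_add]
    group
  -- `d` normalises `R`
  have hφR : ∀ a, φ ![a, 0] 1 = 0 := by
    intro a
    have h1 := hdt _ (M.e_mem ![a, 0])
    rw [hφ, ht', ht'] at h1
    have h2 : (![(![a, 0] : Fin 2 → F) 0 + (![a, 0] : Fin 2 → F) 1, (![a, 0] : Fin 2 → F) 1] : Fin 2 → F) = ![a, 0] := by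
      apply ext2 <;> simp
    rw [h2, hφ] at h1
    have h3 := congrFun (M.e_inj h1) 0
    simp only [Matrix.cons_val_zero] at h3
    exact left_eq_add.1 h3.symm
  obtain ⟨u, hu0, hu, hα⟩ := mul_of_fpf hF (α := fun a => φ ![a, 0] 0) (fun a b => by
      have h1 : (![a + b, 0] : Fin 2 → F) = ![a, 0] + ![b, 0] := by apply ext2 <;> simp
      show φ ![a + b, 0] 0 = _
      rw [h1, hφadd]
      rfl) (fun a ha h1 => by
      apply ha
      have h2 : φ ![a, 0] = 0 := ext2 h1 (hφR a)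
      have h3 := hφ ![a, 0]
      rw [h2, M.e_zero, conj_eq_one_iff, ← M.e_zero] at h3
      have := congrFun (M.e_inj h3) 0
      simpa using this) (fun a ha h1 => by
      apply ha
      have h2 : φ ![a, 0] = ![a, 0] := ext2 h1 (hφR a)
      have h3 := hφ ![a, 0]
      rw [h2] at h3
      have h4 := hdf _ (M.e_mem _) h3
      rw [← M.e_zero] at h4
      have := congrFun (M.e_inj h4) 0
      simpa using this)
  have hα' : ∀ a, φ ![a, 0] 0 = u * a := hα
  -- the action on `V / R`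
  have hβ : ∀ x, φ x 1 = u * x 1 := by
    intro x
    have h1 := hdt _ (M.e_mem x)
    rw [hφ, ht', ht'] at h1
    have h2 : (![x 0 + x 1, x 1] : Fin 2 → F) = x + ![x 1, 0] := by apply ext2 <;> simp
    rw [h2, hφ, hφadd] at h1
    have h3 := congrFun (M.e_inj h1) 0
    simp only [Matrix.cons_val_zero, Pi.add_apply, hα'] at h3
    exact add_left_cancel h3
  -- the torus
  obtain ⟨k, hkP, hk⟩ := M.lift (dg u⁻¹ (inv_ne_zero hu0))
  have hk' : ∀ x : Fin 2 → F, k * M.e x * k⁻¹ = M.e ![u⁻¹ * x 0, u * x 1] := by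
    intro x
    rw [hk]
    congr 1
    apply ext2
    · rw [ap_zero', dg, mk_00, mk_01]; simp
    · rw [ap_one', dg, mk_10, mk_11]; simp
  have hg : d * k ∈ HH M := by
    rw [mem_HH]
    refine ⟨mul_mem hdV (hPV hkP), ?_⟩
    rw [← mul_inv_eq_iff_eq_mul]
    have e1 : d * k * zz M * (d * k)⁻¹ = d * (k * M.e ![1, 0] * k⁻¹) * d⁻¹ := by rw [zz]; group
    rw [e1, hk']
    have h2 : (![u⁻¹ * (![1, 0] : Fin 2 → F) 0, u * (![1, 0] : Fin 2 → F) 1] : Fin 2 → F) = ![u⁻¹, 0] := by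
      apply ext2 <;> simp
    rw [h2, hφ, zz]
    congr 1
    refine ext2 ?_ (hφR _)
    rw [hα', mul_inv_cancel₀ hu0]
    rfl
  have h4 := conj_mem' h3 hg ((mem_V3 M).2 (Or.inr rfl : (![0, 1] : Fin 2 → F) 1 = 0 ∨ (![0, 1] : Fin 2 → F) 1 = 1))
  have e1 : d * k * M.e ![0, 1] * (d * k)⁻¹ = d * (k * M.e ![0, 1] * k⁻¹) * d⁻¹ := by group
  rw [e1, hk', hφ, mem_V3, hβ] at h4
  change u * (u * 1) = 0 ∨ u * (u * 1) = 1 at h4
  rw [mul_one, hu] at h4
  rcases h4 with h5 | h5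
  · have : u * u = 0 := hu.trans h5
    rcases mul_eq_zero.1 this with h6 | h6 <;> exact hu0 h6
  · exact hu0 (by simpa using h5)

end alpha

section beta

variable {S P V : Subgroup G} (M : Crd F S P V)

/-- fusion under `H` -/
def Fus (v w : G) : Prop := ∃ g ∈ HH M, g * v * g⁻¹ = w

variable {M}

theorem Fus.symm {v w : G} (h : Fus M v w) : Fus M w v := by
  obtain ⟨g, hg, rfl⟩ := h
  exact ⟨g⁻¹, inv_mem hg, by group⟩

theorem Fus.trans {v w u : G} (h : Fus M v w) (h' : Fus M w u) : Fus M v u := by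
  obtain ⟨g, hg, rfl⟩ := h
  obtain ⟨k, hk, rfl⟩ := h'
  exact ⟨k * g, mul_mem hk hg, by group⟩

variable (M)

/-- the root elements of `S` -/
theorem fus_root {x y : Fin 2 → F} (h1 : x 1 = y 1) (h0 : x 1 ≠ 0) : Fus M (M.e x) (M.e y) := by
  obtain ⟨s, hs, h⟩ := M.full ((y 0 - x 0) / x 1)
  refine ⟨s, S_le_HH M hs, ?_⟩
  rw [h]
  congr 1
  apply ext2
  · simp only [Matrix.cons_val_zero]
    rw [div_mul_cancel₀ _ h0, add_sub_cancel]
  · simpa using h1

variable (hF : Nat.card F = 4) (hfld : ∃ s ∈ S, ∃ σ c, M.Act s σ c ∧ σ ≠ RingEquiv.refl F)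
include hF hfld

theorem fus_C {x y : Fin 2 → F} (hx0 : x 1 ≠ 0) (hx1 : x 1 ≠ 1) (hy0 : y 1 ≠ 0) (hy1 : y 1 ≠ 1) :
    Fus M (M.e x) (M.e y) := by
  obtain ⟨s, hs, σ, c, h, hσ⟩ := hfld
  rcases eq_or_sig hF hσ hx0 hx1 hy0 hy1 with e | e
  · exact fus_root M e.symm hx0
  · refine Fus.trans (w := M.e ![σ (x 0) + c * σ (x 1), σ (x 1)]) ⟨s, S_le_HH M hs, h x⟩ (fus_root M ?_ ?_)
    · exact e.symm
    · show σ (x 1) ≠ 0
      rw [← e]
      exact hy0

theorem fus_A {x y : Fin 2 → F} (hx : x 1 = 0) (hx0 : x 0 ≠ 0) (hx1 : x 0 ≠ 1) (hy : y 1 = 0) (hy0 : y 0 ≠ 0)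
    (hy1 : y 0 ≠ 1) : Fus M (M.e x) (M.e y) := by
  obtain ⟨s, hs, σ, c, h, hσ⟩ := hfld
  rcases eq_or_sig hF hσ hx0 hx1 hy0 hy1 with e | e
  · have : x = y := ext2 e.symm (hx.trans hy.symm)
    rw [this]
    exact ⟨1, one_mem _, by group⟩
  · refine ⟨s, S_le_HH M hs, ?_⟩
    rw [h]
    congr 1
    apply ext2
    · simp only [Matrix.cons_val_zero]
      rw [hx, map_zero, mul_zero, add_zero, e]
    · show σ (x 1) = y 1
      rw [hx, map_zero, hy]

/-- (β) `H` is transitive on `V - ⟨z⟩` -/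
theorem fus (hR : ¬ HH M ≤ normalizer (M.R : Set G)) (h3 : ¬ HH M ≤ normalizer (V3 M : Set G)) {x y : Fin 2 → F}
    (hx : M.e x ∉ zpowers (zz M)) (hy : M.e y ∉ zpowers (zz M)) : Fus M (M.e x) (M.e y) := by
  obtain ⟨w, hw0, hw1⟩ := exists_ne hF
  have hHV : HH M ≤ normalizer (V : Set G) := inf_le_left
  -- the class of an element outside `⟨z⟩`
  have cls : ∀ x : Fin 2 → F, M.e x ∉ zpowers (zz M) → Fus M (M.e x) (M.e ![w, 0]) ∨ Fus M (M.e x) (M.e ![0, 1]) ∨
      Fus M (M.e x) (M.e ![0, w]) := by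
    intro x hx
    by_cases h1 : x 1 = 0
    · left
      rw [e_mem_zpowers] at hx
      push Not at hx
      exact fus_A M hF hfld h1 (hx h1).1 (hx h1).2 rfl hw0 hw1
    · right
      by_cases h2 : x 1 = 1
      · left
        exact fus_root M h2 h1
      · right
        exact fus_C M hF hfld h1 h2 hw0 hw1
  -- the images stay outside `⟨z⟩`
  have hout : ∀ g ∈ HH M, ∀ x y : Fin 2 → F, g * M.e x * g⁻¹ = M.e y → M.e x ∉ zpowers (zz M) →
      M.e y ∉ zpowers (zz M) := by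
    intro g hg x y hxy hx hy
    apply hx
    obtain ⟨n, hn⟩ := mem_zpowers_iff.1 hy
    have h1 : Commute g (zz M) := ((mem_HH M).1 hg).2
    have h2 : M.e x = g⁻¹ * M.e y * g := by rw [← hxy]; group
    rw [h2, ← hn, mul_assoc, ← (h1.zpow_right n).eq, inv_mul_cancel_left]
    exact zpow_mem (mem_zpowers _) n
  have l1 : Fus M (M.e ![w, 0]) (M.e ![0, 1]) ∨ Fus M (M.e ![w, 0]) (M.e ![0, w]) := by
    obtain ⟨g, hg, a, ha⟩ : ∃ g ∈ HH M, ∃ a : F, g * M.e ![a, 0] * g⁻¹ ∉ M.R := by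
      by_contra hcon
      push Not at hcon
      apply hR
      refine le_normalizer_of_forall fun g hg r hr => ?_
      obtain ⟨a, rfl⟩ := hr
      exact hcon g hg a
    have hz : M.e ![a, 0] ∉ zpowers (zz M) := by
      intro h1
      apply ha
      obtain ⟨n, hn⟩ := mem_zpowers_iff.1 h1
      have h2 : Commute g (zz M) := ((mem_HH M).1 hg).2
      rw [← hn, (h2.zpow_right n).eq, mul_inv_cancel_right]
      exact zpow_mem (zz_mem_R M) n
    obtain ⟨y, hy⟩ := exists_y M (hHV hg) ![a, 0]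
    have h1 : Fus M (M.e ![w, 0]) (M.e y) := by
      have hz' := hz
      rw [e_mem_zpowers] at hz'
      push Not at hz'
      exact (fus_A M hF hfld (y := ![a, 0]) rfl hw0 hw1 rfl (hz' rfl).1 (hz' rfl).2).trans ⟨g, hg, hy⟩
    have hy1 : y 1 ≠ 0 := fun h0 => ha (by rw [hy, M.e_mem_R]; exact h0)
    by_cases hy2 : y 1 = 1
    · left
      exact h1.trans (fus_root M hy2 hy1)
    · right
      exact h1.trans (fus_C M hF hfld hy1 hy2 hw0 hw1)
  have l2 : Fus M (M.e ![w, 0]) (M.e ![0, w]) ∨ Fus M (M.e ![0, 1]) (M.e ![0, w]) := by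
    obtain ⟨g, hg, x, hx, hgx⟩ : ∃ g ∈ HH M, ∃ x : Fin 2 → F, M.e x ∈ V3 M ∧ g * M.e x * g⁻¹ ∉ V3 M := by
      by_contra hcon
      push Not at hcon
      apply h3
      refine le_normalizer_of_forall fun g hg r hr => ?_
      obtain ⟨x, hx, rfl⟩ := hr
      exact hcon g hg x ⟨x, hx, rfl⟩
    have hz : M.e x ∉ zpowers (zz M) := by
      intro h1
      apply hgx
      obtain ⟨n, hn⟩ := mem_zpowers_iff.1 h1
      have h2 : Commute g (zz M) := ((mem_HH M).1 hg).2
      rw [← hn, (h2.zpow_right n).eq, mul_inv_cancel_right]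
      exact zpow_mem (R_le_V3 M (zz_mem_R M)) n
    obtain ⟨y, hy⟩ := exists_y M (hHV hg) x
    rw [hy, mem_V3] at hgx
    push Not at hgx
    have h1 : Fus M (M.e x) (M.e ![0, w]) := Fus.trans ⟨g, hg, hy⟩ (fus_C M hF hfld hgx.1 hgx.2 hw0 hw1)
    rcases (mem_V3 M).1 hx with h2 | h2
    · left
      rw [e_mem_zpowers] at hz
      push Not at hz
      exact (fus_A M hF hfld (x := ![w, 0]) rfl hw0 hw1 h2 (hz h2).1 (hz h2).2).trans h1
    · right
      exact (fus_root M h2.symm one_ne_zero).trans h1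
  have l3 : Fus M (M.e ![w, 0]) (M.e ![0, 1]) ∨ Fus M (M.e ![0, 1]) (M.e ![0, w]) := by
    obtain ⟨g, hg, x, hx, y, hy, hgx⟩ : ∃ g ∈ HH M, ∃ x : Fin 2 → F, x 1 = 1 ∧ ∃ y : Fin 2 → F, y 1 ≠ 1 ∧
        g * M.e x * g⁻¹ = M.e y := by
      by_contra hcon
      push Not at hcon
      apply h3
      refine le_normalizer_of_forall fun g hg r hr => ?_
      have key : ∀ x : Fin 2 → F, x 1 = 1 → ∃ y : Fin 2 → F, y 1 = 1 ∧ g * M.e x * g⁻¹ = M.e y := by
        intro x hx
        obtain ⟨y, hy⟩ := exists_y M (hHV hg) x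
        refine ⟨y, ?_, hy⟩
        by_contra hne
        exact hcon g hg x hx y hne hy
      obtain ⟨x, hx, rfl⟩ := hr
      rcases hx with hx | hx
      · obtain ⟨y, hy, h1⟩ := key ![x 0, 1] rfl
        obtain ⟨y', hy', h1'⟩ := key ![0, 1] rfl
        have e1 : x = ![x 0, 1] + ![0, 1] := by
          apply ext2
          · simp
          · simp only [Pi.add_apply, Matrix.cons_val_one]
            rw [CharTwo.add_self_eq_zero, hx]
        rw [e1, M.e_add]
        have e2 : g * (M.e ![x 0, 1] * M.e ![0, 1]) * g⁻¹ = (g * M.e ![x 0, 1] * g⁻¹) * (g * M.e ![0, 1] * g⁻¹) := by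
          group
        rw [e2, h1, h1', ← M.e_add, mem_V3]
        left
        rw [Pi.add_apply, hy, hy', CharTwo.add_self_eq_zero]
      · obtain ⟨y, hy, h1⟩ := key x hx
        rw [h1, mem_V3]
        exact Or.inr hy
    have hz : M.e x ∉ zpowers (zz M) := by
      rw [e_mem_zpowers]
      rintro ⟨h0, -⟩
      rw [hx] at h0
      exact one_ne_zero h0
    have hz' := hout g hg x y hgx hz
    have h1 : Fus M (M.e ![0, 1]) (M.e y) := (fus_root M hx.symm one_ne_zero).trans ⟨g, hg, hgx⟩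
    by_cases hy0 : y 1 = 0
    · left
      rw [e_mem_zpowers] at hz'
      push Not at hz'
      exact (fus_A M hF hfld (x := ![w, 0]) rfl hw0 hw1 hy0 (hz' hy0).1 (hz' hy0).2).trans h1.symm
    · right
      exact h1.trans (fus_C M hF hfld hy0 hy hw0 hw1)
  have hAB : Fus M (M.e ![w, 0]) (M.e ![0, 1]) := by
    rcases l1 with h | h
    · exact h
    · rcases l3 with h' | h'
      · exact h'
      · exact h.trans h'.symm
  have hAC : Fus M (M.e ![w, 0]) (M.e ![0, w]) := by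
    rcases l2 with h | h
    · exact h
    · exact hAB.trans h
  have key : ∀ x : Fin 2 → F, M.e x ∉ zpowers (zz M) → Fus M (M.e x) (M.e ![w, 0]) := by
    intro x hx
    rcases cls x hx with h | h | h
    · exact h
    · exact h.trans hAB.symm
    · exact h.trans hAC.symm
  exact (key x hx).trans (key y hy).symm

end beta

end Cfsg.Agent.Omega.NO3S.Fld.FourEnd
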