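import Cfsg.Agent.Omega.NO3S.Fld.LFourTwo
import Cfsg.Agent.Omega.NO3S.Fld.FourOrb

/-!
# Fld, `q = 4`, at a level: section (3)

* `Lv4.norm_V` : `Ω₁(Z(nxt S K)) = R`, `|S : Q| = 2`, all members of `BO` in `L` are in `Q` ⟹ `P₂ ≤ N_G(V)`;
* `Lv4.exists_four` : `P₂ ≤ N_G(V)` ⟹ some `P₁ ∈ P*(S)`, `P₁ ≤ P`, with `⟨P₁, C_G(Z)⟩` nonlocal and `|V_{P₁}| = 4`.
-/

set_option autoImplicit false
set_option linter.unusedSectionVars false

namespace Cfsg.Agent.Omega.NO3S.Fld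

open Subgroup Cfsg Cfsg.Agent.ZN Cfsg.Agent.ZN.ChoiceBase Cfsg.Agent.Omega.MinPar Cfsg.Agent.Omega.FrameNOFF
open Cfsg.Agent.ZN.ChoiceSit (Syl syl_iff syl_not_dvd o2_le_syl isPGroup_o2)
open Cfsg.Agent.MinSimple.MinParabolic (IsMinPar)
open Cfsg.Agent.MinSimple.VModule (oddGen oddGen_le mem_oddGen le_normalizer_oddGen le_normalizer_o2 o2_le
  zc_le zc_le_zl le_normalizer_zl zc_sq zc_comm le_centralizer_zc normalizer_le_normalizer_zc)
open Cfsg.Agent.Omega.NO3b.EZero (cl cj_le_cl le_cl cl_le cj_cl le_normalizer_cl cent_symm cj_cent cj_norm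
  sq_of_comm oddGen_sup_syl mem_cj_self relIndex_cj le_normalizer_inf_cent)
open Cfsg.Agent.Omega.NO3b.K0 (conj_mem' cj_of_le cj_self)
open Cfsg.Agent.Omega.NO3S.NotFF (le_normalizer_of_forall normalizer_inf normalizer_sup normalizer_centralizer
  normalizer_commutator)
open Cfsg.Agent.Omega.SQ1.Bau (card_sup_comm mem_sup_comm)
open Cfsg.Agent.Omega.NatPair (ap ap_zero' ap_one' ext2)
open Cfsg.Agent.Lib.SL2Mat
open Cfsg.Agent.Omega.NO3S.Fld.DEight (of_sig_eq exists_ne)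
open Cfsg.Agent.Omega.NO3S.Level (Lev BO nxt)
open scoped commutatorElement

universe u

namespace Lv4

variable {G : Type u} [Group G] [Finite G] {S : Sylow 2 G} {P P2 R V3 K : Subgroup G} {z : G}
  (h : Lv4 S P P2 R V3 K z)
include h

theorem sylP : Syl (S : Subgroup G) P := h.hyp.syl

theorem S_le_P : (S : Subgroup G) ≤ P := h.sylP.1

/-- the dichotomy for normal subgroups of `P` -/
theorem min_orP {N : Subgroup G} (hK : N ≤ P) (hKn : P ≤ normalizer (N : Set G)) :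
    oddGen P ≤ N ∨ (S : Subgroup G) ⊓ N ≤ o2 P :=
  Cfsg.Agent.Omega.NO3b.K0.min_or h.sylP h.hyp.star.toIsMinPar hK hKn

theorem sup_SP : oddGen P ⊔ (S : Subgroup G) = P := oddGen_sup_syl h.sylP

/-- `V = ⟨z^P⟩` -/
theorem V_le_of {C : Subgroup G} (hC : P ≤ normalizer (C : Set G)) (hz : z ∈ C) : zl (S : Subgroup G) P ≤ C := by
  refine iSup_le fun g => ?_
  rw [h.zS]
  have h1 : (zpowers z).map (MulAut.conj (g : G)).toMonoidHom = cj (g : G) (zpowers z) := rfl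
  rw [h1]
  have h2 := cj_mono (g : G) (zpowers_le.2 hz)
  rwa [cj_of_le hC g.2] at h2

/-- `S = J⁺ Q` if `|S : Q| = 2` -/
theorem exists_nxt_mul (h2 : (o2 P2).relIndex (S : Subgroup G) = 2) {s : G} (hs : s ∈ (S : Subgroup G)) :
    ∃ a ∈ nxt (S : Subgroup G) K, ∃ q ∈ o2 P2, s = a * q := by
  by_cases hsQ : s ∈ o2 P2
  · exact ⟨1, one_mem _, s, hsQ, (one_mul s).symm⟩
  obtain ⟨a, ha, haQ⟩ := SetLike.not_le_iff_exists.1 h.nQ
  have haS := Level.nxt_le _ _ ha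
  have h3 := Subgroup.mul_mem_iff_of_index_two (H := (o2 P2).subgroupOf (S : Subgroup G)) h2
    (a := ⟨a⁻¹, inv_mem haS⟩) (b := ⟨s, hs⟩)
  rw [mem_subgroupOf, mem_subgroupOf, mem_subgroupOf] at h3
  have h4 : a⁻¹ * s ∈ o2 P2 := h3.2 (by
    change a⁻¹ ∈ o2 P2 ↔ s ∈ o2 P2
    rw [inv_mem_iff]
    exact ⟨fun h5 => absurd h5 haQ, fun h5 => absurd h5 hsQ⟩)
  exact ⟨a, ha, _, h4, by group⟩

/-- all members in `L` are in `Q` ⟹ `X ≤ Y` -/
theorem X_le_Y (hJ : ∀ A ∈ BO (S : Subgroup G) K, A ≤ o2 P → A ≤ o2 P2) :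
    cl R P2 ≤ yL (S : Subgroup G) (o2 P) K := by
  refine le_inf (h.X_le_U.trans h.U_le_zc) (cent_symm ?_)
  exact sSup_le fun A hA => h.BO_cent hA.1 (hJ A hA.1 hA.2)

/-- `[X, S] ≤ R` -/
theorem comm_XS (h2 : (o2 P2).relIndex (S : Subgroup G) = 2) (hJ : ∀ A ∈ BO (S : Subgroup G) K, A ≤ o2 P → A ≤ o2 P2) {s x : G}
    (hs : s ∈ (S : Subgroup G)) (hx : x ∈ cl R P2) : s * x * s⁻¹ * x⁻¹ ∈ R := by
  obtain ⟨a, ha, q, hq, rfl⟩ := h.exists_nxt_mul h2 hs
  have h3 := h.zpowers_le_R (h.comm_XQ hq hx)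
  have h4 := conj_mem' h.mod.S_R (Level.nxt_le _ _ ha) h3
  have h5 := h.comm_YJ ha (h.X_le_Y hJ hx)
  have e : a * q * x * (a * q)⁻¹ * x⁻¹ = (a * (q * x * q⁻¹ * x⁻¹) * a⁻¹) * (a * x * a⁻¹ * x⁻¹) := by group
  rw [e]
  exact mul_mem h4 h5

/-- `[Y, O²(P)] ≤ V` -/
theorem oddGen_le_kmod (hR : zc (nxt (S : Subgroup G) K) = R) :
    oddGen P ≤ kmod P (yL (S : Subgroup G) (o2 P) K) (zl (S : Subgroup G) P) h.P_Y (le_normalizer_zl _ _) := by
  rcases h.min_orP (kmod_le (h1 := h.P_Y) (h2 := le_normalizer_zl (S : Subgroup G) P))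
    (norm_kmod h.P_Y (le_normalizer_zl (S : Subgroup G) P)) with h1 | h1
  · exact h1
  · exfalso
    obtain ⟨A, hA, hAL⟩ := h.exists_BO_not_L hR
    apply hAL
    refine le_trans (Level.BO.le_nxt hA) (le_trans (fun g hg => ?_) h1)
    refine ⟨Level.nxt_le _ _ hg, h.S_le_P (Level.nxt_le _ _ hg), fun y hy => ?_⟩
    exact h.R_le_V (h.comm_YJ hg hy)

theorem V_cent_L {v l : G} (hv : v ∈ zl (S : Subgroup G) P) (hl : l ∈ o2 P) : v * l = l * v :=
  mem_centralizer_iff.1 ((h.mem_L_iff (h.L_le hl)).1 hl) v hv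

/-- `[X, L] = 1` -/
theorem comm_XL (hR : zc (nxt (S : Subgroup G) K) = R) (h2 : (o2 P2).relIndex (S : Subgroup G) = 2) (hJ : ∀ A ∈ BO (S : Subgroup G) K, A ≤ o2 P → A ≤ o2 P2) : ⁅cl R P2, o2 P⁆ = ⊥ := by
  set C := ⁅cl R P2, o2 P⁆ with hC
  have hCR : C ≤ R := by
    rw [hC, commutator_le]
    intro x hx l hl
    have h1 := inv_mem (h.comm_XS h2 hJ (h.L_le hl) hx)
    have e : (l * x * l⁻¹ * x⁻¹)⁻¹ = ⁅x, l⁆ := by rw [commutatorElement_def]; group
    rwa [e] at h1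
  have hCV : C ≤ zl (S : Subgroup G) P := hCR.trans h.R_le_V
  have hSC : (S : Subgroup G) ≤ normalizer (C : Set G) := normalizer_commutator (h.S_le.trans h.X_norm) h.S_L
  have hEC : oddGen P ≤ normalizer (C : Set G) := by
    refine le_normalizer_of_forall fun e he => ?_
    have heP := oddGen_le P he
    have h3 : C ≤ (C.comap (MulAut.conj e).toMonoidHom) := by
      rw [hC, commutator_le]
      intro x hx l hl
      rw [mem_comap]
      have hk := (h.oddGen_le_kmod hR he).2 x (h.X_le_Y hJ hx)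
      have hl' : e * l * e⁻¹ ∈ o2 P := conj_mem' (le_normalizer_o2 P) heP hl
      have h4 : ⁅x, e * l * e⁻¹⁆ ∈ C := commutator_mem_commutator hx hl'
      have h5 : (MulAut.conj e).toMonoidHom ⁅x, l⁆ = ⁅e * x * e⁻¹, e * l * e⁻¹⁆ := by
        rw [map_commutatorElement]; rfl
      rw [h5]
      set v := e * x * e⁻¹ * x⁻¹ with hv
      have h6 : e * x * e⁻¹ = v * x := by rw [hv]; group
      rw [h6]
      have h7 : ⁅v * x, e * l * e⁻¹⁆ = (v * ⁅x, e * l * e⁻¹⁆ * v⁻¹) * ⁅v, e * l * e⁻¹⁆ := by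
        simp only [commutatorElement_def]; group
      have h8 : ⁅v, e * l * e⁻¹⁆ = 1 := by
        rw [commutatorElement_eq_one_iff_mul_comm]
        exact h.V_cent_L hk hl'
      have h9 : v * ⁅x, e * l * e⁻¹⁆ * v⁻¹ = ⁅x, e * l * e⁻¹⁆ := by
        rw [mul_inv_eq_iff_eq_mul]
        exact (mem_centralizer_iff.1 (h.mod.comm (hCV h4)) v hk)
      rw [h7, h8, h9, mul_one]
      exact h4
    intro c hc
    exact h3 hc
  have hPC : P ≤ normalizer (C : Set G) := h.sup_SP.ge.trans (sup_le hEC hSC)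
  have hzC : z ∉ C := by
    intro h0
    have h1 := Subgroup.card_le_of_le ((h.V_le_of hPC h0).trans hCR)
    rw [h.mod.card, h.mod.cardR] at h1
    omega
  rcases h.mod.uni C hCV hSC with h1 | h1 | h1 | h1 | h1
  · exact h1
  · exact absurd (h1 ▸ mem_zpowers z) hzC
  · exact absurd (h1 ▸ h.z_mem_R) hzC
  · exact absurd (h1 ▸ h.mod.R_le h.z_mem_R) hzC
  · exact absurd (h1 ▸ h.R_le_V h.z_mem_R) hzC

/-- `X ≤ V` -/
theorem X_le_V (hR : zc (nxt (S : Subgroup G) K) = R) (h2 : (o2 P2).relIndex (S : Subgroup G) = 2) (hJ : ∀ A ∈ BO (S : Subgroup G) K, A ≤ o2 P → A ≤ o2 P2) :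
    cl R P2 ≤ zl (S : Subgroup G) P := by
  have h1 := h.comm_XL hR h2 hJ
  rw [commutator_eq_bot_iff_le_centralizer] at h1
  intro x hx
  have hxL : x ∈ o2 P := by
    refine (h.mem_L_iff (h.X_le_S hx)).2 ?_
    rw [mem_centralizer_iff]
    intro v hv
    exact Lev.zc_comm (h.V_le_zc hv) (h.U_le_zc (h.X_le_U hx))
  rw [← h.soc, ChoiceBase.mem_zc]
  exact ⟨hxL, h.X_sq x hx, fun y hy => mem_centralizer_iff.1 (h1 hx) y hy⟩

/-- **`|S : Q| = 2`, `J(L) ≤ Q` ⟹ `P₂ ≤ N_G(V)`** -/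
theorem norm_V (hR : zc (nxt (S : Subgroup G) K) = R) (h2 : (o2 P2).relIndex (S : Subgroup G) = 2) (hJ : ∀ A ∈ BO (S : Subgroup G) K, A ≤ o2 P → A ≤ o2 P2) :
    P2 ≤ normalizer (zl (S : Subgroup G) P : Set G) := by
  have hXV := h.X_le_V hR h2 hJ
  rcases h.mod.uni _ hXV (h.S_le.trans h.X_norm) with h1 | h1 | h1 | h1 | h1
  · exact absurd (h1 ▸ h.R_le_X h.z_mem_R) (by rw [mem_bot]; exact h.mod.z_ne)
  · exfalso
    have h3 := Subgroup.card_le_of_le h.R_le_X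
    rw [h1, h.mod.cardR, Nat.card_zpowers, orderOf_eq_prime (by rw [pow_two]; exact h.z_sq) h.mod.z_ne] at h3
    omega
  · exfalso
    apply h.mv
    have h3 := h.X_norm
    rwa [h1] at h3
  · -- `X = V₃`
    have h3 : V3 ≤ cl R P2 := h1.ge
    have h5 := h.UE_of_le h3 hJ
    refine h.sup_S.ge.trans (sup_le ?_ h.mod.S_V)
    refine le_normalizer_of_forall fun e he v hv => ?_
    have h6 := hXV ((h5 he).2 v (h.V_le_U hv))
    have h7 := mul_mem h6 hv
    rwa [inv_mul_cancel_right] at h7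
  · have h3 := h.X_norm
    rwa [h1] at h3

section crd

variable {F : Type*} [Field F] [CharP F 2] (M : Crd F (S : Subgroup G) P (zl (S : Subgroup G) P))
  (hF : Nat.card F = 4) (hMR : M.R = R)
include hF hMR

theorem exists_fld : ∃ s ∈ (S : Subgroup G), ∃ σ c, M.Act s σ c ∧ σ ≠ RingEquiv.refl F := by
  obtain ⟨s, hs, hsR⟩ := SetLike.not_le_iff_exists.1 h.mod.fld
  obtain ⟨σ, c, h1⟩ := M.exists_act hs
  refine ⟨s, hs, σ, c, h1, fun h0 => hsR ?_⟩
  rw [← hMR]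
  exact h1.mem_centR.2 h0

theorem zz_eq : FourEnd.zz M = z := by
  have hz := h.z_mem_R
  rw [← hMR] at hz
  obtain ⟨a, ha⟩ := hz
  obtain ⟨s, hs, σ, c, h1, hσ⟩ := h.exists_fld M hF hMR
  have h2 := h1 ![a, 0]
  rw [ha] at h2
  have h3 := h.z_comm (h.S_le hs)
  rw [h3, mul_inv_cancel_right, ← ha] at h2
  have h4 := congrFun (M.e_inj h2) 0
  simp only [Matrix.cons_val_zero] at h4
  have h5 : a = σ a := by simpa using h4
  rcases of_sig_eq hF hσ h5.symm with h6 | h6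
  · exfalso
    apply h.mod.z_ne
    rw [← ha, h6, ← M.e_zero]
    congr 1
    apply ext2 <;> simp
  · rw [← ha, h6]
    rfl

/-- **`P₂ ≤ N_G(V)` gives a `P₁` with `|V_{P₁}| = 4`** -/
theorem exists_four (hV : P2 ≤ normalizer (zl (S : Subgroup G) P : Set G)) :
    ∃ P1 : Subgroup G, IsParS (S : Subgroup G) P1 ∧ P1 ≤ P ∧ NonLoc P1 (CZ (S : Subgroup G)) ∧
      Nat.card (zl (S : Subgroup G) P1) = 4 := by
  have hz := h.zz_eq M hF hMR
  have hfld := h.exists_fld M hF hMR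
  have hPV : P ≤ normalizer (zl (S : Subgroup G) P : Set G) := le_normalizer_zl _ _
  have hP2H : P2 ≤ FourEnd.HH M := by
    intro p hp
    rw [FourEnd.mem_HH]
    refine ⟨hV hp, ?_⟩
    rw [hz]
    exact h.z_comm hp
  have hR : ¬ FourEnd.HH M ≤ normalizer (M.R : Set G) := by
    intro h0
    apply h.mv
    rw [← hMR]
    exact hP2H.trans h0
  have h3 := FourEnd.not_V3 M hPV hF hR
  have hfus : ∀ x y : Fin 2 → F, M.e x ∉ zpowers z → M.e y ∉ zpowers z → FourEnd.Fus M (M.e x) (M.e y) := by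
    intro x y hx hy
    rw [← hz] at hx hy
    exact FourEnd.fus M hF hfld hR h3 hx hy
  -- the torus
  obtain ⟨w, hw0, hw1⟩ := exists_ne hF
  obtain ⟨k, hkP, hk⟩ := M.lift (dg w hw0)
  have hk' : ∀ x : Fin 2 → F, k * M.e x * k⁻¹ = M.e ![w * x 0, w⁻¹ * x 1] := by
    intro x
    rw [hk]
    congr 1
    apply ext2
    · rw [ap_zero', dg, mk_00, mk_01]; simp
    · rw [ap_one', dg, mk_10, mk_11]; simp
  have hkR : k ∈ normalizer (R : Set G) := by
    rw [← hMR, mem_normalizer_iff_cj]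
    refine Subgroup.eq_of_le_of_card_ge ?_ ?_
    · rintro _ ⟨r, ⟨a, rfl⟩, rfl⟩
      show k * M.e ![a, 0] * k⁻¹ ∈ M.R
      rw [hk', M.e_mem_R]
      simp
    · rw [card_cj]
  have hL : IsLoc (S : Subgroup G) (P ⊓ normalizer (R : Set G)) :=
    h.hyp.star.isLoc.of_le S (le_inf h.S_le_P h.mod.S_R) inf_le_left
  have hLn : ¬ P ⊓ normalizer (R : Set G) ≤ normalizer (zc (S : Subgroup G) : Set G) := by
    intro h0
    have hkk : k ∈ P ⊓ normalizer (R : Set G) := ⟨hkP, hkR⟩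
    have hzz : z ∈ zc (S : Subgroup G) := by rw [h.zS]; exact mem_zpowers z
    have h1 := conj_mem' h0 hkk hzz
    rw [h.zS, ← hz, FourEnd.zz, hk'] at h1
    have h2 := (FourEnd.e_mem_zpowers M).1 h1
    simp only [Matrix.cons_val_zero, mul_one] at h2
    rcases h2.2 with h3 | h3
    · exact hw0 h3
    · exact hw1 h3
  obtain ⟨P1, hP1, hP1L, hP1n⟩ := IsLoc.exists_not_le S hL (inf_le_right.trans (normalizer_le_normalizer_zc _)) hLn
  have hP1S : IsParS (S : Subgroup G) P1 := ⟨hP1, hP1n⟩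
  have hP1P : P1 ≤ P := hP1L.trans inf_le_left
  have hP1R : P1 ≤ normalizer (R : Set G) := hP1L.trans inf_le_right
  refine ⟨P1, hP1S, hP1P, ?_, ?_⟩
  · intro U hU hU1 hU2
    refine h.hyp.nonLoc U hU (hPV.trans ?_) hU2
    obtain ⟨p, hp, hpz⟩ : ∃ p ∈ P1, p * z * p⁻¹ ∉ zpowers z := by
      by_contra hcon
      push Not at hcon
      apply hP1n
      rw [h.zS]
      refine le_normalizer_of_forall fun g hg v hv => ?_
      rcases h.mem_zpowers_iff'.1 hv with rfl | rfl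
      · rw [mul_one, mul_inv_cancel]
        exact one_mem _
      · exact hcon g hg
    have hHU : FourEnd.HH M ≤ normalizer (U : Set G) := by
      intro g hg
      apply hU2
      rw [mem_centralizer_iff]
      intro v hv
      rw [h.zS] at hv
      have hc : g * z = z * g := by
        have := ((FourEnd.mem_HH M).1 hg).2
        rwa [hz] at this
      rcases h.mem_zpowers_iff'.1 hv with rfl | rfl
      · rw [one_mul, mul_one]
      · exact hc.symm
    intro g hg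
    obtain ⟨y, hy⟩ := FourEnd.exists_y M hg ![1, 0]
    have hzg : g * z * g⁻¹ = M.e y := by rw [← hz]; exact hy
    by_cases hyz : M.e y ∈ zpowers z
    · apply hHU
      rw [FourEnd.mem_HH, hz]
      refine ⟨hg, ?_⟩
      rcases h.mem_zpowers_iff'.1 hyz with h4 | h4
      · rw [h4, conj_eq_one_iff] at hzg
        exact absurd hzg h.mod.z_ne
      · rw [h4, mul_inv_eq_iff_eq_mul] at hzg
        exact hzg
    · obtain ⟨x, hx⟩ := FourEnd.exists_y M (hPV (hP1P hp)) ![1, 0]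
      have hzp : p * z * p⁻¹ = M.e x := by rw [← hz]; exact hx
      rw [hzp] at hpz
      obtain ⟨c, hc, hcx⟩ := hfus x y hpz hyz
      have h5 : g⁻¹ * c * p ∈ FourEnd.HH M := by
        rw [FourEnd.mem_HH, hz]
        refine ⟨mul_mem (mul_mem (inv_mem hg) ((FourEnd.mem_HH M).1 hc).1) (hPV (hP1P hp)), ?_⟩
        rw [← mul_inv_eq_iff_eq_mul]
        have e1 : g⁻¹ * c * p * z * (g⁻¹ * c * p)⁻¹ = g⁻¹ * (c * (p * z * p⁻¹) * c⁻¹) * g := by group
        rw [e1, hzp, hcx, ← hzg]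
        group
      have e2 : g = c * p * (g⁻¹ * c * p)⁻¹ := by group
      rw [e2]
      exact mul_mem (mul_mem (hHU hc) (hU1 hp)) (inv_mem (hHU h5))
  · have h4 : zl (S : Subgroup G) P1 ≤ R := by
      refine iSup_le fun g => ?_
      have h5 : (zc (S : Subgroup G)).map (MulAut.conj (g : G)).toMonoidHom = cj (g : G) (zc (S : Subgroup G)) := rfl
      rw [h5, h.zS]
      have h6 := cj_mono (g : G) h.zpowers_le_R
      rwa [cj_of_le hP1R g.2] at h6
    have h5 : zpowers z ≤ zl (S : Subgroup G) P1 := by rw [← h.zS]; exact zc_le_zl _ _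
    have h6 : Nat.card (zpowers z) = 2 := by
      rw [Nat.card_zpowers]
      exact orderOf_eq_prime (by rw [pow_two]; exact h.z_sq) h.mod.z_ne
    have h7 : 2 < Nat.card (zl (S : Subgroup G) P1) := by
      by_contra hcon
      push Not at hcon
      have h8 : zpowers z = zl (S : Subgroup G) P1 := Subgroup.eq_of_le_of_card_ge h5 (by rw [h6]; exact hcon)
      apply hP1n
      rw [h.zS, h8]
      exact le_normalizer_zl _ _
    have h8 : Nat.card (zl (S : Subgroup G) P1) ∣ 4 := by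
      rw [← h.mod.cardR]
      exact card_dvd_of_le h4
    have h9 : Nat.card (zl (S : Subgroup G) P1) ≤ 4 := Nat.le_of_dvd (by norm_num) h8
    interval_cases hc : Nat.card (zl (S : Subgroup G) P1)
    · exact absurd h8 (by decide)
    · rfl

end crd

end Lv4

end Cfsg.Agent.Omega.NO3S.Fld
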