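import Cfsg.Agent.Omega.NO3S.Fld.RedFourOne
import Cfsg.Agent.Omega.NO3S.Fld.LFourThree
import Cfsg.Agent.Omega.NO3S.Fld.LDih

/-!
# Fld, `q = 4`, at a level: the case `V ∩ X = R` (#15515 (1)) and the end for `Ω₁(Z(nxt S K)) = R`

* `Lv4.count_one` : `|X : C_X(A)| ≤ |A : A ∩ Q|` for `A ∈ BO(S, K)`;
* `Lv4.idx_one` : `Ω₁(Z(nxt S K)) = R`, `V ∩ X = R` ⟹ `|S : Q| = 2`;
* `Lv4.idx`, `Lv4.norm_V_of` : `Ω₁(Z(nxt S K)) = R` ⟹ `|S : Q| = 2`, `P₂ ≤ N_G(V)`.
-/

set_option autoImplicit false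
set_option linter.unusedSectionVars false

namespace Cfsg.Agent.Omega.NO3S.Fld.Lv4

open Subgroup Cfsg Cfsg.Agent.ZN Cfsg.Agent.ZN.ChoiceBase Cfsg.Agent.ZN.ChoiceSit
open Cfsg.Agent.MinSimple.MinParabolic (IsMinPar)
open Cfsg.Agent.MinSimple.VModule (oddGen oddGen_le)
open Cfsg.Agent.Omega.NO3b.K0
open Cfsg.Agent.Omega.NO3b.EZero (cl cj_le_cl le_cl cl_le le_normalizer_cl cent_symm)
open Cfsg.Agent.Omega.MinPar
open Cfsg.Agent.Omega.NO3S.Level (Lev BO nxt)
open scoped commutatorElement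

universe u

variable {G : Type u} [Group G] [Finite G] {S : Sylow 2 G} {P P2 R V3 K : Subgroup G} {z : G}
  (h : Lv4 S P P2 R V3 K z)
include h

theorem one (hVX : zl (S : Subgroup G) P ⊓ cl R P2 = R) :
    GainOne.One (S : Subgroup G) P2 (o2 P2) (zl (S : Subgroup G) P) R V3 z where
  mod := h.mod
  Q_le := h.Q_le
  S_le := h.S_le
  norm := MinSimple.VModule.le_normalizer_o2 P2
  cz := fun _ hg => h.z_comm hg
  comm := by rw [← cl_eq_sSup]; exact h.U_comm
  U_le := by rw [← cl_eq_sSup]; exact h.U_le_Q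
  inf := by rw [← cl_eq_sSup]; exact hVX

/-- `|X : C_X(A)| ≤ |A : A ∩ Q|`. -/
theorem count_one (hVX : zl (S : Subgroup G) P ⊓ cl R P2 = R) {A : Subgroup G} (hA : A ∈ BO (S : Subgroup G) K) :
    (centralizer (A : Set G)).relIndex (cl R P2) ≤ (o2 P2).relIndex A := by
  have h1 := (h.one hVX).count_of hA.1
    (by
      rw [← cl_eq_sSup]
      exact ⟨fun a ha => centralizer_le h.U_le_zc (h.BO_sq hA ha).2,
        fun a ha b hb => centralizer_le h.U_le_zc (h.BO_comm hA ha hb).2⟩)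
    (by rw [← cl_eq_sSup]; exact BO_le hA h.U_le_zc)
    (by rw [← cl_eq_sSup, inf_comm]; exact h.inf_cent_U)
  rwa [← cl_eq_sSup] at h1

/-- **#15515 (1) at a level.** -/
theorem idx_one (hAS : FFBr.AStmt.{u}) (hR : zc (nxt (S : Subgroup G) K) = R)
    (hVX : zl (S : Subgroup G) P ⊓ cl R P2 = R) : (o2 P2).relIndex (S : Subgroup G) = 2 := by
  have hzX : zpowers z ≤ cl R P2 := h.zpowers_le_R.trans h.R_le_X
  have hmv : ¬ ⁅cl R P2, oddGen P2⁆ ≤ zpowers z := by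
    intro h0
    apply h.E_R
    have h1 : ⁅R, oddGen P2⁆ ≤ R := (commutator_mono h.R_le_X le_rfl).trans (h0.trans h.zpowers_le_R)
    exact le_normalizer_iff_commutator_le_left.2 h1
  obtain ⟨N, Y, hzN, hNY, hYX, hN, hY, chief, hE⟩ := exists_chief hzX h.X_sq h.X_comm h.P2_zpowers h.X_norm hmv
  have hXS := h.X_le_S
  have hYP : Y ≤ P2 := (hYX.trans hXS).trans h.S_le
  have hYc : Y ≤ centralizer (Y : Set G) := hYX.trans (h.X_comm.trans (centralizer_le hYX))
  have hYN : Y ≤ normalizer (N : Set G) := hYP.trans hN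
  have hno := noOv hAS h.syl h.par.toIsMinPar
  have hAc : ∀ A ∈ BO (S : Subgroup G) K,
      (∀ a ∈ A, a ^ 2 ∈ o2 P2) ∧ ∀ a ∈ A, ∀ b ∈ A, a * b * a⁻¹ * b⁻¹ ∈ o2 P2 := fun A hA =>
    ⟨fun a ha => h.inf_cent_zc (h.BO_sq hA ha), fun a ha b hb => h.inf_cent_zc (h.BO_comm hA ha hb)⟩
  have hD : ∀ A ∈ BO (S : Subgroup G) K, ⁅Chain.cmod N A ⊓ Y, A⁆ ≤ N := by
    intro A _
    rw [commutator_le]
    intro y hy a ha
    have h1 := (mem_inf.1 hy).1.2 a ha
    have e : ⁅y, a⁆ = (a * y * a⁻¹ * y⁻¹)⁻¹ := by rw [commutatorElement_def]; group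
    rw [e]; exact inv_mem h1
  have hle : ∀ A ∈ BO (S : Subgroup G) K, (centralizer (A : Set G)).relIndex Y ≤ (o2 P2).relIndex A := fun A hA =>
    (relIndex_le_of_le_right hYX (Chain.rel_ne _ _)).trans (h.count_one hVX hA)
  have hge : ∀ A ∈ BO (S : Subgroup G) K, (o2 P2).relIndex A ≤ (Chain.cmod N A).relIndex Y := by
    intro A hA
    have := hno N Y A (Chain.cmod N A ⊓ Y) hNY hYP (fun y hy => h.X_sq y (hYX hy)) hYc hN hY chief hE
      (hA.1.trans h.S_le) (hAc A hA).1 (hAc A hA).2 inf_le_right (hD A hA)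
    rwa [inf_relIndex_right] at this
  have hsub : ∀ A : Subgroup G, centralizer (A : Set G) ⊓ Y ≤ Chain.cmod N A ⊓ Y := fun A =>
    le_inf (Chain.centralizer_le_cmod hYN) inf_le_right
  have hexact : ∀ A ∈ BO (S : Subgroup G) K, Chain.cmod N A ⊓ Y ≤ centralizer (A : Set G) := by
    intro A hA
    have h1 := hle A hA
    have h2 := hge A hA
    have h3 : (centralizer (A : Set G) ⊓ Y).relIndex (Chain.cmod N A ⊓ Y) * (Chain.cmod N A ⊓ Y).relIndex Y =
        (centralizer (A : Set G) ⊓ Y).relIndex Y := relIndex_mul_relIndex _ _ _ (hsub A) inf_le_right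
    rw [inf_relIndex_right, inf_relIndex_right] at h3
    have h4 := Chain.rel_pos (Chain.cmod N A) Y
    have h5 := Chain.rel_pos (centralizer (A : Set G) ⊓ Y) (Chain.cmod N A ⊓ Y)
    have h6 : (centralizer (A : Set G) ⊓ Y).relIndex (Chain.cmod N A ⊓ Y) = 1 := by
      by_contra hcon
      have h7 : 2 ≤ (centralizer (A : Set G) ⊓ Y).relIndex (Chain.cmod N A ⊓ Y) := by omega
      have h8 := Nat.mul_le_mul_right ((Chain.cmod N A).relIndex Y) h7
      omega
    exact (relIndex_eq_one.1 h6).trans inf_le_left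
  -- the common fixed vectors
  have hfixR : ∀ y ∈ Y, (∀ A ∈ {A | A ∈ BO (S : Subgroup G) K ∧ ¬ A ≤ o2 P2}, ∀ a ∈ A, ⁅y, a⁆ ∈ N) → y ∈ R := by
    intro y hy hfix
    have h1 : ∀ A ∈ BO (S : Subgroup G) K, A ≤ centralizer ({y} : Set G) := by
      intro A hA a ha
      rw [mem_centralizer_singleton_iff]
      by_cases hAQ : A ≤ o2 P2
      · exact (mem_centralizer_iff.1 (h.BO_cent hA hAQ ha) y (hYX hy)).symm
      · have h2 : y ∈ Chain.cmod N A ⊓ Y := by
          refine mem_inf.2 ⟨⟨hYN hy, fun a ha => ?_⟩, hy⟩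
          have h3 := hfix A ⟨hA, hAQ⟩ a ha
          have e : a * y * a⁻¹ * y⁻¹ = ⁅y, a⁆⁻¹ := by rw [commutatorElement_def]; group
          rw [e]; exact inv_mem h3
        exact mem_centralizer_iff.1 (hexact A hA h2) a ha
    have hyzc : y ∈ zc K := h.U_le_zc (h.X_le_U (hYX hy))
    have h2 : nxt (S : Subgroup G) K ≤ centralizer ({y} : Set G) := by
      refine sup_le ?_ (sSup_le h1)
      exact inf_le_right.trans (centralizer_le (Set.singleton_subset_iff.2 hyzc))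
    have h3 : ∀ a ∈ nxt (S : Subgroup G) K, a * y = y * a := fun a ha => mem_centralizer_singleton_iff.1 (h2 ha)
    rw [← hR, ChoiceBase.mem_zc]
    exact ⟨Level.inf_centralizer_le_nxt _ _ ⟨hXS (hYX hy), h.zcK_comm hyzc⟩, h.X_sq y (hYX hy), h3⟩
  have htwo := chief_two hAS h.syl h.par.toIsMinPar hNY hYP (fun y hy => h.X_sq y (hYX hy)) hYc hN hY chief hE
    (𝒥 := {A | A ∈ BO (S : Subgroup G) K ∧ ¬ A ≤ o2 P2})
    (by
      rintro A ⟨hA, hAQ⟩
      refine ⟨hA.1, (hAc A hA).1, (hAc A hA).2, hAQ, Chain.cmod N A ⊓ Y, inf_le_right, hD A hA, ?_⟩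
      rw [inf_relIndex_right]
      refine le_trans ?_ (hle A hA)
      rw [← inf_relIndex_right (centralizer (A : Set G)), ← inf_relIndex_right (Chain.cmod N A)]
      exact relIndex_le_of_le_left (hsub A) (Chain.rel_ne _ _))
    (by
      obtain ⟨A, hA, hAQ⟩ := h.exists_BO_not_Q
      exact ⟨A, hA, hAQ⟩)
    (by
      intro y hy w hw hyN hwN hyf hwf
      have hyR := hfixR y hy hyf
      have hwR := hfixR w hw hwf
      have hzN' : z ∈ N := hzN (mem_zpowers z)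
      have hy1 : y ≠ 1 := fun h0 => hyN (h0 ▸ one_mem _)
      have hyz : z ≠ y := fun h0 => hyN (h0 ▸ hzN')
      have hw1 : w ≠ 1 := fun h0 => hwN (h0 ▸ one_mem _)
      rcases eq_of_card_four h.mod.cardR (fun v hv => h.mod.sq v (h.R_le_V hv)) h.z_mem_R h.mod.z_ne hyR hy1
        hyz hwR hw1 with e | e | e
      · rw [e] at hwN; exact absurd hzN' hwN
      · rw [e, inv_mul_cancel]; exact one_mem _
      · have hc : z * y = y * z := mem_centralizer_iff.1 (h.mod.comm (h.R_le_V hyR)) z (h.R_le_V h.z_mem_R)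
        rw [e, hc, inv_mul_cancel_left]; exact hzN')
  have h0 := Chain.rel_pos (o2 P2) (S : Subgroup G)
  have h1 : (o2 P2).relIndex (S : Subgroup G) ≠ 1 := fun h2 => h.not_S_le (relIndex_eq_one.1 h2)
  omega

theorem V_cases : zl (S : Subgroup G) P ⊓ cl R P2 = R ∨ V3 ≤ cl R P2 := by
  have hn : (S : Subgroup G) ≤ normalizer ((zl (S : Subgroup G) P ⊓ cl R P2 : Subgroup G) : Set G) :=
    NotFF.normalizer_inf h.mod.S_V (h.S_le.trans h.X_norm)
  have hR : R ≤ zl (S : Subgroup G) P ⊓ cl R P2 := le_inf h.R_le_V h.R_le_X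
  rcases h.mod.uni _ inf_le_left hn with h1 | h1 | h1 | h1 | h1
  · exfalso
    rw [h1, le_bot_iff] at hR
    have := h.mod.cardR
    rw [hR, Subgroup.card_bot] at this
    omega
  · exfalso
    rw [h1] at hR
    have h2 := Subgroup.card_le_of_le hR
    have h3 : Nat.card (zpowers z) ≤ 2 := by
      rw [Nat.card_zpowers]
      exact Nat.le_of_dvd (by decide) (orderOf_dvd_of_pow_eq_one (by rw [pow_two]; exact h.z_sq))
    rw [h.mod.cardR] at h2
    omega
  · exact Or.inl h1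
  · exact Or.inr (h1.ge.trans inf_le_right)
  · exact Or.inr ((h.mod.V3_le.trans h1.ge).trans inf_le_right)

/-- `|S : Q| = 2` -/
theorem idx (hAS : FFBr.AStmt.{u}) (hR : zc (nxt (S : Subgroup G) K) = R) :
    (o2 P2).relIndex (S : Subgroup G) = 2 := by
  rcases h.V_cases with h1 | h1
  · exact h.idx_one hAS hR h1
  · exact h.two h1 hAS hR

/-- **`Ω₁(Z(nxt S K)) = R` ⟹ `P₂ ≤ N_G(V)`** -/
theorem norm_V_of (hAS : FFBr.AStmt.{u}) (hR : zc (nxt (S : Subgroup G) K) = R) :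
    P2 ≤ normalizer (zl (S : Subgroup G) P : Set G) :=
  h.norm_V hR (h.idx hAS hR) fun _ hA hAL => h.dih (h.idx hAS hR) hA hAL

end Cfsg.Agent.Omega.NO3S.Fld.Lv4
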