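import Cfsg.Agent.Omega.NO3S.Fld.LOf
import Cfsg.Agent.Omega.NO3S.Fld.LOne
import Cfsg.Agent.Omega.NO3S.Fld.LNot
import Cfsg.Agent.Omega.NO3S.Fld.LLessJ
import Cfsg.Agent.Omega.NO3S.Fld.LevEnd

/-!
# Fld, `q = 4`: THEOREM RED at every level

`P₂ ∈ P(S)` in `C_G(Z)` moves `R`.

* `B4.false_jj` : `J(S) ≤ O₂(P)`, `J(S) ≰ O₂(P₂)` is impossible (level `-1` of `P₂`);
* `false_lv4` : `HypL S P`, `LevF M (lev n)`, `Lv4` at a level `lev j`, `j ≤ n`: impossible;
* **`redFourL` : `RedFourL`**, `redL_all : RedL K`.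
-/

set_option autoImplicit false
set_option linter.unusedSectionVars false

namespace Cfsg.Agent.Omega.NO3S.Fld

open Subgroup Cfsg Cfsg.Agent.ZN Cfsg.Agent.ZN.ChoiceBase Cfsg.Agent.Omega.MinPar Cfsg.Agent.Omega.FrameNOFF
open Cfsg.Agent.ZN.ChoiceSit (Syl)
open Cfsg.Agent.Omega.NO3b.EZero (cl cj_le_cl le_cl cl_le le_normalizer_cl)
open Cfsg.Agent.Omega.NO3b.K0 (cj_self)
open Cfsg.Agent.Omega.NO3S.Level
open Cfsg.Agent.Omega.Frame

universe u

namespace B4

variable {G : Type u} [Group G] [Finite G] {S : Sylow 2 G} {P P2 R V3 : Subgroup G} {z : G}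
  (h : B4 S P P2 R V3 z)
include h

/-- the normal closure of `S` in `P₂` moves `R` -/
theorem moves : ∃ g ∈ P2, ∃ s ∈ (S : Subgroup G), g * s * g⁻¹ ∉ normalizer (R : Set G) := by
  by_contra hcon
  push Not at hcon
  have h1 : cl (S : Subgroup G) P2 ≤ normalizer (R : Set G) := by
    refine cl_le fun p hp => ?_
    rintro _ ⟨s, hs, rfl⟩
    exact hcon p hp s hs
  have h2 : cl (S : Subgroup G) P2 ≤ P2 := cl_le fun p hp => by
    have h3 := cj_mono p h.S_le
    rwa [cj_self hp] at h3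
  rcases h.min_or h2 (le_normalizer_cl _ _) with h3 | h3
  · exact h.E_R (h3.trans h1)
  · exact h.not_S_le ((le_inf le_rfl (le_cl _ _)).trans h3)

theorem sit (hidx : (o2 P2).relIndex (S : Subgroup G) = 2) :
    Dih.Sit (S : Subgroup G) P2 (o2 P2) (cl (zl (S : Subgroup G) P) P2) (zl (S : Subgroup G) P) R V3 z where
  mod := h.mod
  syl := h.syl
  Q_le := h.Q_le
  norm := MinSimple.VModule.le_normalizer_o2 P2
  idx := hidx
  cz := fun _ hg => h.z_comm hg
  U_le := h.U_le_S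
  U_comm := h.U_comm
  conj_le := fun _ hg => cj_le_cl hg
  moves := h.moves

/-- **`J(S) ≤ O₂(P)`, `J(S) ≰ O₂(P₂)` is impossible.** -/
theorem false_jj (hAS : FFBr.AStmt.{u}) (hJ : jj (S : Subgroup G) ≤ o2 P)
    (hJQ : ¬ jj (S : Subgroup G) ≤ o2 P2) : False := by
  apply hJQ
  rw [jj_eq]
  refine sSup_le fun A hA => ?_
  by_contra hcon
  exact (h.sit (h.two_of_jj hAS hJ hJQ)).false hA (fun a ha => (h.mem_L_iff (hA.2.1 ha)).1 (hJ (le_jj hA ha))) hcon

end B4

variable {G : Type u} [Group G] [Finite G] {S : Sylow 2 G} {P P2 : Subgroup G}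
variable {F : Type*} [Field F] [Finite F] [CharP F 2]

/-- `Lv4` at a level is impossible. -/
theorem false_lv4 (h : HypL S P) (M : Crd F (S : Subgroup G) P (zl (S : Subgroup G) P)) (hF : Nat.card F = 4)
    {n : ℕ} (hL : LevF M (lev (S : Subgroup G) n)) {j : ℕ} (hjn : j ≤ n) {V3 : Subgroup G} {z : G}
    (h4 : Lv4 S P P2 M.R V3 (lev (S : Subgroup G) j) z) : False := by
  have hAS := FF.Glob.aStmt.{u}
  have h1 := h4.nxt_not_le hAS
  have hj : j = n := by
    rcases Nat.lt_or_ge j n with h2 | h2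
    · exfalso
      apply h1
      exact le_trans (lev_mono (S : Subgroup G) (Nat.succ_le_of_lt h2)) hL.le
    · omega
  subst hj
  obtain ⟨P1, h2, -, h3, h5⟩ := h4.exists_four M hF rfl (h4.norm_V_of hAS hL.nxt)
  exact h.four P1 ⟨h2, h3⟩ h5

/-- **THEOREM RED, `q = 4`, `|Z| = 2`, at every level.** -/
theorem redFourL : RedFourL.{u} := by
  intro G _ _ S P h F _ _ _ hF hZ M n hn hn1
  have hAS := FF.Glob.aStmt.{u}
  have hG := h.ctx.char2
  have hL : LevF M (lev (S : Subgroup G) n) := levF_of hG h.star M (hn P h.star) hn1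
  refine (isLoc_centralizer_zc S h.toHyp.ne).le_of_forall S (inf_le_right.trans hL.NS) fun P2 par le => ?_
  by_contra mv
  by_cases hJ : jj (S : Subgroup G) ≤ o2 P2
  · obtain ⟨j, V3, z, hj, h4⟩ := exists_lv4 h.toHyp M hF hZ hL par le mv hJ
    exact false_lv4 h M hF hL hj h4
  · obtain ⟨V3, z, hmod, hfix, hzS⟩ := exists_mod h.toHyp M hF hZ
    have hb : B4 S P P2 M.R V3 z :=
      { hyp := h.toHyp
        mod := hmod
        fix4 := hfix
        zS := hzS
        par := par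
        le := le
        mv := mv
        soc := hL.zo
        ff := ff_of hAS par le hJ }
    exact hb.false_jj hAS (((lev_mono (S : Subgroup G) (Nat.zero_le n)).trans hL.le)) hJ

/-- **THE SOCKET `RedL`.** -/
theorem redL_all (K : Cls.{u}) : RedL K := redL redFourL K

end Cfsg.Agent.Omega.NO3S.Fld
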