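import Cfsg.Agent.Omega.NO3S.Fld.LFourTwo
import Cfsg.Agent.Omega.NO3S.Fld.TrBest

/-!
# Fld, `q = 4` : the situation without a level

* `B4 S P P2 R V3 z` : the part of `Lv4 S P P2 R V3 K z` which does not mention the level; `Lv4.toB4`;
* `F4 S P P2 F` : a family `F` of best offenders on `U = ⟨V^P₂⟩`: closed under exact subgroups, the members in `Q`
  centralise `U`, some member is not in `Q`;
* `B4.exists_quad` : some `A ∈ F`, `A ≰ Q`, acts quadratically on `U`.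
-/

set_option autoImplicit false
set_option linter.unusedSectionVars false

namespace Cfsg.Agent.Omega.NO3S.Fld

open Subgroup Cfsg Cfsg.Agent.ZN Cfsg.Agent.ZN.ChoiceBase Cfsg.Agent.Omega.MinPar Cfsg.Agent.Omega.FrameNOFF
open Cfsg.Agent.ZN.ChoiceSit (Syl syl_iff syl_not_dvd o2_le_syl isPGroup_o2)
open Cfsg.Agent.MinSimple.MinParabolic (IsMinPar)
open Cfsg.Agent.MinSimple.VModule (oddGen oddGen_le mem_oddGen le_normalizer_oddGen le_normalizer_o2 o2_le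
  zc_le zc_le_zl le_normalizer_zl zc_sq zc_comm le_centralizer_zc)
open Cfsg.Agent.Omega.NO3b.EZero (cl cj_le_cl le_cl cl_le cj_cl le_normalizer_cl cent_symm cj_cent cj_norm
  sq_of_comm oddGen_sup_syl mem_cj_self relIndex_cj le_normalizer_inf_cent)
open Cfsg.Agent.Omega.NO3b.K0 (conj_mem' cj_of_le cj_self)
open Cfsg.Agent.Omega.NO3S.NotFF (le_normalizer_of_forall normalizer_inf normalizer_sup normalizer_centralizer
  normalizer_commutator)
open Cfsg.Agent.Omega.SQ1.Bau (card_sup_comm mem_sup_comm)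
open Cfsg.Agent.Omega.NO1.BestOff (Best)
open Cfsg.Agent.Omega.NO3S.Level (Lev BO nxt)
open scoped commutatorElement

universe u

/-- **The situation** (`q = 4`, no level). -/
structure B4 {G : Type u} [Group G] [Finite G] (S : Sylow 2 G) (P P2 R V3 : Subgroup G) (z : G) : Prop where
  hyp : Hyp S P
  mod : DEight.Mod (S : Subgroup G) (zl (S : Subgroup G) P) R V3 z
  fix4 : ∀ b ∈ (S : Subgroup G), b ∉ centralizer (zl (S : Subgroup G) P : Set G) →
    Nat.card ↥(zl (S : Subgroup G) P ⊓ centralizer ({b} : Set G)) ≤ 4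
  zS : zc (S : Subgroup G) = zpowers z
  par : IsPar (S : Subgroup G) P2
  le : P2 ≤ CZ (S : Subgroup G)
  mv : ¬ P2 ≤ normalizer (R : Set G)
  soc : zc (o2 P) = zl (S : Subgroup G) P
  /-- the FF-LEMMA -/
  ff : zc (o2 P2) ≤ centralizer (oddGen P2 : Set G)

theorem Lv4.toB4 {G : Type u} [Group G] [Finite G] {S : Sylow 2 G} {P P2 R V3 K : Subgroup G} {z : G}
    (h : Lv4 S P P2 R V3 K z) : B4 S P P2 R V3 z :=
  ⟨h.hyp, h.mod, h.fix4, h.zS, h.par, h.le, h.mv, h.soc, h.ff⟩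

/-- **A family of best offenders on `U = ⟨V^P₂⟩`.** -/
structure F4 {G : Type u} [Group G] [Finite G] (S : Sylow 2 G) (P P2 : Subgroup G) (F : Set (Subgroup G)) : Prop where
  le : ∀ A ∈ F, A ≤ (S : Subgroup G)
  best : ∀ A ∈ F, Best (cl (zl (S : Subgroup G) P) P2) A
  cut : ∀ A ∈ F, ∀ B ≤ A, A ⊓ centralizer (cl (zl (S : Subgroup G) P) P2 : Set G) ≤ B →
    Nat.card A * Nat.card ↥(cl (zl (S : Subgroup G) P) P2 ⊓ centralizer (A : Set G)) ≤
      Nat.card B * Nat.card ↥(cl (zl (S : Subgroup G) P) P2 ⊓ centralizer (B : Set G)) → B ∈ F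
  cent : ∀ A ∈ F, A ≤ o2 P2 → A ≤ centralizer (cl (zl (S : Subgroup G) P) P2 : Set G)
  ex : ∃ A ∈ F, ¬ A ≤ o2 P2

namespace B4

variable {G : Type u} [Group G] [Finite G] {S : Sylow 2 G} {P P2 R V3 : Subgroup G} {z : G}
  (h : B4 S P P2 R V3 z)
include h

theorem syl : Syl (S : Subgroup G) P2 :=
  ⟨h.par.le, S.isPGroup', fun _ _ hT hST => S.is_maximal' hT hST⟩

theorem S_le : (S : Subgroup G) ≤ P2 := h.par.le

theorem Q_le : o2 P2 ≤ (S : Subgroup G) := o2_le_syl h.syl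

theorem L_le : o2 P ≤ (S : Subgroup G) := h.hyp.star.isLoc.o2_le S

theorem V_le_S : zl (S : Subgroup G) P ≤ (S : Subgroup G) := h.hyp.V_le_S

theorem R_le_V : R ≤ zl (S : Subgroup G) P := h.mod.R_le.trans h.mod.V3_le

theorem z_mem_R : z ∈ R := h.mod.z_mem

theorem z_comm {g : G} (hg : g ∈ P2) : g * z = z * g := by
  have h1 : z ∈ zc (S : Subgroup G) := by rw [h.zS]; exact mem_zpowers z
  exact (mem_centralizer_iff.1 (h.le hg) z h1).symm

theorem z_comm_zpowers {g w : G} (hg : g ∈ P2) (hw : w ∈ zpowers z) : g * w * g⁻¹ = w := by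
  obtain ⟨n, rfl⟩ := mem_zpowers_iff.1 hw
  have h1 : Commute g z := h.z_comm hg
  exact mul_inv_eq_iff_eq_mul.2 (h1.zpow_right n).eq

theorem P2_zpowers : P2 ≤ normalizer (zpowers z : Set G) :=
  le_normalizer_of_forall fun g hg w hw => by rw [h.z_comm_zpowers hg hw]; exact hw

theorem zpowers_le_R : zpowers z ≤ R := zpowers_le.2 h.z_mem_R

theorem z_sq : z * z = 1 := by
  have := h.mod.sq z (h.R_le_V h.z_mem_R)
  rwa [pow_two] at this

theorem mem_zpowers_iff' {g : G} : g ∈ zpowers z ↔ g = 1 ∨ g = z := by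
  constructor
  · intro hg
    obtain ⟨n, rfl⟩ := mem_zpowers_iff.1 hg
    rcases Int.even_or_odd' n with ⟨k, rfl | rfl⟩
    · left
      rw [zpow_mul, zpow_ofNat, pow_two, h.z_sq, one_zpow]
    · right
      rw [zpow_add, zpow_mul, zpow_ofNat, pow_two, h.z_sq, one_zpow, one_mul, zpow_one]
  · rintro (rfl | rfl)
    · exact one_mem _
    · exact mem_zpowers _

/-- `U = ⟨V^P₂⟩ ≤ W` -/
theorem U_le_WW : cl (zl (S : Subgroup G) P) P2 ≤ WW (S : Subgroup G) P :=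
  cl_le fun _ hp => conj_zl_le_WW (h.le hp)

theorem U_comm : cl (zl (S : Subgroup G) P) P2 ≤ centralizer (cl (zl (S : Subgroup G) P) P2 : Set G) :=
  (h.U_le_WW.trans h.hyp.W_comm).trans (centralizer_le h.U_le_WW)

theorem U_sq : ∀ u ∈ cl (zl (S : Subgroup G) P) P2, u ^ 2 = 1 := fun u hu => h.hyp.W_sq u (h.U_le_WW hu)

theorem U_norm : P2 ≤ normalizer (cl (zl (S : Subgroup G) P) P2 : Set G) := le_normalizer_cl _ _

theorem X_norm : P2 ≤ normalizer (cl R P2 : Set G) := le_normalizer_cl _ _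

theorem X_le_U : cl R P2 ≤ cl (zl (S : Subgroup G) P) P2 :=
  cl_le fun _ hp => (cj_mono _ h.R_le_V).trans (cj_le_cl hp)

theorem V_le_U : zl (S : Subgroup G) P ≤ cl (zl (S : Subgroup G) P) P2 := le_cl _ _

theorem R_le_X : R ≤ cl R P2 := le_cl _ _

theorem U_le_P2 : cl (zl (S : Subgroup G) P) P2 ≤ P2 := cl_le fun p hp => by
  have h1 := cj_mono p (h.V_le_S.trans h.S_le)
  rwa [cj_self hp] at h1

theorem U_two : IsPGroup 2 (cl (zl (S : Subgroup G) P) P2) := fun x =>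
  ⟨1, Subtype.ext (by simpa using h.U_sq x x.2)⟩

theorem U_le_Q : cl (zl (S : Subgroup G) P) P2 ≤ o2 P2 := ChoiceSit.le_o2 h.U_two h.U_le_P2 h.U_norm

theorem X_le_Q : cl R P2 ≤ o2 P2 := h.X_le_U.trans h.U_le_Q

theorem U_le_S : cl (zl (S : Subgroup G) P) P2 ≤ (S : Subgroup G) := h.U_le_Q.trans h.Q_le

theorem X_le_S : cl R P2 ≤ (S : Subgroup G) := h.X_le_Q.trans h.Q_le

theorem X_sq : ∀ u ∈ cl R P2, u ^ 2 = 1 := fun u hu => h.U_sq u (h.X_le_U hu)

theorem X_comm : cl R P2 ≤ centralizer (cl R P2 : Set G) :=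
  (h.X_le_U.trans h.U_comm).trans (centralizer_le h.X_le_U)

/-- the dichotomy for normal subgroups of `P₂` -/
theorem min_or {N : Subgroup G} (hK : N ≤ P2) (hKn : P2 ≤ normalizer (N : Set G)) :
    oddGen P2 ≤ N ∨ (S : Subgroup G) ⊓ N ≤ o2 P2 :=
  Cfsg.Agent.Omega.NO3b.K0.min_or h.syl h.par.toIsMinPar hK hKn

theorem sup_S : oddGen P2 ⊔ (S : Subgroup G) = P2 := oddGen_sup_syl h.syl

/-- `E` moves `R` -/
theorem E_R : ¬ oddGen P2 ≤ normalizer (R : Set G) := by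
  intro h0
  apply h.mv
  rw [← h.sup_S]
  exact sup_le h0 h.mod.S_R

theorem E_cent_R : ¬ oddGen P2 ≤ centralizer (R : Set G) := fun h0 =>
  h.E_R (h0.trans (centralizer_le_normalizer _))

theorem not_S_le : ¬ (S : Subgroup G) ≤ o2 P2 := by
  intro h0
  apply h.par.not_le
  rw [le_antisymm h0 h.Q_le]
  exact le_normalizer_o2 P2

/-- `[R, S] ≤ ⟨z⟩` -/
theorem comm_RS {s r : G} (hs : s ∈ (S : Subgroup G)) (hr : r ∈ R) : s * r * s⁻¹ * r⁻¹ ∈ zpowers z := by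
  by_cases hr1 : r ∈ zpowers z
  · rw [h.z_comm_zpowers (h.S_le hs) hr1, mul_inv_cancel]
    exact one_mem _
  rw [h.mem_zpowers_iff'] at hr1
  push Not at hr1
  have hsr : s * r * s⁻¹ ∈ R := conj_mem' h.mod.S_R hs hr
  have hsr1 : s * r * s⁻¹ ≠ 1 := fun h0 => hr1.1 (conj_eq_one_iff.1 h0)
  have hrr : r * r = 1 := by
    have := h.mod.sq r (h.R_le_V hr)
    rwa [pow_two] at this
  rcases eq_of_card_four h.mod.cardR (fun v hv => h.mod.sq v (h.R_le_V hv)) h.z_mem_R h.mod.z_ne hr hr1.1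
    (Ne.symm hr1.2) hsr hsr1 with e | e | e
  · -- `s r s⁻¹ = z` is impossible
    exfalso
    apply hr1.2
    have h1 : r = s⁻¹ * (s * r * s⁻¹) * s := by group
    rw [h1, e]
    have h2 := h.z_comm (h.S_le hs)
    rw [mul_assoc, ← h2, inv_mul_cancel_left]
  · rw [e, mul_inv_cancel]; exact one_mem _
  · rw [e, mul_inv_cancel_right]
    exact mem_zpowers z

/-- `[X, Q] ≤ ⟨z⟩` -/
theorem comm_XQ {q x : G} (hq : q ∈ o2 P2) (hx : x ∈ cl R P2) : q * x * q⁻¹ * x⁻¹ ∈ zpowers z := by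
  have hX : cl R P2 ≤ normalizer (zpowers z : Set G) := (h.X_le_S.trans h.S_le).trans h.P2_zpowers
  have h1 : cl R P2 ≤ cmod (cl R P2) (o2 P2) (zpowers z) hX := by
    refine cl_le fun p hp => ?_
    have h2 : R ≤ cmod (cl R P2) (o2 P2) (zpowers z) hX := fun r hr =>
      ⟨h.R_le_X hr, fun q hq => h.comm_RS (h.Q_le hq) hr⟩
    have h3 := cj_mono p h2
    rwa [cj_of_le (norm_cmod h.X_norm (le_normalizer_o2 P2) h.P2_zpowers) hp] at h3
  exact (h1 hx).2 q hq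

/-- `Q ≰ C(R)` -/
theorem not_Q_R : ¬ o2 P2 ≤ centralizer (R : Set G) := by
  intro h0
  have h1 : R ≤ zc (o2 P2) := fun r hr => ChoiceBase.mem_zc.2 ⟨h.X_le_Q (h.R_le_X hr), h.X_sq r (h.R_le_X hr),
    fun y hy => (mem_centralizer_iff.1 (h0 hy) r hr).symm⟩
  exact h.E_cent_R (cent_symm (h1.trans h.ff))

theorem not_Q_V : ¬ o2 P2 ≤ centralizer (zl (S : Subgroup G) P : Set G) := fun h0 =>
  h.not_Q_R (h0.trans (centralizer_le h.R_le_V))

/-- `C_S(X) ≤ Q` -/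
theorem inf_cent_X : (S : Subgroup G) ⊓ centralizer (cl R P2 : Set G) ≤ o2 P2 := by
  rcases h.min_or (N := P2 ⊓ centralizer (cl R P2 : Set G)) inf_le_left (le_normalizer_inf_cent h.X_norm) with h1 | h1
  · exact absurd ((h1.trans inf_le_right).trans (centralizer_le h.R_le_X)) h.E_cent_R
  · exact (le_inf inf_le_left (inf_le_inf_right _ h.S_le)).trans h1

theorem inf_cent_U : (S : Subgroup G) ⊓ centralizer (cl (zl (S : Subgroup G) P) P2 : Set G) ≤ o2 P2 :=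
  (inf_le_inf_left _ (centralizer_le h.X_le_U)).trans h.inf_cent_X

theorem mem_L_iff {x : G} (hx : x ∈ (S : Subgroup G)) : x ∈ o2 P ↔ x ∈ centralizer (zl (S : Subgroup G) P : Set G) := by
  rw [← h.hyp.inf_centralizer]
  exact ⟨fun h1 => h1.2, fun h1 => ⟨hx, h1⟩⟩

theorem kmod_UX_norm : P2 ≤ normalizer (kmod P2 (cl (zl (S : Subgroup G) P) P2) (cl R P2) h.U_norm h.X_norm : Set G) :=
  norm_kmod h.U_norm h.X_norm

/-- `[V, S] ≤ V₃` -/
theorem comm_VS {s v : G} (hs : s ∈ (S : Subgroup G)) (hv : v ∈ zl (S : Subgroup G) P) :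
    s * v * s⁻¹ * v⁻¹ ∈ V3 := by
  have hidx : (V3.subgroupOf (zl (S : Subgroup G) P)).index = 2 := by
    have h1 := relIndex_mul_card (zl (S : Subgroup G) P) V3
    rw [inf_eq_right.2 h.mod.V3_le, h.mod.cardV3, h.mod.card] at h1
    change V3.relIndex (zl (S : Subgroup G) P) = 2
    omega
  have hsv : s * v * s⁻¹ ∈ zl (S : Subgroup G) P := conj_mem' h.mod.S_V hs hv
  have h2 := Subgroup.mul_mem_iff_of_index_two hidx (a := ⟨s * v * s⁻¹, hsv⟩) (b := ⟨v⁻¹, inv_mem hv⟩)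
  rw [mem_subgroupOf, mem_subgroupOf, mem_subgroupOf] at h2
  refine h2.2 ?_
  change s * v * s⁻¹ ∈ V3 ↔ v⁻¹ ∈ V3
  rw [inv_mem_iff]
  constructor
  · intro h3
    have h4 := conj_mem' h.mod.S_V3 (inv_mem hs) h3
    have e : s⁻¹ * (s * v * s⁻¹) * s⁻¹⁻¹ = v := by group
    rwa [e] at h4
  · exact fun h3 => conj_mem' h.mod.S_V3 hs h3

/-- `[V₃, S] ≤ R` -/
theorem comm_V3S {s v : G} (hs : s ∈ (S : Subgroup G)) (hv : v ∈ V3) : s * v * s⁻¹ * v⁻¹ ∈ R := by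
  have hidx : (R.subgroupOf V3).index = 2 := by
    have h1 := relIndex_mul_card V3 R
    rw [inf_eq_right.2 h.mod.R_le, h.mod.cardV3, h.mod.cardR] at h1
    change R.relIndex V3 = 2
    omega
  have hsv : s * v * s⁻¹ ∈ V3 := conj_mem' h.mod.S_V3 hs hv
  have h2 := Subgroup.mul_mem_iff_of_index_two hidx (a := ⟨s * v * s⁻¹, hsv⟩) (b := ⟨v⁻¹, inv_mem hv⟩)
  rw [mem_subgroupOf, mem_subgroupOf, mem_subgroupOf] at h2
  refine h2.2 ?_
  change s * v * s⁻¹ ∈ R ↔ v⁻¹ ∈ R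
  rw [inv_mem_iff]
  constructor
  · intro h3
    have h4 := conj_mem' h.mod.S_R (inv_mem hs) h3
    have e : s⁻¹ * (s * v * s⁻¹) * s⁻¹⁻¹ = v := by group
    rwa [e] at h4
  · exact fun h3 => conj_mem' h.mod.S_R hs h3

theorem exists_f : ∃ f ∈ V3, f ∉ R := by
  by_contra hcon
  push Not at hcon
  have h1 := Subgroup.card_le_of_le (show V3 ≤ R from hcon)
  rw [h.mod.cardV3, h.mod.cardR] at h1
  omega

/-- `V₃ = R ∪ f R` -/
theorem V3_cases {f v : G} (hf : f ∈ V3) (hfR : f ∉ R) (hv : v ∈ V3) : v ∈ R ∨ ∃ r ∈ R, v = f * r := by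
  by_cases hvR : v ∈ R
  · exact Or.inl hvR
  right
  have hidx : (R.subgroupOf V3).index = 2 := by
    have h1 := relIndex_mul_card V3 R
    rw [inf_eq_right.2 h.mod.R_le, h.mod.cardV3, h.mod.cardR] at h1
    change R.relIndex V3 = 2
    omega
  have h2 := Subgroup.mul_mem_iff_of_index_two hidx (a := ⟨f⁻¹, inv_mem hf⟩) (b := ⟨v, hv⟩)
  rw [mem_subgroupOf, mem_subgroupOf, mem_subgroupOf] at h2
  have h3 : f⁻¹ * v ∈ R := h2.2 (by
    change f⁻¹ ∈ R ↔ v ∈ R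
    rw [inv_mem_iff]
    exact ⟨fun h4 => absurd h4 hfR, fun h4 => absurd h4 hvR⟩)
  exact ⟨_, h3, by group⟩

/-- `P₂` normalises `V₃` ⟹ `|S : Q| = 2` -/
theorem index_of_V3 (hn : P2 ≤ normalizer (V3 : Set G)) : (o2 P2).relIndex (S : Subgroup G) = 2 := by
  have h1 : oddGen P2 ≤ kmod P2 V3 (zpowers z) hn h.P2_zpowers ∨
      (S : Subgroup G) ⊓ kmod P2 V3 (zpowers z) hn h.P2_zpowers ≤ o2 P2 :=
    h.min_or kmod_le (norm_kmod hn h.P2_zpowers)
  have h2 : (S : Subgroup G) ⊓ kmod P2 V3 (zpowers z) hn h.P2_zpowers ≤ o2 P2 := by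
    refine h1.resolve_left fun h0 => h.E_R ?_
    refine le_normalizer_of_forall fun e he r hr => ?_
    have h3 := (h0 he).2 r (h.mod.R_le hr)
    have h4 := mul_mem (h.zpowers_le_R h3) hr
    rwa [inv_mul_cancel_right] at h4
  obtain ⟨f, hf, hfR⟩ := h.exists_f
  have hmem : ∀ s ∈ (S : Subgroup G), s * f * s⁻¹ * f⁻¹ ∈ zpowers z → s ∈ o2 P2 := by
    intro s hs hsf
    refine h2 ⟨hs, h.S_le hs, fun v hv => ?_⟩
    rcases h.V3_cases hf hfR hv with hv | ⟨r, hr, rfl⟩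
    · exact h.comm_RS hs hv
    · have h3 := h.comm_RS hs hr
      have e : s * (f * r) * s⁻¹ * (f * r)⁻¹ = (s * f * s⁻¹ * f⁻¹) * (f * (s * r * s⁻¹ * r⁻¹) * f⁻¹) := by group
      have e2 : f * (s * r * s⁻¹ * r⁻¹) * f⁻¹ = s * r * s⁻¹ * r⁻¹ :=
        h.z_comm_zpowers (h.S_le (h.V_le_S (h.mod.V3_le hf))) h3
      rw [e, e2]
      exact mul_mem hsf h3
  have h3 : (o2 P2).relIndex (S : Subgroup G) ≤ 2 := by
    refine relIndex_le_two fun s hs t ht hsQ htQ => hmem _ (mul_mem hs ht) ?_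
    have hs1 : s * f * s⁻¹ * f⁻¹ ∉ zpowers z := fun h0 => hsQ (hmem s hs h0)
    have ht1 : t * f * t⁻¹ * f⁻¹ ∉ zpowers z := fun h0 => htQ (hmem t ht h0)
    have hsR := h.comm_V3S hs hf
    have htR := h.comm_V3S ht hf
    have e : s * t * f * (s * t)⁻¹ * f⁻¹ = (s * (t * f * t⁻¹ * f⁻¹) * s⁻¹ * (t * f * t⁻¹ * f⁻¹)⁻¹) *
        ((t * f * t⁻¹ * f⁻¹) * (s * f * s⁻¹ * f⁻¹)) := by group
    rw [e]
    refine mul_mem (h.comm_RS hs htR) ?_
    rw [h.mem_zpowers_iff'] at hs1 ht1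
    push Not at hs1 ht1
    have hsq : ∀ v ∈ R, v ^ 2 = 1 := fun v hv => h.mod.sq v (h.R_le_V hv)
    have h5 := h.mod.sq _ (h.R_le_V htR)
    rw [pow_two] at h5
    rcases eq_of_card_four h.mod.cardR hsq h.z_mem_R h.mod.z_ne htR ht1.1 (Ne.symm ht1.2) hsR hs1.1 with e | e | e
    · exact absurd e hs1.2
    · rw [e, h5]; exact one_mem _
    · rw [e]
      have h6 : (t * f * t⁻¹ * f⁻¹) * z = z * (t * f * t⁻¹ * f⁻¹) :=
        h.z_comm (h.S_le (h.V_le_S (h.R_le_V htR)))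
      rw [← mul_assoc, h6, mul_assoc, h5, mul_one]
      exact mem_zpowers z
  have h4 : (o2 P2).relIndex (S : Subgroup G) ≠ 1 := fun h0 => h.not_S_le (relIndex_eq_one.1 h0)
  have h5 : (o2 P2).relIndex (S : Subgroup G) ≠ 0 := FiniteIndex.index_ne_zero (H := (o2 P2).subgroupOf S)
  omega


omit h in
/-- `|U : C_U(A)| ≤ |A : C_A(U)|` -/
theorem _root_.Cfsg.Agent.Omega.NO3S.Fld.F4.index_le {F : Set (Subgroup G)} (f : F4 S P P2 F) {A : Subgroup G}
    (hA : A ∈ F) : (centralizer (A : Set G)).relIndex (cl (zl (S : Subgroup G) P) P2) ≤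
      (centralizer (cl (zl (S : Subgroup G) P) P2 : Set G)).relIndex A := by
  set U := cl (zl (S : Subgroup G) P) P2 with hU
  refine FFThm.relIndex_le_iff.1 ?_
  have h1 := (f.best A hA).max (A ⊓ centralizer (U : Set G)) inf_le_left le_rfl
  have h2 : U ⊓ centralizer ((A ⊓ centralizer (U : Set G) : Subgroup G) : Set G) = U :=
    inf_eq_left.2 (cent_symm inf_le_right)
  rw [← hU, h2] at h1
  rw [mul_comm]
  exact h1

/-- squares and commutators of `A ∈ F` lie in `Q` -/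
theorem F_o2 {F : Set (Subgroup G)} (f : F4 S P P2 F) {A : Subgroup G} (hA : A ∈ F) :
    (∀ a ∈ A, a ^ 2 ∈ o2 P2) ∧ ∀ a ∈ A, ∀ b ∈ A, a * b * a⁻¹ * b⁻¹ ∈ o2 P2 := by
  have hS := f.le A hA
  refine ⟨fun a ha => h.inf_cent_U ⟨pow_mem (hS ha) 2, (f.best A hA).sq a ha⟩, fun a ha b hb => h.inf_cent_U ⟨?_, ?_⟩⟩
  · exact (S : Subgroup G).mul_mem ((S : Subgroup G).mul_mem ((S : Subgroup G).mul_mem (hS ha) (hS hb))
      ((S : Subgroup G).inv_mem (hS ha))) ((S : Subgroup G).inv_mem (hS hb))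
  · exact (f.best A hA).comm a ha b hb

/-- **a member `A ≰ Q` which acts quadratically on `U`** -/
theorem exists_quad {F : Set (Subgroup G)} (f : F4 S P P2 F) : ∃ A ∈ F, ¬ A ≤ o2 P2 ∧
    ∀ u ∈ cl (zl (S : Subgroup G) P) P2, ∀ a ∈ A, a * u * a⁻¹ * u⁻¹ ∈ centralizer (A : Set G) := by
  obtain ⟨A, ⟨hA, hAQ⟩, hmin⟩ := Set.exists_min_image {A | A ∈ F ∧ ¬ A ≤ o2 P2}
    (fun A => Nat.card A) (Set.toFinite _) (by
      obtain ⟨A, h1, h2⟩ := f.ex
      exact ⟨A, h1, h2⟩)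
  refine ⟨A, hA, hAQ, ?_⟩
  by_contra hcon
  push Not at hcon
  obtain ⟨u, hu, a, ha, hau⟩ := hcon
  have hAS := f.le A hA
  have hXc : ∀ x ∈ cl (zl (S : Subgroup G) P) P2, ∀ y ∈ cl (zl (S : Subgroup G) P) P2, x * y = y * x :=
    fun x hx y hy => mem_centralizer_iff.1 (h.U_comm hy) x hx
  have hAn : A ≤ normalizer (cl (zl (S : Subgroup G) P) P2 : Set G) := (hAS.trans h.S_le).trans h.U_norm
  obtain ⟨h1, h2, h2'⟩ := tr_best' hXc hAn (f.best A hA) hu
  have h3 : ¬ A ≤ centralizer (tr A u : Set G) := fun h0 =>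
    hau ((mem_cent_tr hXc hAn (f.best A hA).toElemM hu ha).1 (h0 ha))
  have hF : A ⊓ centralizer (tr A u : Set G) ∈ F := by
    refine f.cut A hA _ inf_le_left (le_inf inf_le_left ?_) h2'
    exact inf_le_right.trans (centralizer_le (tr_le hAn hu))
  have h4 : A ⊓ centralizer (tr A u : Set G) ≤ o2 P2 := by
    by_contra h0
    have h5 := hmin _ ⟨hF, h0⟩
    exact h3 (inf_eq_left.1 (Subgroup.eq_of_le_of_card_ge inf_le_left h5))
  have h5 := f.cent _ hF h4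
  have h6 : cl (zl (S : Subgroup G) P) P2 ≤
      tr A u ⊔ (cl (zl (S : Subgroup G) P) P2 ⊓ centralizer (A : Set G)) := by
    rw [← h2]
    exact le_inf le_rfl (cent_symm h5)
  have htU : tr A u ≤ ⁅cl (zl (S : Subgroup G) P) P2, A⁆ := by
    rw [tr, closure_le]
    rintro _ ⟨b, hb, rfl⟩
    rw [commutator_comm]
    exact commutator_mem_commutator hb hu
  have h7 : ⁅cl (zl (S : Subgroup G) P) P2, A⁆ ≤ ⁅⁅cl (zl (S : Subgroup G) P) P2, A⁆, A⁆ := by
    rw [commutator_le]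
    intro w hw b hb
    have hcom : ∀ x ∈ tr A u, ∀ y ∈ cl (zl (S : Subgroup G) P) P2 ⊓ centralizer (A : Set G), x * y = y * x :=
      fun x hx y hy => hXc x (tr_le hAn hu hx) y hy.1
    obtain ⟨t, ht, e, he, rfl⟩ := mem_sup_comm hcom (h6 hw)
    have h8 := mem_centralizer_iff.1 he.2 b hb
    have e' : ⁅t * e, b⁆ = ⁅t, b⁆ := by
      rw [commutatorElement_def, commutatorElement_def]
      have e1 : t * e * b * (t * e)⁻¹ * b⁻¹ = t * (e * b * e⁻¹) * t⁻¹ * b⁻¹ := by group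
      rw [e1, ← h8, mul_inv_cancel_right]
    rw [e']
    exact commutator_mem_commutator (htU ht) hb
  have h8 := comm_bot (S.isPGroup'.isNilpotent) h.U_le_S hAS h7
  have h9 : A ≤ centralizer (cl (zl (S : Subgroup G) P) P2 : Set G) :=
    cent_symm (commutator_eq_bot_iff_le_centralizer.1 h8)
  exact hAQ ((le_inf hAS h9).trans h.inf_cent_U)

end B4

end Cfsg.Agent.Omega.NO3S.Fld
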