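import Cfsg.Agent.Omega.NO3S.OneLine.Of

/-!
# Fld, basic facts: coordinates on the natural module `V_P` adapted to `S`

* `Crd F S P V` : a `NatP` in which every `s ∈ S` acts as `(x₀, x₁) ↦ (σ x₀ + c σ x₁, σ x₁)`, and every root element
  `(1, c)` is induced by some `s ∈ S`; `exists_crd` : it exists under `Hyp S P` for every `NatP`;
* `Crd.R` : the line `{x₁ = 0}`, of order `q`, `S`-invariant, contains `Ω₁(Z(S))`;
* `Crd.Act s σ c` : `s` acts with field automorphism `σ` and root part `c`.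
-/

set_option autoImplicit false
set_option linter.unusedSectionVars false
set_option linter.unusedVariables false

namespace Cfsg.Agent.Omega.NO3S.Fld

open Subgroup Cfsg Cfsg.Agent.ZN Cfsg.Agent.ZN.ChoiceBase Cfsg.Agent.Omega.MinPar
open Cfsg.Agent.ZN.ChoiceSit (Syl o2_le_syl)
open Cfsg.Agent.Omega.SQ1.Bau (mem_AA_of_comm zj_le_AA elem_comm elem_sq)
open Cfsg.Agent.PLocal.ElemAbSup Cfsg.Agent.PLocal.ThompsonJ
open Cfsg.Agent.MinSimple.VModule (zc_le zc_le_zl zl_le le_o2 le_normalizer_zl le_normalizer_o2)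
open Cfsg.Agent.Omega.SQ1.FFOne Cfsg.Agent.Lib.SL2Mat
open Cfsg.Agent.Omega.NatPair (ap ap_zero' ap_one' ap_one ap_mul ap_add ap_smul ext2 NatMod ap_inv_ap ap_ap_inv
  exists_ap_e ap_up_e dt exists_comb exists_smul_of_dt)
open Cfsg.Agent.Omega.NO3S.OneLine (modP secP exists_fixed minH e_zero)

universe u

variable {G : Type u} [Group G]

/-- Coordinates on `V = F²` adapted to the 2-group `S`. -/
structure Crd (F : Type*) [Field F] (S P V : Subgroup G) extends NatP F V P where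
  act : ∀ s ∈ S, ∃ (σ : F ≃+* F) (c : F), ∀ x : Fin 2 → F,
    s * e x * s⁻¹ = e ![σ (x 0) + c * σ (x 1), σ (x 1)]
  full : ∀ c : F, ∃ s ∈ S, ∀ x : Fin 2 → F, s * e x * s⁻¹ = e ![x 0 + c * x 1, x 1]

section change

variable {F : Type*} [Field F]

/-- the linear map with the columns `w`, `y` -/
def bm (w y : Fin 2 → F) (x : Fin 2 → F) : Fin 2 → F := x 0 • w + x 1 • y

theorem bm_add (w y x x' : Fin 2 → F) : bm w y (x + x') = bm w y x + bm w y x' := by
  apply ext2 <;> simp only [bm, Pi.add_apply, Pi.smul_apply, smul_eq_mul] <;> ring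

theorem dt_ne_bm {w y : Fin 2 → F} (h : dt w y ≠ 0) {x : Fin 2 → F} (hx : bm w y x = 0) : x = 0 := by
  have h0 := congrFun hx 0
  have h1 := congrFun hx 1
  simp only [bm, Pi.add_apply, Pi.smul_apply, smul_eq_mul, Pi.zero_apply] at h0 h1
  have e0 : x 0 * dt w y = 0 := by unfold dt; linear_combination y 1 * h0 - y 0 * h1
  have e1 : x 1 * dt w y = 0 := by unfold dt; linear_combination w 0 * h1 - w 1 * h0
  apply ext2
  · exact (mul_eq_zero.1 e0).resolve_right h
  · exact (mul_eq_zero.1 e1).resolve_right h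

/-- the inverse of `bm` -/
noncomputable def bi (w y : Fin 2 → F) (x : Fin 2 → F) : Fin 2 → F :=
  ![(x 0 * y 1 - x 1 * y 0) / dt w y, (w 0 * x 1 - w 1 * x 0) / dt w y]

theorem bm_bi {w y : Fin 2 → F} (h : dt w y ≠ 0) (x : Fin 2 → F) : bm w y (bi w y x) = x := by
  apply ext2
  · simp only [bm, bi, Pi.add_apply, Pi.smul_apply, smul_eq_mul, Matrix.cons_val_zero, Matrix.cons_val_one]
    field_simp
    unfold dt; ring
  · simp only [bm, bi, Pi.add_apply, Pi.smul_apply, smul_eq_mul, Matrix.cons_val_zero, Matrix.cons_val_one]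
    field_simp
    unfold dt; ring

theorem bi_bm {w y : Fin 2 → F} (h : dt w y ≠ 0) (x : Fin 2 → F) : bi w y (bm w y x) = x := by
  have h1 := bm_bi h (bm w y x)
  have h2 : bm w y (bi w y (bm w y x) - x) = 0 := by
    have e : bm w y (bi w y (bm w y x)) = bm w y (bi w y (bm w y x) - x) + bm w y x := by
      rw [← bm_add, sub_add_cancel]
    rw [h1] at e
    exact (left_eq_add.1 (by rw [add_comm] at e; exact e))
  exact sub_eq_zero.1 (dt_ne_bm h h2)

/-- conjugation of `SL₂(F)` by `bm` -/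
noncomputable def cB (w y : Fin 2 → F) (h : dt w y ≠ 0) (A : Matrix.SpecialLinearGroup (Fin 2) F) :
    Matrix.SpecialLinearGroup (Fin 2) F :=
  mk ((ent A 0 0 * (w 0 * y 1) - ent A 0 1 * (w 0 * w 1) + ent A 1 0 * (y 0 * y 1) - ent A 1 1 * (y 0 * w 1)) / dt w y)
    ((-(ent A 0 0 * (w 0 * y 0)) + ent A 0 1 * (w 0 * w 0) - ent A 1 0 * (y 0 * y 0) + ent A 1 1 * (w 0 * y 0)) / dt w y)
    ((ent A 0 0 * (w 1 * y 1) - ent A 0 1 * (w 1 * w 1) + ent A 1 0 * (y 1 * y 1) - ent A 1 1 * (w 1 * y 1)) / dt w y)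
    ((-(ent A 0 0 * (w 1 * y 0)) + ent A 0 1 * (w 0 * w 1) - ent A 1 0 * (y 0 * y 1) + ent A 1 1 * (w 0 * y 1)) / dt w y)
    (by
      have hd := det_eq A
      have h' : w 0 * y 1 - w 1 * y 0 ≠ 0 := h
      unfold dt
      field_simp
      linear_combination (w 0 * y 1 - w 1 * y 0) ^ 2 * hd)

theorem ap_cB {w y : Fin 2 → F} (h : dt w y ≠ 0) (A : Matrix.SpecialLinearGroup (Fin 2) F) (x : Fin 2 → F) :
    ap (cB w y h A) (bm w y x) = bm w y (ap A x) := by
  apply ext2
  · rw [ap_zero']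
    unfold cB
    rw [mk_00, mk_01]
    simp only [bm, ap, Pi.add_apply, Pi.smul_apply, smul_eq_mul, Matrix.cons_val_zero, Matrix.cons_val_one]
    rw [div_mul_eq_mul_div, div_mul_eq_mul_div, ← add_div, div_eq_iff h]
    unfold dt
    ring
  · rw [ap_one']
    unfold cB
    rw [mk_10, mk_11]
    simp only [bm, ap, Pi.add_apply, Pi.smul_apply, smul_eq_mul, Matrix.cons_val_zero, Matrix.cons_val_one]
    rw [div_mul_eq_mul_div, div_mul_eq_mul_div, ← add_div, div_eq_iff h]
    unfold dt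
    ring

/-- conjugation of `SL₂(F)` by the inverse of `bm` -/
theorem exists_bi {w y : Fin 2 → F} (h : dt w y ≠ 0) (A : Matrix.SpecialLinearGroup (Fin 2) F) :
    ∃ B : Matrix.SpecialLinearGroup (Fin 2) F, ∀ x, ap A (bm w y x) = bm w y (ap B x) := by
  have h0 : dt (bi w y ![1, 0]) (bi w y ![0, 1]) ≠ 0 := by
    have e : dt (bi w y ![1, 0]) (bi w y ![0, 1]) * dt w y = 1 := by
      have e1 : dt (bi w y ![1, 0]) (bi w y ![0, 1]) = y 1 / dt w y * (w 0 / dt w y) -
          -w 1 / dt w y * (-y 0 / dt w y) := by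
        simp only [dt, bi, Matrix.cons_val_zero, Matrix.cons_val_one]
        ring
      rw [e1, div_mul_div_comm, div_mul_div_comm, ← sub_div, div_mul_eq_mul_div, div_eq_iff (mul_ne_zero h h)]
      unfold dt
      ring
    exact left_ne_zero_of_mul (e ▸ one_ne_zero)
  refine ⟨cB _ _ h0 A, fun x => ?_⟩
  have hb : ∀ z, bm (bi w y ![1, 0]) (bi w y ![0, 1]) z = bi w y z := by
    intro z
    apply ext2
    · simp only [bm, bi, Pi.add_apply, Pi.smul_apply, smul_eq_mul, Matrix.cons_val_zero, Matrix.cons_val_one]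
      ring
    · simp only [bm, bi, Pi.add_apply, Pi.smul_apply, smul_eq_mul, Matrix.cons_val_zero, Matrix.cons_val_one]
      ring
  have h1 := ap_cB h0 A (bm w y x)
  rw [hb, hb, bi_bm h] at h1
  rw [h1, bm_bi h]

variable {V P : Subgroup G}

/-- Change of the basis. -/
def _root_.Cfsg.Agent.Omega.NO3S.NatP.change (N : NatP F V P) {w y : Fin 2 → F} (h : dt w y ≠ 0) : NatP F V P where
  e x := N.e (bm w y x)
  e_add x x' := by rw [bm_add, N.e_add]
  e_inj := by
    intro x x' hx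
    have h1 := N.e_inj hx
    rw [← bi_bm h x, ← bi_bm h x', h1]
  mem_iff g := by
    rw [N.mem_iff]
    constructor
    · rintro ⟨x, rfl⟩
      exact ⟨bi w y x, by rw [bm_bi h]⟩
    · rintro ⟨x, rfl⟩
      exact ⟨_, rfl⟩
  lift A := by
    obtain ⟨g, hg, h1⟩ := N.lift (cB w y h A)
    exact ⟨g, hg, fun x => by rw [h1, ap_cB h]⟩
  norm g hg k A hA := by
    have h1 : ∀ x, k * N.e x * k⁻¹ = N.e (ap (cB w y h A) x) := by
      intro x
      have h2 := hA (bi w y x)
      rw [bm_bi h] at h2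
      rw [h2, ← ap_cB h, bm_bi h]
    obtain ⟨B, hB⟩ := N.norm g hg k _ h1
    obtain ⟨B', hB'⟩ := exists_bi h B
    exact ⟨B', fun x => by rw [hB, hB']⟩

end change

section crd

variable [Finite G] {S : Sylow 2 G} {P : Subgroup G}

/-- **Adapted coordinates exist.** -/
theorem exists_crd_of {F : Type*} [Field F] [Finite F] [CharP F 2] (hG : IsCharacteristicTwoType G)
    (hS : (S : Subgroup G) ≠ ⊥) (hP : IsParS (S : Subgroup G) P) (N : NatP F (zl (S : Subgroup G) P) P) :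
    Nonempty (Crd F (S : Subgroup G) P (zl (S : Subgroup G) P)) := by
  have hm := minH hG hP
  have hSP : (S : Subgroup G) ≤ P := hm.syl.1
  have hVS : zl (S : Subgroup G) P ≤ (S : Subgroup G) := (SQ1.VOf.MinH.zl_le_o2 hm).trans (o2_le_syl hm.syl)
  have hVP : zl (S : Subgroup G) P ≤ P := hVS.trans hSP
  have hPV : P ≤ normalizer (zl (S : Subgroup G) P : Set G) := le_normalizer_zl _ _
  have hZV : zc (S : Subgroup G) ≤ zl (S : Subgroup G) P := zc_le_zl _ _
  let M := modP N hVP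
  have hPn : ∀ g : P, g ∈ normalizer (((zl (S : Subgroup G) P).subgroupOf P : Subgroup P) : Set P) := by
    intro g
    rw [mem_normalizer_iff]
    intro x
    rw [mem_subgroupOf, mem_subgroupOf]
    exact mem_normalizer_iff.1 (hPV g.2) x
  -- a fixed vector
  obtain ⟨z, hz, hz1⟩ : ∃ z ∈ zc (S : Subgroup G), z ≠ 1 := by
    obtain ⟨z, hz1⟩ := Subgroup.ne_bot_iff_exists_ne_one.1 (MinSimple.Basic.zc_ne_bot S.isPGroup' hS)
    exact ⟨z, z.2, fun h => hz1 (Subtype.ext h)⟩
  obtain ⟨w, rfl⟩ := (N.mem_iff z).1 (hZV hz)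
  have hw : w ≠ 0 := by
    rintro rfl
    exact hz1 (e_zero N)
  let S' : Sylow 2 P := S.subtype hSP
  have hS' : ∀ s : P, s ∈ (S' : Subgroup P) ↔ (s : G) ∈ (S : Subgroup G) := fun s => by
    rw [Sylow.coe_subtype, mem_subgroupOf]
  have hSn : (S' : Subgroup P) ≤ normalizer (((zl (S : Subgroup G) P).subgroupOf P : Subgroup P) : Set P) :=
    fun s _ => hPn s
  have hfixe : ∀ s ∈ (S' : Subgroup P), M.act s w = w := by
    intro s hs
    rw [← M.commute_e (hPn s)]
    apply Subtype.ext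
    exact (mem_zc.1 hz).2.2 s ((hS' s).1 hs)
  have hSw : (S' : Subgroup P) ≤ normalizer ((M.line w : Subgroup P) : Set P) := by
    intro s hs
    have h1 := M.cj_line (hPn s) w
    rw [hfixe s hs] at h1
    rw [mem_normalizer_iff_cj]
    exact h1
  -- a vector fixed modulo the line
  let L : Subgroup G := (M.line w).map P.subtype
  have hmemL : ∀ x : Fin 2 → F, N.e x ∈ L ↔ ∃ c : F, x = c • w := by
    intro x
    constructor
    · rintro ⟨⟨g, hg⟩, hgL, hgx⟩
      obtain ⟨c, hc⟩ := hgL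
      refine ⟨c, N.e_inj ?_⟩
      have h1 : N.e (c • w) = g := congrArg Subtype.val hc
      rw [h1]
      exact hgx.symm
    · rintro ⟨c, rfl⟩
      exact ⟨M.e (c • w), ⟨c, rfl⟩, rfl⟩
  have hVL : ¬ zl (S : Subgroup G) P ≤ L := by
    intro hle
    obtain ⟨D, hD⟩ := exists_ap_e hw
    have h1 : N.e (ap D ![0, 1]) ∈ L := hle ((N.mem_iff _).2 ⟨_, rfl⟩)
    rw [hmemL] at h1
    obtain ⟨c, hc⟩ := h1
    rw [← hD, ← ap_smul] at hc
    have h2 := congrArg (ap D⁻¹) hc
    rw [ap_inv_ap, ap_inv_ap] at h2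
    have h3 := congrFun h2 1
    simp at h3
  obtain ⟨v, hv, hvL, hvS⟩ := exists_fixed (M := L) S.isPGroup' hVS (hSP.trans hPV) hVL
  obtain ⟨y, rfl⟩ := (N.mem_iff v).1 hv
  have hdt : dt w y ≠ 0 := by
    intro h0
    apply hvL
    rw [hmemL]
    exact exists_smul_of_dt hw h0
  have hact : ∀ s ∈ (S : Subgroup G), ∃ c : F, ∀ hs : s ∈ P, M.act ⟨s, hs⟩ y = y + c • w := by
    intro s hs
    have h1 := hvS s hs
    have h2 : N.e (M.act ⟨s, hSP hs⟩ y) = s * N.e y * s⁻¹ := congrArg Subtype.val (M.e_act (hPn ⟨s, hSP hs⟩) y)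
    rw [← h2] at h1
    have h3 : N.e (M.act ⟨s, hSP hs⟩ y) * (N.e y)⁻¹ = N.e (M.act ⟨s, hSP hs⟩ y - y) :=
      (congrArg Subtype.val (M.e_sub (M.act ⟨s, hSP hs⟩ y) y)).symm
    rw [h3, hmemL] at h1
    obtain ⟨c, hc⟩ := h1
    exact ⟨c, fun _ => by rw [← hc]; abel⟩
  let N' := N.change hdt
  refine ⟨{ N' with act := ?_, full := ?_ }⟩
  · intro s hs
    have hsP := hSP hs
    obtain ⟨σ, hσ⟩ := M.exists_semi (hPn ⟨s, hsP⟩)
    obtain ⟨c, hc⟩ := hact s hs
    refine ⟨σ, c, fun x => ?_⟩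
    show s * N.e (bm w y x) * s⁻¹ = N.e (bm w y _)
    have h1 : N.e (M.act ⟨s, hsP⟩ (bm w y x)) = s * N.e (bm w y x) * s⁻¹ :=
      congrArg Subtype.val (M.e_act (hPn ⟨s, hsP⟩) (bm w y x))
    rw [← h1]
    congr 1
    unfold bm
    rw [M.act_add (hPn _), hσ, hσ, hfixe _ ((hS' _).2 hs), hc]
    simp only [Matrix.cons_val_zero, Matrix.cons_val_one]
    rw [smul_add, smul_smul, add_smul, mul_comm c]
    abel
  · intro c
    have hB : ap (cB w y hdt (up c)) w = w := by
      have h1 := ap_cB hdt (up c) ![1, 0]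
      have h2 : bm w y ![1, 0] = w := by
        apply ext2 <;> simp [bm]
      rw [ap_up_e, h2] at h1
      exact h1
    obtain ⟨s, hs, hs1⟩ := M.full_of_sylow S' hSn hw hSw hB
    refine ⟨s, (hS' s).1 hs, fun x => ?_⟩
    show (s : G) * N.e (bm w y x) * (s : G)⁻¹ = N.e (bm w y _)
    have h1 : (s : G) * N.e (bm w y x) * (s : G)⁻¹ = N.e (ap (cB w y hdt (up c)) (bm w y x)) :=
      congrArg Subtype.val (hs1 (bm w y x))
    rw [h1, ap_cB hdt]
    congr 2
    apply ext2
    · rw [ap_zero', up_00, up_01, one_mul]; rfl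
    · rw [ap_one', up_10, up_11, one_mul, zero_mul, zero_add]; rfl

theorem exists_crd (h : Hyp S P) {F : Type*} [Field F] [Finite F] [CharP F 2]
    (N : NatP F (zl (S : Subgroup G) P) P) : Nonempty (Crd F (S : Subgroup G) P (zl (S : Subgroup G) P)) :=
  exists_crd_of h.ctx.char2 h.ne h.star N

end crd

end Cfsg.Agent.Omega.NO3S.Fld
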