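import Cfsg.Agent.Omega.NO3S.Fld.Mods
import Cfsg.Agent.Lib.CoprimeAbelian
import Mathlib.GroupTheory.Transfer

/-!
# Fld: `C_G(Z) = C_G(R) S` if `C_G(Z)` normalises `R` (helper973 #16714, fill-in)

* `faithful_cyclic` (abstract): `C` acts faithfully on the finite elementary abelian 2-group `R`, the Sylow 2-subgroup
  `P` of `C` is cyclic and every `P`-fixed vector is fixed by `C`: `C = P`;
* `Crd.cz_eq_of`, `Crd.cz_eq` : `C_G(Z) = C_G(R) S`.
-/

set_option autoImplicit false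

namespace Cfsg.Agent.Omega.NO3S.Fld

open Subgroup Cfsg Cfsg.Agent.ZN Cfsg.Agent.Omega.MinPar Cfsg.Agent.Omega.FrameNOFF
open Cfsg.Agent.Omega.NO3S.OneLine (conj_mem)
open Cfsg.Agent.MinSimple.VModule (zc_le_zl)

universe u

/-- A finite group of automorphisms of a 2-group `R` (abelian), with a cyclic Sylow 2-subgroup `P` all of whose fixed
points are fixed by `C`, is `P`. -/
theorem faithful_cyclic {R : Type*} [CommGroup R] [Finite R] (hR : IsPGroup 2 R) (C : Subgroup (MulAut R))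
    [Finite C] (P : Sylow 2 C) (hP : IsCyclic P) (hfix : ∀ r : R, (∀ p ∈ (P : Subgroup C), (p : MulAut R) r = r) →
      ∀ c : C, (c : MulAut R) r = r) : (P : Subgroup C) = ⊤ := by
  have h2 : Fact (Nat.Prime 2) := ⟨Nat.prime_two⟩
  by_cases hcard : Odd (Nat.card C)
  · -- odd order: everything is fixed
    have hPb : (P : Subgroup C) = ⊥ := by
      have h3 := P.isPGroup'
      obtain ⟨n, hn⟩ := IsPGroup.iff_card.1 h3
      have h4 : Nat.card (P : Subgroup C) ∣ Nat.card C := card_subgroup_dvd_card _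
      rw [hn] at h4
      rcases Nat.eq_zero_or_pos n with h0 | h0
      · rw [h0, pow_zero] at hn
        exact card_eq_one.1 hn
      · exfalso
        have h5 : 2 ∣ Nat.card C := (dvd_pow_self 2 h0.ne').trans h4
        exact (Nat.not_even_iff_odd.2 hcard) (even_iff_two_dvd.2 h5)
    rw [hPb]
    symm
    rw [eq_bot_iff]
    rintro c -
    rw [mem_bot]
    apply Subtype.ext
    apply MulEquiv.ext
    intro r
    refine hfix r (fun p hp => ?_) c
    rw [hPb, mem_bot] at hp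
    rw [hp]; rfl
  have hmin : (Nat.card C).minFac = 2 := by
    rw [Nat.minFac_eq_two_iff, ← even_iff_two_dvd]
    exact Nat.not_odd_iff_even.1 hcard
  set N := (MonoidHom.transferSylow P (hP.normalizer_le_centralizer hmin)).ker with hN
  have hcomp : N.IsComplement' P := IsCyclic.isComplement' hmin hP
  have hNn : N.Normal := by rw [hN]; infer_instance
  have hodd : ¬ 2 ∣ Nat.card N := MonoidHom.not_dvd_card_ker_transferSylow P (hP.normalizer_le_centralizer hmin)
  suffices hNb : N = ⊥ by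
    have h3 := hcomp
    rw [hNb] at h3
    exact (isComplement'_bot_left).1 h3
  -- the action of `N`
  let φ : N →* MulAut R := C.subtype.comp N.subtype
  have hφ : ∀ (a : N) (r : R), φ a r = ((a : C) : MulAut R) r := fun _ _ => rfl
  have hcop : (Nat.card N).Coprime (Nat.card R) := by
    obtain ⟨n, hn⟩ := IsPGroup.iff_card.1 hR
    rw [hn]
    exact Nat.Coprime.pow_right n ((Nat.Prime.coprime_iff_not_dvd Nat.prime_two).2 hodd).symm
  set R₁ : Subgroup R := closure {w : R | ∃ (a : N) (u : R), w = φ a u * u⁻¹} with hR1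
  -- `P` leaves `R₁` invariant
  have hinv : ∀ p : C, ∀ w ∈ R₁, (p : MulAut R) w ∈ R₁ := by
    intro p w hw
    rw [hR1] at hw
    refine closure_induction (p := fun w _ => (p : MulAut R) w ∈ R₁) ?_ ?_ ?_ ?_ hw
    · rintro x ⟨a, u, rfl⟩
      refine subset_closure ⟨⟨p * (a : C) * p⁻¹, hNn.conj_mem _ a.2 p⟩, (p : MulAut R) u, ?_⟩
      rw [map_mul, map_inv, hφ, hφ]
      congr 1
      show (p : MulAut R) (((a : C) : MulAut R) u) = ((p : MulAut R) * ((a : C) : MulAut R) * (p : MulAut R)⁻¹)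
        ((p : MulAut R) u)
      rw [MulAut.mul_apply, MulAut.mul_apply, MulAut.inv_apply_self]
    · rw [map_one]; exact one_mem _
    · intro x y _ _ hx hy
      rw [map_mul]; exact mul_mem hx hy
    · intro x _ hx
      rw [map_inv]; exact inv_mem hx
  have hR1b : R₁ = ⊥ := by
    by_contra hne
    let act : MulAction (P : Subgroup C) R₁ :=
      { smul := fun p w => ⟨((p : C) : MulAut R) w, hinv p w w.2⟩
        one_smul := fun w => Subtype.ext rfl
        mul_smul := fun p q w => Subtype.ext rfl }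
    have h3 : 2 ∣ Nat.card R₁ := by
      obtain ⟨n, hn⟩ := IsPGroup.iff_card.1 (hR.to_subgroup R₁)
      rcases Nat.eq_zero_or_pos n with h0 | h0
      · exfalso
        rw [h0, pow_zero] at hn
        exact hne (card_eq_one.1 hn)
      · rw [hn]; exact dvd_pow_self 2 h0.ne'
    obtain ⟨w, hw, hw1⟩ := P.isPGroup'.exists_fixed_point_of_prime_dvd_card_of_fixed_point R₁ h3
      (a := (1 : R₁)) (by
        intro p
        apply Subtype.ext
        exact map_one _)
    have h4 : ∀ c : C, (c : MulAut R) (w : R) = w := by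
      refine hfix w (fun p hp => ?_)
      have := hw ⟨p, hp⟩
      exact congrArg Subtype.val this
    have h5 : (w : R) = 1 := Cfsg.Agent.Lib.CoprimeAbelian.eq_one_of_fixed_of_mem_closure φ hcop (w : R)
      (fun a => h4 a) w.2
    exact hw1 (Subtype.ext h5).symm
  rw [eq_bot_iff]
  intro a ha
  rw [mem_bot]
  apply Subtype.ext
  apply MulEquiv.ext
  intro r
  have h6 : φ ⟨a, ha⟩ r * r⁻¹ ∈ R₁ := subset_closure ⟨⟨a, ha⟩, r, rfl⟩
  rw [hR1b, mem_bot, mul_inv_eq_one] at h6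
  exact h6

section cz

variable {G : Type u} [Group G] [Finite G] {F : Type*} [Field F] [Finite F] [CharP F 2] {S : Sylow 2 G}
  {P V : Subgroup G}

/-- **`C_G(Z) = C_G(R) S`** if `C_G(Z)` normalises `R`. -/
theorem Crd.cz_eq_of (M : Crd F (S : Subgroup G) P V) (hV : V ≤ (S : Subgroup G)) (hZ : zc (S : Subgroup G) ≤ V)
    (hR : CZ (S : Subgroup G) ≤ normalizer (M.R : Set G)) :
    CZ (S : Subgroup G) = centralizer (M.R : Set G) ⊔ (S : Subgroup G) := by
  have h2 : Fact (Nat.Prime 2) := ⟨Nat.prime_two⟩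
  have hzc : zc (S : Subgroup G) = M.R ⊓ centralizer ((S : Subgroup G) : Set G) := M.zc_eq hV hZ
  have hSC : (S : Subgroup G) ≤ CZ (S : Subgroup G) := le_CZ S
  have hRC : centralizer (M.R : Set G) ≤ CZ (S : Subgroup G) := by
    refine centralizer_le ?_
    rw [hzc]
    exact inf_le_left
  apply le_antisymm _ (sup_le hRC hSC)
  let _ : CommGroup M.R :=
    { (inferInstance : Group M.R) with
      mul_comm := fun a b => Subtype.ext (M.comm (M.R_le a.2) (M.R_le b.2)) }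
  have hR2 : IsPGroup 2 M.R := fun x => ⟨1, Subtype.ext (by
    rw [pow_one, pow_two]; exact M.sq (M.R_le x.2))⟩
  let φ : CZ (S : Subgroup G) →* MulAut M.R := (M.R).normalizerMonoidHom.comp (inclusion hR)
  have hφ : ∀ (c : CZ (S : Subgroup G)) (r : M.R), ((φ c r : M.R) : G) = c * r * (c : G)⁻¹ := fun c r => rfl
  let f : CZ (S : Subgroup G) →* φ.range := φ.rangeRestrict
  have hf : Function.Surjective f := φ.rangeRestrict_surjective
  let S' : Sylow 2 (CZ (S : Subgroup G)) := S.subtype hSC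
  let Q : Sylow 2 φ.range := S'.mapSurjective hf
  have hmemQ : ∀ s (hs : s ∈ (S : Subgroup G)), f ⟨s, hSC hs⟩ ∈ (Q : Subgroup φ.range) := by
    intro s hs
    exact ⟨⟨s, hSC hs⟩, hs, rfl⟩
  have hQcyc : IsCyclic Q := by
    obtain ⟨s₀, hs₀, hcyc⟩ := M.cyc
    refine ⟨⟨⟨f ⟨s₀, hSC hs₀⟩, hmemQ s₀ hs₀⟩, ?_⟩⟩
    rintro ⟨_, ⟨⟨s, hs⟩, hs', rfl⟩⟩
    have hsS : s ∈ (S : Subgroup G) := hs'
    obtain ⟨k, hk⟩ := hcyc s hsS
    refine ⟨k, ?_⟩
    apply Subtype.ext
    apply Subtype.ext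
    apply MulEquiv.ext
    intro r
    apply Subtype.ext
    have h3 := mem_centralizer_iff.1 hk.2 (s₀ ^ k * r * (s₀ ^ k)⁻¹) (by
      exact conj_mem M.S_R (pow_mem hs₀ k) r.2)
    show ((((f ⟨s₀, hSC hs₀⟩ : φ.range) : MulAut M.R) ^ k) r : G) = s * r * s⁻¹
    have h4 : (((f ⟨s₀, hSC hs₀⟩ : φ.range) : MulAut M.R) ^ k) = φ (⟨s₀, hSC hs₀⟩ ^ k) := (map_pow φ _ _).symm
    rw [h4, hφ]
    show s₀ ^ k * r * (s₀ ^ k)⁻¹ = s * r * s⁻¹
    calc s₀ ^ k * r * (s₀ ^ k)⁻¹ = (s₀ ^ k * r * (s₀ ^ k)⁻¹ * (s * (s₀ ^ k)⁻¹)) * (s * (s₀ ^ k)⁻¹)⁻¹ := by group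
      _ = (s * (s₀ ^ k)⁻¹ * (s₀ ^ k * r * (s₀ ^ k)⁻¹)) * (s * (s₀ ^ k)⁻¹)⁻¹ := by rw [h3]
      _ = s * r * s⁻¹ := by group
  have htop : (Q : Subgroup φ.range) = ⊤ := by
    refine faithful_cyclic hR2 φ.range Q hQcyc ?_
    rintro r hr ⟨_, c, rfl⟩
    have hrS : (r : G) ∈ centralizer ((S : Subgroup G) : Set G) := by
      rw [mem_centralizer_iff]
      intro s hs
      have h3 := congrArg Subtype.val (hr _ (hmemQ s hs))
      have h4 : s * r * s⁻¹ = (r : G) := h3
      rwa [mul_inv_eq_iff_eq_mul] at h4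
    have hrz : (r : G) ∈ zc (S : Subgroup G) := by
      rw [hzc]
      exact ⟨r.2, hrS⟩
    apply Subtype.ext
    show (c : G) * r * (c : G)⁻¹ = r
    have h5 := mem_centralizer_iff.1 c.2 _ hrz
    rw [← h5, mul_inv_cancel_right]
  intro c hc
  have h3 : f ⟨c, hc⟩ ∈ (Q : Subgroup φ.range) := by rw [htop]; exact mem_top _
  obtain ⟨⟨s, hs⟩, hs', hfs⟩ := h3
  have hsS : s ∈ (S : Subgroup G) := hs'
  have h4 : c * s⁻¹ ∈ centralizer (M.R : Set G) := by
    rw [mem_centralizer_iff]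
    intro r hr
    have hr' : s⁻¹ * r * s ∈ M.R := by
      have := conj_mem M.S_R (inv_mem hsS) hr
      rwa [inv_inv] at this
    have h5 : φ ⟨s, hs⟩ = φ ⟨c, hc⟩ := congrArg Subtype.val hfs
    have h6 := congrArg Subtype.val (DFunLike.congr_fun h5 ⟨s⁻¹ * r * s, hr'⟩)
    have h7 : s * (s⁻¹ * r * s) * s⁻¹ = c * (s⁻¹ * r * s) * c⁻¹ := h6
    calc r * (c * s⁻¹) = (s * (s⁻¹ * r * s) * s⁻¹) * (c * s⁻¹) := by group
      _ = (c * (s⁻¹ * r * s) * c⁻¹) * (c * s⁻¹) := by rw [h7]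
      _ = c * s⁻¹ * r := by group
  have e : c = (c * s⁻¹) * s := by group
  rw [e]
  exact mul_mem (mem_sup_left h4) (mem_sup_right hsS)

/-- **`C_G(Z) = C_G(R) S`** if `C_G(Z)` normalises `R`. -/
theorem Crd.cz_eq (h : Hyp S P) (M : Crd F (S : Subgroup G) P (zl (S : Subgroup G) P))
    (hR : CZ (S : Subgroup G) ≤ normalizer (M.R : Set G)) :
    CZ (S : Subgroup G) = centralizer (M.R : Set G) ⊔ (S : Subgroup G) :=
  M.cz_eq_of h.V_le_S (zc_le_zl _ _) hR

end cz

end Cfsg.Agent.Omega.NO3S.Fld
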