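import Cfsg.Agent.Omega.NO3S.Fld.FourBase
import Cfsg.Agent.Omega.NO3S.Fld.ZJ

/-!
# Fld, `q = 4`: the situation `Cfg4` from `HypJ S P` and coordinates

* `Crd.d8` : the coordinates `DEight.Crd F S V z`, `z = e (1, 0) ∈ Ω₁(Z(S))`;
* `exists_cfg4` : `HypJ S P`, `|F| = 4`, `|Ω₁(Z(S))| ≠ 4`, `P₂ ∈ P(S)` in `C_G(Z)` moving `R` give `Cfg4`.
-/

set_option autoImplicit false
set_option linter.unusedSectionVars false

namespace Cfsg.Agent.Omega.NO3S.Fld

open Subgroup Cfsg Cfsg.Agent.ZN Cfsg.Agent.ZN.ChoiceBase Cfsg.Agent.Omega.MinPar Cfsg.Agent.Omega.FrameNOFF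
open Cfsg.Agent.MinSimple.VModule (oddGen zc_le zc_le_zl)
open Cfsg.Agent.Omega.NatPair (ext2)

universe u

variable {G : Type u} [Group G]

section d8

variable {F : Type*} [Field F] {S P V : Subgroup G} (M : Crd F S P V)

/-- The normalised coordinates: `e' (x₀, x₁) = e (z₀ x₀, x₁)`. -/
def Crd.d8 {z₀ : F} (h0 : z₀ ≠ 0) (hz : ∀ s ∈ S, s * M.e ![z₀, 0] * s⁻¹ = M.e ![z₀, 0])
    (hf : ¬ S ≤ centralizer (M.R : Set G)) : DEight.Crd F S V (M.e ![z₀, 0]) where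
  e x := M.e ![z₀ * x 0, x 1]
  e_add x y := by
    rw [← M.e_add]
    congr 1
    apply ext2
    · simp only [Pi.add_apply, Matrix.cons_val_zero]; ring
    · rfl
  e_inj x y h := by
    have h1 := M.e_inj h
    apply ext2
    · have := congrFun h1 0
      simp only [Matrix.cons_val_zero] at this
      exact mul_left_cancel₀ h0 this
    · have := congrFun h1 1
      simpa using this
  mem_iff g := by
    rw [M.mem_iff]
    constructor
    · rintro ⟨x, rfl⟩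
      refine ⟨![z₀⁻¹ * x 0, x 1], ?_⟩
      congr 1
      apply ext2
      · simp only [Matrix.cons_val_zero]
        rw [← mul_assoc, mul_inv_cancel₀ h0, one_mul]
      · rfl
    · rintro ⟨x, rfl⟩
      exact ⟨_, rfl⟩
  z_eq := by
    congr 1
    apply ext2
    · simp
    · rfl
  act s hs := by
    obtain ⟨σ, c, h⟩ := M.act s hs
    have hσ : σ z₀ = z₀ := by
      have h1 := (h ![z₀, 0]).symm.trans (hz s hs)
      have h2 := congrFun (M.e_inj h1) 0
      simpa using h2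
    refine ⟨σ, z₀⁻¹ * c, fun x => ?_⟩
    rw [h]
    congr 1
    apply ext2
    · simp only [Matrix.cons_val_zero, Matrix.cons_val_one]
      rw [map_mul, hσ]
      field_simp
    · rfl
  full c := by
    obtain ⟨s, hs, h⟩ := M.full (z₀ * c)
    refine ⟨s, hs, fun x => ?_⟩
    rw [h]
    congr 1
    apply ext2
    · simp only [Matrix.cons_val_zero, Matrix.cons_val_one]; ring
    · rfl
  fld := by
    obtain ⟨s, hs, hsR⟩ := SetLike.not_le_iff_exists.1 hf
    obtain ⟨σ, c, h⟩ := M.exists_act hs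
    have hσ' : σ ≠ RingEquiv.refl F := fun h1 => hsR (h.mem_centR.2 h1)
    have hσ : σ z₀ = z₀ := by
      have h1 := (h ![z₀, 0]).symm.trans (hz s hs)
      have h2 := congrFun (M.e_inj h1) 0
      simpa using h2
    refine ⟨s, hs, σ, z₀⁻¹ * c, hσ', fun x => ?_⟩
    rw [h]
    congr 1
    apply ext2
    · simp only [Matrix.cons_val_zero, Matrix.cons_val_one]
      rw [map_mul, hσ]
      field_simp
    · rfl

theorem Crd.d8_R [CharP F 2] {z₀ : F} (h0 : z₀ ≠ 0) (hz : ∀ s ∈ S, s * M.e ![z₀, 0] * s⁻¹ = M.e ![z₀, 0])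
    (hf : ¬ S ≤ centralizer (M.R : Set G)) : (M.d8 h0 hz hf).R = M.R := by
  ext g
  constructor
  · rintro ⟨x, rfl, hx⟩
    exact ⟨z₀ * x 0, congrArg M.e (ext2 rfl hx.symm)⟩
  · rintro ⟨a, rfl⟩
    refine ⟨![z₀⁻¹ * a, 0], ?_, rfl⟩
    show M.e ![z₀ * (z₀⁻¹ * a), 0] = M.e ![a, 0]
    rw [← mul_assoc, mul_inv_cancel₀ h0, one_mul]

end d8

variable [Finite G] {S : Sylow 2 G} {P P2 : Subgroup G}

/-- **`Cfg4` from the coordinates.** -/
theorem exists_cfg4 {F : Type*} [Field F] [Finite F] [CharP F 2] (h : HypJ S P)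
    (M : Crd F (S : Subgroup G) P (zl (S : Subgroup G) P)) (hF : Nat.card F = 4)
    (hZ : Nat.card (zc (S : Subgroup G)) ≠ 4) (par : IsPar (S : Subgroup G) P2) (le : P2 ≤ CZ (S : Subgroup G))
    (mv : ¬ P2 ≤ normalizer (M.R : Set G)) (ff : zc (o2 P2) ≤ centralizer (oddGen P2 : Set G)) :
    ∃ (V3 : Subgroup G) (z : G), Cfg4 S P P2 M.R V3 z := by
  obtain ⟨hBR, hsoc, hzj⟩ := HypJ.facts M h
  have hVS : zl (S : Subgroup G) P ≤ (S : Subgroup G) := h.toHyp.V_le_S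
  have hZV : zc (S : Subgroup G) ≤ zl (S : Subgroup G) P := zc_le_zl _ _
  have hf : ¬ (S : Subgroup G) ≤ centralizer (M.R : Set G) := M.not_le_centR hVS hZV (by rw [hF]; exact hZ)
  have hzc := M.zc_eq hVS hZV
  obtain ⟨⟨w, hw⟩, hw1⟩ := ne_bot_iff_exists_ne_one.1 h.toHyp.zc_ne
  have hwR : w ∈ M.R := by rw [hzc] at hw; exact hw.1
  obtain ⟨z₀, rfl⟩ := hwR
  have h0 : z₀ ≠ 0 := by
    rintro rfl
    apply hw1
    apply Subtype.ext
    show M.e ![0, 0] = 1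
    rw [← M.e_zero]
    congr 1
    exact ext2 rfl rfl
  have hz : ∀ s ∈ (S : Subgroup G), s * M.e ![z₀, 0] * s⁻¹ = M.e ![z₀, 0] := by
    intro s hs
    rw [(mem_zc.1 hw).2.2 s hs]; group
  have hmod := (M.d8 h0 hz hf).mod hF
  rw [M.d8_R h0 hz hf] at hmod
  refine ⟨_, _, ⟨h, hmod, fun b hb hbV => (M.d8 h0 hz hf).card_fix_le hF hb hbV, ?_, par, le, mv, hzj, hsoc, ff⟩⟩
  -- `Ω₁(Z(S)) = ⟨z⟩`
  have h1 : zpowers (M.e ![z₀, 0]) ≤ zc (S : Subgroup G) := zpowers_le.2 hw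
  symm
  apply Subgroup.eq_of_le_of_card_ge h1
  have h2 : Nat.card (zc (S : Subgroup G)) ∣ 4 := by
    rw [← hmod.cardR, hzc]
    exact card_dvd_of_le inf_le_left
  have h3 : Nat.card (zpowers (M.e ![z₀, 0])) = 2 := by
    rw [Nat.card_zpowers]
    exact orderOf_eq_prime (hmod.sq _ (hmod.V3_le (hmod.R_le hmod.z_mem))) hmod.z_ne
  have h4 := Nat.le_of_dvd (by decide) h2
  rw [h3]
  interval_cases Nat.card (zc (S : Subgroup G)) <;> simp_all

end Cfsg.Agent.Omega.NO3S.Fld
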