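import Cfsg.Agent.Omega.NO3S.Fld.FourBase
import Cfsg.Agent.Omega.NO3b.Dual

/-!
# Fld, `q = 4` (helper240, #15515), section (2): `V₃ ≤ X`

`Y = Ω₁ Z(J(L))`.

* `comm_YJ` : `[Y, J(S)] ≤ R` (helper705, #15839 (3.1));
* `Cfg4.two` : `V₃ ≤ X` ⟹ `|S : Q| = 2`.
-/

set_option autoImplicit false
set_option linter.unusedSectionVars false

namespace Cfsg.Agent.Omega.NO3S.Fld

open Subgroup Cfsg Cfsg.Agent.ZN Cfsg.Agent.ZN.ChoiceBase Cfsg.Agent.Omega.MinPar Cfsg.Agent.Omega.FrameNOFF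
open Cfsg.Agent.ZN.ChoiceSit (Syl syl_iff syl_not_dvd o2_le_syl isPGroup_o2)
open Cfsg.Agent.MinSimple.MinParabolic (IsMinPar)
open Cfsg.Agent.MinSimple.VModule (oddGen oddGen_le mem_oddGen le_normalizer_oddGen le_normalizer_o2 o2_le
  zc_le zc_le_zl le_normalizer_zl zc_sq zc_comm le_centralizer_zc)
open Cfsg.Agent.Omega.NO3b.EZero (cl cj_le_cl le_cl cl_le cj_cl le_normalizer_cl cent_symm cj_cent cj_norm
  sq_of_comm oddGen_sup_syl mem_cj_self relIndex_cj le_normalizer_inf_cent)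
open Cfsg.Agent.Omega.NO3b.K0 (conj_mem' cj_of_le cj_self)
open Cfsg.Agent.Omega.NO3S.NotFF (le_normalizer_of_forall normalizer_inf normalizer_sup normalizer_centralizer
  normalizer_commutator)
open Cfsg.Agent.Omega.SQ1.Bau (mem_AA_of_comm zj_le_AA elem_comm elem_sq card_sup_comm mem_sup_comm)
open scoped commutatorElement

universe u

section basic

variable {G : Type u} [Group G]

/-- a pairing with values in a group of order 2 -/
theorem pair_le [Finite G] {X B : Subgroup G} {z : G} (hz : z * z = 1) (hXz : ∀ x ∈ X, x * z = z * x)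
    (h : ∀ b ∈ B, ∀ x ∈ X, b * x * b⁻¹ * x⁻¹ = 1 ∨ b * x * b⁻¹ * x⁻¹ = z) :
    (centralizer (X : Set G)).relIndex B ≤ (centralizer (B : Set G)).relIndex X := by
  classical
  by_cases hz1 : z = 1
  · have h1 : B ≤ centralizer (X : Set G) := by
      intro b hb
      rw [mem_centralizer_iff]
      intro x hx
      have h2 : b * x * b⁻¹ * x⁻¹ = 1 := by
        rcases h b hb x hx with h2 | h2
        · exact h2
        · rw [h2, hz1]
      rw [mul_inv_eq_one, mul_inv_eq_iff_eq_mul] at h2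
      exact h2.symm
    rw [relIndex_eq_one.2 h1]
    exact le_of_eq (relIndex_eq_one.2 (cent_symm h1)).symm
  have hprod : ∀ b ∈ B, ∀ x ∈ X, ∀ y ∈ X,
      b * (x * y) * b⁻¹ * (x * y)⁻¹ = (b * x * b⁻¹ * x⁻¹) * (b * y * b⁻¹ * y⁻¹) := by
    intro b hb x hx y hy
    have e : b * (x * y) * b⁻¹ * (x * y)⁻¹ = (b * x * b⁻¹ * x⁻¹) * (x * (b * y * b⁻¹ * y⁻¹) * x⁻¹) := by group
    rw [e]
    congr 1
    rcases h b hb y hy with h1 | h1
    · rw [h1, mul_one, mul_inv_cancel]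
    · rw [h1, hXz x hx, mul_inv_cancel_right]
  let χ0 : B → X →* ℚ := fun b =>
    { toFun := fun x => if (b : G) * x * (b : G)⁻¹ * (x : G)⁻¹ = 1 then 1 else -1
      map_one' := by
        have : (b : G) * ((1 : X) : G) * (b : G)⁻¹ * ((1 : X) : G)⁻¹ = 1 := by
          rw [Subgroup.coe_one]; group
        rw [if_pos this]
      map_mul' := by
        intro x y
        have e := hprod b b.2 x x.2 y y.2
        have e' : (b : G) * ((x * y : X) : G) * (b : G)⁻¹ * ((x * y : X) : G)⁻¹ =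
            ((b : G) * x * (b : G)⁻¹ * (x : G)⁻¹) * ((b : G) * y * (b : G)⁻¹ * (y : G)⁻¹) := by
          rw [Subgroup.coe_mul]; exact e
        rw [e']
        rcases h b b.2 x x.2 with h1 | h1 <;> rcases h b b.2 y y.2 with h2 | h2
        · rw [h1, h2, one_mul, if_pos rfl, one_mul]
        · rw [h1, h2, one_mul, if_pos rfl, one_mul]
        · rw [h1, h2, mul_one, if_pos rfl, mul_one]
        · rw [h1, h2, hz, if_pos rfl, if_neg hz1]
          norm_num }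
  have hχ0 : ∀ (b : B) (x : X), χ0 b x = if (b : G) * x * (b : G)⁻¹ * (x : G)⁻¹ = 1 then 1 else -1 :=
    fun _ _ => rfl
  let χ : (B ⧸ (centralizer (X : Set G)).subgroupOf B) → X →* ℚ := fun c => χ0 c.out
  have hinj : Function.Injective χ := by
    intro c c' hcc
    have h1 : ∀ x : X, ((c.out : B) : G) * x * ((c.out : B) : G)⁻¹ = ((c'.out : B) : G) * x * ((c'.out : B) : G)⁻¹ := by
      intro x
      have h2 : χ0 c.out x = χ0 c'.out x := by
        have := congrArg (fun f : X →* ℚ => f x) hcc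
        exact this
      rw [hχ0, hχ0] at h2
      have h3 : ((c.out : B) : G) * x * ((c.out : B) : G)⁻¹ * (x : G)⁻¹ =
          ((c'.out : B) : G) * x * ((c'.out : B) : G)⁻¹ * (x : G)⁻¹ := by
        rcases h _ (c.out : B).2 x x.2 with h4 | h4 <;> rcases h _ (c'.out : B).2 x x.2 with h5 | h5
        · rw [h4, h5]
        · rw [if_pos h4, h5, if_neg hz1] at h2
          norm_num at h2
        · rw [if_pos h5, h4, if_neg hz1] at h2
          norm_num at h2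
        · rw [h4, h5]
      exact mul_right_cancel h3
    rw [← Quotient.out_eq' c, ← Quotient.out_eq' c']
    change (((c.out : B) : B ⧸ (centralizer (X : Set G)).subgroupOf B)) = ((c'.out : B) : B ⧸ _)
    rw [QuotientGroup.eq, mem_subgroupOf, mem_centralizer_iff]
    intro x hx
    have h2 := h1 ⟨x, hx⟩
    simp only [Subgroup.coe_mul, Subgroup.coe_inv] at h2 ⊢
    have h3 : ((c'.out : B) : G) * x = ((c.out : B) : G) * x * ((c.out : B) : G)⁻¹ * ((c'.out : B) : G) := by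
      rw [h2, inv_mul_cancel_right]
    rw [mul_assoc, h3]
    group
  have h1 := NO3b.Dual.card_homs_le ((centralizer (B : Set G)).subgroupOf X) χ hinj (by
    intro c x hx
    change χ0 c.out x = 1
    rw [hχ0, if_pos]
    have h2 := mem_centralizer_iff.1 (mem_subgroupOf.1 hx) _ (c.out : B).2
    rw [h2, mul_inv_cancel_right, mul_inv_cancel])
  exact h1

/-- index at most 2 -/
theorem relIndex_le_two {H S : Subgroup G} (h : ∀ s ∈ S, ∀ t ∈ S, s ∉ H → t ∉ H → s * t ∈ H) :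
    H.relIndex S ≤ 2 := by
  by_cases h0 : S ≤ H
  · rw [relIndex_eq_one.2 h0]; norm_num
  obtain ⟨a, ha, haH⟩ := SetLike.not_le_iff_exists.1 h0
  have h1 : (H.subgroupOf S).index = 2 := by
    rw [index_eq_two_iff]
    refine ⟨⟨a, ha⟩, fun b => ?_⟩
    rw [mem_subgroupOf, mem_subgroupOf, Subgroup.coe_mul]
    by_cases hb : (b : G) ∈ H
    · right
      exact ⟨hb, fun h2 => haH ((H.mul_mem_cancel_left hb).1 h2)⟩
    · left
      exact ⟨h b b.2 a ha hb haH, hb⟩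
  exact le_of_eq h1

/-- the elements of `L ⊔ Q`, `Q ≤ N(L)` -/
theorem mem_sup_norm {L Q : Subgroup G} (hQ : Q ≤ normalizer (L : Set G)) {x : G} (hx : x ∈ L ⊔ Q) :
    ∃ l ∈ L, ∃ q ∈ Q, x = l * q := by
  let K : Subgroup G :=
    { carrier := {x | ∃ l ∈ L, ∃ q ∈ Q, x = l * q}
      one_mem' := ⟨1, one_mem _, 1, one_mem _, (one_mul 1).symm⟩
      mul_mem' := by
        rintro _ _ ⟨l, hl, q, hq, rfl⟩ ⟨l', hl', q', hq', rfl⟩
        refine ⟨l * (q * l' * q⁻¹), mul_mem hl (conj_mem' hQ hq hl'), q * q', mul_mem hq hq', by group⟩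
      inv_mem' := by
        rintro _ ⟨l, hl, q, hq, rfl⟩
        refine ⟨q⁻¹ * l⁻¹ * q⁻¹⁻¹, conj_mem' hQ (inv_mem hq) (inv_mem hl), q⁻¹, inv_mem hq, by group⟩ }
  have h1 : L ⊔ Q ≤ K := sup_le (fun l hl => ⟨l, hl, 1, one_mem _, (mul_one l).symm⟩)
    fun q hq => ⟨1, one_mem _, q, hq, (one_mul q).symm⟩
  exact h1 hx

end basic

namespace Cfg4

variable {G : Type u} [Group G] [Finite G] {S : Sylow 2 G} {P P2 R V3 : Subgroup G} {z : G}
  (h : Cfg4 S P P2 R V3 z)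
include h

/-! ### `Y = Ω₁ Z(J(L))` -/

theorem V_le_L : zl (S : Subgroup G) P ≤ o2 P := by
  rw [← h.soc]; exact zc_le _

theorem V_le_Y : zl (S : Subgroup G) P ≤ zj (o2 P) := by
  have h1 := zc_le_zj (o2 P)
  rwa [h.soc] at h1

theorem Y_le_L : zj (o2 P) ≤ o2 P := fun _ hy => jj_le _ (mem_zj.1 hy).1

theorem Y_sq : ∀ y ∈ zj (o2 P), y ^ 2 = 1 := fun _ hy => (mem_zj.1 hy).2.1

theorem Y_comm : zj (o2 P) ≤ centralizer (zj (o2 P) : Set G) := by
  intro x hx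
  rw [mem_centralizer_iff]
  intro y hy
  exact (mem_zj.1 hx).2.2 y (mem_zj.1 hy).1

theorem S_L : (S : Subgroup G) ≤ normalizer (o2 P : Set G) := h.hyp.star.isLoc.le.trans (le_normalizer_o2 P)

theorem P_Y : P ≤ normalizer (zj (o2 P) : Set G) := by
  intro p hp
  rw [mem_normalizer_iff_cj, ← zj_cj, cj_of_le (le_normalizer_o2 P) hp]

theorem S_Y : (S : Subgroup G) ≤ normalizer (zj (o2 P) : Set G) := h.hyp.star.isLoc.le.trans h.P_Y

/-- `V (A ∩ L) ∈ A(S)` -/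
theorem exists_AA_L {A : Subgroup G} (hA : A ∈ AA (S : Subgroup G)) (hAL : ¬ A ≤ o2 P) :
    ∃ A' ∈ AA (S : Subgroup G), A' ≤ o2 P ∧ A ⊓ o2 P ≤ A' := by
  obtain ⟨r1, r2, -⟩ := h.root hA hAL
  have hAe := hA.1
  have hVA : A ⊓ o2 P ≤ centralizer (zl (S : Subgroup G) P : Set G) := fun a ha =>
    (h.mem_L_iff (hA.2.1 ha.1)).1 ha.2
  have hcom : ∀ a ∈ zl (S : Subgroup G) P, ∀ b ∈ A ⊓ o2 P, a * b = b * a := fun a ha b hb =>
    mem_centralizer_iff.1 (hVA hb) a ha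
  have hVe : IsElementaryAbelian 2 (zl (S : Subgroup G) P) :=
    ⟨⟨⟨fun a b => Subtype.ext (mem_centralizer_iff.1 (h.mod.comm b.2) a a.2)⟩⟩, h.mod.sq⟩
  have hBe : IsElementaryAbelian 2 (A ⊓ o2 P) :=
    ⟨⟨⟨fun a b => Subtype.ext (elem_comm hAe a a.2.1 b b.2.1)⟩⟩, fun a ha => elem_sq hAe a ha.1⟩
  have hE := Cfsg.Agent.PLocal.ElemAbSup.isElementaryAbelian_sup hVe hBe hVA
  have hle : zl (S : Subgroup G) P ⊔ A ⊓ o2 P ≤ o2 P := sup_le h.V_le_L inf_le_right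
  refine ⟨zl (S : Subgroup G) P ⊔ A ⊓ o2 P, ⟨hE, hle.trans h.L_le, fun B hB hBS => ?_⟩, hle, le_sup_right⟩
  refine (hA.2.2 B hB hBS).trans ?_
  have h1 := card_sup_comm hcom
  have h2 : zl (S : Subgroup G) P ⊓ (A ⊓ o2 P) = R := by
    rw [← r1]
    apply le_antisymm
    · intro x hx
      exact ⟨hx.1, mem_centralizer_iff.2 fun a ha => elem_comm hAe a ha x hx.2.1⟩
    · intro x hx
      have h3 : x ∈ A := mem_AA_of_comm hA (h.V_le_S hx.1) (h.mod.sq x hx.1) fun a ha =>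
        mem_centralizer_iff.1 hx.2 a ha
      exact ⟨hx.1, h3, h.V_le_L hx.1⟩
  rw [h2, h.mod.cardR, h.mod.card] at h1
  have h3 : A ⊓ centralizer (zl (S : Subgroup G) P : Set G) = A ⊓ o2 P := by
    apply le_antisymm
    · exact fun a ha => ⟨ha.1, (h.mem_L_iff (hA.2.1 ha.1)).2 ha.2⟩
    · exact fun a ha => ⟨ha.1, (h.mem_L_iff (hA.2.1 ha.1)).1 ha.2⟩
  have h4 := relIndex_mul_card A (centralizer (zl (S : Subgroup G) P : Set G))
  rw [r2, h3] at h4
  omega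

theorem mm_L : mm (o2 P) = mm (S : Subgroup G) := by
  refine le_antisymm (mm_mono h.L_le) ?_
  obtain ⟨A, hA, hAL⟩ := h.exists_AA_not_L
  obtain ⟨A', hA', hL, -⟩ := h.exists_AA_L hA hAL
  rw [mm_eq hA']
  exact card_le_mm hA'.1 hL

theorem AA_L_iff {A : Subgroup G} : A ∈ AA (o2 P) ↔ A ∈ AA (S : Subgroup G) ∧ A ≤ o2 P := by
  rw [mem_AA_iff, mem_AA_iff, h.mm_L]
  exact ⟨fun h1 => ⟨⟨h1.1, h1.2.1.trans h.L_le, h1.2.2⟩, h1.2.1⟩, fun h1 => ⟨h1.1.1, h1.2, h1.1.2.2⟩⟩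

theorem inf_L_le {A : Subgroup G} (hA : A ∈ AA (S : Subgroup G)) : A ⊓ o2 P ≤ jj (o2 P) := by
  by_cases hAL : A ≤ o2 P
  · exact inf_le_left.trans (le_jj (h.AA_L_iff.2 ⟨hA, hAL⟩))
  · obtain ⟨A', hA', hL, hle⟩ := h.exists_AA_L hA hAL
    exact hle.trans (le_jj (h.AA_L_iff.2 ⟨hA', hL⟩))

theorem jj_L_cent : jj (o2 P) ≤ centralizer (zj (o2 P) : Set G) := by
  intro x hx
  rw [mem_centralizer_iff]
  intro y hy
  exact ((mem_zj.1 hy).2.2 x hx).symm

/-- `Y = V C_Y(A)` for `A ∈ A(S)`, `A ≰ L` -/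
theorem Y_eq {A : Subgroup G} (hA : A ∈ AA (S : Subgroup G)) (hAL : ¬ A ≤ o2 P) {y : G} (hy : y ∈ zj (o2 P)) :
    ∃ v ∈ zl (S : Subgroup G) P, ∃ c ∈ zj (o2 P) ⊓ centralizer (A : Set G), y = v * c := by
  obtain ⟨r1, r2, -⟩ := h.root hA hAL
  set C := zj (o2 P) ⊓ centralizer (A : Set G) with hC
  have hcom : ∀ a ∈ zl (S : Subgroup G) P, ∀ b ∈ C, a * b = b * a := fun a ha b hb =>
    mem_centralizer_iff.1 (h.Y_comm hb.1) a (h.V_le_Y ha)
  have h1 := card_sup_comm hcom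
  have h2 : zl (S : Subgroup G) P ⊓ C = R := by
    rw [← r1, hC, ← inf_assoc, inf_eq_left.2 h.V_le_Y]
  rw [h2, h.mod.cardR, h.mod.card] at h1
  have h3 := AA_le hA (h.Y_le_L.trans h.L_le) h.Y_sq h.Y_comm
  have h4 : (centralizer (zj (o2 P) : Set G)).relIndex A ≤ 4 := by
    have h5 : A ⊓ o2 P ≤ centralizer (zj (o2 P) : Set G) := (h.inf_L_le hA).trans h.jj_L_cent
    have h6 : (centralizer (zj (o2 P) : Set G)).relIndex A ≤ (A ⊓ o2 P).relIndex A :=
      Nat.le_of_dvd (Nat.pos_of_ne_zero (FiniteIndex.index_ne_zero (H := (A ⊓ o2 P).subgroupOf A)))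
        (relIndex_dvd_of_le_left A h5)
    have h7 : A ⊓ o2 P = A ⊓ centralizer (zl (S : Subgroup G) P : Set G) := by
      apply le_antisymm
      · exact fun a ha => ⟨ha.1, (h.mem_L_iff (hA.2.1 ha.1)).1 ha.2⟩
      · exact fun a ha => ⟨ha.1, (h.mem_L_iff (hA.2.1 ha.1)).2 ha.2⟩
    rw [h7, inf_relIndex_left, r2] at h6
    exact h6
  have h8 := relIndex_mul_card (zj (o2 P)) (centralizer (A : Set G))
  have h9 : Nat.card (zj (o2 P)) ≤ 4 * Nat.card C := by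
    rw [← h8]
    exact Nat.mul_le_mul_right _ (h3.trans h4)
  have h10 : zl (S : Subgroup G) P ⊔ C = zj (o2 P) :=
    eq_of_le_of_card_ge (sup_le h.V_le_Y inf_le_left) (by omega)
  rw [← h10] at hy
  exact mem_sup_comm hcom hy

/-- `[Y, J(S)] ≤ R` -/
theorem comm_YJ {g y : G} (hg : g ∈ jj (S : Subgroup G)) (hy : y ∈ zj (o2 P)) : g * y * g⁻¹ * y⁻¹ ∈ R := by
  have key : jj (S : Subgroup G) ≤ kmod (S : Subgroup G) (zj (o2 P)) R h.S_Y h.mod.S_R := by
    rw [jj_eq]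
    refine sSup_le fun A hA => ?_
    intro a ha
    refine ⟨hA.2.1 ha, fun y hy => ?_⟩
    by_cases hAL : A ≤ o2 P
    · have h1 : a ∈ jj (o2 P) := le_jj (h.AA_L_iff.2 ⟨hA, hAL⟩) ha
      rw [(mem_zj.1 hy).2.2 a h1, mul_inv_cancel_right, mul_inv_cancel]
      exact one_mem _
    · obtain ⟨v, hv, c, hc, rfl⟩ := h.Y_eq hA hAL hy
      have h1 := mem_centralizer_iff.1 hc.2 a ha
      have h2 := h.mod.centR a (hA.2.1 ha) (h.AA_R hA ha) v hv
      have e : a * (v * c) * a⁻¹ * (v * c)⁻¹ = a * v * (c * a * a⁻¹ * c⁻¹) * a⁻¹ * v⁻¹ := by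
        have e1 : c * a * a⁻¹ * c⁻¹ = 1 := by group
        rw [e1]
        have e2 : a * (v * c) * a⁻¹ * (v * c)⁻¹ = a * v * (c * a⁻¹ * c⁻¹) * v⁻¹ := by group
        have e3 : c * a⁻¹ * c⁻¹ = a⁻¹ := by
          have h3 : c * a⁻¹ = a⁻¹ * c := by
            rw [eq_inv_mul_iff_mul_eq, ← mul_assoc, h1, mul_inv_cancel_right]
          rw [h3, mul_inv_cancel_right]
        rw [e2, e3, mul_one]
      rw [e]
      have e1 : a * v * (c * a * a⁻¹ * c⁻¹) * a⁻¹ * v⁻¹ = a * v * a⁻¹ * v⁻¹ := by group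
      rw [e1]
      exact h2
  exact (key hg).2 y hy

/-- `J(Q) ≤ L`, `J(L) ≤ Q` ⟹ `J(Q) = J(L)` -/
theorem jj_eq_of {D : Subgroup G} (h1 : jj D ≤ o2 P) (h2 : jj (o2 P) ≤ D) : jj D = jj (o2 P) := by
  have e1 : jj (D ⊓ o2 P) = jj D := jj_eq_of_jj_le (le_inf (jj_le _) h1) inf_le_left
  have e2 : jj (D ⊓ o2 P) = jj (o2 P) := jj_eq_of_jj_le (le_inf h2 (jj_le _)) inf_le_right
  exact e1.symm.trans e2

theorem mm_Q (hJ : jj (o2 P) ≤ o2 P2) : mm (o2 P2) = mm (S : Subgroup G) := by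
  refine le_antisymm (mm_mono h.Q_le) ?_
  obtain ⟨A, hA⟩ := AA_nonempty (o2 P)
  have h1 := h.AA_L_iff.1 hA
  rw [mm_eq h1.1]
  exact card_le_mm hA.1 ((le_jj hA).trans hJ)

theorem AA_Q_iff (hJ : jj (o2 P) ≤ o2 P2) {A : Subgroup G} :
    A ∈ AA (o2 P2) ↔ A ∈ AA (S : Subgroup G) ∧ A ≤ o2 P2 := by
  rw [mem_AA_iff, mem_AA_iff, h.mm_Q hJ]
  exact ⟨fun h1 => ⟨⟨h1.1, h1.2.1.trans h.Q_le, h1.2.2⟩, h1.2.1⟩, fun h1 => ⟨h1.1.1, h1.2, h1.1.2.2⟩⟩

/-- `J(Q) = J(L)`: `Y` is normal in `P₂` -/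
theorem P2_Y (h1 : jj (o2 P2) = jj (o2 P)) : P2 ≤ normalizer (zj (o2 P) : Set G) := by
  intro p hp
  rw [mem_normalizer_iff_cj, ← zj_congr h1, ← zj_cj, cj_of_le (le_normalizer_o2 P2) hp]

theorem U_le_Y (h1 : jj (o2 P2) = jj (o2 P)) : cl (zl (S : Subgroup G) P) P2 ≤ zj (o2 P) := cl_le fun p hp => by
  have h2 := cj_mono p h.V_le_Y
  rwa [cj_of_le (h.P2_Y h1) hp] at h2

theorem kmod_UX_norm : P2 ≤ normalizer (kmod P2 (cl (zl (S : Subgroup G) P) P2) (cl R P2) h.U_norm h.X_norm : Set G) :=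
  norm_kmod h.U_norm h.X_norm

/-- `J(Q) = J(L)` ⟹ `[U, E] ≤ X` -/
theorem UE_of_jj (h1 : jj (o2 P2) = jj (o2 P)) :
    oddGen P2 ≤ kmod P2 (cl (zl (S : Subgroup G) P) P2) (cl R P2) h.U_norm h.X_norm := by
  rcases h.min_or (kmod_le (h1 := h.U_norm) (h2 := h.X_norm)) h.kmod_UX_norm with h2 | h2
  · exact h2
  · exfalso
    apply h.not_jj_Q
    refine le_trans (fun g hg => ?_) h2
    refine ⟨jj_le _ hg, h.S_le (jj_le _ hg), fun u hu => ?_⟩
    exact h.R_le_X (h.comm_YJ hg (h.U_le_Y h1 hu))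

/-! ### The case `V₃ ≤ X` -/

/-- `[V, S] ≤ V₃` -/
theorem comm_VS {s v : G} (hs : s ∈ (S : Subgroup G)) (hv : v ∈ zl (S : Subgroup G) P) :
    s * v * s⁻¹ * v⁻¹ ∈ V3 := by
  have hidx : (V3.subgroupOf (zl (S : Subgroup G) P)).index = 2 := by
    have h1 := relIndex_mul_card (zl (S : Subgroup G) P) V3
    rw [inf_eq_right.2 h.mod.V3_le, h.mod.cardV3, h.mod.card] at h1
    change V3.relIndex (zl (S : Subgroup G) P) = 2
    omega
  have hsv : s * v * s⁻¹ ∈ zl (S : Subgroup G) P := conj_mem' h.mod.S_V hs hv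
  have h2 := Subgroup.mul_mem_iff_of_index_two hidx (a := ⟨s * v * s⁻¹, hsv⟩) (b := ⟨v⁻¹, inv_mem hv⟩)
  rw [mem_subgroupOf, mem_subgroupOf, mem_subgroupOf] at h2
  refine h2.2 ?_
  change s * v * s⁻¹ ∈ V3 ↔ v⁻¹ ∈ V3
  rw [inv_mem_iff]
  constructor
  · intro h3
    have h4 := conj_mem' h.mod.S_V3 (inv_mem hs) h3
    have e : s⁻¹ * (s * v * s⁻¹) * s⁻¹⁻¹ = v := by group
    rwa [e] at h4
  · exact fun h3 => conj_mem' h.mod.S_V3 hs h3

/-- `[V₃, S] ≤ R` -/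
theorem comm_V3S {s v : G} (hs : s ∈ (S : Subgroup G)) (hv : v ∈ V3) : s * v * s⁻¹ * v⁻¹ ∈ R := by
  have hidx : (R.subgroupOf V3).index = 2 := by
    have h1 := relIndex_mul_card V3 R
    rw [inf_eq_right.2 h.mod.R_le, h.mod.cardV3, h.mod.cardR] at h1
    change R.relIndex V3 = 2
    omega
  have hsv : s * v * s⁻¹ ∈ V3 := conj_mem' h.mod.S_V3 hs hv
  have h2 := Subgroup.mul_mem_iff_of_index_two hidx (a := ⟨s * v * s⁻¹, hsv⟩) (b := ⟨v⁻¹, inv_mem hv⟩)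
  rw [mem_subgroupOf, mem_subgroupOf, mem_subgroupOf] at h2
  refine h2.2 ?_
  change s * v * s⁻¹ ∈ R ↔ v⁻¹ ∈ R
  rw [inv_mem_iff]
  constructor
  · intro h3
    have h4 := conj_mem' h.mod.S_R (inv_mem hs) h3
    have e : s⁻¹ * (s * v * s⁻¹) * s⁻¹⁻¹ = v := by group
    rwa [e] at h4
  · exact fun h3 => conj_mem' h.mod.S_R hs h3

theorem exists_f : ∃ f ∈ V3, f ∉ R := by
  by_contra hcon
  push Not at hcon
  have h1 := Subgroup.card_le_of_le (show V3 ≤ R from hcon)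
  rw [h.mod.cardV3, h.mod.cardR] at h1
  omega

/-- `V₃ = R ∪ f R` -/
theorem V3_cases {f v : G} (hf : f ∈ V3) (hfR : f ∉ R) (hv : v ∈ V3) : v ∈ R ∨ ∃ r ∈ R, v = f * r := by
  by_cases hvR : v ∈ R
  · exact Or.inl hvR
  right
  have hidx : (R.subgroupOf V3).index = 2 := by
    have h1 := relIndex_mul_card V3 R
    rw [inf_eq_right.2 h.mod.R_le, h.mod.cardV3, h.mod.cardR] at h1
    change R.relIndex V3 = 2
    omega
  have h2 := Subgroup.mul_mem_iff_of_index_two hidx (a := ⟨f⁻¹, inv_mem hf⟩) (b := ⟨v, hv⟩)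
  rw [mem_subgroupOf, mem_subgroupOf, mem_subgroupOf] at h2
  have h3 : f⁻¹ * v ∈ R := h2.2 (by
    change f⁻¹ ∈ R ↔ v ∈ R
    rw [inv_mem_iff]
    exact ⟨fun h4 => absurd h4 hfR, fun h4 => absurd h4 hvR⟩)
  exact ⟨_, h3, by group⟩

section three

variable (hX : V3 ≤ cl R P2)
include hX

theorem not_V_X : ¬ zl (S : Subgroup G) P ≤ cl R P2 := by
  intro h0
  apply h.not_Q_V
  intro q hq
  exact h.mod.small q (h.Q_le hq) fun v hv => h.comm_XQ hq (h0 hv)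

theorem cent_V_of_X {q : G} (hq : q ∈ (S : Subgroup G)) (hqX : q ∈ centralizer (cl R P2 : Set G)) :
    q ∈ centralizer (zl (S : Subgroup G) P : Set G) := h.mod.faith q hq (centralizer_le hX hqX)

/-- `C_Q(X) = C_Q(U)` -/
theorem cent_U_of_X {q : G} (hq : q ∈ o2 P2) (hqX : q ∈ centralizer (cl R P2 : Set G)) :
    q ∈ centralizer (cl (zl (S : Subgroup G) P) P2 : Set G) := by
  have h1 : o2 P2 ⊓ centralizer (cl R P2 : Set G) ≤ centralizer (zl (S : Subgroup G) P : Set G) :=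
    fun x hx => h.cent_V_of_X hX (h.Q_le hx.1) hx.2
  have h2 : P2 ≤ normalizer ((o2 P2 ⊓ centralizer (cl R P2 : Set G) : Subgroup G) : Set G) :=
    normalizer_inf (le_normalizer_o2 P2) (normalizer_centralizer h.X_norm)
  have h3 : cl (zl (S : Subgroup G) P) P2 ≤ centralizer ((o2 P2 ⊓ centralizer (cl R P2 : Set G) : Subgroup G) : Set G) :=
    cl_le fun p hp => by
      have h4 := cj_cent (g := p) (cent_symm h1)
      rwa [cj_of_le h2 hp] at h4
  exact cent_symm h3 ⟨hq, hqX⟩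

/-- `[U, Q] ≤ X` -/
theorem comm_UQ {q u : G} (hq : q ∈ o2 P2) (hu : u ∈ cl (zl (S : Subgroup G) P) P2) :
    q * u * q⁻¹ * u⁻¹ ∈ cl R P2 := by
  have hU : cl (zl (S : Subgroup G) P) P2 ≤ normalizer (cl R P2 : Set G) := (h.U_le_S.trans h.S_le).trans h.X_norm
  have h1 : cl (zl (S : Subgroup G) P) P2 ≤ cmod (cl (zl (S : Subgroup G) P) P2) (o2 P2) (cl R P2) hU := by
    refine cl_le fun p hp => ?_
    have h2 : zl (S : Subgroup G) P ≤ cmod (cl (zl (S : Subgroup G) P) P2) (o2 P2) (cl R P2) hU := fun v hv =>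
      ⟨h.V_le_U hv, fun q hq => hX (h.comm_VS (h.Q_le hq) hv)⟩
    have h3 := cj_mono p h2
    rwa [cj_of_le (norm_cmod h.U_norm (le_normalizer_o2 P2) h.X_norm) hp] at h3
  exact (h1 hu).2 q hq

/-- (i) `[U, E] ≤ X` ⟹ `X = V₃` -/
theorem X_eq_of (hE : oddGen P2 ≤ kmod P2 (cl (zl (S : Subgroup G) P) P2) (cl R P2) h.U_norm h.X_norm) :
    cl R P2 = V3 := by
  -- `U = V X`
  have hVX : P2 ≤ normalizer ((zl (S : Subgroup G) P ⊔ cl R P2 : Subgroup G) : Set G) := by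
    refine h.sup_S.ge.trans (sup_le ?_ (normalizer_sup h.mod.S_V (h.S_le.trans h.X_norm)))
    refine le_normalizer_of_forall fun e he w hw => ?_
    have hwU : w ∈ cl (zl (S : Subgroup G) P) P2 := (sup_le h.V_le_U h.X_le_U) hw
    have h1 := (hE he).2 w hwU
    have h2 := mul_mem (mem_sup_right (S := zl (S : Subgroup G) P) h1) hw
    rwa [inv_mul_cancel_right] at h2
  have hU : cl (zl (S : Subgroup G) P) P2 ≤ zl (S : Subgroup G) P ⊔ cl R P2 := cl_le fun p hp => by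
    have h1 := cj_mono p (le_sup_left (a := zl (S : Subgroup G) P) (b := cl R P2))
    rwa [cj_of_le hVX hp] at h1
  -- `[U, Q] ≤ V₃`
  have hW : ⁅o2 P2, cl (zl (S : Subgroup G) P) P2⁆ ≤ V3 := by
    rw [commutator_le]
    intro q hq u hu
    obtain ⟨v, hv, x, hx, rfl⟩ := mem_sup_comm (fun a ha b hb =>
      mem_centralizer_iff.1 (h.U_comm (h.X_le_U hb)) a (h.V_le_U ha)) (hU hu)
    have h1 := h.comm_VS (h.Q_le hq) hv
    have h2 := h.zpowers_le_R.trans h.mod.R_le (h.comm_XQ hq hx)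
    have h3 : v * (q * x * q⁻¹ * x⁻¹) * v⁻¹ = q * x * q⁻¹ * x⁻¹ := by
      have h4 : q * x * q⁻¹ * x⁻¹ ∈ cl (zl (S : Subgroup G) P) P2 :=
        h.X_le_U (h.R_le_X (h.zpowers_le_R (h.comm_XQ hq hx)))
      rw [mul_inv_eq_iff_eq_mul]
      exact (mem_centralizer_iff.1 (h.U_comm h4) v (h.V_le_U hv))
    have e : ⁅q, v * x⁆ = (q * v * q⁻¹ * v⁻¹) * (v * (q * x * q⁻¹ * x⁻¹) * v⁻¹) := by
      rw [commutatorElement_def]; group
    rw [e, h3]
    exact mul_mem h1 h2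
  set W := ⁅o2 P2, cl (zl (S : Subgroup G) P) P2⁆ with hWdef
  have hWn : P2 ≤ normalizer (W : Set G) := normalizer_commutator (le_normalizer_o2 P2) h.U_norm
  have hWm : ∀ q ∈ o2 P2, ∀ v ∈ zl (S : Subgroup G) P, q * v * q⁻¹ * v⁻¹ ∈ W := fun q hq v hv => by
    have := commutator_mem_commutator hq (h.V_le_U hv)
    rwa [commutatorElement_def] at this
  have hz : ¬ W ≤ zpowers z := by
    intro h0
    apply h.not_Q_V
    intro q hq
    exact h.mod.small q (h.Q_le hq) fun v hv => h0 (hWm q hq v hv)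
  have hW3 : W = V3 := by
    rcases h.mod.uni W (hW.trans h.mod.V3_le) (h.S_le.trans hWn) with h1 | h1 | h1 | h1 | h1
    · exact absurd (h1.le.trans bot_le) hz
    · exact absurd h1.le hz
    · rw [h1] at hWn
      exact absurd hWn h.mv
    · exact h1
    · have h2 := Subgroup.card_le_of_le hW
      rw [h1, h.mod.card, h.mod.cardV3] at h2
      omega
  rw [hW3] at hWn
  apply le_antisymm _ hX
  exact cl_le fun p hp => by
    have h1 := cj_mono p h.mod.R_le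
    rwa [cj_of_le hWn hp] at h1

omit hX in
/-- `P₂` normalises `V₃` ⟹ `|S : Q| = 2` -/
theorem index_of_V3 (hn : P2 ≤ normalizer (V3 : Set G)) : (o2 P2).relIndex (S : Subgroup G) = 2 := by
  have h1 : oddGen P2 ≤ kmod P2 V3 (zpowers z) hn h.P2_zpowers ∨
      (S : Subgroup G) ⊓ kmod P2 V3 (zpowers z) hn h.P2_zpowers ≤ o2 P2 :=
    h.min_or kmod_le (norm_kmod hn h.P2_zpowers)
  have h2 : (S : Subgroup G) ⊓ kmod P2 V3 (zpowers z) hn h.P2_zpowers ≤ o2 P2 := by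
    refine h1.resolve_left fun h0 => h.E_R ?_
    refine le_normalizer_of_forall fun e he r hr => ?_
    have h3 := (h0 he).2 r (h.mod.R_le hr)
    have h4 := mul_mem (h.zpowers_le_R h3) hr
    rwa [inv_mul_cancel_right] at h4
  obtain ⟨f, hf, hfR⟩ := h.exists_f
  have hmem : ∀ s ∈ (S : Subgroup G), s * f * s⁻¹ * f⁻¹ ∈ zpowers z → s ∈ o2 P2 := by
    intro s hs hsf
    refine h2 ⟨hs, h.S_le hs, fun v hv => ?_⟩
    rcases h.V3_cases hf hfR hv with hv | ⟨r, hr, rfl⟩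
    · exact h.comm_RS hs hv
    · have h3 := h.comm_RS hs hr
      have e : s * (f * r) * s⁻¹ * (f * r)⁻¹ = (s * f * s⁻¹ * f⁻¹) * (f * (s * r * s⁻¹ * r⁻¹) * f⁻¹) := by group
      have e2 : f * (s * r * s⁻¹ * r⁻¹) * f⁻¹ = s * r * s⁻¹ * r⁻¹ :=
        h.z_comm_zpowers (h.S_le (h.V_le_S (h.mod.V3_le hf))) h3
      rw [e, e2]
      exact mul_mem hsf h3
  have h3 : (o2 P2).relIndex (S : Subgroup G) ≤ 2 := by
    refine relIndex_le_two fun s hs t ht hsQ htQ => hmem _ (mul_mem hs ht) ?_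
    have hs1 : s * f * s⁻¹ * f⁻¹ ∉ zpowers z := fun h0 => hsQ (hmem s hs h0)
    have ht1 : t * f * t⁻¹ * f⁻¹ ∉ zpowers z := fun h0 => htQ (hmem t ht h0)
    have hsR := h.comm_V3S hs hf
    have htR := h.comm_V3S ht hf
    have e : s * t * f * (s * t)⁻¹ * f⁻¹ = (s * (t * f * t⁻¹ * f⁻¹) * s⁻¹ * (t * f * t⁻¹ * f⁻¹)⁻¹) *
        ((t * f * t⁻¹ * f⁻¹) * (s * f * s⁻¹ * f⁻¹)) := by group
    rw [e]
    refine mul_mem (h.comm_RS hs htR) ?_
    rw [h.mem_zpowers_iff'] at hs1 ht1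
    push Not at hs1 ht1
    have hsq : ∀ v ∈ R, v ^ 2 = 1 := fun v hv => h.mod.sq v (h.R_le_V hv)
    have h5 := h.mod.sq _ (h.R_le_V htR)
    rw [pow_two] at h5
    rcases eq_of_card_four h.mod.cardR hsq h.z_mem_R h.mod.z_ne htR ht1.1 (Ne.symm ht1.2) hsR hs1.1 with e | e | e
    · exact absurd e hs1.2
    · rw [e, h5]; exact one_mem _
    · rw [e]
      have h6 : (t * f * t⁻¹ * f⁻¹) * z = z * (t * f * t⁻¹ * f⁻¹) :=
        h.z_comm (h.S_le (h.V_le_S (h.R_le_V htR)))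
      rw [← mul_assoc, h6, mul_assoc, h5, mul_one]
      exact mem_zpowers z
  have h4 : (o2 P2).relIndex (S : Subgroup G) ≠ 1 := fun h0 => h.not_S_le (relIndex_eq_one.1 h0)
  have h5 : (o2 P2).relIndex (S : Subgroup G) ≠ 0 := FiniteIndex.index_ne_zero (H := (o2 P2).subgroupOf S)
  omega

/-- `J(L) ≤ Q` ⟹ `[U, E] ≤ X` -/
theorem UE_of_le (hJ : jj (o2 P) ≤ o2 P2) :
    oddGen P2 ≤ kmod P2 (cl (zl (S : Subgroup G) P) P2) (cl R P2) h.U_norm h.X_norm := by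
  refine h.UE_of_jj (h.jj_eq_of ?_ hJ)
  rw [jj_eq]
  refine sSup_le fun A hA => ?_
  obtain ⟨h1, h2⟩ := (h.AA_Q_iff hJ).1 hA
  intro a ha
  exact (h.mem_L_iff (h1.2.1 ha)).2 (h.cent_V_of_X hX (h1.2.1 ha) (h.AA_cent h1 h2 ha))

/-- the members of `A(S)` are exact offenders on `U / X` -/
theorem soff {A : Subgroup G} (hA : A ∈ AA (S : Subgroup G)) (hAQ : ¬ A ≤ o2 P2) :
    SOff P2 (cl R P2) (cl (zl (S : Subgroup G) P) P2) A where
  sq a ha := by rw [elem_sq hA.1 a ha]; exact one_mem _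
  comm a ha b hb := by rw [elem_comm hA.1 a ha b hb, mul_inv_cancel_right, mul_inv_cancel]; exact one_mem _
  ne := hAQ
  ex := by
    set U := cl (zl (S : Subgroup G) P) P2 with hU
    set X := cl R P2 with hXd
    set C := centralizer (A : Set G) with hC
    have hAP : A ≤ P2 := hA.2.1.trans h.S_le
    refine ⟨X ⊔ U ⊓ C, sup_le h.X_le_U inf_le_left, ?_, ?_⟩
    · rw [commutator_le]
      intro d hd a ha
      have hcom : ∀ a ∈ X, ∀ b ∈ U ⊓ C, a * b = b * a := fun a ha b hb =>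
        mem_centralizer_iff.1 (h.U_comm hb.1) a (h.X_le_U ha)
      obtain ⟨x, hx, u, hu, rfl⟩ := mem_sup_comm hcom hd
      have h1 := mem_centralizer_iff.1 hu.2 a ha
      have e : ⁅x * u, a⁆ = x * (u * a * u⁻¹ * a⁻¹) * (a * x⁻¹ * a⁻¹) := by
        rw [commutatorElement_def]; group
      have e2 : u * a * u⁻¹ * a⁻¹ = 1 := by rw [← h1, mul_inv_cancel_right, mul_inv_cancel]
      rw [e, e2, mul_one]
      exact mul_mem hx (conj_mem' h.X_norm (hAP ha) (inv_mem hx))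
    · -- the count
      have h1 : C.relIndex U ≤ (centralizer (U : Set G)).relIndex A := AA_le hA h.U_le_S h.U_sq h.U_comm
      have h2 : (centralizer (U : Set G)).relIndex A =
          (centralizer (U : Set G)).relIndex (A ⊓ o2 P2) * (o2 P2).relIndex A := by
        have h3 : A ⊓ centralizer (U : Set G) ≤ A ⊓ o2 P2 := fun a ha =>
          ⟨ha.1, h.inf_cent_U ⟨hA.2.1 ha.1, ha.2⟩⟩
        have h4 := relIndex_mul_relIndex (A ⊓ centralizer (U : Set G)) (A ⊓ o2 P2) A h3 inf_le_left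
        rw [inf_relIndex_left, inf_relIndex_left] at h4
        rw [← h4]
        congr 1
        have h5 : (A ⊓ centralizer (U : Set G)) ⊓ (A ⊓ o2 P2) = (centralizer (U : Set G)) ⊓ (A ⊓ o2 P2) := by
          apply le_antisymm
          · exact fun a ha => ⟨ha.1.2, ha.2⟩
          · exact fun a ha => ⟨⟨ha.2.1, ha.1⟩, ha.2⟩
        rw [← inf_relIndex_right, ← inf_relIndex_right (centralizer (U : Set G)), h5]
      have h3 : (centralizer (U : Set G)).relIndex (A ⊓ o2 P2) = (centralizer (X : Set G)).relIndex (A ⊓ o2 P2) := by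
        rw [← inf_relIndex_right, ← inf_relIndex_right (centralizer (X : Set G))]
        congr 1
        apply le_antisymm
        · exact inf_le_inf_right _ (centralizer_le h.X_le_U)
        · exact fun a ha => ⟨h.cent_U_of_X hX ha.2.2 ha.1, ha.2⟩
      have h4 : (centralizer (X : Set G)).relIndex (A ⊓ o2 P2) ≤
          (centralizer ((A ⊓ o2 P2 : Subgroup G) : Set G)).relIndex X := by
        refine pair_le h.z_sq (fun x hx => h.z_comm (h.S_le (h.X_le_S hx))) fun b hb x hx => ?_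
        exact h.mem_zpowers_iff'.1 (h.comm_XQ hb.2 hx)
      have h5 : (centralizer ((A ⊓ o2 P2 : Subgroup G) : Set G)).relIndex X ≤ C.relIndex X :=
        Nat.le_of_dvd (Nat.pos_of_ne_zero (FiniteIndex.index_ne_zero (H := C.subgroupOf X)))
          (relIndex_dvd_of_le_left X (centralizer_le inf_le_left))
      have h6 : (U ⊓ C).relIndex (X ⊔ U ⊓ C) * (X ⊔ U ⊓ C).relIndex U = C.relIndex U := by
        rw [relIndex_mul_relIndex _ _ _ le_sup_right (sup_le h.X_le_U inf_le_left), inf_relIndex_left]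
      have h7 : C.relIndex X ≤ (U ⊓ C).relIndex (X ⊔ U ⊓ C) := by
        have h8 : (U ⊓ C).relIndex X = C.relIndex X := by
          rw [← inf_relIndex_right, ← inf_relIndex_right C]
          congr 1
          apply le_antisymm
          · exact fun a ha => ⟨ha.1.2, ha.2⟩
          · exact fun a ha => ⟨⟨h.X_le_U ha.2, ha.1⟩, ha.2⟩
        rw [← h8]
        exact relIndex_le_of_le_right le_sup_left
          (FiniteIndex.index_ne_zero (H := (U ⊓ C).subgroupOf (X ⊔ U ⊓ C)))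
      have hpos : 0 < C.relIndex X := Nat.pos_of_ne_zero (FiniteIndex.index_ne_zero (H := C.subgroupOf X))
      have h8 : C.relIndex X * (X ⊔ U ⊓ C).relIndex U ≤ C.relIndex X * (o2 P2).relIndex A := by
        calc C.relIndex X * (X ⊔ U ⊓ C).relIndex U ≤ (U ⊓ C).relIndex (X ⊔ U ⊓ C) * (X ⊔ U ⊓ C).relIndex U :=
              Nat.mul_le_mul_right _ h7
          _ = C.relIndex U := h6
          _ ≤ (centralizer (U : Set G)).relIndex (A ⊓ o2 P2) * (o2 P2).relIndex A := by rw [← h2]; exact h1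
          _ ≤ C.relIndex X * (o2 P2).relIndex A := Nat.mul_le_mul_right _ (by rw [h3]; exact h4.trans h5)
      exact Nat.le_of_mul_le_mul_left h8 hpos

/-- (ii)(a) -/
theorem UE (hA : FFBr.AStmt.{u}) :
    oddGen P2 ≤ kmod P2 (cl (zl (S : Subgroup G) P) P2) (cl R P2) h.U_norm h.X_norm := by
  by_cases hJ : jj (o2 P) ≤ o2 P2
  · exact h.UE_of_le hX hJ
  by_contra hE
  have hE' : ¬ ⁅cl (zl (S : Subgroup G) P) P2, oddGen P2⁆ ≤ cl R P2 := by
    intro h0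
    apply hE
    intro e he
    refine ⟨oddGen_le P2 he, fun u hu => ?_⟩
    have h1 := inv_mem (h0 (commutator_mem_commutator hu he))
    rwa [commutatorElement_inv, commutatorElement_def] at h1
  obtain ⟨A₁, hA₁, hA₁Q⟩ : ∃ A ∈ AA (o2 P), ¬ A ≤ o2 P2 := by
    by_contra hcon
    push Not at hcon
    apply hJ
    rw [jj_eq]
    exact sSup_le hcon
  have hA₁' := h.AA_L_iff.1 hA₁
  have key : ∀ A ∈ AA (S : Subgroup G), A ≤ o2 P ⊔ o2 P2 := by
    intro A hAA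
    by_cases hAQ : A ≤ o2 P2
    · exact hAQ.trans le_sup_right
    exact sec_le hA h.syl h.par.toIsMinPar h.X_le_U h.U_le_P2 h.U_sq h.U_comm h.X_norm h.U_norm hE'
      hA₁'.2 h.L_le h.S_L hAA.2.1 (h.soff hX hA₁'.1 hA₁Q) (h.soff hX hAA hAQ)
  obtain ⟨A, hAA, hAL⟩ := h.exists_AA_not_L
  obtain ⟨-, r2, -⟩ := h.root hAA hAL
  obtain ⟨f, hf, hfR⟩ := h.exists_f
  have hval : ∀ a ∈ A, a * f * a⁻¹ * f⁻¹ ∈ zpowers z := by
    intro a ha
    obtain ⟨l, hl, q, hq, rfl⟩ := mem_sup_norm (h.Q_le.trans h.S_L) (key A hAA ha)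
    have h1 : q * f * q⁻¹ ∈ zl (S : Subgroup G) P := conj_mem' h.mod.S_V (h.Q_le hq) (h.mod.V3_le hf)
    have h2 := mem_centralizer_iff.1 ((h.mem_L_iff (h.L_le hl)).1 hl) _ h1
    have e : l * q * f * (l * q)⁻¹ * f⁻¹ = l * (q * f * q⁻¹) * l⁻¹ * f⁻¹ := by group
    rw [e, ← h2, mul_inv_cancel_right]
    exact h.comm_XQ hq (hX hf)
  have hc : ∀ a ∈ A, a * f * a⁻¹ * f⁻¹ = 1 → a ∈ centralizer (zl (S : Subgroup G) P : Set G) := by
    intro a ha h0
    refine h.mod.faith a (hAA.2.1 ha) ?_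
    rw [mem_centralizer_iff]
    intro v hv
    rw [mul_inv_eq_one, mul_inv_eq_iff_eq_mul] at h0
    rcases h.V3_cases hf hfR hv with hv | ⟨r, hr, rfl⟩
    · exact mem_centralizer_iff.1 (h.AA_R hAA ha) v hv
    · have h1 := mem_centralizer_iff.1 (h.AA_R hAA ha) r hr
      rw [mul_assoc, h1, ← mul_assoc, ← h0, mul_assoc]
  have h1 : (centralizer (zl (S : Subgroup G) P : Set G)).relIndex A ≤ 2 := by
    refine relIndex_le_two fun s hs t ht hsV htV => hc _ (mul_mem hs ht) ?_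
    have h2 : s * f * s⁻¹ * f⁻¹ = z := ((h.mem_zpowers_iff'.1 (hval s hs)).resolve_left fun h0 => hsV (hc s hs h0))
    have h3 : t * f * t⁻¹ * f⁻¹ = z := ((h.mem_zpowers_iff'.1 (hval t ht)).resolve_left fun h0 => htV (hc t ht h0))
    have e : s * t * f * (s * t)⁻¹ * f⁻¹ = (s * (t * f * t⁻¹ * f⁻¹) * s⁻¹) * (s * f * s⁻¹ * f⁻¹) := by group
    rw [e, h2, h3, h.z_comm (h.S_le (hAA.2.1 hs)), mul_inv_cancel_right, h.z_sq]
  omega

/-- **`V₃ ≤ X` ⟹ `X = V₃`** -/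
theorem X_eq (hA : FFBr.AStmt.{u}) : cl R P2 = V3 := h.X_eq_of hX (h.UE hX hA)

/-- **`V₃ ≤ X` ⟹ `|S : Q| = 2`** -/
theorem two (hA : FFBr.AStmt.{u}) : (o2 P2).relIndex (S : Subgroup G) = 2 := by
  refine h.index_of_V3 ?_
  rw [← h.X_eq hX hA]
  exact h.X_norm

end three

end Cfg4

end Cfsg.Agent.Omega.NO3S.Fld
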