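import Cfsg.Agent.Omega.NO3S.Fld.LineOf

/-!
# Fld: the facts from `J(S) ≰ O₂(P)`

`M : Crd F S P V`, `V = V_P`, `R = M.R`, `B = S ∩ C(R)`, `J(S) ≰ O₂(P)`, `|F| ≥ 4`; `|Z|` arbitrary.

* `AA_le_centR` : every `A ∈ A(S)` centralises `R`;
* `BR S P B R` : the output (the analogue of `OneLine.Blk` over `B`): `C_V(b) = R` for `b ∈ B - O₂(P)`, `[V, B] ≤ R`,
  `|V : R| = |B : O₂(P)|`; `br_of`;
* `BR.replace`, `BR.zc_o2` : `Ω₁(Z(O₂(P))) = V`; `BR.zj_eq` : `Ω₁(Z(J(S))) = R`.
-/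

set_option autoImplicit false
set_option linter.unusedSectionVars false
set_option linter.unusedVariables false

namespace Cfsg.Agent.Omega.NO3S.Fld

open Subgroup Cfsg Cfsg.Agent.ZN Cfsg.Agent.ZN.ChoiceBase Cfsg.Agent.Omega.MinPar
open Cfsg.Agent.ZN.ChoiceSit (Syl o2_le_syl)
open Cfsg.Agent.Omega.SQ1.Bau (mem_AA_of_comm zj_le_AA elem_comm elem_sq mem_sup_comm card_sup_comm mem_sup_norm)
open Cfsg.Agent.PLocal.ElemAbSup Cfsg.Agent.PLocal.ThompsonJ
open Cfsg.Agent.MinSimple.VModule (zc_le zc_le_zl zl_le le_o2 le_normalizer_zl le_normalizer_o2)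
open Cfsg.Agent.Omega.NatPair (ext2)
open Cfsg.Agent.Omega.NO3S.OneLine (conj_mem card_mul_relIndex minH exists_fixed zc_elem o2_le card_sup_norm)

universe u

variable {G : Type u} [Group G]

theorem elem_of {A : Subgroup G} (hA : IsElementaryAbelian 2 A) : Red.El A :=
  ⟨elem_sq hA, fun a ha b hb => elem_comm hA a ha b hb⟩

namespace Crd

variable {F : Type*} [Field F] {S P V : Subgroup G} (M : Crd F S P V)

/-- `|C_V(s)| ≤ q` for `s ∈ S` inducing an involution on `F` -/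
theorem card_fix_le [Finite G] [Finite F] [CharP F 2] {s : G} {σ : F ≃+* F} {c : F} (h : M.Act s σ c)
    (h1 : σ ≠ RingEquiv.refl F) (h2 : ∀ x, σ (σ x) = x) :
    Nat.card ↥(V ⊓ centralizer ({s} : Set G)) ≤ Nat.card F := by
  have hq := card_fixed h1 h2
  set r := Nat.card {x : F // σ x = x} with hr
  have h3 := card_sup_comm (A := V ⊓ centralizer ({s} : Set G)) (B := M.R)
    fun a ha b hb => M.comm ha.1 (M.R_le hb)
  have h4 : (V ⊓ centralizer ({s} : Set G)) ⊓ M.R = M.R ⊓ centralizer ({s} : Set G) := by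
    apply le_antisymm
    · rintro x ⟨⟨-, hx⟩, hx'⟩
      exact ⟨hx', hx⟩
    · rintro x ⟨hx, hx'⟩
      exact ⟨⟨M.R_le hx, hx'⟩, hx⟩
  have h5 : (V ⊓ centralizer ({s} : Set G)) ⊔ M.R ≤ M.fixV h := by
    refine sup_le ?_ ?_
    · rintro v ⟨hv, hvs⟩
      rw [M.mem_fixV]
      refine ⟨hv, ?_⟩
      have h6 : s * v = v * s := (mem_centralizer_singleton_iff.1 hvs).symm
      have e : s * v * s⁻¹ * v⁻¹ = 1 := by rw [h6]; group
      rw [e]
      exact one_mem _
    · rintro _ ⟨a, rfl⟩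
      exact ⟨![a, 0], by simp, rfl⟩
  have h6 := Subgroup.card_le_of_le h5
  rw [M.card_fixV h, ← hr] at h6
  rw [h4, M.card_fixR h, ← hr, M.card_R] at h3
  have hF0 : 0 < Nat.card F := Nat.card_pos
  have h7 : Nat.card F * Nat.card ↥(V ⊓ centralizer ({s} : Set G)) ≤ Nat.card F * Nat.card F := by
    calc Nat.card F * Nat.card ↥(V ⊓ centralizer ({s} : Set G))
        = Nat.card ↥(V ⊓ centralizer ({s} : Set G)) * Nat.card F := mul_comm _ _
      _ = Nat.card ↥((V ⊓ centralizer ({s} : Set G)) ⊔ M.R) * r := h3.symm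
      _ ≤ Nat.card F * r * r := Nat.mul_le_mul_right _ h6
      _ = Nat.card F * Nat.card F := by rw [mul_assoc, hq]
  exact Nat.le_of_mul_le_mul_left h7 hF0

end Crd

section

variable [Finite G] {S : Sylow 2 G} {P : Subgroup G} {F : Type*} [Field F] [Finite F] [CharP F 2]

/-- **Every `A ∈ A(S)` centralises `R`.** -/
theorem AA_le_centR (hG : IsCharacteristicTwoType G) (hP : IsParS (S : Subgroup G) P)
    (M : Crd F (S : Subgroup G) P (zl (S : Subgroup G) P)) {A : Subgroup G} (hA : A ∈ AA (S : Subgroup G)) :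
    A ≤ centralizer (M.R : Set G) := by
  by_contra hn
  have hE := elem_of hA.1
  have hsq := fun a ha => (Crd.El.sqR hE (M.R : Subgroup G)) a ha
  obtain ⟨φ, h1, h2, h3⟩ := M.exists_phi hA.2.1 hsq hn
  obtain ⟨a, ha, haR⟩ := SetLike.not_le_iff_exists.1 hn
  obtain ⟨c, hc⟩ := h3 a ha haR
  have hq := card_fixed h1 h2
  set r := Nat.card {x : F // φ x = x} with hr
  have hr2 : 2 ≤ r := by
    have h4 : Nat.card (Fin 2) ≤ r := by
      refine Nat.card_le_card_of_injective (fun i : Fin 2 => (if i = 0 then ⟨0, map_zero φ⟩ else ⟨1, map_one φ⟩ :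
        {x : F // φ x = x})) ?_
      intro i j hij
      fin_cases i <;> fin_cases j
      · rfl
      · exact absurd (congrArg Subtype.val hij) (by simp)
      · exact absurd (congrArg Subtype.val hij) (by simp)
      · rfl
    simpa using h4
  have hoff := SQ1.VOf.off (minH hG hP) hA
  have hD2 := M.relIndex_two hA.2.1 hsq hn
  set D := A ⊓ centralizer (M.R : Set G) with hD
  have hcD : Nat.card D * 2 = Nat.card A := by
    have h4 := card_mul_relIndex (inf_le_left : D ≤ A)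
    have h5 : D.relIndex A = 2 := by rw [hD, inf_relIndex_left, hD2]
    rwa [h5] at h4
  have hVR : centralizer (zl (S : Subgroup G) P : Set G) ≤ centralizer (M.R : Set G) := centralizer_le M.R_le
  have hp : 0 < Nat.card ↥(A ⊓ centralizer (zl (S : Subgroup G) P : Set G)) := Nat.card_pos
  have hVc := M.card_V
  by_cases hDV : D ≤ centralizer (zl (S : Subgroup G) P : Set G)
  · have h4 : A ⊓ centralizer (zl (S : Subgroup G) P : Set G) = D :=
      le_antisymm (le_inf inf_le_left (inf_le_right.trans hVR)) (le_inf inf_le_left hDV)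
    have h5 : Nat.card ↥(zl (S : Subgroup G) P ⊓ centralizer (A : Set G)) ≤ Nat.card F :=
      (Subgroup.card_le_of_le (inf_le_inf_left _ (centralizer_le (Set.singleton_subset_iff.2 ha)))).trans
        (M.card_fix_le hc h1 h2)
    rw [h4, hVc, ← hcD] at hoff
    rw [h4] at hp
    have h6 : Nat.card D * (Nat.card F * Nat.card F) ≤ Nat.card D * (2 * Nat.card F) := by
      calc Nat.card D * (Nat.card F * Nat.card F) = Nat.card F * Nat.card F * Nat.card D := mul_comm _ _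
        _ ≤ _ := hoff
        _ ≤ Nat.card F * (Nat.card D * 2) := Nat.mul_le_mul_right _ h5
        _ = _ := by ring
    have h7 := Nat.le_of_mul_le_mul_left h6 hp
    have h8 : Nat.card F ≤ 2 := Nat.le_of_mul_le_mul_right h7 Nat.card_pos
    rw [← hq] at h8
    have : 2 * 2 ≤ r * r := Nat.mul_le_mul hr2 hr2
    omega
  · have hDB : D ≤ M.B := le_inf (inf_le_left.trans hA.2.1) inf_le_right
    have h4 := M.relIndex_sq_le hDB hc h1 h2 fun d hd => by
      have h5 : a * d = d * a := elem_comm hA.1 a ha d hd.1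
      have e : a * d * a⁻¹ * d⁻¹ = 1 := by rw [h5]; group
      rw [e]
      exact one_mem _
    rw [← hq] at h4
    have h5 := Nat.mul_self_le_mul_self_iff.1 h4
    have h6 : Nat.card ↥(zl (S : Subgroup G) P ⊓ centralizer (A : Set G)) ≤ r := by
      obtain ⟨d, hd, hdV⟩ := SetLike.not_le_iff_exists.1 hDV
      have h7 : zl (S : Subgroup G) P ⊓ centralizer (A : Set G) ≤ M.R ⊓ centralizer ({a} : Set G) := by
        rintro v ⟨hv, hvA⟩
        refine ⟨M.fix (hDB hd).1 (hDB hd).2 hdV hv (mem_centralizer_iff.1 hvA d hd.1),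
          mem_centralizer_singleton_iff.2 (mem_centralizer_iff.1 hvA a ha).symm⟩
      have h8 := Subgroup.card_le_of_le h7
      rwa [M.card_fixR hc, ← hr] at h8
    have h7 : Nat.card D ≤ Nat.card ↥(A ⊓ centralizer (zl (S : Subgroup G) P : Set G)) * r := by
      have h8 := card_mul_relIndex (inf_le_left : D ⊓ centralizer (zl (S : Subgroup G) P : Set G) ≤ D)
      rw [inf_relIndex_left] at h8
      rw [← h8]
      refine Nat.mul_le_mul (Subgroup.card_le_of_le ?_) h5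
      exact le_inf (inf_le_left.trans inf_le_left) inf_le_right
    rw [hVc] at hoff
    set C := Nat.card ↥(A ⊓ centralizer (zl (S : Subgroup G) P : Set G)) with hC
    have h8 : C * (Nat.card F * Nat.card F) ≤ C * (2 * Nat.card F) := by
      calc C * (Nat.card F * Nat.card F) = Nat.card F * Nat.card F * C := mul_comm _ _
        _ ≤ _ := hoff
        _ ≤ r * Nat.card A := Nat.mul_le_mul_right _ h6
        _ ≤ r * (C * r * 2) := Nat.mul_le_mul_left _ (by rw [← hcD]; exact Nat.mul_le_mul_right _ h7)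
        _ = C * (2 * (r * r)) := by ring
        _ = _ := by rw [hq]
    have h9 := Nat.le_of_mul_le_mul_left h8 hp
    have h10 : Nat.card F ≤ 2 := Nat.le_of_mul_le_mul_right h9 Nat.card_pos
    rw [← hq] at h10
    have : 2 * 2 ≤ r * r := Nat.mul_le_mul hr2 hr2
    omega

theorem jj_le_centR (hG : IsCharacteristicTwoType G) (hP : IsParS (S : Subgroup G) P)
    (M : Crd F (S : Subgroup G) P (zl (S : Subgroup G) P)) : jj (S : Subgroup G) ≤ centralizer (M.R : Set G) := by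
  rw [jj_eq]
  exact sSup_le fun A hA => AA_le_centR hG hP M hA

end

/-! ### The abstract part over `B` -/

/-- `V_P` has the shape of a natural module over `B`. -/
structure BR (S P B R : Subgroup G) : Prop where
  star : IsParS S P
  BS : B ≤ S
  QB : o2 P ≤ B
  RV : R ≤ zl S P
  RS : S ≤ normalizer (R : Set G)
  AB : ∀ A ∈ AA S, A ≤ B
  cB : ∀ b ∈ B, ∀ r ∈ R, b * r = r * b
  fix : ∀ a ∈ B, a ∉ o2 P → ∀ v ∈ zl S P, a * v = v * a → v ∈ R
  comm : ∀ a ∈ B, ∀ v ∈ zl S P, a * v * a⁻¹ * v⁻¹ ∈ R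
  card : Nat.card (zl S P) = Nat.card R * (o2 P).relIndex B

section blk

variable [Finite G] {S : Sylow 2 G} {P B R : Subgroup G}

theorem br_of {F : Type*} [Field F] [Finite F] [CharP F 2] (hG : IsCharacteristicTwoType G)
    (hP : IsParS (S : Subgroup G) P) (M : Crd F (S : Subgroup G) P (zl (S : Subgroup G) P)) :
    BR (S : Subgroup G) P M.B M.R where
  star := hP
  BS := inf_le_left
  QB := by
    rw [← IsParS.inf_centralizer S hG hP]
    exact inf_le_inf_left _ (centralizer_le M.R_le)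
  RV := M.R_le
  RS := M.S_R
  AB A hA := le_inf hA.2.1 (AA_le_centR hG hP M hA)
  cB b hb r hr := (mem_centralizer_iff.1 hb.2 r hr).symm
  fix a ha haQ v hv hav := by
    refine M.fix ha.1 ha.2 (fun h => haQ ?_) hv hav
    rw [← IsParS.inf_centralizer S hG hP]
    exact ⟨ha.1, h⟩
  comm a ha v hv := M.comm_R ha.1 ha.2 hv
  card := by
    have h1 : (o2 P).relIndex M.B = Nat.card F := by
      rw [← M.relIndex_B, ← inf_relIndex_right (centralizer (zl (S : Subgroup G) P : Set G)),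
        ← inf_relIndex_right (o2 P)]
      congr 1
      rw [← IsParS.inf_centralizer S hG hP]
      apply le_antisymm
      · exact le_inf (inf_le_left.trans inf_le_right) inf_le_right
      · exact le_inf (le_inf (inf_le_right.trans inf_le_left) inf_le_left) inf_le_right
    rw [h1, M.card_V, M.card_R]

namespace BR

variable (hG : IsCharacteristicTwoType G) (h : BR (S : Subgroup G) P B R)
include hG h

theorem zl_le_zc : zl (S : Subgroup G) P ≤ zc (o2 P) := h.star.isLoc.zl_le S hG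

theorem zl_le_o2 : zl (S : Subgroup G) P ≤ o2 P := (zl_le_zc hG h).trans (zc_le _)

theorem zl_elem : IsElementaryAbelian 2 (zl (S : Subgroup G) P) :=
  isElementaryAbelian_mono (zc_elem (o2 P)) (zl_le_zc hG h)

theorem comm_o2 : ∀ a ∈ o2 P, ∀ v ∈ zl (S : Subgroup G) P, a * v = v * a := fun a ha v hv =>
  (mem_zc.1 (zl_le_zc hG h hv)).2.2 a ha

/-- `R ≤ A` -/
theorem R_le_AA {A : Subgroup G} (hA : A ∈ AA (S : Subgroup G)) : R ≤ A := fun r hr =>
  mem_AA_of_comm hA (h.BS (h.QB (zl_le_o2 hG h (h.RV hr)))) (elem_sq (zl_elem hG h) r (h.RV hr))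
    fun a ha => h.cB a (h.AB A hA ha) r hr

omit [Finite G] hG in
theorem exists_not_R (hne : ¬ P ≤ normalizer (R : Set G)) : ∃ v ∈ zl (S : Subgroup G) P, v ∉ R := by
  by_contra hc
  push Not at hc
  have h1 : zl (S : Subgroup G) P = R := le_antisymm hc h.RV
  exact hne (h1 ▸ le_normalizer_zl _ _)

/-- `A ∩ V = R` for `A ∈ A(S)`, `A ≰ O₂(P)`. -/
theorem inf_eq {A : Subgroup G} (hA : A ∈ AA (S : Subgroup G)) (hAQ : ¬ A ≤ o2 P) :
    A ⊓ zl (S : Subgroup G) P = R := by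
  apply le_antisymm
  · rintro v ⟨hvA, hvV⟩
    obtain ⟨a, ha, haQ⟩ := SetLike.not_le_iff_exists.1 hAQ
    exact h.fix a (h.AB A hA ha) haQ v hvV (elem_comm hA.1 a ha v hvA)
  · exact le_inf (R_le_AA hG h hA) h.RV

omit hG in
/-- `|A| ≤ |A ∩ Q| |B : Q|` -/
theorem card_le {A : Subgroup G} (hA : A ∈ AA (S : Subgroup G)) :
    Nat.card A ≤ Nat.card ↥(A ⊓ o2 P) * (o2 P).relIndex B := by
  have h1 := card_mul_relIndex (inf_le_left : A ⊓ o2 P ≤ A)
  rw [inf_relIndex_left] at h1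
  rw [← h1]
  refine Nat.mul_le_mul_left _ (relIndex_le_of_le_right (h.AB A hA) ?_)
  rw [relIndex]
  exact Subgroup.index_ne_zero_of_finite

/-- `(A ∩ Q) V` for an elementary abelian `A ≤ S` with `A ∩ V = R`. -/
theorem card_sup {A : Subgroup G} (hinf : A ⊓ zl (S : Subgroup G) P = R) :
    Nat.card ↥((A ⊓ o2 P) ⊔ zl (S : Subgroup G) P) = Nat.card ↥(A ⊓ o2 P) * (o2 P).relIndex B := by
  have h2 := card_sup_comm (A := A ⊓ o2 P) (B := zl (S : Subgroup G) P)
    fun a ha v hv => comm_o2 hG h a ha.2 v hv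
  have h3 : (A ⊓ o2 P) ⊓ zl (S : Subgroup G) P = R := by
    rw [inf_assoc, inf_eq_right.2 (zl_le_o2 hG h), hinf]
  rw [h3, h.card] at h2
  have hp : 0 < Nat.card R := Nat.card_pos
  have e : Nat.card ↥((A ⊓ o2 P) ⊔ zl (S : Subgroup G) P) * Nat.card R =
      Nat.card ↥(A ⊓ o2 P) * (o2 P).relIndex B * Nat.card R := by
    rw [h2]; ring
  exact Nat.eq_of_mul_eq_mul_right hp e

theorem sup_elem {A : Subgroup G} (hA : IsElementaryAbelian 2 A) :
    IsElementaryAbelian 2 ((A ⊓ o2 P) ⊔ zl (S : Subgroup G) P : Subgroup G) :=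
  isElementaryAbelian_sup (isElementaryAbelian_mono hA inf_le_left) (zl_elem hG h)
    fun v hv => mem_centralizer_iff.2 fun a ha => comm_o2 hG h a ha.2 v hv

theorem sup_le_o2 (A : Subgroup G) : (A ⊓ o2 P) ⊔ zl (S : Subgroup G) P ≤ o2 P :=
  sup_le inf_le_right (zl_le_o2 hG h)

/-- **Replacement**: `(A ∩ Q) V ∈ A(S)`. -/
theorem replace {A : Subgroup G} (hA : A ∈ AA (S : Subgroup G)) (hAQ : ¬ A ≤ o2 P) :
    (A ⊓ o2 P) ⊔ zl (S : Subgroup G) P ∈ AA (S : Subgroup G) := by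
  rw [mem_AA_iff]
  refine ⟨sup_elem hG h hA.1, (sup_le_o2 hG h A).trans (h.QB.trans h.BS), ?_⟩
  rw [card_sup hG h (inf_eq hG h hA hAQ), mm_eq hA]
  exact card_le h hA

/-- `|A| = |A ∩ Q| |B : Q|` -/
theorem card_eq {A : Subgroup G} (hA : A ∈ AA (S : Subgroup G)) (hAQ : ¬ A ≤ o2 P) :
    Nat.card A = Nat.card ↥(A ⊓ o2 P) * (o2 P).relIndex B := by
  rw [← card_sup hG h (inf_eq hG h hA hAQ), ← mm_eq hA, mm_eq (replace hG h hA hAQ)]

omit hG in
theorem B_norm : B ≤ normalizer (o2 P : Set G) :=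
  (h.BS.trans h.star.le).trans (MinSimple.VModule.le_normalizer_o2 P)

/-- `B = A Q` -/
theorem sup_eq {A : Subgroup G} (hA : A ∈ AA (S : Subgroup G)) (hAQ : ¬ A ≤ o2 P) : A ⊔ o2 P = B := by
  have hle := sup_le (h.AB A hA) h.QB
  refine Subgroup.eq_of_le_of_card_ge hle ?_
  have h1 := card_sup_norm (H := A) (N := o2 P) ((h.AB A hA).trans h.B_norm)
  have h2 := card_eq hG h hA hAQ
  have h3 := card_mul_relIndex h.QB
  rw [h2] at h1
  have hp : 0 < Nat.card ↥(A ⊓ o2 P) := Nat.card_pos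
  have e : Nat.card ↥(A ⊔ o2 P) * Nat.card ↥(A ⊓ o2 P) = Nat.card B * Nat.card ↥(A ⊓ o2 P) := by
    rw [h1, ← h3]; ring
  exact (Nat.eq_of_mul_eq_mul_right hp e).ge

/-- (T6) `Ω₁(Z(Q)) = V`, if `Ω₁(Z(B)) ≤ V`. -/
theorem zc_o2 (hB : ∀ y ∈ B, y ^ 2 = 1 → (∀ b ∈ B, b * y = y * b) → y ∈ R) {A : Subgroup G}
    (hA : A ∈ AA (S : Subgroup G)) (hAQ : ¬ A ≤ o2 P) : zc (o2 P) = zl (S : Subgroup G) P := by
  symm
  refine Subgroup.eq_of_le_of_card_ge (zl_le_zc hG h) ?_
  have hQB := h.QB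
  have hc : ∀ a ∈ A ⊓ o2 P, ∀ y ∈ zc (o2 P), a * y = y * a := fun a ha y hy => (mem_zc.1 hy).2.2 a ha.2
  -- `A ∩ Y ≤ R`
  have h1 : (A ⊓ o2 P) ⊓ zc (o2 P) ≤ R := by
    rintro y ⟨⟨hyA, hyQ⟩, hyY⟩
    refine hB y (hQB hyQ) (mem_zc.1 hyY).2.1 fun s hs => ?_
    rw [← sup_eq hG h hA hAQ] at hs
    obtain ⟨a, ha, x, hx, rfl⟩ := mem_sup_norm ((h.AB A hA).trans h.B_norm) hs
    have e1 := elem_comm hA.1 a ha y hyA
    have e2 := (mem_zc.1 hyY).2.2 x hx
    calc a * x * y = a * (x * y) := mul_assoc _ _ _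
      _ = (a * y) * x := by rw [e2, mul_assoc]
      _ = y * (a * x) := by rw [e1, mul_assoc]
  have h2 : IsElementaryAbelian 2 ((A ⊓ o2 P) ⊔ zc (o2 P) : Subgroup G) :=
    isElementaryAbelian_sup (isElementaryAbelian_mono hA.1 inf_le_left) (zc_elem _)
      fun y hy => mem_centralizer_iff.2 fun a ha => hc a ha y hy
  have hQS := h.QB.trans h.BS
  have h3 := hA.2.2 _ h2 (sup_le (inf_le_right.trans hQS) ((zc_le _).trans hQS))
  have h4 := card_sup_comm hc
  have h5 : Nat.card ↥((A ⊓ o2 P) ⊓ zc (o2 P)) ≤ Nat.card R := Subgroup.card_le_of_le h1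
  rw [card_eq hG h hA hAQ] at h3
  rw [h.card]
  have hp : 0 < Nat.card ↥(A ⊓ o2 P) := Nat.card_pos
  have e : Nat.card ↥(A ⊓ o2 P) * Nat.card (zc (o2 P)) ≤
      Nat.card ↥(A ⊓ o2 P) * (Nat.card R * (o2 P).relIndex B) := by
    rw [← h4]
    calc _ ≤ Nat.card ↥(A ⊓ o2 P) * (o2 P).relIndex B * Nat.card R := Nat.mul_le_mul h3 h5
      _ = _ := by ring
  exact Nat.le_of_mul_le_mul_left e hp

end BR

/-- Some `A ∈ A(S)` is not contained in `O₂(P)`. -/
theorem exists_AA' (hJ : ¬ jj (S : Subgroup G) ≤ o2 P) : ∃ A ∈ AA (S : Subgroup G), ¬ A ≤ o2 P := by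
  by_contra hc
  push Not at hc
  apply hJ
  rw [jj_eq]
  exact sSup_le hc

end blk

end Cfsg.Agent.Omega.NO3S.Fld
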