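import Cfsg.Agent.Omega.NO3S.Fld.LFourBase
import Cfsg.Agent.Omega.NO3S.Fld.FourTwo

/-!
# Fld, `q = 4`, at a level: sections (2) and (3) (helper240 #15515, helper705 #15839, helper781 #16560)

`𝒳 = Ω₁(Z(K))`, `hR : Ω₁(Z(nxt S K)) = R` (the level `j = i`), `Y = C_𝒳(⟨A ∈ BO | A ≤ L⟩)`.

* `Lv4.inf_o2`, `fix_eq` : `A ∩ L ∈ BO`, `C_𝒳(A ∩ L) = V C_𝒳(A)` for `A ≰ L`;
* `comm_YJ` : `[Y, nxt S K] ≤ R`;
* `X_eq_of`, `index_of_V3` (no offenders);
* `Lv4.two` : `V₃ ≤ X` ⟹ `|S : Q| = 2`.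
-/

set_option autoImplicit false
set_option linter.unusedSectionVars false

namespace Cfsg.Agent.Omega.NO3S.Fld

open Subgroup Cfsg Cfsg.Agent.ZN Cfsg.Agent.ZN.ChoiceBase Cfsg.Agent.Omega.MinPar Cfsg.Agent.Omega.FrameNOFF
open Cfsg.Agent.ZN.ChoiceSit (Syl syl_iff syl_not_dvd o2_le_syl isPGroup_o2)
open Cfsg.Agent.MinSimple.MinParabolic (IsMinPar)
open Cfsg.Agent.MinSimple.VModule (oddGen oddGen_le mem_oddGen le_normalizer_oddGen le_normalizer_o2 o2_le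
  zc_le zc_le_zl le_normalizer_zl zc_sq zc_comm le_centralizer_zc)
open Cfsg.Agent.Omega.NO3b.EZero (cl cj_le_cl le_cl cl_le cj_cl le_normalizer_cl cent_symm cj_cent cj_norm
  sq_of_comm oddGen_sup_syl mem_cj_self relIndex_cj le_normalizer_inf_cent)
open Cfsg.Agent.Omega.NO3b.K0 (conj_mem' cj_of_le cj_self)
open Cfsg.Agent.Omega.NO3S.NotFF (le_normalizer_of_forall normalizer_inf normalizer_sup normalizer_centralizer
  normalizer_commutator)
open Cfsg.Agent.Omega.SQ1.Bau (elem_comm elem_sq card_sup_comm mem_sup_comm)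
open Cfsg.Agent.Omega.NO1.BestOff (Best)
open Cfsg.Agent.Omega.NO3S.Level (Lev BO nxt)
open scoped commutatorElement

universe u

section defs

variable {G : Type u} [Group G]

/-- the subgroup generated by the best offenders in `L` -/
def jL (S L K : Subgroup G) : Subgroup G := sSup {A | A ∈ BO S K ∧ A ≤ L}

/-- `Y = C_𝒳(⟨A ∈ BO | A ≤ L⟩)` -/
def yL (S L K : Subgroup G) : Subgroup G := zc K ⊓ centralizer (jL S L K : Set G)

theorem le_jL {S L K A : Subgroup G} (hA : A ∈ BO S K) (hAL : A ≤ L) : A ≤ jL S L K := le_sSup ⟨hA, hAL⟩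

end defs

namespace Lv4

variable {G : Type u} [Group G] [Finite G] {S : Sylow 2 G} {P P2 R V3 K : Subgroup G} {z : G}
  (h : Lv4 S P P2 R V3 K z)
include h

/-! ### `Y = C_𝒳(⟨A ∈ BO | A ≤ L⟩)` -/

theorem V_le_L : zl (S : Subgroup G) P ≤ o2 P := by
  rw [← h.soc]; exact zc_le _

theorem S_L : (S : Subgroup G) ≤ normalizer (o2 P : Set G) := h.hyp.star.isLoc.le.trans (le_normalizer_o2 P)

theorem jL_le : jL (S : Subgroup G) (o2 P) K ≤ o2 P := sSup_le fun _ hA => hA.2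

theorem P_jL : P ≤ normalizer (jL (S : Subgroup G) (o2 P) K : Set G) := by
  intro p hp
  apply mem_normalizer_of_cj_le
  show Subgroup.map _ _ ≤ _
  rw [jL, sSup_eq_iSup, Subgroup.map_iSup]
  refine iSup_le fun A => ?_
  rw [Subgroup.map_iSup]
  refine iSup_le fun hA => ?_
  obtain ⟨h1, h2⟩ := h.BO_cjP hA.1 hA.2 hp
  exact le_iSup₂_of_le (cj p A) ⟨h1, h2⟩ le_rfl

theorem P_Y : P ≤ normalizer (yL (S : Subgroup G) (o2 P) K : Set G) :=
  normalizer_inf h.P_zc (normalizer_centralizer h.P_jL)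

theorem S_Y : (S : Subgroup G) ≤ normalizer (yL (S : Subgroup G) (o2 P) K : Set G) :=
  h.hyp.star.isLoc.le.trans h.P_Y

theorem V_le_Y : zl (S : Subgroup G) P ≤ yL (S : Subgroup G) (o2 P) K :=
  le_inf h.V_le_zc (cent_symm fun _ hx => (h.mem_L_iff (h.L_le (h.jL_le hx))).1 (h.jL_le hx))

theorem Y_le_S : yL (S : Subgroup G) (o2 P) K ≤ (S : Subgroup G) := inf_le_left.trans h.zcK_le_S

theorem inf_L_eq {A : Subgroup G} (hA : A ≤ (S : Subgroup G)) :
    A ⊓ centralizer (zl (S : Subgroup G) P : Set G) = A ⊓ o2 P := by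
  apply le_antisymm
  · exact fun a ha => ⟨ha.1, (h.mem_L_iff (hA ha.1)).2 ha.2⟩
  · exact fun a ha => ⟨ha.1, (h.mem_L_iff (hA ha.1)).1 ha.2⟩

/-- the count -/
theorem count {A : Subgroup G} (hA : A ∈ BO (S : Subgroup G) K) (hAL : ¬ A ≤ o2 P) :
    Nat.card A = 4 * Nat.card ↥(A ⊓ o2 P) ∧
    Nat.card ↥(A ⊓ o2 P) * Nat.card ↥(zc K ⊓ centralizer ((A ⊓ o2 P : Subgroup G) : Set G)) =
      Nat.card A * Nat.card ↥(zc K ⊓ centralizer (A : Set G)) ∧
    zc K ⊓ centralizer ((A ⊓ o2 P : Subgroup G) : Set G) =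
      zl (S : Subgroup G) P ⊔ (zc K ⊓ centralizer (A : Set G)) := by
  obtain ⟨r1, r2, -⟩ := h.root hA hAL
  have h1 := relIndex_mul_card A (centralizer (zl (S : Subgroup G) P : Set G))
  rw [r2, h.inf_L_eq hA.1] at h1
  have hcom : ∀ a ∈ zl (S : Subgroup G) P, ∀ b ∈ zc K ⊓ centralizer (A : Set G), a * b = b * a := fun a ha b hb =>
    Lev.zc_comm (h.V_le_zc ha) hb.1
  have h2 := card_sup_comm hcom
  have h3 : zl (S : Subgroup G) P ⊓ (zc K ⊓ centralizer (A : Set G)) = R := by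
    rw [← inf_assoc, inf_eq_left.2 h.V_le_zc, r1]
  rw [h3, h.mod.cardR, h.mod.card] at h2
  have h4 : zl (S : Subgroup G) P ⊔ (zc K ⊓ centralizer (A : Set G)) ≤
      zc K ⊓ centralizer ((A ⊓ o2 P : Subgroup G) : Set G) := by
    refine sup_le (le_inf h.V_le_zc (cent_symm fun x hx => (h.mem_L_iff (hA.1 hx.1)).1 hx.2)) ?_
    exact le_inf inf_le_left (inf_le_right.trans (centralizer_le inf_le_left))
  have h5 := hA.2.max (A ⊓ o2 P) inf_le_left
    (le_inf inf_le_left ((inf_le_inf_right _ hA.1).trans h.inf_cent_zc_L))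
  have h6 := Subgroup.card_le_of_le h4
  have hp : 0 < Nat.card ↥(A ⊓ o2 P) := Nat.card_pos
  have h7 : Nat.card ↥(zc K ⊓ centralizer ((A ⊓ o2 P : Subgroup G) : Set G)) ≤
      4 * Nat.card ↥(zc K ⊓ centralizer (A : Set G)) := by
    rw [← h1] at h5
    have h8 : Nat.card ↥(A ⊓ o2 P) * Nat.card ↥(zc K ⊓ centralizer ((A ⊓ o2 P : Subgroup G) : Set G)) ≤
        Nat.card ↥(A ⊓ o2 P) * (4 * Nat.card ↥(zc K ⊓ centralizer (A : Set G))) := by
      refine h5.trans (le_of_eq ?_)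
      ring
    exact Nat.le_of_mul_le_mul_left h8 hp
  have h8 : Nat.card ↥(zl (S : Subgroup G) P ⊔ (zc K ⊓ centralizer (A : Set G))) =
      4 * Nat.card ↥(zc K ⊓ centralizer (A : Set G)) := by omega
  have h9 := (Subgroup.eq_of_le_of_card_ge h4 (by rw [h8]; exact h7)).symm
  refine ⟨h1.symm, ?_, h9⟩
  rw [h9, h8, ← h1]
  ring

/-- `C_𝒳(A ∩ L) = V C_𝒳(A)` -/
theorem fix_eq {A : Subgroup G} (hA : A ∈ BO (S : Subgroup G) K) (hAL : ¬ A ≤ o2 P) :
    zc K ⊓ centralizer ((A ⊓ o2 P : Subgroup G) : Set G) =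
      zl (S : Subgroup G) P ⊔ (zc K ⊓ centralizer (A : Set G)) := (h.count hA hAL).2.2

/-- `A ∩ L` is a best offender -/
theorem inf_o2 {A : Subgroup G} (hA : A ∈ BO (S : Subgroup G) K) (hAL : ¬ A ≤ o2 P) :
    A ⊓ o2 P ∈ BO (S : Subgroup G) K := by
  refine ⟨inf_le_left.trans hA.1, { toElemM := NO1.BestOff.ElemM.mono hA.2.toElemM inf_le_left, max := ?_ }⟩
  intro B hB hcB
  rw [(h.count hA hAL).2.1]
  refine hA.2.max B (hB.trans inf_le_left) (le_trans ?_ hcB)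
  exact le_inf (le_inf inf_le_left ((inf_le_inf_right _ hA.1).trans h.inf_cent_zc_L)) inf_le_right

theorem inf_L_le {A : Subgroup G} (hA : A ∈ BO (S : Subgroup G) K) : A ⊓ o2 P ≤ jL (S : Subgroup G) (o2 P) K := by
  by_cases hAL : A ≤ o2 P
  · exact inf_le_left.trans (le_jL hA hAL)
  · exact le_jL (h.inf_o2 hA hAL) inf_le_right

/-- `Y = V C_Y(A)` for `A ≰ L` -/
theorem Y_eq {A : Subgroup G} (hA : A ∈ BO (S : Subgroup G) K) (hAL : ¬ A ≤ o2 P) {y : G}
    (hy : y ∈ yL (S : Subgroup G) (o2 P) K) :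
    ∃ v ∈ zl (S : Subgroup G) P, ∃ c ∈ zc K ⊓ centralizer (A : Set G), y = v * c := by
  have h1 : y ∈ zc K ⊓ centralizer ((A ⊓ o2 P : Subgroup G) : Set G) :=
    ⟨hy.1, centralizer_le (h.inf_L_le hA) hy.2⟩
  rw [h.fix_eq hA hAL] at h1
  have hcom : ∀ a ∈ zl (S : Subgroup G) P, ∀ b ∈ zc K ⊓ centralizer (A : Set G), a * b = b * a := fun a ha b hb =>
    Lev.zc_comm (h.V_le_zc ha) hb.1
  exact mem_sup_comm hcom h1

/-- `[Y, nxt S K] ≤ R` -/
theorem comm_YJ {g y : G} (hg : g ∈ nxt (S : Subgroup G) K) (hy : y ∈ yL (S : Subgroup G) (o2 P) K) :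
    g * y * g⁻¹ * y⁻¹ ∈ R := by
  have key : nxt (S : Subgroup G) K ≤ kmod (S : Subgroup G) (yL (S : Subgroup G) (o2 P) K) R h.S_Y h.mod.S_R := by
    refine sup_le ?_ (sSup_le fun A hA => ?_)
    · intro a ha
      refine ⟨ha.1, fun y hy => ?_⟩
      have h1 := mem_centralizer_iff.1 ha.2 y hy.1
      rw [← h1, mul_inv_cancel_right, mul_inv_cancel]
      exact one_mem _
    · intro a ha
      refine ⟨hA.1 ha, fun y hy => ?_⟩
      by_cases hAL : A ≤ o2 P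
      · have h1 := mem_centralizer_iff.1 hy.2 a (le_jL hA hAL ha)
        rw [h1, mul_inv_cancel_right, mul_inv_cancel]
        exact one_mem _
      · obtain ⟨v, hv, c, hc, rfl⟩ := h.Y_eq hA hAL hy
        have h1 := mem_centralizer_iff.1 hc.2 a ha
        have h2 := h.mod.centR a (hA.1 ha) (h.BO_R hA ha) v hv
        have e : a * (v * c) * a⁻¹ * (v * c)⁻¹ = a * v * (c * a * a⁻¹ * c⁻¹) * a⁻¹ * v⁻¹ := by
          have e1 : c * a * a⁻¹ * c⁻¹ = 1 := by group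
          rw [e1]
          have e2 : a * (v * c) * a⁻¹ * (v * c)⁻¹ = a * v * (c * a⁻¹ * c⁻¹) * v⁻¹ := by group
          have e3 : c * a⁻¹ * c⁻¹ = a⁻¹ := by
            have h3 : c * a⁻¹ = a⁻¹ * c := by
              rw [eq_inv_mul_iff_mul_eq, ← mul_assoc, h1, mul_inv_cancel_right]
            rw [h3, mul_inv_cancel_right]
          rw [e2, e3, mul_one]
        rw [e]
        have e1 : a * v * (c * a * a⁻¹ * c⁻¹) * a⁻¹ * v⁻¹ = a * v * a⁻¹ * v⁻¹ := by group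
        rw [e1]
        exact h2
  exact (key hg).2 y hy

/-- all members in `L` are in `Q`, all members in `Q` are in `L` ⟹ `P₂` normalises `Y` -/
theorem P2_Y (h1 : ∀ A ∈ BO (S : Subgroup G) K, A ≤ o2 P → A ≤ o2 P2)
    (h2 : ∀ A ∈ BO (S : Subgroup G) K, A ≤ o2 P2 → A ≤ o2 P) :
    P2 ≤ normalizer (yL (S : Subgroup G) (o2 P) K : Set G) := by
  have hj : P2 ≤ normalizer (jL (S : Subgroup G) (o2 P) K : Set G) := by
    intro p hp
    apply mem_normalizer_of_cj_le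
    show Subgroup.map _ _ ≤ _
    rw [jL, sSup_eq_iSup, Subgroup.map_iSup]
    refine iSup_le fun A => ?_
    rw [Subgroup.map_iSup]
    refine iSup_le fun hA => ?_
    obtain ⟨h3, h4⟩ := h.BO_cj hA.1 (h1 A hA.1 hA.2) hp
    exact le_iSup₂_of_le (cj p A) ⟨h3, h2 _ h3 h4⟩ le_rfl
  exact normalizer_inf h.P2_zc (normalizer_centralizer hj)

theorem U_le_Y (h1 : ∀ A ∈ BO (S : Subgroup G) K, A ≤ o2 P → A ≤ o2 P2)
    (h2 : ∀ A ∈ BO (S : Subgroup G) K, A ≤ o2 P2 → A ≤ o2 P) :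
    cl (zl (S : Subgroup G) P) P2 ≤ yL (S : Subgroup G) (o2 P) K := cl_le fun p hp => by
  have h3 := cj_mono p h.V_le_Y
  rwa [cj_of_le (h.P2_Y h1 h2) hp] at h3

theorem kmod_UX_norm : P2 ≤ normalizer (kmod P2 (cl (zl (S : Subgroup G) P) P2) (cl R P2) h.U_norm h.X_norm : Set G) :=
  norm_kmod h.U_norm h.X_norm

/-- `BO ∩ L = BO ∩ Q` ⟹ `[U, E] ≤ X` -/
theorem UE_of_jj (h1 : ∀ A ∈ BO (S : Subgroup G) K, A ≤ o2 P → A ≤ o2 P2)
    (h1' : ∀ A ∈ BO (S : Subgroup G) K, A ≤ o2 P2 → A ≤ o2 P) :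
    oddGen P2 ≤ kmod P2 (cl (zl (S : Subgroup G) P) P2) (cl R P2) h.U_norm h.X_norm := by
  rcases h.min_or (kmod_le (h1 := h.U_norm) (h2 := h.X_norm)) h.kmod_UX_norm with h2 | h2
  · exact h2
  · exfalso
    apply h.nQ
    refine le_trans (fun g hg => ?_) h2
    refine ⟨Level.nxt_le _ _ hg, h.S_le (Level.nxt_le _ _ hg), fun u hu => ?_⟩
    exact h.R_le_X (h.comm_YJ hg (h.U_le_Y h1 h1' hu))

/-- some best offender is not contained in `L` -/
theorem exists_BO_not_L (hR : zc (nxt (S : Subgroup G) K) = R) : ∃ A ∈ BO (S : Subgroup G) K, ¬ A ≤ o2 P := by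
  by_contra hcon
  push Not at hcon
  have h1 : nxt (S : Subgroup G) K ≤ o2 P := sup_le h.inf_cent_zc_L (sSup_le hcon)
  have h2 := h.lev.next.zc_le_zc h1 h.L_le
  rw [h.soc, hR] at h2
  have h3 := Subgroup.card_le_of_le h2
  rw [h.mod.card, h.mod.cardR] at h3
  omega

/-! ### The case `V₃ ≤ X` -/

/-- `[V, S] ≤ V₃` -/
theorem comm_VS {s v : G} (hs : s ∈ (S : Subgroup G)) (hv : v ∈ zl (S : Subgroup G) P) :
    s * v * s⁻¹ * v⁻¹ ∈ V3 := by
  have hidx : (V3.subgroupOf (zl (S : Subgroup G) P)).index = 2 := by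
    have h1 := relIndex_mul_card (zl (S : Subgroup G) P) V3
    rw [inf_eq_right.2 h.mod.V3_le, h.mod.cardV3, h.mod.card] at h1
    change V3.relIndex (zl (S : Subgroup G) P) = 2
    omega
  have hsv : s * v * s⁻¹ ∈ zl (S : Subgroup G) P := conj_mem' h.mod.S_V hs hv
  have h2 := Subgroup.mul_mem_iff_of_index_two hidx (a := ⟨s * v * s⁻¹, hsv⟩) (b := ⟨v⁻¹, inv_mem hv⟩)
  rw [mem_subgroupOf, mem_subgroupOf, mem_subgroupOf] at h2
  refine h2.2 ?_
  change s * v * s⁻¹ ∈ V3 ↔ v⁻¹ ∈ V3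
  rw [inv_mem_iff]
  constructor
  · intro h3
    have h4 := conj_mem' h.mod.S_V3 (inv_mem hs) h3
    have e : s⁻¹ * (s * v * s⁻¹) * s⁻¹⁻¹ = v := by group
    rwa [e] at h4
  · exact fun h3 => conj_mem' h.mod.S_V3 hs h3

/-- `[V₃, S] ≤ R` -/
theorem comm_V3S {s v : G} (hs : s ∈ (S : Subgroup G)) (hv : v ∈ V3) : s * v * s⁻¹ * v⁻¹ ∈ R := by
  have hidx : (R.subgroupOf V3).index = 2 := by
    have h1 := relIndex_mul_card V3 R
    rw [inf_eq_right.2 h.mod.R_le, h.mod.cardV3, h.mod.cardR] at h1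
    change R.relIndex V3 = 2
    omega
  have hsv : s * v * s⁻¹ ∈ V3 := conj_mem' h.mod.S_V3 hs hv
  have h2 := Subgroup.mul_mem_iff_of_index_two hidx (a := ⟨s * v * s⁻¹, hsv⟩) (b := ⟨v⁻¹, inv_mem hv⟩)
  rw [mem_subgroupOf, mem_subgroupOf, mem_subgroupOf] at h2
  refine h2.2 ?_
  change s * v * s⁻¹ ∈ R ↔ v⁻¹ ∈ R
  rw [inv_mem_iff]
  constructor
  · intro h3
    have h4 := conj_mem' h.mod.S_R (inv_mem hs) h3
    have e : s⁻¹ * (s * v * s⁻¹) * s⁻¹⁻¹ = v := by group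
    rwa [e] at h4
  · exact fun h3 => conj_mem' h.mod.S_R hs h3

theorem exists_f : ∃ f ∈ V3, f ∉ R := by
  by_contra hcon
  push Not at hcon
  have h1 := Subgroup.card_le_of_le (show V3 ≤ R from hcon)
  rw [h.mod.cardV3, h.mod.cardR] at h1
  omega

/-- `V₃ = R ∪ f R` -/
theorem V3_cases {f v : G} (hf : f ∈ V3) (hfR : f ∉ R) (hv : v ∈ V3) : v ∈ R ∨ ∃ r ∈ R, v = f * r := by
  by_cases hvR : v ∈ R
  · exact Or.inl hvR
  right
  have hidx : (R.subgroupOf V3).index = 2 := by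
    have h1 := relIndex_mul_card V3 R
    rw [inf_eq_right.2 h.mod.R_le, h.mod.cardV3, h.mod.cardR] at h1
    change R.relIndex V3 = 2
    omega
  have h2 := Subgroup.mul_mem_iff_of_index_two hidx (a := ⟨f⁻¹, inv_mem hf⟩) (b := ⟨v, hv⟩)
  rw [mem_subgroupOf, mem_subgroupOf, mem_subgroupOf] at h2
  have h3 : f⁻¹ * v ∈ R := h2.2 (by
    change f⁻¹ ∈ R ↔ v ∈ R
    rw [inv_mem_iff]
    exact ⟨fun h4 => absurd h4 hfR, fun h4 => absurd h4 hvR⟩)
  exact ⟨_, h3, by group⟩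

section three

variable (hX : V3 ≤ cl R P2)
include hX

theorem not_V_X : ¬ zl (S : Subgroup G) P ≤ cl R P2 := by
  intro h0
  apply h.not_Q_V
  intro q hq
  exact h.mod.small q (h.Q_le hq) fun v hv => h.comm_XQ hq (h0 hv)

theorem cent_V_of_X {q : G} (hq : q ∈ (S : Subgroup G)) (hqX : q ∈ centralizer (cl R P2 : Set G)) :
    q ∈ centralizer (zl (S : Subgroup G) P : Set G) := h.mod.faith q hq (centralizer_le hX hqX)

/-- `C_Q(X) = C_Q(U)` -/
theorem cent_U_of_X {q : G} (hq : q ∈ o2 P2) (hqX : q ∈ centralizer (cl R P2 : Set G)) :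
    q ∈ centralizer (cl (zl (S : Subgroup G) P) P2 : Set G) := by
  have h1 : o2 P2 ⊓ centralizer (cl R P2 : Set G) ≤ centralizer (zl (S : Subgroup G) P : Set G) :=
    fun x hx => h.cent_V_of_X hX (h.Q_le hx.1) hx.2
  have h2 : P2 ≤ normalizer ((o2 P2 ⊓ centralizer (cl R P2 : Set G) : Subgroup G) : Set G) :=
    normalizer_inf (le_normalizer_o2 P2) (normalizer_centralizer h.X_norm)
  have h3 : cl (zl (S : Subgroup G) P) P2 ≤ centralizer ((o2 P2 ⊓ centralizer (cl R P2 : Set G) : Subgroup G) : Set G) :=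
    cl_le fun p hp => by
      have h4 := cj_cent (g := p) (cent_symm h1)
      rwa [cj_of_le h2 hp] at h4
  exact cent_symm h3 ⟨hq, hqX⟩

/-- `[U, Q] ≤ X` -/
theorem comm_UQ {q u : G} (hq : q ∈ o2 P2) (hu : u ∈ cl (zl (S : Subgroup G) P) P2) :
    q * u * q⁻¹ * u⁻¹ ∈ cl R P2 := by
  have hU : cl (zl (S : Subgroup G) P) P2 ≤ normalizer (cl R P2 : Set G) := (h.U_le_S.trans h.S_le).trans h.X_norm
  have h1 : cl (zl (S : Subgroup G) P) P2 ≤ cmod (cl (zl (S : Subgroup G) P) P2) (o2 P2) (cl R P2) hU := by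
    refine cl_le fun p hp => ?_
    have h2 : zl (S : Subgroup G) P ≤ cmod (cl (zl (S : Subgroup G) P) P2) (o2 P2) (cl R P2) hU := fun v hv =>
      ⟨h.V_le_U hv, fun q hq => hX (h.comm_VS (h.Q_le hq) hv)⟩
    have h3 := cj_mono p h2
    rwa [cj_of_le (norm_cmod h.U_norm (le_normalizer_o2 P2) h.X_norm) hp] at h3
  exact (h1 hu).2 q hq

/-- (i) `[U, E] ≤ X` ⟹ `X = V₃` -/
theorem X_eq_of (hE : oddGen P2 ≤ kmod P2 (cl (zl (S : Subgroup G) P) P2) (cl R P2) h.U_norm h.X_norm) :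
    cl R P2 = V3 := by
  -- `U = V X`
  have hVX : P2 ≤ normalizer ((zl (S : Subgroup G) P ⊔ cl R P2 : Subgroup G) : Set G) := by
    refine h.sup_S.ge.trans (sup_le ?_ (normalizer_sup h.mod.S_V (h.S_le.trans h.X_norm)))
    refine le_normalizer_of_forall fun e he w hw => ?_
    have hwU : w ∈ cl (zl (S : Subgroup G) P) P2 := (sup_le h.V_le_U h.X_le_U) hw
    have h1 := (hE he).2 w hwU
    have h2 := mul_mem (mem_sup_right (S := zl (S : Subgroup G) P) h1) hw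
    rwa [inv_mul_cancel_right] at h2
  have hU : cl (zl (S : Subgroup G) P) P2 ≤ zl (S : Subgroup G) P ⊔ cl R P2 := cl_le fun p hp => by
    have h1 := cj_mono p (le_sup_left (a := zl (S : Subgroup G) P) (b := cl R P2))
    rwa [cj_of_le hVX hp] at h1
  -- `[U, Q] ≤ V₃`
  have hW : ⁅o2 P2, cl (zl (S : Subgroup G) P) P2⁆ ≤ V3 := by
    rw [commutator_le]
    intro q hq u hu
    obtain ⟨v, hv, x, hx, rfl⟩ := mem_sup_comm (fun a ha b hb =>
      mem_centralizer_iff.1 (h.U_comm (h.X_le_U hb)) a (h.V_le_U ha)) (hU hu)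
    have h1 := h.comm_VS (h.Q_le hq) hv
    have h2 := h.zpowers_le_R.trans h.mod.R_le (h.comm_XQ hq hx)
    have h3 : v * (q * x * q⁻¹ * x⁻¹) * v⁻¹ = q * x * q⁻¹ * x⁻¹ := by
      have h4 : q * x * q⁻¹ * x⁻¹ ∈ cl (zl (S : Subgroup G) P) P2 :=
        h.X_le_U (h.R_le_X (h.zpowers_le_R (h.comm_XQ hq hx)))
      rw [mul_inv_eq_iff_eq_mul]
      exact (mem_centralizer_iff.1 (h.U_comm h4) v (h.V_le_U hv))
    have e : ⁅q, v * x⁆ = (q * v * q⁻¹ * v⁻¹) * (v * (q * x * q⁻¹ * x⁻¹) * v⁻¹) := by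
      rw [commutatorElement_def]; group
    rw [e, h3]
    exact mul_mem h1 h2
  set W := ⁅o2 P2, cl (zl (S : Subgroup G) P) P2⁆ with hWdef
  have hWn : P2 ≤ normalizer (W : Set G) := normalizer_commutator (le_normalizer_o2 P2) h.U_norm
  have hWm : ∀ q ∈ o2 P2, ∀ v ∈ zl (S : Subgroup G) P, q * v * q⁻¹ * v⁻¹ ∈ W := fun q hq v hv => by
    have := commutator_mem_commutator hq (h.V_le_U hv)
    rwa [commutatorElement_def] at this
  have hz : ¬ W ≤ zpowers z := by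
    intro h0
    apply h.not_Q_V
    intro q hq
    exact h.mod.small q (h.Q_le hq) fun v hv => h0 (hWm q hq v hv)
  have hW3 : W = V3 := by
    rcases h.mod.uni W (hW.trans h.mod.V3_le) (h.S_le.trans hWn) with h1 | h1 | h1 | h1 | h1
    · exact absurd (h1.le.trans bot_le) hz
    · exact absurd h1.le hz
    · rw [h1] at hWn
      exact absurd hWn h.mv
    · exact h1
    · have h2 := Subgroup.card_le_of_le hW
      rw [h1, h.mod.card, h.mod.cardV3] at h2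
      omega
  rw [hW3] at hWn
  apply le_antisymm _ hX
  exact cl_le fun p hp => by
    have h1 := cj_mono p h.mod.R_le
    rwa [cj_of_le hWn hp] at h1

omit hX in
/-- `P₂` normalises `V₃` ⟹ `|S : Q| = 2` -/
theorem index_of_V3 (hn : P2 ≤ normalizer (V3 : Set G)) : (o2 P2).relIndex (S : Subgroup G) = 2 := by
  have h1 : oddGen P2 ≤ kmod P2 V3 (zpowers z) hn h.P2_zpowers ∨
      (S : Subgroup G) ⊓ kmod P2 V3 (zpowers z) hn h.P2_zpowers ≤ o2 P2 :=
    h.min_or kmod_le (norm_kmod hn h.P2_zpowers)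
  have h2 : (S : Subgroup G) ⊓ kmod P2 V3 (zpowers z) hn h.P2_zpowers ≤ o2 P2 := by
    refine h1.resolve_left fun h0 => h.E_R ?_
    refine le_normalizer_of_forall fun e he r hr => ?_
    have h3 := (h0 he).2 r (h.mod.R_le hr)
    have h4 := mul_mem (h.zpowers_le_R h3) hr
    rwa [inv_mul_cancel_right] at h4
  obtain ⟨f, hf, hfR⟩ := h.exists_f
  have hmem : ∀ s ∈ (S : Subgroup G), s * f * s⁻¹ * f⁻¹ ∈ zpowers z → s ∈ o2 P2 := by
    intro s hs hsf
    refine h2 ⟨hs, h.S_le hs, fun v hv => ?_⟩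
    rcases h.V3_cases hf hfR hv with hv | ⟨r, hr, rfl⟩
    · exact h.comm_RS hs hv
    · have h3 := h.comm_RS hs hr
      have e : s * (f * r) * s⁻¹ * (f * r)⁻¹ = (s * f * s⁻¹ * f⁻¹) * (f * (s * r * s⁻¹ * r⁻¹) * f⁻¹) := by group
      have e2 : f * (s * r * s⁻¹ * r⁻¹) * f⁻¹ = s * r * s⁻¹ * r⁻¹ :=
        h.z_comm_zpowers (h.S_le (h.V_le_S (h.mod.V3_le hf))) h3
      rw [e, e2]
      exact mul_mem hsf h3
  have h3 : (o2 P2).relIndex (S : Subgroup G) ≤ 2 := by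
    refine relIndex_le_two fun s hs t ht hsQ htQ => hmem _ (mul_mem hs ht) ?_
    have hs1 : s * f * s⁻¹ * f⁻¹ ∉ zpowers z := fun h0 => hsQ (hmem s hs h0)
    have ht1 : t * f * t⁻¹ * f⁻¹ ∉ zpowers z := fun h0 => htQ (hmem t ht h0)
    have hsR := h.comm_V3S hs hf
    have htR := h.comm_V3S ht hf
    have e : s * t * f * (s * t)⁻¹ * f⁻¹ = (s * (t * f * t⁻¹ * f⁻¹) * s⁻¹ * (t * f * t⁻¹ * f⁻¹)⁻¹) *
        ((t * f * t⁻¹ * f⁻¹) * (s * f * s⁻¹ * f⁻¹)) := by group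
    rw [e]
    refine mul_mem (h.comm_RS hs htR) ?_
    rw [h.mem_zpowers_iff'] at hs1 ht1
    push Not at hs1 ht1
    have hsq : ∀ v ∈ R, v ^ 2 = 1 := fun v hv => h.mod.sq v (h.R_le_V hv)
    have h5 := h.mod.sq _ (h.R_le_V htR)
    rw [pow_two] at h5
    rcases eq_of_card_four h.mod.cardR hsq h.z_mem_R h.mod.z_ne htR ht1.1 (Ne.symm ht1.2) hsR hs1.1 with e | e | e
    · exact absurd e hs1.2
    · rw [e, h5]; exact one_mem _
    · rw [e]
      have h6 : (t * f * t⁻¹ * f⁻¹) * z = z * (t * f * t⁻¹ * f⁻¹) :=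
        h.z_comm (h.S_le (h.V_le_S (h.R_le_V htR)))
      rw [← mul_assoc, h6, mul_assoc, h5, mul_one]
      exact mem_zpowers z
  have h4 : (o2 P2).relIndex (S : Subgroup G) ≠ 1 := fun h0 => h.not_S_le (relIndex_eq_one.1 h0)
  have h5 : (o2 P2).relIndex (S : Subgroup G) ≠ 0 := FiniteIndex.index_ne_zero (H := (o2 P2).subgroupOf S)
  omega

/-- all members in `L` are in `Q` ⟹ `[U, E] ≤ X` -/
theorem UE_of_le (hJ : ∀ A ∈ BO (S : Subgroup G) K, A ≤ o2 P → A ≤ o2 P2) :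
    oddGen P2 ≤ kmod P2 (cl (zl (S : Subgroup G) P) P2) (cl R P2) h.U_norm h.X_norm := by
  refine h.UE_of_jj hJ fun A hA hAQ a ha => ?_
  exact (h.mem_L_iff (hA.1 ha)).2 (h.cent_V_of_X hX (hA.1 ha) (h.BO_cent hA hAQ ha))

/-- the best offenders are exact offenders on `U / X` -/
theorem soff {A : Subgroup G} (hA : A ∈ BO (S : Subgroup G) K) (hAQ : ¬ A ≤ o2 P2) :
    SOff P2 (cl R P2) (cl (zl (S : Subgroup G) P) P2) A where
  sq a ha := h.inf_cent_zc (h.BO_sq hA ha)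
  comm a ha b hb := h.inf_cent_zc (h.BO_comm hA ha hb)
  ne := hAQ
  ex := by
    set U := cl (zl (S : Subgroup G) P) P2 with hU
    set X := cl R P2 with hXd
    set C := centralizer (A : Set G) with hC
    have hAP : A ≤ P2 := hA.1.trans h.S_le
    refine ⟨X ⊔ U ⊓ C, sup_le h.X_le_U inf_le_left, ?_, ?_⟩
    · rw [commutator_le]
      intro d hd a ha
      have hcom : ∀ a ∈ X, ∀ b ∈ U ⊓ C, a * b = b * a := fun a ha b hb =>
        mem_centralizer_iff.1 (h.U_comm hb.1) a (h.X_le_U ha)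
      obtain ⟨x, hx, u, hu, rfl⟩ := mem_sup_comm hcom hd
      have h1 := mem_centralizer_iff.1 hu.2 a ha
      have e : ⁅x * u, a⁆ = x * (u * a * u⁻¹ * a⁻¹) * (a * x⁻¹ * a⁻¹) := by
        rw [commutatorElement_def]; group
      have e2 : u * a * u⁻¹ * a⁻¹ = 1 := by rw [← h1, mul_inv_cancel_right, mul_inv_cancel]
      rw [e, e2, mul_one]
      exact mul_mem hx (conj_mem' h.X_norm (hAP ha) (inv_mem hx))
    · -- the count
      have h1 : C.relIndex U ≤ (centralizer (U : Set G)).relIndex A := BO_le hA h.U_le_zc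
      have h2 : (centralizer (U : Set G)).relIndex A =
          (centralizer (U : Set G)).relIndex (A ⊓ o2 P2) * (o2 P2).relIndex A := by
        have h3 : A ⊓ centralizer (U : Set G) ≤ A ⊓ o2 P2 := fun a ha =>
          ⟨ha.1, h.inf_cent_U ⟨hA.1 ha.1, ha.2⟩⟩
        have h4 := relIndex_mul_relIndex (A ⊓ centralizer (U : Set G)) (A ⊓ o2 P2) A h3 inf_le_left
        rw [inf_relIndex_left, inf_relIndex_left] at h4
        rw [← h4]
        congr 1
        have h5 : (A ⊓ centralizer (U : Set G)) ⊓ (A ⊓ o2 P2) = (centralizer (U : Set G)) ⊓ (A ⊓ o2 P2) := by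
          apply le_antisymm
          · exact fun a ha => ⟨ha.1.2, ha.2⟩
          · exact fun a ha => ⟨⟨ha.2.1, ha.1⟩, ha.2⟩
        rw [← inf_relIndex_right, ← inf_relIndex_right (centralizer (U : Set G)), h5]
      have h3 : (centralizer (U : Set G)).relIndex (A ⊓ o2 P2) = (centralizer (X : Set G)).relIndex (A ⊓ o2 P2) := by
        rw [← inf_relIndex_right, ← inf_relIndex_right (centralizer (X : Set G))]
        congr 1
        apply le_antisymm
        · exact inf_le_inf_right _ (centralizer_le h.X_le_U)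
        · exact fun a ha => ⟨h.cent_U_of_X hX ha.2.2 ha.1, ha.2⟩
      have h4 : (centralizer (X : Set G)).relIndex (A ⊓ o2 P2) ≤
          (centralizer ((A ⊓ o2 P2 : Subgroup G) : Set G)).relIndex X := by
        refine pair_le h.z_sq (fun x hx => h.z_comm (h.S_le (h.X_le_S hx))) fun b hb x hx => ?_
        exact h.mem_zpowers_iff'.1 (h.comm_XQ hb.2 hx)
      have h5 : (centralizer ((A ⊓ o2 P2 : Subgroup G) : Set G)).relIndex X ≤ C.relIndex X :=
        Nat.le_of_dvd (Nat.pos_of_ne_zero (FiniteIndex.index_ne_zero (H := C.subgroupOf X)))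
          (relIndex_dvd_of_le_left X (centralizer_le inf_le_left))
      have h6 : (U ⊓ C).relIndex (X ⊔ U ⊓ C) * (X ⊔ U ⊓ C).relIndex U = C.relIndex U := by
        rw [relIndex_mul_relIndex _ _ _ le_sup_right (sup_le h.X_le_U inf_le_left), inf_relIndex_left]
      have h7 : C.relIndex X ≤ (U ⊓ C).relIndex (X ⊔ U ⊓ C) := by
        have h8 : (U ⊓ C).relIndex X = C.relIndex X := by
          rw [← inf_relIndex_right, ← inf_relIndex_right C]
          congr 1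
          apply le_antisymm
          · exact fun a ha => ⟨ha.1.2, ha.2⟩
          · exact fun a ha => ⟨⟨h.X_le_U ha.2, ha.1⟩, ha.2⟩
        rw [← h8]
        exact relIndex_le_of_le_right le_sup_left
          (FiniteIndex.index_ne_zero (H := (U ⊓ C).subgroupOf (X ⊔ U ⊓ C)))
      have hpos : 0 < C.relIndex X := Nat.pos_of_ne_zero (FiniteIndex.index_ne_zero (H := C.subgroupOf X))
      have h8 : C.relIndex X * (X ⊔ U ⊓ C).relIndex U ≤ C.relIndex X * (o2 P2).relIndex A := by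
        calc C.relIndex X * (X ⊔ U ⊓ C).relIndex U ≤ (U ⊓ C).relIndex (X ⊔ U ⊓ C) * (X ⊔ U ⊓ C).relIndex U :=
              Nat.mul_le_mul_right _ h7
          _ = C.relIndex U := h6
          _ ≤ (centralizer (U : Set G)).relIndex (A ⊓ o2 P2) * (o2 P2).relIndex A := by rw [← h2]; exact h1
          _ ≤ C.relIndex X * (o2 P2).relIndex A := Nat.mul_le_mul_right _ (by rw [h3]; exact h4.trans h5)
      exact Nat.le_of_mul_le_mul_left h8 hpos

/-- (ii)(a) -/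
theorem UE (hA : FFBr.AStmt.{u}) (hR : zc (nxt (S : Subgroup G) K) = R) :
    oddGen P2 ≤ kmod P2 (cl (zl (S : Subgroup G) P) P2) (cl R P2) h.U_norm h.X_norm := by
  by_cases hJ : ∀ A ∈ BO (S : Subgroup G) K, A ≤ o2 P → A ≤ o2 P2
  · exact h.UE_of_le hX hJ
  by_contra hE
  have hE' : ¬ ⁅cl (zl (S : Subgroup G) P) P2, oddGen P2⁆ ≤ cl R P2 := by
    intro h0
    apply hE
    intro e he
    refine ⟨oddGen_le P2 he, fun u hu => ?_⟩
    have h1 := inv_mem (h0 (commutator_mem_commutator hu he))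
    rwa [commutatorElement_inv, commutatorElement_def] at h1
  push Not at hJ
  obtain ⟨A₁, hA₁, hA₁L, hA₁Q⟩ := hJ
  have key : ∀ A ∈ BO (S : Subgroup G) K, A ≤ o2 P ⊔ o2 P2 := by
    intro A hAA
    by_cases hAQ : A ≤ o2 P2
    · exact hAQ.trans le_sup_right
    exact sec_le hA h.syl h.par.toIsMinPar h.X_le_U h.U_le_P2 h.U_sq h.U_comm h.X_norm h.U_norm hE'
      hA₁L h.L_le h.S_L hAA.1 (h.soff hX hA₁ hA₁Q) (h.soff hX hAA hAQ)
  obtain ⟨A, hAA, hAL⟩ := h.exists_BO_not_L hR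
  obtain ⟨-, r2, -⟩ := h.root hAA hAL
  obtain ⟨f, hf, hfR⟩ := h.exists_f
  have hval : ∀ a ∈ A, a * f * a⁻¹ * f⁻¹ ∈ zpowers z := by
    intro a ha
    obtain ⟨l, hl, q, hq, rfl⟩ := mem_sup_norm (h.Q_le.trans h.S_L) (key A hAA ha)
    have h1 : q * f * q⁻¹ ∈ zl (S : Subgroup G) P := conj_mem' h.mod.S_V (h.Q_le hq) (h.mod.V3_le hf)
    have h2 := mem_centralizer_iff.1 ((h.mem_L_iff (h.L_le hl)).1 hl) _ h1
    have e : l * q * f * (l * q)⁻¹ * f⁻¹ = l * (q * f * q⁻¹) * l⁻¹ * f⁻¹ := by group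
    rw [e, ← h2, mul_inv_cancel_right]
    exact h.comm_XQ hq (hX hf)
  have hc : ∀ a ∈ A, a * f * a⁻¹ * f⁻¹ = 1 → a ∈ centralizer (zl (S : Subgroup G) P : Set G) := by
    intro a ha h0
    refine h.mod.faith a (hAA.1 ha) ?_
    rw [mem_centralizer_iff]
    intro v hv
    rw [mul_inv_eq_one, mul_inv_eq_iff_eq_mul] at h0
    rcases h.V3_cases hf hfR hv with hv | ⟨r, hr, rfl⟩
    · exact mem_centralizer_iff.1 (h.BO_R hAA ha) v hv
    · have h1 := mem_centralizer_iff.1 (h.BO_R hAA ha) r hr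
      rw [mul_assoc, h1, ← mul_assoc, ← h0, mul_assoc]
  have h1 : (centralizer (zl (S : Subgroup G) P : Set G)).relIndex A ≤ 2 := by
    refine relIndex_le_two fun s hs t ht hsV htV => hc _ (mul_mem hs ht) ?_
    have h2 : s * f * s⁻¹ * f⁻¹ = z := ((h.mem_zpowers_iff'.1 (hval s hs)).resolve_left fun h0 => hsV (hc s hs h0))
    have h3 : t * f * t⁻¹ * f⁻¹ = z := ((h.mem_zpowers_iff'.1 (hval t ht)).resolve_left fun h0 => htV (hc t ht h0))
    have e : s * t * f * (s * t)⁻¹ * f⁻¹ = (s * (t * f * t⁻¹ * f⁻¹) * s⁻¹) * (s * f * s⁻¹ * f⁻¹) := by group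
    rw [e, h2, h3, h.z_comm (h.S_le (hAA.1 hs)), mul_inv_cancel_right, h.z_sq]
  omega

/-- **`V₃ ≤ X` ⟹ `X = V₃`** -/
theorem X_eq (hA : FFBr.AStmt.{u}) (hR : zc (nxt (S : Subgroup G) K) = R) : cl R P2 = V3 :=
  h.X_eq_of hX (h.UE hX hA hR)

/-- **`V₃ ≤ X` ⟹ `|S : Q| = 2`** -/
theorem two (hA : FFBr.AStmt.{u}) (hR : zc (nxt (S : Subgroup G) K) = R) :
    (o2 P2).relIndex (S : Subgroup G) = 2 := by
  refine h.index_of_V3 ?_
  rw [← h.X_eq hX hA hR]
  exact h.X_norm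

end three

end Lv4

end Cfsg.Agent.Omega.NO3S.Fld
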