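import Cfsg.Agent.Omega.NO3S.Fld.LLoc

/-!
# Fld, `q = 4`, `j < i` : the case `[V₃, Q] ≤ ⟨z⟩`

`nb B = {u ∈ U | [u, B] ≤ ⟨z⟩}`, `K₀ = nb Q`; `A ∈ F` acts quadratically on `U`, `A ≰ Q`, `A₀ = A ∩ Q`.

* `B4.lb` : `|B : C_B(U)| ≤ |U : nb B|` for `B ≤ A₀`;
* `B4.CA` : the result of the count; `B4.key` : `V₃^y = V₃^y'` if they have a common element `∉ C(A₀)`;
* `B4.normA` : `P₂ ≤ N_G(V₃)`.
-/

set_option autoImplicit false
set_option linter.unusedSectionVars false

namespace Cfsg.Agent.Omega.NO3S.Fld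

open Subgroup Cfsg Cfsg.Agent.ZN Cfsg.Agent.ZN.ChoiceBase Cfsg.Agent.Omega.MinPar Cfsg.Agent.Omega.FrameNOFF
open Cfsg.Agent.ZN.ChoiceSit (Syl syl_iff syl_not_dvd o2_le_syl isPGroup_o2)
open Cfsg.Agent.MinSimple.MinParabolic (IsMinPar)
open Cfsg.Agent.MinSimple.VModule (oddGen oddGen_le mem_oddGen le_normalizer_oddGen le_normalizer_o2 o2_le
  zc_le zc_le_zl le_normalizer_zl zc_sq zc_comm le_centralizer_zc)
open Cfsg.Agent.Omega.NO3b.EZero (cl cj_le_cl le_cl cl_le cj_cl le_normalizer_cl cent_symm cj_cent cj_norm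
  sq_of_comm oddGen_sup_syl mem_cj_self relIndex_cj le_normalizer_inf_cent)
open Cfsg.Agent.Omega.NO3b.K0 (conj_mem' cj_of_le cj_self NoOv)
open Cfsg.Agent.Omega.NO3S.NotFF (le_normalizer_of_forall normalizer_inf normalizer_sup normalizer_centralizer
  normalizer_commutator)
open Cfsg.Agent.Omega.SQ1.Bau (card_sup_comm mem_sup_comm)
open Cfsg.Agent.Omega.NO1.BestOff (Best)
open Cfsg.Agent.Omega.NO3S.Level (Lev BO nxt)
open scoped commutatorElement

universe u

section aux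

variable {G : Type u} [Group G] [Finite G]

theorem relIndex_pos (H L : Subgroup G) : 0 < H.relIndex L :=
  Nat.pos_of_ne_zero (FiniteIndex.index_ne_zero (H := H.subgroupOf L))

/-- `|L : H| = |L : M| |M : H|` for `H ∩ L ≤ M ≤ L` -/
theorem relIndex_mul_of {H M L : Subgroup G} (h1 : L ⊓ H ≤ M) (h2 : M ≤ L) :
    H.relIndex M * M.relIndex L = H.relIndex L := by
  have h3 := relIndex_mul_relIndex (L ⊓ H) M L h1 h2
  rw [inf_relIndex_left] at h3
  rw [← h3]
  congr 1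
  rw [← inf_relIndex_right, ← inf_relIndex_right (L ⊓ H)]
  congr 1
  apply le_antisymm
  · exact fun a ha => ⟨⟨h2 ha.2, ha.1⟩, ha.2⟩
  · exact fun a ha => ⟨ha.1.2, ha.2⟩

theorem two_le_relIndex {H L : Subgroup G} {v : G} (hv : v ∈ L) (hvH : v ∉ H) : 2 ≤ H.relIndex L := by
  have h1 : H.relIndex L ≠ 1 := fun h0 => hvH (relIndex_eq_one.1 h0 hv)
  have h2 := relIndex_pos H L
  omega

/-- equal index -/
theorem eq_of_relIndex {H M L : Subgroup G} (h1 : H ≤ M) (h2 : M ≤ L) (h3 : H.relIndex L ≤ M.relIndex L) :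
    H = M := by
  have h4 := relIndex_mul_relIndex H M L h1 h2
  have h5 : H.relIndex M ≤ 1 := by
    by_contra hcon
    push Not at hcon
    have h6 := relIndex_pos M L
    nlinarith
  have h6 := relIndex_pos H M
  exact le_antisymm h1 (relIndex_eq_one.1 (by omega))

end aux

namespace B4

variable {G : Type u} [Group G] [Finite G] {S : Sylow 2 G} {P P2 R V3 : Subgroup G} {z : G}
  (h : B4 S P P2 R V3 z)
include h

/-- `{u ∈ U | [u, B] ≤ ⟨z⟩}` -/
def nb (B : Subgroup G) : Subgroup G := cmod (cl (zl (S : Subgroup G) P) P2) B (zpowers z) h.U_z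

theorem mem_nb {B : Subgroup G} {u : G} : u ∈ h.nb B ↔
    u ∈ cl (zl (S : Subgroup G) P) P2 ∧ ∀ b ∈ B, b * u * b⁻¹ * u⁻¹ ∈ zpowers z := Iff.rfl

theorem nb_le (B : Subgroup G) : h.nb B ≤ cl (zl (S : Subgroup G) P) P2 := fun _ hu => hu.1

theorem nb_anti {B B' : Subgroup G} (hB : B ≤ B') : h.nb B' ≤ h.nb B := fun _ hu => ⟨hu.1, fun b hb => hu.2 b (hB hb)⟩

theorem P2_nb : P2 ≤ normalizer (h.nb (o2 P2) : Set G) := norm_cmod h.U_norm (le_normalizer_o2 P2) h.P2_zpowers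

theorem X_le_nb : cl R P2 ≤ h.nb (o2 P2) := fun _ hx => ⟨h.X_le_U hx, fun _ hb => h.comm_XQ hb hx⟩

theorem U_mul {u v : G} (hu : u ∈ cl (zl (S : Subgroup G) P) P2) (hv : v ∈ cl (zl (S : Subgroup G) P) P2) :
    u * v = v * u := mem_centralizer_iff.1 (h.U_comm hv) u hu

theorem U_sq' {u : G} (hu : u ∈ cl (zl (S : Subgroup G) P) P2) : u * u = 1 := by
  have := h.U_sq u hu
  rwa [pow_two] at this

/-- `[b, u v] = [b, u] [b, v]` -/
theorem comm_mul {b u v : G} (hb : b ∈ P2) (hu : u ∈ cl (zl (S : Subgroup G) P) P2)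
    (hv : v ∈ cl (zl (S : Subgroup G) P) P2) :
    b * (u * v) * b⁻¹ * (u * v)⁻¹ = (b * u * b⁻¹ * u⁻¹) * (b * v * b⁻¹ * v⁻¹) := by
  have h1 : b * v * b⁻¹ * v⁻¹ ∈ cl (zl (S : Subgroup G) P) P2 := mul_mem (conj_mem' h.U_norm hb hv) (inv_mem hv)
  have h2 := h.U_mul hu h1
  have e : b * (u * v) * b⁻¹ * (u * v)⁻¹ = (b * u * b⁻¹ * u⁻¹) * (u * (b * v * b⁻¹ * v⁻¹) * u⁻¹) := by group
  rw [e, h2, mul_inv_cancel_right]

/-- the index of `C_A(U)` -/
theorem relIndex_U {A : Subgroup G} (hA : A ≤ (S : Subgroup G)) :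
    (centralizer (cl (zl (S : Subgroup G) P) P2 : Set G)).relIndex (A ⊓ o2 P2) * (o2 P2).relIndex A =
      (centralizer (cl (zl (S : Subgroup G) P) P2 : Set G)).relIndex A := by
  have h1 := relIndex_mul_of (H := centralizer (cl (zl (S : Subgroup G) P) P2 : Set G)) (M := A ⊓ o2 P2) (L := A)
    (fun a ha => ⟨ha.1, h.inf_cent_U ⟨hA ha.1, ha.2⟩⟩) inf_le_left
  rw [inf_relIndex_left] at h1
  exact h1

/-- `|A₀ : C_{A₀}(W)| |A : A₀| = |A : C_A(W)|` for `X ≤ W` -/
theorem relIndex_W {A W : Subgroup G} (hA : A ≤ (S : Subgroup G)) (hW : cl R P2 ≤ W) :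
    (centralizer (W : Set G)).relIndex (A ⊓ o2 P2) * (o2 P2).relIndex A = (centralizer (W : Set G)).relIndex A := by
  have h1 := relIndex_mul_of (H := centralizer (W : Set G)) (M := A ⊓ o2 P2) (L := A)
    (fun a ha => ⟨ha.1, h.inf_cent_X ⟨hA ha.1, centralizer_le hW ha.2⟩⟩) inf_le_left
  rw [inf_relIndex_left] at h1
  exact h1

section A

variable (hz : ∀ b ∈ o2 P2, ∀ v ∈ V3, b * v * b⁻¹ * v⁻¹ ∈ zpowers z)
include hz

theorem hzy {y : G} (hy : y ∈ P2) : ∀ b ∈ o2 P2, ∀ v ∈ cj y V3, b * v * b⁻¹ * v⁻¹ ∈ zpowers z :=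
  (h.hz_iff hy).2 hz

theorem cjV3_nb {y : G} (hy : y ∈ P2) : cj y V3 ≤ h.nb (o2 P2) := fun _ hv =>
  ⟨h.cjV_le hy (cj_mono y h.mod.V3_le hv), fun b hb => h.hzy hz hy b hb _ hv⟩

/-- `C_Q(K₀) = C_Q(U)` -/
theorem cent_nb {q : G} (hq : q ∈ o2 P2) (hc : q ∈ centralizer (h.nb (o2 P2) : Set G)) :
    q ∈ centralizer (cl (zl (S : Subgroup G) P) P2 : Set G) := by
  have h1 : cl (zl (S : Subgroup G) P) P2 ≤ centralizer ({q} : Set G) := by
    refine cl_le fun y hy v hv => ?_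
    rw [mem_centralizer_singleton_iff]
    have h2 := (h.loc hy).faith q hq (centralizer_le (h.cjV3_nb hz hy) hc)
    exact mem_centralizer_iff.1 h2 v hv
  rw [mem_centralizer_iff]
  exact fun u hu => mem_centralizer_singleton_iff.1 (h1 hu)

/-- `[U, E] ≤ K₀` ⟹ `P₂ ≤ N(V₃)` -/
theorem norm_of_E (hE : ⁅cl (zl (S : Subgroup G) P) P2, oddGen P2⁆ ≤ h.nb (o2 P2)) :
    P2 ≤ normalizer (V3 : Set G) := by
  have hVX : P2 ≤ normalizer ((zl (S : Subgroup G) P ⊔ h.nb (o2 P2) : Subgroup G) : Set G) := by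
    refine h.sup_S.ge.trans (sup_le ?_ (normalizer_sup h.mod.S_V (h.S_le.trans h.P2_nb)))
    refine le_normalizer_of_forall fun e he w hw => ?_
    have hwU : w ∈ cl (zl (S : Subgroup G) P) P2 := (sup_le h.V_le_U (h.nb_le _)) hw
    have h1 : e * w * e⁻¹ * w⁻¹ ∈ h.nb (o2 P2) := by
      have h2 := inv_mem (hE (commutator_mem_commutator hwU he))
      rwa [commutatorElement_inv, commutatorElement_def] at h2
    have h2 := mul_mem (mem_sup_right (S := zl (S : Subgroup G) P) h1) hw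
    rwa [inv_mul_cancel_right] at h2
  have hU : cl (zl (S : Subgroup G) P) P2 ≤ zl (S : Subgroup G) P ⊔ h.nb (o2 P2) := cl_le fun p hp => by
    have h1 := cj_mono p (le_sup_left (a := zl (S : Subgroup G) P) (b := h.nb (o2 P2)))
    rwa [cj_of_le hVX hp] at h1
  have hW : ⁅o2 P2, cl (zl (S : Subgroup G) P) P2⁆ ≤ V3 := by
    rw [commutator_le]
    intro q hq u hu
    obtain ⟨v, hv, x, hx, rfl⟩ := mem_sup_comm (fun a ha b hb => h.U_mul (h.V_le_U ha) (h.nb_le _ hb)) (hU hu)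
    have h1 := h.comm_VS (h.Q_le hq) hv
    have h2 := h.zpowers_le_R.trans h.mod.R_le (hx.2 q hq)
    rw [commutatorElement_def, h.comm_mul (h.S_le (h.Q_le hq)) (h.V_le_U hv) hx.1]
    exact mul_mem h1 h2
  set W := ⁅o2 P2, cl (zl (S : Subgroup G) P) P2⁆ with hWdef
  have hWn : P2 ≤ normalizer (W : Set G) := normalizer_commutator (le_normalizer_o2 P2) h.U_norm
  have hWm : ∀ q ∈ o2 P2, ∀ v ∈ zl (S : Subgroup G) P, q * v * q⁻¹ * v⁻¹ ∈ W := fun q hq v hv => by
    have := commutator_mem_commutator hq (h.V_le_U hv)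
    rwa [commutatorElement_def] at this
  have hWz : ¬ W ≤ zpowers z := by
    intro h0
    apply h.not_Q_V
    intro q hq
    exact h.mod.small q (h.Q_le hq) fun v hv => h0 (hWm q hq v hv)
  rcases h.mod.uni W (hW.trans h.mod.V3_le) (h.S_le.trans hWn) with h1 | h1 | h1 | h1 | h1
  · exact absurd (h1.le.trans bot_le) hWz
  · exact absurd h1.le hWz
  · rw [h1] at hWn
    exact absurd hWn h.mv
  · rwa [h1] at hWn
  · have h2 := Subgroup.card_le_of_le hW
    rw [h1, h.mod.card, h.mod.cardV3] at h2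
    omega

section quad

variable {F : Set (Subgroup G)} (f : F4 S P P2 F) {A : Subgroup G} (hA : A ∈ F) (hAQ : ¬ A ≤ o2 P2)
  (hq : ∀ u ∈ cl (zl (S : Subgroup G) P) P2, ∀ a ∈ A, a * u * a⁻¹ * u⁻¹ ∈ centralizer (A : Set G))

include f hA hq in
omit hAQ in
/-- `|A₀ : C_{A₀}(V^y)| ≤ 2` -/
theorem mul_cent {y s t : G} (hy : y ∈ P2) (hs : s ∈ A ⊓ o2 P2) (ht : t ∈ A ⊓ o2 P2)
    (hsV : s ∉ centralizer ((cj y (zl (S : Subgroup G) P) : Subgroup G) : Set G))
    (htV : t ∉ centralizer ((cj y (zl (S : Subgroup G) P) : Subgroup G) : Set G)) :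
    s * t ∈ centralizer ((cj y (zl (S : Subgroup G) P) : Subgroup G) : Set G) := by
  have l := h.loc hy
  have lz := h.hzy hz hy
  obtain ⟨v, hv, hv3⟩ := l.exists_v
  have hvU := h.cjV_le hy hv
  have h1 : s * v * s⁻¹ * v⁻¹ ∉ zpowers z := fun h0 => hsV (l.L1 lz hs.2 hv hv3 h0)
  have h2 : t * v * t⁻¹ * v⁻¹ ∉ zpowers z := fun h0 => htV (l.L1 lz ht.2 hv hv3 h0)
  have h3 := l.comm3 s hs.2 v hv
  have h4 := l.comm3 t ht.2 v hv
  have hts : s * (t * v * t⁻¹ * v⁻¹) = (t * v * t⁻¹ * v⁻¹) * s :=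
    mem_centralizer_iff.1 (hq v hvU t ht.1) s hs.1
  have h5 := l.L3 hs.2 hsV h3 h4 h1 h2 (l.L2 lz hs.2 hv) hts
  refine l.L1 lz (mul_mem hs.2 ht.2) hv hv3 ?_
  have e : s * t * v * (s * t)⁻¹ * v⁻¹ = (s * (t * v * t⁻¹ * v⁻¹) * s⁻¹) * (s * v * s⁻¹ * v⁻¹) := by group
  have h6 := l.sq _ (l.V3_le h3)
  rw [pow_two] at h6
  rw [inv_eq_of_mul_eq_one_right h6] at h5
  rw [e, hts, mul_inv_cancel_right]
  exact h5

include f hA hq in
omit hAQ in
/-- **`|B : C_B(U)| ≤ |U : nb B|`** -/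
theorem lb : ∀ (n : ℕ) (B : Subgroup G), Nat.card B ≤ n → B ≤ A ⊓ o2 P2 →
    (centralizer (cl (zl (S : Subgroup G) P) P2 : Set G)).relIndex B ≤
      (h.nb B).relIndex (cl (zl (S : Subgroup G) P) P2) := by
  intro n
  induction n with
  | zero =>
    intro B hB
    have := Nat.card_pos (α := B)
    omega
  | succ n ih =>
    intro B hBn hB
    set U := cl (zl (S : Subgroup G) P) P2 with hU
    by_cases hBU : B ≤ centralizer (U : Set G)
    · rw [relIndex_eq_one.2 hBU]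
      exact relIndex_pos _ _
    obtain ⟨y, hy, hBy⟩ : ∃ y ∈ P2, ¬ B ≤ centralizer ((cj y (zl (S : Subgroup G) P) : Subgroup G) : Set G) := by
      by_contra hcon
      push Not at hcon
      exact hBU (cent_symm (cl_le fun y hy => cent_symm (hcon y hy)))
    obtain ⟨b, hb, hbV⟩ := SetLike.not_le_iff_exists.1 hBy
    have l := h.loc hy
    have lz := h.hzy hz hy
    obtain ⟨v, hv, hv3⟩ := l.exists_v
    have hvU : v ∈ U := h.cjV_le hy hv
    set B1 := B ⊓ centralizer ((cj y (zl (S : Subgroup G) P) : Subgroup G) : Set G) with hB1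
    have hB1B : B1 ≤ B := inf_le_left
    have h1 : Nat.card B1 < Nat.card B := by
      refine lt_of_le_of_ne (Subgroup.card_le_of_le hB1B) fun h0 => ?_
      have h2 := Subgroup.eq_of_le_of_card_ge hB1B h0.ge
      exact hBy (inf_eq_left.1 h2)
    have h2 := ih B1 (by omega) (hB1B.trans hB)
    have h3 : B1.relIndex B ≤ 2 := by
      rw [hB1, inf_relIndex_left]
      exact relIndex_le_two fun s hs t ht hsV htV => h.mul_cent hz f hA hq hy (hB hs) (hB ht) hsV htV
    have h4 := relIndex_mul_of (H := centralizer (U : Set G)) (M := B1) (L := B)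
      (le_inf inf_le_left (inf_le_right.trans (centralizer_le (h.cjV_le hy)))) hB1B
    have h5 := relIndex_mul_relIndex (h.nb B) (h.nb B1) U (h.nb_anti hB1B) (h.nb_le _)
    have h6 : 2 ≤ (h.nb B).relIndex (h.nb B1) := by
      refine two_le_relIndex (v := v) ⟨hvU, fun c hc => ?_⟩ fun h0 => hbV (l.L1 lz (hB hb).2 hv hv3 (h0.2 b hb))
      have h7 := mem_centralizer_iff.1 hc.2 v hv
      rw [← h7, mul_inv_cancel_right, mul_inv_cancel]
      exact one_mem _
    rw [← h4, ← h5, mul_comm]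
    exact Nat.mul_le_mul (h3.trans h6) h2

include f hA hAQ in
omit hq in
/-- **the count** -/
theorem count_A (hN : NoOv P2) (hE : ¬ ⁅cl (zl (S : Subgroup G) P) P2, oddGen P2⁆ ≤ h.nb (o2 P2)) :
    (∀ u ∈ h.nb (o2 P2), u ∈ centralizer ((A ⊓ o2 P2 : Subgroup G) : Set G) → u ∈ centralizer (A : Set G)) ∧
    (∀ u ∈ cl (zl (S : Subgroup G) P) P2, (∀ a ∈ A, a * u * a⁻¹ * u⁻¹ ∈ h.nb (o2 P2)) → u ∈ h.nb (A ⊓ o2 P2)) ∧
    (h.nb (A ⊓ o2 P2)).relIndex (cl (zl (S : Subgroup G) P) P2) ≤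
      (centralizer (cl (zl (S : Subgroup G) P) P2 : Set G)).relIndex (A ⊓ o2 P2) ∧
    2 ≤ (centralizer (cl (zl (S : Subgroup G) P) P2 : Set G)).relIndex (A ⊓ o2 P2) := by
  set U := cl (zl (S : Subgroup G) P) P2 with hU
  set K0 := h.nb (o2 P2) with hK0
  set A0 := A ⊓ o2 P2 with hA0
  set C := centralizer (A : Set G) with hC
  set x := (o2 P2).relIndex A with hx
  set r := (centralizer (U : Set G)).relIndex A0 with hr
  have hAP : A ≤ P2 := (f.le A hA).trans h.S_le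
  have hK0U : K0 ≤ U := h.nb_le _
  have h1 : r * x = (centralizer (U : Set G)).relIndex A := h.relIndex_U (f.le A hA)
  have h2 : C.relIndex U ≤ (centralizer (U : Set G)).relIndex A := f.index_le hA
  set M := K0 ⊔ (U ⊓ C) with hM
  have hMU : M ≤ U := sup_le hK0U inf_le_left
  have h3 : C.relIndex M * M.relIndex U = C.relIndex U := relIndex_mul_of le_sup_right hMU
  have h4 : C.relIndex K0 ≤ C.relIndex M := relIndex_le_of_le_right le_sup_left (relIndex_pos _ _).ne'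
  have hUK : U ≤ normalizer (K0 : Set G) := h.U_le_P2.trans h.P2_nb
  have hMD : M ≤ cmod U A K0 hUK := by
    refine sup_le (fun k hk => ⟨hK0U hk, fun a ha => mul_mem (conj_mem' h.P2_nb (hAP ha) hk) (inv_mem hk)⟩) ?_
    intro k hk
    refine ⟨hk.1, fun a ha => ?_⟩
    have := mem_centralizer_iff.1 hk.2 a ha
    rw [this, mul_inv_cancel_right, mul_inv_cancel]
    exact one_mem _
  have hDU : cmod U A K0 hUK ≤ U := fun _ hu => hu.1
  obtain ⟨hA2, hAc⟩ := h.F_o2 f hA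
  have h5 : x ≤ (cmod U A K0 hUK).relIndex U := by
    refine hN.gen hK0U h.U_le_P2 h.U_sq h.U_comm h.P2_nb h.U_norm hE hAP hA2 hAc hDU ?_
    rw [commutator_le]
    intro d hd a ha
    have h6 := inv_mem (hd.2 a ha)
    have e : (a * d * a⁻¹ * d⁻¹)⁻¹ = ⁅d, a⁆ := by rw [commutatorElement_def]; group
    rwa [e] at h6
  have h6 : (cmod U A K0 hUK).relIndex U ≤ M.relIndex U :=
    Nat.le_of_dvd (relIndex_pos _ _) (relIndex_dvd_of_le_left U hMD)
  have h7 : (centralizer (A0 : Set G)).relIndex K0 ≤ C.relIndex K0 :=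
    Nat.le_of_dvd (relIndex_pos _ _) (relIndex_dvd_of_le_left K0 (centralizer_le inf_le_left))
  have h8 : r ≤ (centralizer (A0 : Set G)).relIndex K0 := by
    have h9 : r ≤ (centralizer (K0 : Set G)).relIndex A0 := by
      rw [hr, ← inf_relIndex_left A0, ← inf_relIndex_left A0 (centralizer (K0 : Set G))]
      refine Nat.le_of_dvd (relIndex_pos _ _) (relIndex_dvd_of_le_left A0 ?_)
      exact fun a ha => ⟨ha.1, h.cent_nb hz ha.1.2 ha.2⟩
    refine h9.trans (pair_le h.z_sq (fun y hy => h.z_comm (h.U_le_P2 (hK0U hy))) fun b hb y hy => ?_)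
    exact h.mem_zpowers_iff'.1 (hy.2 b hb.2)
  have hxpos : 0 < x := relIndex_pos _ _
  have hrpos : 0 < r := relIndex_pos _ _
  have h9 : C.relIndex K0 * M.relIndex U ≤ r * x := by
    calc C.relIndex K0 * M.relIndex U ≤ C.relIndex M * M.relIndex U := Nat.mul_le_mul_right _ h4
      _ = C.relIndex U := h3
      _ ≤ _ := by rw [h1]; exact h2
  have h10 : C.relIndex K0 ≤ r := by
    have h11 : C.relIndex K0 * x ≤ r * x := (Nat.mul_le_mul_left _ (h5.trans h6)).trans h9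
    exact Nat.le_of_mul_le_mul_right h11 hxpos
  have h11 : M.relIndex U ≤ x := by
    have h12 : r * M.relIndex U ≤ r * x := (Nat.mul_le_mul_right _ (h8.trans h7)).trans h9
    exact Nat.le_of_mul_le_mul_left h12 hrpos
  have h12 : x ≤ r := by
    have h13 : x ≤ (K0 ⊓ C).relIndex K0 := by
      refine hN.gen (N := ⊥) (Y := K0) (D := K0 ⊓ C) bot_le (hK0U.trans h.U_le_P2) (fun y hy => h.U_sq y (hK0U hy))
        (hK0U.trans (h.U_comm.trans (centralizer_le hK0U))) (normalizer_eq_top (H := (⊥ : Subgroup G)) ▸ le_top) h.P2_nb ?_ hAP hA2 hAc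
        inf_le_left ?_
      · intro h0
        have h14 := commutator_eq_bot_iff_le_centralizer.1 (le_bot_iff.1 h0)
        exact h.E_cent_R (cent_symm ((h.R_le_X.trans h.X_le_nb).trans h14))
      · rw [le_bot_iff, commutator_eq_bot_iff_le_centralizer]
        exact inf_le_right
    rw [inf_relIndex_left] at h13
    exact h13.trans h10
  refine ⟨?_, ?_, ?_, ?_⟩
  · have h13 : K0 ⊓ C = K0 ⊓ centralizer (A0 : Set G) := by
      refine eq_of_relIndex (inf_le_inf_left _ (centralizer_le inf_le_left)) inf_le_left ?_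
      rw [inf_relIndex_left, inf_relIndex_left]
      exact h10.trans h8
    intro u hu huA
    have h14 : u ∈ K0 ⊓ centralizer (A0 : Set G) := ⟨hu, huA⟩
    rw [← h13] at h14
    exact h14.2
  · have h13 : M = cmod U A K0 hUK := eq_of_relIndex hMD hDU (h11.trans h5)
    intro u hu huA
    have h14 : u ∈ M := by rw [h13]; exact ⟨hu, huA⟩
    have h15 : M ≤ h.nb A0 := by
      refine sup_le (h.nb_anti inf_le_right) fun k hk => ⟨hk.1, fun a ha => ?_⟩
      have := mem_centralizer_iff.1 hk.2 a ha.1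
      rw [this, mul_inv_cancel_right, mul_inv_cancel]
      exact one_mem _
    exact h15 h14
  · have h15 : M ≤ h.nb A0 := by
      refine sup_le (h.nb_anti inf_le_right) fun k hk => ⟨hk.1, fun a ha => ?_⟩
      have := mem_centralizer_iff.1 hk.2 a ha.1
      rw [this, mul_inv_cancel_right, mul_inv_cancel]
      exact one_mem _
    exact ((Nat.le_of_dvd (relIndex_pos _ _) (relIndex_dvd_of_le_left U h15)).trans h11).trans h12
  · obtain ⟨a, ha, haQ⟩ := SetLike.not_le_iff_exists.1 hAQ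
    exact (two_le_relIndex ha haQ).trans h12

include f hA hq in
omit hAQ in
/-- **KEY** -/
theorem key (hle : (h.nb (A ⊓ o2 P2)).relIndex (cl (zl (S : Subgroup G) P) P2) ≤
      (centralizer (cl (zl (S : Subgroup G) P) P2 : Set G)).relIndex (A ⊓ o2 P2)) {y y' : G} (hy : y ∈ P2)
    (hy' : y' ∈ P2) {p : G} (hp : p ∈ cj y V3) (hp' : p ∈ cj y' V3)
    (hpA : p ∉ centralizer ((A ⊓ o2 P2 : Subgroup G) : Set G)) : cj y V3 = cj y' V3 := by
  by_contra hne
  set U := cl (zl (S : Subgroup G) P) P2 with hU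
  have l := h.loc hy
  have l' := h.loc hy'
  have lz := h.hzy hz hy
  have lz' := h.hzy hz hy'
  obtain ⟨v, hv, hv3⟩ := l.exists_v
  obtain ⟨v', hv', hv3'⟩ := l'.exists_v
  have hvU : v ∈ U := h.cjV_le hy hv
  have hvU' : v' ∈ U := h.cjV_le hy' hv'
  obtain ⟨b, hb, hbp⟩ : ∃ b ∈ A ⊓ o2 P2, b * p ≠ p * b := by
    by_contra hcon
    push Not at hcon
    exact hpA (mem_centralizer_iff.2 hcon)
  have hbV : b ∉ centralizer ((cj y (zl (S : Subgroup G) P) : Subgroup G) : Set G) := fun h0 =>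
    hbp (mem_centralizer_iff.1 h0 p (l.V3_le hp)).symm
  have hbV' : b ∉ centralizer ((cj y' (zl (S : Subgroup G) P) : Subgroup G) : Set G) := fun h0 =>
    hbp (mem_centralizer_iff.1 h0 p (l'.V3_le hp')).symm
  -- `C_{A₀}(p) = C_{A₀}(V^y) = C_{A₀}(V^y')`
  have h1 : ∀ c ∈ A ⊓ o2 P2, c * p = p * c →
      c ∈ centralizer ((cj y (zl (S : Subgroup G) P) : Subgroup G) : Set G) := by
    intro c hc hcp
    by_contra hcV
    have h2 := mem_centralizer_iff.1 (h.mul_cent hz f hA hq hy hc hb hcV hbV) p (l.V3_le hp)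
    rw [← mul_assoc, ← hcp, mul_assoc, mul_assoc] at h2
    exact hbp (mul_left_cancel h2).symm
  have h1' : ∀ c ∈ A ⊓ o2 P2, c * p = p * c →
      c ∈ centralizer ((cj y' (zl (S : Subgroup G) P) : Subgroup G) : Set G) := by
    intro c hc hcp
    by_contra hcV
    have h2 := mem_centralizer_iff.1 (h.mul_cent hz f hA hq hy' hc hb hcV hbV') p (l'.V3_le hp')
    rw [← mul_assoc, ← hcp, mul_assoc, mul_assoc] at h2
    exact hbp (mul_left_cancel h2).symm
  set A0 := A ⊓ o2 P2 with hA0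
  set B1 := A0 ⊓ centralizer ({p} : Set G) with hB1
  have hB1A : B1 ≤ A0 := inf_le_left
  have hB1p : ∀ c ∈ B1, c * p = p * c := fun c hc => mem_centralizer_singleton_iff.1 hc.2
  have h3 : B1.relIndex A0 ≤ 2 := by
    rw [hB1, inf_relIndex_left]
    refine relIndex_le_two fun s hs t ht hsp htp => ?_
    rw [mem_centralizer_singleton_iff] at hsp htp ⊢
    have hsV : s ∉ centralizer ((cj y (zl (S : Subgroup G) P) : Subgroup G) : Set G) := fun h0 =>
      hsp (mem_centralizer_iff.1 h0 p (l.V3_le hp)).symm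
    have htV : t ∉ centralizer ((cj y (zl (S : Subgroup G) P) : Subgroup G) : Set G) := fun h0 =>
      htp (mem_centralizer_iff.1 h0 p (l.V3_le hp)).symm
    exact (mem_centralizer_iff.1 (h.mul_cent hz f hA hq hy hs ht hsV htV) p (l.V3_le hp)).symm
  have hB1U : A0 ⊓ centralizer (U : Set G) ≤ B1 := by
    refine le_inf inf_le_left (inf_le_right.trans (centralizer_le (Set.singleton_subset_iff.2 ?_)))
    exact h.cjV_le hy (l.V3_le hp)
  have h4 := relIndex_mul_of (H := centralizer (U : Set G)) (M := B1) (L := A0) hB1U hB1A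
  have h5 := relIndex_mul_relIndex (h.nb A0) (h.nb B1) U (h.nb_anti hB1A) (h.nb_le _)
  have h6 := h.lb hz f hA hq _ B1 le_rfl hB1A
  have hvB : v ∈ h.nb B1 := by
    refine ⟨hvU, fun c hc => ?_⟩
    have h7 := mem_centralizer_iff.1 (h1 c (hB1A hc) (hB1p c hc)) v hv
    rw [← h7, mul_inv_cancel_right, mul_inv_cancel]
    exact one_mem _
  have hvB' : v' ∈ h.nb B1 := by
    refine ⟨hvU', fun c hc => ?_⟩
    have h7 := mem_centralizer_iff.1 (h1' c (hB1A hc) (hB1p c hc)) v' hv'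
    rw [← h7, mul_inv_cancel_right, mul_inv_cancel]
    exact one_mem _
  have hvA : v ∉ h.nb A0 := fun h0 => hbV (l.L1 lz hb.2 hv hv3 (h0.2 b hb))
  have hvA' : v' ∉ h.nb A0 := fun h0 => hbV' (l'.L1 lz' hb.2 hv' hv3' (h0.2 b hb))
  have h7 : 3 ≤ (h.nb A0).relIndex (h.nb B1) := by
    have h8 := two_le_relIndex hvB hvA
    by_contra hcon
    push Not at hcon
    have h9 : (h.nb A0).relIndex (h.nb B1) = 2 := by omega
    have h10 := Subgroup.mul_mem_iff_of_index_two (H := (h.nb A0).subgroupOf (h.nb B1)) h9 (a := ⟨v, hvB⟩)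
      (b := ⟨v', hvB'⟩)
    rw [mem_subgroupOf, mem_subgroupOf, mem_subgroupOf] at h10
    have h11 : v * v' ∈ h.nb A0 := h10.2 ⟨fun h0 => absurd h0 hvA, fun h0 => absurd h0 hvA'⟩
    have h12 := h11.2 b hb
    rw [h.comm_mul (h.S_le (h.Q_le hb.2)) hvU hvU'] at h12
    set w := b * v * b⁻¹ * v⁻¹ with hw
    set w' := b * v' * b⁻¹ * v'⁻¹ with hw'
    have hw3 : w ∈ cj y V3 := l.comm3 b hb.2 v hv
    have hw3' : w' ∈ cj y' V3 := l'.comm3 b hb.2 v' hv'
    have hwz : w ∉ zpowers z := fun h0 => hbV (l.L1 lz hb.2 hv hv3 h0)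
    have hzy : z ∈ cj y V3 := l.R_le l.z_mem
    have hzy' : z ∈ cj y' V3 := l'.R_le l'.z_mem
    have hww : w ∈ cj y' V3 := by
      have h13 : w = (w * w') * w'⁻¹ := by group
      rw [h13]
      exact mul_mem (zpowers_le.2 hzy' h12) (inv_mem hw3')
    -- `V₃^y ∩ V₃^y'` has order 8
    set D := cj y V3 ⊓ cj y' V3 with hD
    set D0 := D ⊓ centralizer ({b} : Set G) with hD0
    have hbz : z * b = b * z := (h.z_comm (h.S_le (h.Q_le hb.2))).symm
    have hzD : z ∈ D0 := ⟨⟨hzy, hzy'⟩, mem_centralizer_singleton_iff.2 hbz⟩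
    have hwD : w ∈ D0 := ⟨⟨hw3, hww⟩, mem_centralizer_singleton_iff.2 (l.L2 lz hb.2 hv).symm⟩
    have hpD : p ∈ D := ⟨hp, hp'⟩
    have hpD0 : p ∉ D0 := fun h0 => hbp (mem_centralizer_singleton_iff.1 h0.2).symm
    have h14 : 2 < Nat.card D0 := by
      by_contra hcon
      push Not at hcon
      have h15 : zpowers z = D0 := Subgroup.eq_of_le_of_card_ge (zpowers_le.2 hzD) (by rw [l.card_z]; exact hcon)
      rw [← h15] at hwD
      exact hwz hwD
    have h15 : 2 * Nat.card D0 ≤ Nat.card D := by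
      have h16 := relIndex_mul_card D D0
      rw [inf_eq_right.2 (inf_le_left : D0 ≤ D)] at h16
      rw [← h16]
      exact Nat.mul_le_mul_right _ (two_le_relIndex hpD hpD0)
    have h16 : Nat.card D ∣ 8 := by rw [← l.cardV3]; exact card_dvd_of_le inf_le_left
    have h17 : Nat.card D ≤ 8 := Nat.le_of_dvd (by norm_num) h16
    have h18 : Nat.card D ≠ 6 ∧ Nat.card D ≠ 7 := by
      refine ⟨?_, ?_⟩ <;> intro h7 <;> rw [h7] at h16 <;> revert h16 <;> decide
    have h19 : Nat.card D = 8 := by omega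
    have h20 : D = cj y V3 := Subgroup.eq_of_le_of_card_ge inf_le_left (by rw [h19, l.cardV3])
    have h21 : D = cj y' V3 := Subgroup.eq_of_le_of_card_ge inf_le_right (by rw [h19, l'.cardV3])
    exact hne (h20.symm.trans h21)
  have h8 : 0 < (centralizer (U : Set G)).relIndex B1 := relIndex_pos _ _
  have h9 : 3 * (centralizer (U : Set G)).relIndex B1 ≤ (h.nb A0).relIndex U := by
    rw [← h5]
    exact Nat.mul_le_mul h7 h6
  have h10 : (centralizer (U : Set G)).relIndex A0 ≤ 2 * (centralizer (U : Set G)).relIndex B1 := by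
    rw [← h4, mul_comm]
    exact Nat.mul_le_mul_right _ h3
  omega

end quad

/-- **`[V₃, Q] ≤ ⟨z⟩` ⟹ `P₂ ≤ N(V₃)`** -/
theorem normA {F : Set (Subgroup G)} (f : F4 S P P2 F) (hN : NoOv P2) : P2 ≤ normalizer (V3 : Set G) := by
  by_cases hE : ⁅cl (zl (S : Subgroup G) P) P2, oddGen P2⁆ ≤ h.nb (o2 P2)
  · exact h.norm_of_E hz hE
  exfalso
  obtain ⟨A, hA, hAQ, hq⟩ := h.exists_quad f
  obtain ⟨hH, hD, hle, hr⟩ := h.count_A hz f hA hAQ hN hE
  have hAP : A ≤ P2 := (f.le A hA).trans h.S_le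
  set A0 := A ⊓ o2 P2 with hA0
  obtain ⟨y, hy, hAy⟩ : ∃ y ∈ P2, ¬ A0 ≤ centralizer ((cj y (zl (S : Subgroup G) P) : Subgroup G) : Set G) := by
    by_contra hcon
    push Not at hcon
    have h1 : A0 ≤ centralizer (cl (zl (S : Subgroup G) P) P2 : Set G) :=
      cent_symm (cl_le fun y hy => cent_symm (hcon y hy))
    rw [relIndex_eq_one.2 h1] at hr
    omega
  obtain ⟨b, hb, hbV⟩ := SetLike.not_le_iff_exists.1 hAy
  have l := h.loc hy
  have lz := h.hzy hz hy
  obtain ⟨v, hv, hv3⟩ := l.exists_v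
  have hvU := h.cjV_le hy hv
  set p := b * v * b⁻¹ * v⁻¹ with hp
  have hpz : p ∉ zpowers z := fun h0 => hbV (l.L1 lz hb.2 hv hv3 h0)
  have hp3 : p ∈ cj y V3 := l.comm3 b hb.2 v hv
  have hpA : p ∈ centralizer (A : Set G) := hq v hvU b hb.1
  obtain ⟨a, ha, hav⟩ : ∃ a ∈ A, a * v * a⁻¹ * v⁻¹ ∉ h.nb (o2 P2) := by
    by_contra hcon
    push Not at hcon
    exact hpz ((hD v hvU hcon).2 b hb)
  have haP := hAP ha
  have hay : a * y ∈ P2 := mul_mem haP hy
  have l' := h.loc hay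
  have lz' := h.hzy hz hay
  have hv' : a * v * a⁻¹ ∈ cj (a * y) (zl (S : Subgroup G) P) := by
    rw [← cj_cj, mem_cj]
    have e : a⁻¹ * (a * v * a⁻¹) * a = v := by group
    rwa [e]
  have hv3' : a * v * a⁻¹ ∉ cj (a * y) V3 := by
    rw [← cj_cj, mem_cj]
    have e : a⁻¹ * (a * v * a⁻¹) * a = v := by group
    rwa [e]
  have hvU' := h.cjV_le hay hv'
  -- `V₃^{ay} ≠ V₃^y`
  have hne : cj y V3 ≠ cj (a * y) V3 := by
    intro he
    apply hav
    refine ⟨mul_mem hvU' (inv_mem hvU), fun q hqQ => ?_⟩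
    have hqP := h.S_le (h.Q_le hqQ)
    rw [h.comm_mul hqP hvU' (inv_mem hvU)]
    have hvi : v⁻¹ = v := inv_eq_of_mul_eq_one_right (h.U_sq' hvU)
    rw [hvi]
    by_cases hqV : q ∈ centralizer ((cj y (zl (S : Subgroup G) P) : Subgroup G) : Set G)
    · have h1 : q ∈ centralizer ((cj (a * y) (zl (S : Subgroup G) P) : Subgroup G) : Set G) := by
        refine l'.faith q hqQ ?_
        rw [← he]
        exact centralizer_le l.V3_le hqV
      have h2 := mem_centralizer_iff.1 hqV v hv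
      have h3 := mem_centralizer_iff.1 h1 _ hv'
      rw [← h3, mul_inv_cancel_right, mul_inv_cancel, one_mul, ← h2, mul_inv_cancel_right, mul_inv_cancel]
      exact one_mem _
    · have hqV' : q ∉ centralizer ((cj (a * y) (zl (S : Subgroup G) P) : Subgroup G) : Set G) := by
        intro h0
        apply hqV
        refine l.faith q hqQ ?_
        rw [he]
        exact centralizer_le l'.V3_le h0
      have h1 : q * v * q⁻¹ * v⁻¹ ∉ zpowers z := fun h0 => hqV (l.L1 lz hqQ hv hv3 h0)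
      have h2 : q * (a * v * a⁻¹) * q⁻¹ * (a * v * a⁻¹)⁻¹ ∉ zpowers z := fun h0 =>
        hqV' (l'.L1 lz' hqQ hv' hv3' h0)
      have h3 := l.comm3 q hqQ v hv
      have h4 := l'.comm3 q hqQ _ hv'
      rw [← he] at h4
      have h5 := l.L3 hqQ hqV h3 h4 h1 h2 (l.L2 lz hqQ hv) (l'.L2 lz' hqQ hv')
      have h6 := l.sq _ (l.V3_le h3)
      rw [pow_two] at h6
      rw [inv_eq_of_mul_eq_one_right h6] at h5
      exact h5
  -- all conjugates of `p` are centralised by `A`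
  have hpa : p ∈ cj (a * y) V3 := by
    rw [← cj_cj, mem_cj, mul_assoc, ← mem_centralizer_iff.1 hpA a ha, inv_mul_cancel_left]
    exact hp3
  have h1 : ∀ g ∈ P2, g * p * g⁻¹ ∈ centralizer (A : Set G) := by
    intro g hg
    have h2 : g * p * g⁻¹ ∈ cj (g * y) V3 := by
      rw [← cj_cj, mem_cj]
      have e : g⁻¹ * (g * p * g⁻¹) * g = p := by group
      rwa [e]
    have h3 : g * p * g⁻¹ ∈ cj (g * (a * y)) V3 := by
      rw [← cj_cj, mem_cj]
      have e : g⁻¹ * (g * p * g⁻¹) * g = p := by group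
      rwa [e]
    refine hH _ (h.cjV3_nb hz (mul_mem hg hy) h2) ?_
    by_contra h4
    have h5 := h.key hz f hA hq hle (mul_mem hg hy) (mul_mem hg hay) h2 h3 h4
    rw [← cj_cj, ← cj_cj g (a * y)] at h5
    exact hne (Subgroup.map_injective (MulAut.conj g).injective h5)
  have hM : cl (zpowers p) P2 ≤ centralizer (A : Set G) := by
    refine cl_le fun g hg w hw => ?_
    rw [mem_cj] at hw
    obtain ⟨n, hn⟩ := mem_zpowers_iff.1 hw
    have h2 : w = (g * p * g⁻¹) ^ n := by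
      rw [conj_zpow, hn]; group
    rw [h2]
    exact zpow_mem (h1 g hg) n
  have hMP : P2 ≤ normalizer (cl (zpowers p) P2 : Set G) := le_normalizer_cl _ _
  have hE' : oddGen P2 ≤ centralizer (cl (zpowers p) P2 : Set G) := by
    rcases h.min_or (N := P2 ⊓ centralizer (cl (zpowers p) P2 : Set G)) inf_le_left (le_normalizer_inf_cent hMP) with
      h2 | h2
    · exact h2.trans inf_le_right
    · exact absurd (le_trans (le_inf (f.le A hA) (le_inf hAP (cent_symm hM))) h2) hAQ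
  have hpM : y⁻¹ * p * y ∈ cl (zpowers p) P2 := by
    have h2 := conj_mem' hMP (inv_mem hy) (le_cl (zpowers p) P2 (mem_zpowers p))
    rwa [inv_inv] at h2
  have hpV : y⁻¹ * p * y ∈ V3 := mem_cj.1 hp3
  have hpz' : y⁻¹ * p * y ∉ zpowers z := fun h0 => hpz ((h.mem_zy hy).2 h0)
  have hS : (S : Subgroup G) ≤ normalizer ((zl (S : Subgroup G) P ⊓ cl (zpowers p) P2 : Subgroup G) : Set G) :=
    normalizer_inf h.mod.S_V (h.S_le.trans hMP)
  have hpm : y⁻¹ * p * y ∈ zl (S : Subgroup G) P ⊓ cl (zpowers p) P2 := ⟨h.mod.V3_le hpV, hpM⟩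
  have hR : R ≤ zl (S : Subgroup G) P ⊓ cl (zpowers p) P2 := by
    rcases h.mod.uni _ inf_le_left hS with h2 | h2 | h2 | h2 | h2
    · rw [h2, mem_bot] at hpm
      exact absurd (hpm ▸ one_mem _) hpz'
    · rw [h2] at hpm
      exact absurd hpm hpz'
    · exact h2.ge
    · exact h.mod.R_le.trans h2.ge
    · exact h.R_le_V.trans h2.ge
  exact h.E_cent_R (hE'.trans (centralizer_le (hR.trans inf_le_right)))

end A

end B4

end Cfsg.Agent.Omega.NO3S.Fld
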