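import Cfsg.Agent.Omega.NO3S.Fld.BFour

/-!
# Fld, `q = 4`, at a level: local facts for `j < i`

* `Loc Q V R V3 z` : what `Q` does on `V` (for all conjugates of `V` under `P₂`); `B4.loc`;
* `Loc.L1`, `L2`, `L3`, `L4` : the case `[V₃, Q] ≤ ⟨z⟩`;
* `Loc.cent_of_R`, `comm_R_eq`, `R_le_of` : the case `[V₃, Q] ≰ ⟨z⟩`.
-/

set_option autoImplicit false
set_option linter.unusedSectionVars false

namespace Cfsg.Agent.Omega.NO3S.Fld

open Subgroup Cfsg Cfsg.Agent.ZN Cfsg.Agent.ZN.ChoiceBase Cfsg.Agent.Omega.MinPar Cfsg.Agent.Omega.FrameNOFF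
open Cfsg.Agent.ZN.ChoiceSit (Syl syl_iff syl_not_dvd o2_le_syl isPGroup_o2)
open Cfsg.Agent.MinSimple.MinParabolic (IsMinPar)
open Cfsg.Agent.MinSimple.VModule (oddGen oddGen_le mem_oddGen le_normalizer_oddGen le_normalizer_o2 o2_le
  zc_le zc_le_zl le_normalizer_zl zc_sq zc_comm le_centralizer_zc)
open Cfsg.Agent.Omega.NO3b.EZero (cl cj_le_cl le_cl cl_le cj_cl le_normalizer_cl cent_symm cj_cent cj_norm
  sq_of_comm oddGen_sup_syl mem_cj_self relIndex_cj le_normalizer_inf_cent)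
open Cfsg.Agent.Omega.NO3b.K0 (conj_mem' cj_of_le cj_self)
open Cfsg.Agent.Omega.NO3S.NotFF (le_normalizer_of_forall normalizer_inf normalizer_sup normalizer_centralizer
  normalizer_commutator)
open Cfsg.Agent.Omega.SQ1.Bau (card_sup_comm mem_sup_comm)
open Cfsg.Agent.Omega.NO1.BestOff (Best)
open Cfsg.Agent.Omega.NO3S.Level (Lev BO nxt)
open scoped commutatorElement

universe u

/-- the action of `Q` on `V` -/
structure Loc {G : Type u} [Group G] (Q V R V3 : Subgroup G) (z : G) : Prop where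
  comm : V ≤ centralizer (V : Set G)
  sq : ∀ v ∈ V, v ^ 2 = 1
  card : Nat.card V = 16
  cardR : Nat.card R = 4
  cardV3 : Nat.card V3 = 8
  R_le : R ≤ V3
  V3_le : V3 ≤ V
  z_mem : z ∈ R
  z_ne : z ≠ 1
  small : ∀ b ∈ Q, (∀ v ∈ V, b * v * b⁻¹ * v⁻¹ ∈ zpowers z) → b ∈ centralizer (V : Set G)
  faith : ∀ b ∈ Q, b ∈ centralizer (V3 : Set G) → b ∈ centralizer (V : Set G)
  nCentR : ∀ b ∈ Q, b ∉ centralizer (R : Set G) → ∀ v ∈ V, b * v * b⁻¹ * v⁻¹ ∈ R → v ∈ V3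
  comm3 : ∀ b ∈ Q, ∀ v ∈ V, b * v * b⁻¹ * v⁻¹ ∈ V3
  commR : ∀ b ∈ Q, ∀ v ∈ V3, b * v * b⁻¹ * v⁻¹ ∈ R
  commz : ∀ b ∈ Q, ∀ v ∈ R, b * v * b⁻¹ * v⁻¹ ∈ zpowers z

section

variable {G : Type u} [Group G]

theorem mem_cent_cj {y g : G} {W : Subgroup G} :
    g ∈ centralizer ((cj y W : Subgroup G) : Set G) ↔ y⁻¹ * g * y ∈ centralizer (W : Set G) := by
  rw [← cj_centralizer, mem_cj]

theorem conj_comm' (y q v : G) : y⁻¹ * (q * v * q⁻¹ * v⁻¹) * y =
    (y⁻¹ * q * y) * (y⁻¹ * v * y) * (y⁻¹ * q * y)⁻¹ * (y⁻¹ * v * y)⁻¹ := by group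

end

namespace Loc

variable {G : Type u} [Group G] [Finite G] {Q V R V3 : Subgroup G} {z : G} (l : Loc Q V R V3 z)
include l

/-- conjugation -/
theorem conj {y : G} (hy : cj y Q = Q) (hz : cj y (zpowers z) = zpowers z) (hzy : y * z = z * y) :
    Loc Q (cj y V) (cj y R) (cj y V3) z := by
  have hq : ∀ {q : G}, q ∈ Q → y⁻¹ * q * y ∈ Q := fun {q} h => by rw [← hy, mem_cj] at h; exact h
  have hzz : ∀ {w : G}, w ∈ zpowers z ↔ y⁻¹ * w * y ∈ zpowers z := fun {w} => by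
    conv_lhs => rw [← hz, mem_cj]
  refine ⟨cj_cent l.comm, ?_, ?_, ?_, ?_, ?_, ?_, ?_, l.z_ne, ?_, ?_, ?_, ?_, ?_, ?_⟩
  · intro v hv
    have h1 := l.sq _ (mem_cj.1 hv)
    have e : (y⁻¹ * v * y) ^ 2 = y⁻¹ * v ^ 2 * y := by rw [pow_two, pow_two]; group
    rw [e, mul_assoc, inv_mul_eq_one] at h1
    have h2 : v ^ 2 * y = 1 * y := by rw [one_mul]; exact h1.symm
    exact mul_right_cancel h2
  · rw [card_cj]; exact l.card
  · rw [card_cj]; exact l.cardR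
  · rw [card_cj]; exact l.cardV3
  · exact cj_mono y l.R_le
  · exact cj_mono y l.V3_le
  · rw [mem_cj]
    have e : y⁻¹ * z * y = z := by rw [mul_assoc, ← hzy, inv_mul_cancel_left]
    rw [e]; exact l.z_mem
  · intro b hb h1
    rw [mem_cent_cj]
    refine l.small _ (hq hb) fun v hv => ?_
    have h2 := h1 (y * v * y⁻¹) (by rw [mem_cj]; have e : y⁻¹ * (y * v * y⁻¹) * y = v := by group
                                    rw [e]; exact hv)
    rw [hzz, conj_comm'] at h2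
    have e : y⁻¹ * (y * v * y⁻¹) * y = v := by group
    rwa [e] at h2
  · intro b hb h1
    rw [mem_cent_cj] at h1 ⊢
    exact l.faith _ (hq hb) h1
  · intro b hb h1 v hv h2
    rw [mem_cent_cj] at h1
    rw [mem_cj, conj_comm'] at h2
    rw [mem_cj] at hv ⊢
    exact l.nCentR _ (hq hb) h1 _ hv h2
  · intro b hb v hv
    rw [mem_cj] at hv ⊢
    rw [conj_comm']
    exact l.comm3 _ (hq hb) _ hv
  · intro b hb v hv
    rw [mem_cj] at hv ⊢
    rw [conj_comm']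
    exact l.commR _ (hq hb) _ hv
  · intro b hb v hv
    rw [mem_cj] at hv
    rw [hzz, conj_comm']
    exact l.commz _ (hq hb) _ hv

theorem z_mem_V : z ∈ V := l.V3_le (l.R_le l.z_mem)

theorem z_sq : z * z = 1 := by
  have := l.sq z l.z_mem_V
  rwa [pow_two] at this

theorem mem_z {g : G} : g ∈ zpowers z ↔ g = 1 ∨ g = z := by
  constructor
  · intro hg
    obtain ⟨n, rfl⟩ := mem_zpowers_iff.1 hg
    rcases Int.even_or_odd' n with ⟨k, rfl | rfl⟩
    · left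
      rw [zpow_mul, zpow_ofNat, pow_two, l.z_sq, one_zpow]
    · right
      rw [zpow_add, zpow_mul, zpow_ofNat, pow_two, l.z_sq, one_zpow, one_mul, zpow_one]
  · rintro (rfl | rfl)
    · exact one_mem _
    · exact mem_zpowers _

theorem card_z : Nat.card (zpowers z) = 2 := by
  rw [Nat.card_zpowers]
  exact orderOf_eq_prime (by rw [pow_two]; exact l.z_sq) l.z_ne

theorem V3_index {v w : G} (hv : v ∈ V) (hv3 : v ∉ V3) (hw : w ∈ V) (hw3 : w ∉ V3) : v⁻¹ * w ∈ V3 := by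
  have hidx : (V3.subgroupOf V).index = 2 := by
    have h1 := relIndex_mul_card V V3
    rw [inf_eq_right.2 l.V3_le, l.cardV3, l.card] at h1
    change V3.relIndex V = 2
    omega
  have h2 := Subgroup.mul_mem_iff_of_index_two hidx (a := ⟨v⁻¹, inv_mem hv⟩) (b := ⟨w, hw⟩)
  rw [mem_subgroupOf, mem_subgroupOf, mem_subgroupOf] at h2
  refine h2.2 ?_
  change v⁻¹ ∈ V3 ↔ w ∈ V3
  rw [inv_mem_iff]
  exact ⟨fun h => absurd h hv3, fun h => absurd h hw3⟩

theorem exists_v : ∃ v ∈ V, v ∉ V3 := by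
  by_contra hcon
  push Not at hcon
  have h1 := Subgroup.card_le_of_le (show V ≤ V3 from hcon)
  rw [l.card, l.cardV3] at h1
  omega

theorem R_index {v w : G} (hv : v ∈ V3) (hv3 : v ∉ R) (hw : w ∈ V3) (hw3 : w ∉ R) : v⁻¹ * w ∈ R := by
  have hidx : (R.subgroupOf V3).index = 2 := by
    have h1 := relIndex_mul_card V3 R
    rw [inf_eq_right.2 l.R_le, l.cardR, l.cardV3] at h1
    change R.relIndex V3 = 2
    omega
  have h2 := Subgroup.mul_mem_iff_of_index_two hidx (a := ⟨v⁻¹, inv_mem hv⟩) (b := ⟨w, hw⟩)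
  rw [mem_subgroupOf, mem_subgroupOf, mem_subgroupOf] at h2
  refine h2.2 ?_
  change v⁻¹ ∈ R ↔ w ∈ R
  rw [inv_mem_iff]
  exact ⟨fun h => absurd h hv3, fun h => absurd h hw3⟩

theorem z_comm {v : G} (hv : v ∈ V) : v * z = z * v :=
  (mem_centralizer_iff.1 (l.comm hv) z l.z_mem_V).symm

theorem z_conj {v w : G} (hv : v ∈ V) (hw : w ∈ zpowers z) : v * w * v⁻¹ = w := by
  rcases l.mem_z.1 hw with rfl | rfl
  · rw [mul_one, mul_inv_cancel]
  · rw [l.z_comm hv, mul_inv_cancel_right]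

section A

variable (hz : ∀ b ∈ Q, ∀ v ∈ V3, b * v * b⁻¹ * v⁻¹ ∈ zpowers z)
include hz

theorem L1 {q v : G} (hq : q ∈ Q) (hv : v ∈ V) (hv3 : v ∉ V3) (h : q * v * q⁻¹ * v⁻¹ ∈ zpowers z) :
    q ∈ centralizer (V : Set G) := by
  refine l.small q hq fun w hw => ?_
  by_cases hw3 : w ∈ V3
  · exact hz q hq w hw3
  have h1 := l.V3_index hv hv3 hw hw3
  have h2 := hz q hq _ h1
  have e : q * w * q⁻¹ * w⁻¹ = (q * v * q⁻¹ * v⁻¹) * (v * (q * (v⁻¹ * w) * q⁻¹ * (v⁻¹ * w)⁻¹) * v⁻¹) := by group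
  rw [e, l.z_conj hv h2]
  exact mul_mem h h2

theorem sq_cent {q : G} (hq : q ∈ Q) : q * q ∈ centralizer (V : Set G) := by
  refine l.small _ (mul_mem hq hq) fun v hv => ?_
  have h1 := l.comm3 q hq v hv
  have h2 := hz q hq _ h1
  have h3 := l.sq _ (l.V3_le h1)
  rw [pow_two] at h3
  have e : q * q * v * (q * q)⁻¹ * v⁻¹ = (q * (q * v * q⁻¹ * v⁻¹) * q⁻¹ * (q * v * q⁻¹ * v⁻¹)⁻¹) *
      ((q * v * q⁻¹ * v⁻¹) * (q * v * q⁻¹ * v⁻¹)) := by group
  rw [e, h3, mul_one]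
  exact h2

theorem L2 {q v : G} (hq : q ∈ Q) (hv : v ∈ V) : q * (q * v * q⁻¹ * v⁻¹) = (q * v * q⁻¹ * v⁻¹) * q := by
  have h1 := l.comm3 q hq v hv
  have h3 := l.sq _ (l.V3_le h1)
  rw [pow_two] at h3
  have h4 := mem_centralizer_iff.1 (l.sq_cent hz hq) v hv
  have h5 : q * q * v * (q * q)⁻¹ * v⁻¹ = 1 := by rw [← h4, mul_inv_cancel_right, mul_inv_cancel]
  have e : q * q * v * (q * q)⁻¹ * v⁻¹ = (q * (q * v * q⁻¹ * v⁻¹) * q⁻¹ * (q * v * q⁻¹ * v⁻¹)⁻¹) *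
      ((q * v * q⁻¹ * v⁻¹) * (q * v * q⁻¹ * v⁻¹)) := by group
  rw [e, h3, mul_one, mul_inv_eq_one, mul_inv_eq_iff_eq_mul] at h5
  exact h5

omit hz in
theorem L3 {q w w' : G} (hq : q ∈ Q) (hqV : q ∉ centralizer (V : Set G)) (hw : w ∈ V3) (hw' : w' ∈ V3)
    (hwz : w ∉ zpowers z) (hwz' : w' ∉ zpowers z) (hqw : q * w = w * q) (hqw' : q * w' = w' * q) :
    w' * w⁻¹ ∈ zpowers z := by
  set D := V3 ⊓ centralizer ({q} : Set G) with hD
  have hDV : D ≤ V := inf_le_left.trans l.V3_le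
  have hmem : ∀ {g : G}, g ∈ V3 → q * g = g * q → g ∈ D := fun {g} h1 h2 =>
    ⟨h1, mem_centralizer_singleton_iff.2 h2.symm⟩
  have hzq : z ∈ D := by
    refine hmem (l.R_le l.z_mem) ?_
    have h1 := l.commz q hq z l.z_mem
    rcases l.mem_z.1 h1 with h2 | h2
    · rw [mul_inv_eq_one, mul_inv_eq_iff_eq_mul] at h2
      exact h2
    · exfalso
      rw [mul_inv_eq_iff_eq_mul, l.z_sq, conj_eq_one_iff] at h2
      exact l.z_ne h2
  have hwD := hmem hw hqw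
  have hwD' := hmem hw' hqw'
  have h1 : Nat.card D ∣ 8 := by rw [← l.cardV3]; exact card_dvd_of_le inf_le_left
  have h2 : Nat.card D ≠ 8 := by
    intro h0
    have h3 : D = V3 := Subgroup.eq_of_le_of_card_ge inf_le_left (by rw [h0, l.cardV3])
    apply hqV
    refine l.faith q hq ?_
    rw [mem_centralizer_iff]
    intro v hv
    rw [← h3] at hv
    exact mem_centralizer_singleton_iff.1 hv.2
  have hw1 := fun h0 => hwz (l.mem_z.2 (Or.inl h0))
  have hw2 := fun h0 => hwz (l.mem_z.2 (Or.inr h0))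
  have hw1' := fun h0 => hwz' (l.mem_z.2 (Or.inl h0))
  have hw2' := fun h0 => hwz' (l.mem_z.2 (Or.inr h0))
  have h3 : 2 < Nat.card D := by
    by_contra hcon
    push Not at hcon
    have h4 : zpowers z = D := Subgroup.eq_of_le_of_card_ge (zpowers_le.2 hzq) (by rw [l.card_z]; exact hcon)
    rw [← h4] at hwD
    exact hwz hwD
  have h4 : Nat.card D = 4 := by
    have h5 : Nat.card D ≤ 8 := Nat.le_of_dvd (by norm_num) h1
    have h6 : Nat.card D ≠ 3 ∧ Nat.card D ≠ 5 ∧ Nat.card D ≠ 6 ∧ Nat.card D ≠ 7 := by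
      refine ⟨?_, ?_, ?_, ?_⟩ <;> intro h7 <;> rw [h7] at h1 <;> revert h1 <;> decide
    omega
  rcases eq_of_card_four h4 (fun v hv => l.sq v (hDV hv)) hzq l.z_ne hwD hw1 (fun h0 => hw2 h0.symm) hwD' hw1' with
    e | e | e
  · exact absurd e hw2'
  · rw [e, mul_inv_cancel]; exact one_mem _
  · rw [e, mul_inv_cancel_right]; exact mem_zpowers z

end A

theorem exists_f : ∃ f ∈ V3, f ∉ R := by
  by_contra hcon
  push Not at hcon
  have h1 := Subgroup.card_le_of_le (show V3 ≤ R from hcon)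
  rw [l.cardV3, l.cardR] at h1
  omega

theorem V3_cases {f v : G} (hf : f ∈ V3) (hfR : f ∉ R) (hv : v ∈ V3) : v ∈ R ∨ ∃ r ∈ R, v = f * r := by
  by_cases hvR : v ∈ R
  · exact Or.inl hvR
  · exact Or.inr ⟨_, l.R_index hf hfR hv hvR, by group⟩

/-- `q` moves `R` : `[q, r] = z` for `r ∈ R - ⟨z⟩` -/
theorem R_comm {q r : G} (hq : q ∈ Q) (hqR : q ∉ centralizer (R : Set G)) (hr : r ∈ R) (hrz : r ∉ zpowers z) :
    q * r * q⁻¹ * r⁻¹ = z := by
  rcases l.mem_z.1 (l.commz q hq r hr) with h1 | h1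
  · exfalso
    rw [mul_inv_eq_one, mul_inv_eq_iff_eq_mul] at h1
    apply hqR
    rw [mem_centralizer_iff]
    intro x hx
    have hqz : q * z = z * q := by
      rcases l.mem_z.1 (l.commz q hq z l.z_mem) with h2 | h2
      · rw [mul_inv_eq_one, mul_inv_eq_iff_eq_mul] at h2
        exact h2
      · exfalso
        rw [mul_inv_eq_iff_eq_mul, l.z_sq, conj_eq_one_iff] at h2
        exact l.z_ne h2
    have hr1 := fun h0 => hrz (l.mem_z.2 (Or.inl h0))
    have hr2 := fun h0 => hrz (l.mem_z.2 (Or.inr h0))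
    by_cases hx1 : x = 1
    · rw [hx1, one_mul, mul_one]
    rcases eq_of_card_four l.cardR (fun v hv => l.sq v (l.V3_le (l.R_le hv))) l.z_mem l.z_ne hr hr1
      (fun h0 => hr2 h0.symm) hx hx1 with e | e | e
    · rw [e, hqz]
    · rw [e, h1]
    · rw [e, mul_assoc, ← h1, ← mul_assoc, ← hqz, mul_assoc]
  · exact h1

/-- two elements which move `R` -/
theorem R_mul {s t : G} (hs : s ∈ Q) (ht : t ∈ Q) (hsR : s ∉ centralizer (R : Set G))
    (htR : t ∉ centralizer (R : Set G)) : s * t ∈ centralizer (R : Set G) := by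
  rw [mem_centralizer_iff]
  intro x hx
  have hc : ∀ q ∈ Q, q * z = z * q := fun q hq => by
    rcases l.mem_z.1 (l.commz q hq z l.z_mem) with h2 | h2
    · rw [mul_inv_eq_one, mul_inv_eq_iff_eq_mul] at h2
      exact h2
    · exfalso
      rw [mul_inv_eq_iff_eq_mul, l.z_sq, conj_eq_one_iff] at h2
      exact l.z_ne h2
  by_cases hxz : x ∈ zpowers z
  · rcases l.mem_z.1 hxz with rfl | rfl
    · rw [one_mul, mul_one]
    · exact (hc _ (mul_mem hs ht)).symm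
  have h1 := l.R_comm hs hsR hx hxz
  have h2 := l.R_comm ht htR hx hxz
  have e : s * t * x * (s * t)⁻¹ * x⁻¹ = (s * (t * x * t⁻¹ * x⁻¹) * s⁻¹) * (s * x * s⁻¹ * x⁻¹) := by group
  rw [h1, h2, hc s hs, mul_inv_cancel_right, l.z_sq, mul_inv_eq_one, mul_inv_eq_iff_eq_mul] at e
  exact e.symm

/-- `c` centralises `R` and some `f ∈ V₃ - R` -/
theorem cent_of_f {c f : G} (hc : c ∈ Q) (hcR : c ∈ centralizer (R : Set G)) (hf : f ∈ V3) (hfR : f ∉ R)
    (hcf : c * f = f * c) : c ∈ centralizer (V : Set G) := by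
  refine l.faith c hc ?_
  rw [mem_centralizer_iff]
  intro v hv
  rcases l.V3_cases hf hfR hv with hv | ⟨r, hr, rfl⟩
  · exact mem_centralizer_iff.1 hcR v hv
  · have h1 := mem_centralizer_iff.1 hcR r hr
    rw [mul_assoc, h1, ← mul_assoc, ← hcf, mul_assoc]

/-- `[V₃, Q] ≰ ⟨z⟩` : `R` lies in the `Q`-invariant subgroups which contain `z` and an element of `V₃ - R` -/
theorem R_le_of (hz : ¬ ∀ b ∈ Q, ∀ v ∈ V3, b * v * b⁻¹ * v⁻¹ ∈ zpowers z) {W : Subgroup G}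
    (hW : Q ≤ normalizer (W : Set G)) (hzW : z ∈ W) {f : G} (hfW : f ∈ W) (hf : f ∈ V3) (hfR : f ∉ R) : R ≤ W := by
  push Not at hz
  obtain ⟨b, hb, v, hv, hbv⟩ := hz
  have h1 : b * f * b⁻¹ * f⁻¹ ∉ zpowers z := by
    intro h0
    apply hbv
    rcases l.V3_cases hf hfR hv with hv | ⟨r, hr, rfl⟩
    · exact l.commz b hb v hv
    · have h2 := l.commz b hb r hr
      have e : b * (f * r) * b⁻¹ * (f * r)⁻¹ = (b * f * b⁻¹ * f⁻¹) * (f * (b * r * b⁻¹ * r⁻¹) * f⁻¹) := by group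
      rw [e, l.z_conj (l.V3_le hf) h2]
      exact mul_mem h0 h2
  have h2 := l.commR b hb f hf
  have h3 : b * f * b⁻¹ * f⁻¹ ∈ W := mul_mem (conj_mem' hW hb hfW) (inv_mem hfW)
  have hr1 := fun h0 => h1 (l.mem_z.2 (Or.inl h0))
  have hr2 := fun h0 => h1 (l.mem_z.2 (Or.inr h0))
  intro x hx
  by_cases hx1 : x = 1
  · rw [hx1]; exact one_mem _
  rcases eq_of_card_four l.cardR (fun v hv => l.sq v (l.V3_le (l.R_le hv))) l.z_mem l.z_ne h2 hr1
    (fun h0 => hr2 h0.symm) hx hx1 with e | e | e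
  · rw [e]; exact hzW
  · rw [e]; exact h3
  · rw [e]; exact mul_mem hzW h3

/-- an element which normalises `R` and centralises `z` -/
theorem R_norm {a w : G} (ha : a * z = z * a) (hw : w ∈ R) (haw : a * w * a⁻¹ ∈ R) :
    a * w * a⁻¹ * w⁻¹ ∈ zpowers z := by
  by_cases hwz : w ∈ zpowers z
  · rcases l.mem_z.1 hwz with rfl | rfl
    · rw [mul_one, inv_one, mul_one, mul_inv_cancel]; exact one_mem _
    · rw [ha, mul_inv_cancel_right, mul_inv_cancel]; exact one_mem _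
  have h1 : a * w * a⁻¹ ≠ 1 := fun h0 => hwz (l.mem_z.2 (Or.inl (conj_eq_one_iff.1 h0)))
  have hr1 := fun h0 => hwz (l.mem_z.2 (Or.inl h0))
  have hr2 := fun h0 => hwz (l.mem_z.2 (Or.inr h0))
  rcases eq_of_card_four l.cardR (fun v hv => l.sq v (l.V3_le (l.R_le hv))) l.z_mem l.z_ne hw hr1
    (fun h0 => hr2 h0.symm) haw h1 with e | e | e
  · exfalso
    apply hr2
    have e2 : w = a⁻¹ * (a * w * a⁻¹) * a := by group
    rw [e2, e, mul_assoc, ← ha, inv_mul_cancel_left]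
  · rw [e, mul_inv_cancel]; exact one_mem _
  · rw [e, mul_inv_cancel_right]; exact mem_zpowers z

end Loc

namespace B4

variable {G : Type u} [Group G] [Finite G] {S : Sylow 2 G} {P P2 R V3 : Subgroup G} {z : G}
  (h : B4 S P P2 R V3 z)
include h

theorem loc1 : Loc (o2 P2) (zl (S : Subgroup G) P) R V3 z where
  comm := h.mod.comm
  sq := h.mod.sq
  card := h.mod.card
  cardR := h.mod.cardR
  cardV3 := h.mod.cardV3
  R_le := h.mod.R_le
  V3_le := h.mod.V3_le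
  z_mem := h.mod.z_mem
  z_ne := h.mod.z_ne
  small := fun b hb => h.mod.small b (h.Q_le hb)
  faith := fun b hb => h.mod.faith b (h.Q_le hb)
  nCentR := fun b hb => h.mod.nCentR b (h.Q_le hb)
  comm3 := fun _ hb _ hv => h.comm_VS (h.Q_le hb) hv
  commR := fun _ hb _ hv => h.comm_V3S (h.Q_le hb) hv
  commz := fun _ hb _ hv => h.comm_RS (h.Q_le hb) hv

theorem loc {y : G} (hy : y ∈ P2) : Loc (o2 P2) (cj y (zl (S : Subgroup G) P)) (cj y R) (cj y V3) z :=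
  h.loc1.conj (cj_of_le (le_normalizer_o2 P2) hy) (cj_of_le h.P2_zpowers hy) (h.z_comm hy)

theorem mem_zy {y w : G} (hy : y ∈ P2) : w ∈ zpowers z ↔ y⁻¹ * w * y ∈ zpowers z := by
  conv_lhs => rw [← cj_of_le h.P2_zpowers hy, mem_cj]

/-- `[V₃, Q] ≤ ⟨z⟩` is invariant -/
theorem hz_iff {y : G} (hy : y ∈ P2) : (∀ b ∈ o2 P2, ∀ v ∈ cj y V3, b * v * b⁻¹ * v⁻¹ ∈ zpowers z) ↔
    ∀ b ∈ o2 P2, ∀ v ∈ V3, b * v * b⁻¹ * v⁻¹ ∈ zpowers z := by
  constructor
  · intro h1 b hb v hv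
    have hb' : y * b * y⁻¹ ∈ o2 P2 := conj_mem' (le_normalizer_o2 P2) hy hb
    have hv' : y * v * y⁻¹ ∈ cj y V3 := by
      rw [mem_cj]
      have e : y⁻¹ * (y * v * y⁻¹) * y = v := by group
      rwa [e]
    have h2 := h1 _ hb' _ hv'
    rw [h.mem_zy hy, conj_comm'] at h2
    have e1 : y⁻¹ * (y * v * y⁻¹) * y = v := by group
    have e2 : y⁻¹ * (y * b * y⁻¹) * y = b := by group
    rwa [e1, e2] at h2
  · intro h1 b hb v hv
    rw [h.mem_zy hy, conj_comm']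
    refine h1 _ ?_ _ (mem_cj.1 hv)
    have := conj_mem' (le_normalizer_o2 P2) (inv_mem hy) hb
    rwa [inv_inv] at this

theorem U_z : cl (zl (S : Subgroup G) P) P2 ≤ normalizer (zpowers z : Set G) :=
  (h.U_le_S.trans h.S_le).trans h.P2_zpowers

/-- `U ∋ v` for `v ∈ V^y` -/
theorem cjV_le {y : G} (hy : y ∈ P2) : cj y (zl (S : Subgroup G) P) ≤ cl (zl (S : Subgroup G) P) P2 := cj_le_cl hy

end B4

end Cfsg.Agent.Omega.NO3S.Fld
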