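import Cfsg.Agent.Omega.NO3b.Ineq
import Cfsg.Agent.Omega.NO3S.PointTI
import Cfsg.Agent.Omega.NoFF.ThmJ

/-!
# NO-3S, socket `Fld`: LEMMA U (TEXT 973-2), K-free

`V` a natural `SL₂(q)`-module for `P` (coordinates `e : F² → V`), `Q` normal in `P`, `[V, Q] = 1`, `A` an offender on
`U = V ⟨E^P⟩`, `A / C_A(U)` elementary abelian, inducing the full root group on `V`, and `C_A(V) ≤ Q`.

`lemU` : `E ≤ Q` elementary abelian, `[E, E^g] = 1` for `g ∈ P`, `[E, Q] ≤ R = {e (a, 0)}` and no over-offender of `Q` on `E`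
⟹ `[E, Q] = 1`.

`off_of_max` : the offender condition for `A` elementary abelian of maximal order (compared with the subgroups of `Q`).
-/

set_option autoImplicit false
set_option linter.unusedSectionVars false

namespace Cfsg.Agent.Omega.NO3S.Fld.LemU

open Subgroup Cfsg.Agent.Omega.NO3b.Ineq Cfsg.Agent.Omega.NO3S.PT
open scoped Pointwise

variable {G : Type*} [Group G] {F : Type*} [Field F]

/-- commuting elements of order `≤ 2` -/
def El (K : Subgroup G) : Prop := (∀ a ∈ K, ∀ b ∈ K, a * b = b * a) ∧ ∀ a ∈ K, a * a = 1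

theorem El.mono {K L : Subgroup G} (h : El K) (hL : L ≤ K) : El L :=
  ⟨fun a ha b hb => h.1 a (hL ha) b (hL hb), fun a ha => h.2 a (hL ha)⟩

/-- `K / C_K(U)` is elementary abelian -/
def ElM (U K : Subgroup G) : Prop :=
  (∀ a ∈ K, ∀ b ∈ K, a * b * a⁻¹ * b⁻¹ ∈ centralizer (U : Set G)) ∧ ∀ a ∈ K, a * a ∈ centralizer (U : Set G)

theorem ElM.mono {U K L : Subgroup G} (h : ElM U K) (hL : L ≤ K) : ElM U L :=
  ⟨fun a ha b hb => h.1 a (hL ha) b (hL hb), fun a ha => h.2 a (hL ha)⟩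

theorem ElM.low {U W K : Subgroup G} (h : ElM U K) (hW : W ≤ U) : ElM W K :=
  ⟨fun a ha b hb => centralizer_le hW (h.1 a ha b hb), fun a ha => centralizer_le hW (h.2 a ha)⟩

theorem El.elM {K : Subgroup G} (h : El K) (U : Subgroup G) : ElM U K :=
  ⟨fun a ha b hb => by
    have e : a * b * a⁻¹ * b⁻¹ = 1 := by rw [h.1 a ha b hb]; group
    rw [e]; exact one_mem _, fun a ha => by rw [h.2 a ha]; exact one_mem _⟩

/-- the family -/
def Fam (P V E : Subgroup G) : Set (Subgroup G) := {L | L = V ∨ ∃ g ∈ P, L = cj g E}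

/-- `U = V ⟨E^P⟩` -/
def UU (P V E : Subgroup G) : Subgroup G := sSup (Fam P V E)

/-- **The hypotheses of LEMMA U.** -/
structure Hyp (P Q V A E : Subgroup G) (e : (Fin 2 → F) → G) : Prop where
  QP : Q ≤ P
  Qn : P ≤ normalizer (Q : Set G)
  Vn : P ≤ normalizer (V : Set G)
  VQ : V ≤ Q
  QV : Q ≤ centralizer (V : Set G)
  e_add : ∀ x y, e (x + y) = e x * e y
  e_inj : Function.Injective e
  mem_iff : ∀ g, g ∈ V ↔ ∃ x, e x = g
  Vsq : ∀ v ∈ V, v * v = 1
  AP : A ≤ P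
  Ael : ElM (UU P V E) A
  off : cidx (UU P V E) A ≤ cidx A (UU P V E)
  act : ∀ a ∈ A, ∃ t : F, ∀ x, a * e x * a⁻¹ = e ![x 0 + t * x 1, x 1]
  full : ∀ t : F, ∃ a ∈ A, ∀ x, a * e x * a⁻¹ = e ![x 0 + t * x 1, x 1]
  AQ : A ⊓ centralizer (V : Set G) ≤ Q
  swap : ∃ w ∈ P, ∀ x, w * e x * w⁻¹ = e ![x 1, x 0]
  EQ : E ≤ Q
  Eel : El E
  EE : ∀ g ∈ P, ∀ x ∈ E, ∀ y ∈ E, x * (g * y * g⁻¹) = g * y * g⁻¹ * x
  ER : ∀ x ∈ E, ∀ t ∈ Q, ∃ a : F, t * x * t⁻¹ * x⁻¹ = e ![a, 0]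
  no : ∀ K : Subgroup G, K ≤ Q → ElM E K → cidx K E ≤ cidx E K

theorem ext2 {x y : Fin 2 → F} (h0 : x 0 = y 0) (h1 : x 1 = y 1) : x = y := by
  funext i
  fin_cases i
  · exact h0
  · exact h1

theorem card_rel {H K : Subgroup G} (hHK : H ≤ K) : Nat.card H * H.relIndex K = Nat.card K := by
  rw [← Nat.card_congr (Subgroup.subgroupOfEquivOfLe hHK).toEquiv, relIndex, Subgroup.card_mul_index]

namespace Hyp

variable {P Q V A E : Subgroup G} {e : (Fin 2 → F) → G} (h : Hyp P Q V A E e)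
include h

theorem e_zero : e 0 = 1 := by
  have := h.e_add 0 0
  rw [add_zero] at this
  exact left_eq_mul.1 this

theorem e_mem (x : Fin 2 → F) : e x ∈ V := (h.mem_iff _).2 ⟨x, rfl⟩

theorem V_le : V ≤ UU P V E := le_sSup (Or.inl rfl)

theorem E_le {g : G} (hg : g ∈ P) : cj g E ≤ UU P V E := le_sSup (Or.inr ⟨g, hg, rfl⟩)

theorem Eg_Q {g : G} (hg : g ∈ P) : cj g E ≤ Q := by
  have h1 : cj g E ≤ cj g Q := cj_le_cj.2 h.EQ
  rwa [cj_eq_iff.2 (h.Qn hg)] at h1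

theorem U_le_Q : UU P V E ≤ Q := by
  refine sSup_le ?_
  rintro L (rfl | ⟨g, hg, rfl⟩)
  · exact h.VQ
  · exact h.Eg_Q hg

theorem fam_comm {L L' : Subgroup G} (hL : L ∈ Fam P V E) (hL' : L' ∈ Fam P V E) :
    L ≤ centralizer (L' : Set G) := by
  rcases hL with rfl | ⟨g, hg, rfl⟩
  · rcases hL' with rfl | ⟨g', hg', rfl⟩
    · exact h.VQ.trans h.QV
    · rw [Subgroup.le_centralizer_iff]
      exact (h.Eg_Q hg').trans h.QV
  · rcases hL' with rfl | ⟨g', hg', rfl⟩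
    · exact (h.Eg_Q hg).trans h.QV
    · intro x hx
      rw [mem_centralizer_iff]
      intro y hy
      have h1 := h.EE (g'⁻¹ * g) (mul_mem (inv_mem hg') hg) _ (mem_cj.1 hy) _ (mem_cj.1 hx)
      have h2 := congrArg (fun t => g' * t * g'⁻¹) h1
      have e1 : g' * (g'⁻¹ * y * g' * (g'⁻¹ * g * (g⁻¹ * x * g) * (g'⁻¹ * g)⁻¹)) * g'⁻¹ = y * x := by group
      have e2 : g' * (g'⁻¹ * g * (g⁻¹ * x * g) * (g'⁻¹ * g)⁻¹ * (g'⁻¹ * y * g')) * g'⁻¹ = x * y := by group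
      simp only [e1, e2] at h2
      exact h2

theorem U_comm : UU P V E ≤ centralizer ((UU P V E : Subgroup G) : Set G) := by
  refine sSup_le fun L hL => ?_
  rw [Subgroup.le_centralizer_iff]
  exact sSup_le fun L' hL' => h.fam_comm hL' hL

theorem U_comm' {x y : G} (hx : x ∈ UU P V E) (hy : y ∈ UU P V E) : x * y = y * x :=
  (mem_centralizer_iff.1 (h.U_comm hx) y hy).symm

theorem U_sq : ∀ u ∈ UU P V E, u * u = 1 := by
  let T : Subgroup G :=
    { carrier := {x | x ∈ UU P V E ∧ x * x = 1}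
      one_mem' := ⟨one_mem _, one_mul 1⟩
      mul_mem' := by
        rintro x y ⟨hx, hx2⟩ ⟨hy, hy2⟩
        refine ⟨mul_mem hx hy, ?_⟩
        have h1 := h.U_comm' hy hx
        calc x * y * (x * y) = x * (y * x) * y := by group
          _ = x * (x * y) * y := by rw [h1]
          _ = x * x * (y * y) := by group
          _ = 1 := by rw [hx2, hy2, one_mul]
      inv_mem' := by
        rintro x ⟨hx, hx2⟩
        refine ⟨inv_mem hx, ?_⟩
        rw [← mul_inv_rev, hx2, inv_one] }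
  have h1 : UU P V E ≤ T := by
    refine sSup_le ?_
    rintro L (rfl | ⟨g, hg, rfl⟩) x hx
    · exact ⟨h.V_le hx, h.Vsq x hx⟩
    · refine ⟨h.E_le hg hx, ?_⟩
      have h2 := congrArg (fun t => g * t * g⁻¹) (h.Eel.2 _ (mem_cj.1 hx))
      simpa [mul_assoc] using h2
  exact fun u hu => (h1 hu).2

theorem U_el : El (UU P V E) := ⟨fun _ ha _ hb => h.U_comm' ha hb, h.U_sq⟩

/-- `[U, Q] ≤ V` -/
theorem UQ {u t : G} (hu : u ∈ UU P V E) (ht : t ∈ Q) : t * u * t⁻¹ * u⁻¹ ∈ V := by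
  let T : Subgroup G :=
    { carrier := {x | x ∈ Q ∧ ∀ t ∈ Q, t * x * t⁻¹ * x⁻¹ ∈ V}
      one_mem' := ⟨one_mem _, fun t _ => by simp⟩
      mul_mem' := by
        rintro x y ⟨hx, hx2⟩ ⟨hy, hy2⟩
        refine ⟨mul_mem hx hy, fun t ht => ?_⟩
        have h1 : t * (x * y) * t⁻¹ * (x * y)⁻¹ = t * x * t⁻¹ * x⁻¹ * (x * (t * y * t⁻¹ * y⁻¹) * x⁻¹) := by group
        have h2 := mem_centralizer_iff.1 (h.QV hx) _ (hy2 t ht)
        rw [h1, ← h2, mul_inv_cancel_right]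
        exact mul_mem (hx2 t ht) (hy2 t ht)
      inv_mem' := by
        rintro x ⟨hx, hx2⟩
        refine ⟨inv_mem hx, fun t ht => ?_⟩
        have h1 : t * x⁻¹ * t⁻¹ * x⁻¹⁻¹ = x⁻¹ * ((x * (t * x⁻¹ * t⁻¹))) * x := by group
        have h3 : x * (t * x⁻¹ * t⁻¹) = (t * x * t⁻¹ * x⁻¹)⁻¹ := by group
        have h2 := mem_centralizer_iff.1 (h.QV (inv_mem hx)) _ (inv_mem (hx2 t ht))
        rw [h1, h3, ← h2, inv_mul_cancel_right]
        exact inv_mem (hx2 t ht) }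
  have h1 : UU P V E ≤ T := by
    refine sSup_le ?_
    rintro L (rfl | ⟨g, hg, rfl⟩) x hx
    · refine ⟨h.VQ hx, fun t ht => ?_⟩
      have := mem_centralizer_iff.1 (h.QV ht) x hx
      rw [← this, mul_inv_cancel_right, mul_inv_cancel]
      exact one_mem _
    · refine ⟨h.Eg_Q hg hx, fun t ht => ?_⟩
      have htg : g⁻¹ * t * g ∈ Q := by
        have := (mem_normalizer_iff.1 (h.Qn (inv_mem hg)) t).1 ht
        rwa [inv_inv] at this
      obtain ⟨a, ha⟩ := h.ER _ (mem_cj.1 hx) _ htg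
      have h2 : g⁻¹ * t * g * (g⁻¹ * x * g) * (g⁻¹ * t * g)⁻¹ * (g⁻¹ * x * g)⁻¹ ∈ V := by rw [ha]; exact h.e_mem _
      have h3 := (mem_normalizer_iff.1 (h.Vn hg) _).1 h2
      have h4 : g * (g⁻¹ * t * g * (g⁻¹ * x * g) * (g⁻¹ * t * g)⁻¹ * (g⁻¹ * x * g)⁻¹) * g⁻¹ = t * x * t⁻¹ * x⁻¹ := by
        group
      rwa [h4] at h3
  exact (h1 hu).2 t ht

end Hyp

/-! ### Coordinates -/

open Classical in
/-- the coordinates of `v ∈ V` -/
noncomputable def co (e : (Fin 2 → F) → G) (g : G) : Fin 2 → F := if h : ∃ x, e x = g then h.choose else 0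

/-- `u ↦ (a ↦ [a, u])` -/
noncomputable def ff (A Q : Subgroup G) (e : (Fin 2 → F) → G) (u : G) : (A ⊓ Q : Subgroup G) → Fin 2 → F :=
  fun a => co e ((a : G) * u * (a : G)⁻¹ * u⁻¹)

namespace Hyp

variable {P Q V A E : Subgroup G} {e : (Fin 2 → F) → G} (h : Hyp P Q V A E e)
include h

theorem co_e (x : Fin 2 → F) : co e (e x) = x := by
  have hx : ∃ y, e y = e x := ⟨x, rfl⟩
  rw [co, dif_pos hx]
  exact h.e_inj hx.choose_spec

theorem e_co {v : G} (hv : v ∈ V) : e (co e v) = v := by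
  obtain ⟨x, rfl⟩ := (h.mem_iff v).1 hv
  rw [h.co_e]

theorem co_mul {v w : G} (hv : v ∈ V) (hw : w ∈ V) : co e (v * w) = co e v + co e w := by
  obtain ⟨x, rfl⟩ := (h.mem_iff v).1 hv
  obtain ⟨y, rfl⟩ := (h.mem_iff w).1 hw
  rw [← h.e_add, h.co_e, h.co_e, h.co_e]

theorem co_one : co e 1 = 0 := by rw [← h.e_zero, h.co_e]

theorem aQ (a : (A ⊓ Q : Subgroup G)) : (a : G) ∈ Q := a.2.2

theorem ff_mem {u : G} (hu : u ∈ UU P V E) (a : (A ⊓ Q : Subgroup G)) : (a : G) * u * (a : G)⁻¹ * u⁻¹ ∈ V :=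
  h.UQ hu a.2.2

theorem ff_mul {u v : G} (hu : u ∈ UU P V E) (hv : v ∈ UU P V E) : ff A Q e (u * v) = ff A Q e u + ff A Q e v := by
  funext a
  have h1 := h.ff_mem hu a
  have h2 := h.ff_mem hv a
  show co e _ = co e _ + co e _
  rw [← h.co_mul h1 h2]
  congr 1
  have h3 := h.U_comm' hu (h.V_le h2)
  calc (a : G) * (u * v) * (a : G)⁻¹ * (u * v)⁻¹
      = a * u * (a : G)⁻¹ * (a * v * (a : G)⁻¹ * v⁻¹) * u⁻¹ := by group
    _ = a * u * (a : G)⁻¹ * u⁻¹ * (u * (a * v * (a : G)⁻¹ * v⁻¹)) * u⁻¹ := by group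
    _ = a * u * (a : G)⁻¹ * u⁻¹ * ((a * v * (a : G)⁻¹ * v⁻¹) * u) * u⁻¹ := by rw [h3]
    _ = _ := by group

theorem ff_act {u : G} (hu : u ∈ UU P V E) (a b : (A ⊓ Q : Subgroup G)) :
    ff A Q e u (a * b) = ff A Q e u a + ff A Q e u b := by
  have h1 := h.ff_mem hu a
  have h2 := h.ff_mem hu b
  show co e _ = co e _ + co e _
  rw [← h.co_mul h1 h2]
  congr 1
  have h3 := mem_centralizer_iff.1 (h.QV (h.aQ a)) _ h2
  have h4 := h.U_comm' (h.V_le h1) (h.V_le h2)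
  calc ((a * b : (A ⊓ Q : Subgroup G)) : G) * u * ((a * b : (A ⊓ Q : Subgroup G)) : G)⁻¹ * u⁻¹
      = (a : G) * b * u * ((a : G) * b)⁻¹ * u⁻¹ := rfl
    _ = a * (b * u * (b : G)⁻¹ * u⁻¹) * (a : G)⁻¹ * (a * u * (a : G)⁻¹ * u⁻¹) := by group
    _ = (b * u * (b : G)⁻¹ * u⁻¹) * a * (a : G)⁻¹ * (a * u * (a : G)⁻¹ * u⁻¹) := by rw [← h3]
    _ = (b * u * (b : G)⁻¹ * u⁻¹) * (a * u * (a : G)⁻¹ * u⁻¹) := by group
    _ = _ := h4.symm

theorem ff_eq_zero {u : G} (hu : u ∈ UU P V E) :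
    ff A Q e u = 0 ↔ u ∈ centralizer ((A ⊓ Q : Subgroup G) : Set G) := by
  rw [mem_centralizer_iff]
  constructor
  · intro h1 a ha
    have h2 := congrFun h1 ⟨a, ha⟩
    have h3 : a * u * a⁻¹ * u⁻¹ = 1 := by
      rw [← h.e_co (h.ff_mem hu ⟨a, ha⟩)]
      show e (ff A Q e u ⟨a, ha⟩) = 1
      rw [h2]
      exact h.e_zero
    rwa [mul_inv_eq_one, mul_inv_eq_iff_eq_mul] at h3
  · intro h1
    funext a
    show co e _ = 0
    have h2 := h1 a a.2
    rw [h2, mul_inv_cancel_right, mul_inv_cancel, h.co_one]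

/-- the homomorphism `W → (A ∩ Q → F²)` -/
noncomputable def hom {W : Subgroup G} (hW : W ≤ UU P V E) : W →* Multiplicative ((A ⊓ Q : Subgroup G) → Fin 2 → F) :=
  MonoidHom.mk' (fun u => Multiplicative.ofAdd (ff A Q e u)) (by
    rintro ⟨u, hu⟩ ⟨v, hv⟩
    exact congrArg Multiplicative.ofAdd (h.ff_mul (hW hu) (hW hv)))

theorem hom_apply {W : Subgroup G} (hW : W ≤ UU P V E) (u : W) :
    h.hom hW u = Multiplicative.ofAdd (ff A Q e u) := rfl

theorem cidx_eq {W : Subgroup G} (hW : W ≤ UU P V E) :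
    cidx W (A ⊓ Q) = Nat.card (h.hom hW).range := by
  have h1 : (h.hom hW).ker = (centralizer ((A ⊓ Q : Subgroup G) : Set G)).subgroupOf W := by
    ext u
    rw [MonoidHom.mem_ker, mem_subgroupOf, ← h.ff_eq_zero (hW u.2), h.hom_apply]
    exact ⟨fun h1 => congrArg Multiplicative.toAdd h1, fun h1 => congrArg Multiplicative.ofAdd h1⟩
  rw [cidx, relIndex, ← h1, Subgroup.index_ker]


/-! ### The linear algebra -/

/-- the conjugate `D = E^w` -/
theorem D_co {w : G} (hw : w ∈ P) (hwe : ∀ x, w * e x * w⁻¹ = e ![x 1, x 0]) {d t : G} (hd : d ∈ cj w E) (ht : t ∈ Q) :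
    ∃ b : F, t * d * t⁻¹ * d⁻¹ = e ![0, b] := by
  have htg : w⁻¹ * t * w ∈ Q := by
    have := (mem_normalizer_iff.1 (h.Qn (inv_mem hw)) t).1 ht
    rwa [inv_inv] at this
  obtain ⟨a, ha⟩ := h.ER _ (mem_cj.1 hd) _ htg
  refine ⟨a, ?_⟩
  have h4 : w * (w⁻¹ * t * w * (w⁻¹ * d * w) * (w⁻¹ * t * w)⁻¹ * (w⁻¹ * d * w)⁻¹) * w⁻¹ = t * d * t⁻¹ * d⁻¹ := by
    group
  rw [← h4, ha, hwe]
  rfl

/-- `W = ⟨D^A⟩` -/
def WW (A D : Subgroup G) : Subgroup G := sSup {L | ∃ a ∈ A, L = cj a D}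

theorem WW_le {w : G} (hw : w ∈ P) : WW A (cj w E) ≤ UU P V E := by
  refine sSup_le ?_
  rintro L ⟨a, ha, rfl⟩
  rw [cj_cj]
  exact h.E_le (mul_mem (h.AP ha) hw)

theorem conj_mem_WW {D : Subgroup G} {a d : G} (ha : a ∈ A) (hd : d ∈ D) : a * d * a⁻¹ ∈ WW A D :=
  (le_sSup ⟨a, ha, rfl⟩ : cj a D ≤ WW A D) (conj_mem_cj hd)

theorem D_le_WW {D : Subgroup G} : D ≤ WW A D := by
  intro d hd
  have := h.conj_mem_WW (one_mem A) hd
  simpa using this

/-- the second coordinates of `[D, a]` -/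
theorem ff_zero {w : G} (hw : w ∈ P) (hwe : ∀ x, w * e x * w⁻¹ = e ![x 1, x 0]) {d : G} (hd : d ∈ cj w E)
    (a : (A ⊓ Q : Subgroup G)) : ff A Q e d a 0 = 0 := by
  obtain ⟨b, hb⟩ := h.D_co hw hwe hd (h.aQ a)
  show co e _ 0 = 0
  rw [hb, h.co_e]
  rfl

/-- `[a, d^α] = [a, d]^α` -/
theorem ff_conj {d α : G} (hd : d ∈ UU P V E) (hα : α ∈ A) {t : F}
    (ht : ∀ x, α * e x * α⁻¹ = e ![x 0 + t * x 1, x 1]) (a : (A ⊓ Q : Subgroup G)) :
    ff A Q e (α * d * α⁻¹) a = ![ff A Q e d a 0 + t * ff A Q e d a 1, ff A Q e d a 1] := by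
  have h1 := h.ff_mem hd a
  have h2 : (a : G) * (α * d * α⁻¹) * (a : G)⁻¹ * (α * d * α⁻¹)⁻¹ = α * (a * d * (a : G)⁻¹ * d⁻¹) * α⁻¹ := by
    -- `c = a⁻¹ α⁻¹ a α` centralises `d`
    have h3 : d * ((a : G)⁻¹ * α⁻¹ * a⁻¹⁻¹ * α⁻¹⁻¹) = (a : G)⁻¹ * α⁻¹ * a⁻¹⁻¹ * α⁻¹⁻¹ * d :=
      mem_centralizer_iff.1 (h.Ael.1 _ (inv_mem a.2.1) _ (inv_mem hα)) d hd
    have h4 : (a : G) * (α * d * α⁻¹) * (a : G)⁻¹ = α * (a * d * (a : G)⁻¹) * α⁻¹ := by
      calc (a : G) * (α * d * α⁻¹) * (a : G)⁻¹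
          = α * a * ((a : G)⁻¹ * α⁻¹ * a⁻¹⁻¹ * α⁻¹⁻¹ * d) * α⁻¹ * (a : G)⁻¹ := by group
        _ = α * a * (d * ((a : G)⁻¹ * α⁻¹ * a⁻¹⁻¹ * α⁻¹⁻¹)) * α⁻¹ * (a : G)⁻¹ := by rw [h3]
        _ = _ := by group
    calc (a : G) * (α * d * α⁻¹) * (a : G)⁻¹ * (α * d * α⁻¹)⁻¹
        = α * (a * d * (a : G)⁻¹) * α⁻¹ * (α * d * α⁻¹)⁻¹ := by rw [h4]
      _ = _ := by group
  show co e _ = _
  rw [h2, ← h.e_co h1, ht, h.co_e]
  rfl

/-- the set of second coordinates -/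
noncomputable def homD (w : G) (hw : w ∈ P) : cj w E →* Multiplicative ((A ⊓ Q : Subgroup G) → F) :=
  MonoidHom.mk' (fun u => Multiplicative.ofAdd (fun a => ff A Q e u a 1)) (by
    rintro ⟨u, hu⟩ ⟨v, hv⟩
    refine congrArg Multiplicative.ofAdd ?_
    show (fun a => ff A Q e (u * v) a 1) = fun a => ff A Q e u a 1 + ff A Q e v a 1
    rw [h.ff_mul (h.E_le hw hu) (h.E_le hw hv)]
    rfl)

/-- `Ψ` : the `F`-span -/
def Psi (A Q : Subgroup G) (e : (Fin 2 → F) → G) (D : Subgroup G) : Submodule F ((A ⊓ Q : Subgroup G) → F) :=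
  Submodule.span F {φ | ∃ d ∈ D, φ = fun a => ff A Q e d a 1}

theorem Psi_real {w : G} (hw : w ∈ P) (hwe : ∀ x, w * e x * w⁻¹ = e ![x 1, x 0]) {ψ : (A ⊓ Q : Subgroup G) → F}
    (hψ : ψ ∈ Psi A Q e (cj w E)) : ∃ u ∈ WW A (cj w E), ∀ a, ff A Q e u a = ![ψ a, 0] := by
  induction hψ using Submodule.closure_induction with
  | zero =>
    refine ⟨1, one_mem _, fun a => ?_⟩
    have h1 := (h.ff_eq_zero (one_mem _)).2 (one_mem _)
    rw [h1]
    exact ext2 rfl rfl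
  | add x y _ _ hx hy =>
    obtain ⟨u, hu, hux⟩ := hx
    obtain ⟨v, hv, hvy⟩ := hy
    refine ⟨u * v, mul_mem hu hv, fun a => ?_⟩
    rw [h.ff_mul (h.WW_le hw hu) (h.WW_le hw hv), Pi.add_apply, hux, hvy]
    exact ext2 rfl (add_zero _)
  | smul_mem t φ hφ =>
    obtain ⟨d, hd, rfl⟩ := hφ
    obtain ⟨α, hα, hαt⟩ := h.full t
    have hdU := h.E_le hw hd
    have h1 := h.conj_mem_WW hα hd
    refine ⟨α * d * α⁻¹ * d⁻¹, mul_mem h1 (inv_mem (h.D_le_WW hd)), fun a => ?_⟩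
    rw [h.ff_mul (h.WW_le hw h1) (inv_mem hdU), Pi.add_apply, h.ff_conj hdU hα hαt]
    have h2 : ff A Q e d⁻¹ a = ff A Q e d a := by
      rw [inv_eq_of_mul_eq_one_left (h.U_sq d hdU)]
    have h3 := h.ff_zero hw hwe hd a
    have hF2 : ∀ x : F, x + x = 0 := by
      intro x
      have h4 := h.Vsq _ (h.e_mem ![x, 0])
      rw [← h.e_add, ← h.e_zero] at h4
      have h5 := congrFun (h.e_inj h4) 0
      simpa using h5
    rw [h2]
    refine ext2 ?_ ?_
    · show ff A Q e d a 0 + t * ff A Q e d a 1 + ff A Q e d a 0 = (t • fun a => ff A Q e d a 1) a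
      rw [h3, zero_add, add_zero]
      rfl
    · show ff A Q e d a 1 + ff A Q e d a 1 = 0
      exact hF2 _

variable [Finite G] [Finite F]

theorem card_psi_le {w : G} (hw : w ∈ P) (hwe : ∀ x, w * e x * w⁻¹ = e ![x 1, x 0]) :
    (centralizer ((cj w E : Subgroup G) : Set G)).relIndex (A ⊓ Q) ≤ Nat.card (Psi A Q e (cj w E)) := by
  have hadd : ∀ ψ ∈ Psi A Q e (cj w E), ∀ a b : (A ⊓ Q : Subgroup G), ψ (a * b) = ψ a + ψ b := by
    intro ψ hψ
    induction hψ using Submodule.span_induction with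
    | mem φ hφ =>
      obtain ⟨d, hd, rfl⟩ := hφ
      intro a b
      show ff A Q e d (a * b) 1 = _
      rw [h.ff_act (h.E_le hw hd)]
      rfl
    | zero => intro a b; simp
    | add x y _ _ hx hy =>
      intro a b
      simp only [Pi.add_apply, hx, hy]
      ring
    | smul t x _ hx =>
      intro a b
      simp only [Pi.smul_apply, hx, smul_add]
  let ev : (A ⊓ Q : Subgroup G) →* Multiplicative (Module.Dual F (Psi A Q e (cj w E))) :=
    MonoidHom.mk' (fun a => Multiplicative.ofAdd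
      ({ toFun := fun ψ => (ψ : (A ⊓ Q : Subgroup G) → F) a
         map_add' := fun _ _ => rfl
         map_smul' := fun _ _ => rfl } : Psi A Q e (cj w E) →ₗ[F] F)) (by
      intro a b
      refine congrArg Multiplicative.ofAdd ?_
      ext ψ
      exact hadd ψ ψ.2 a b)
  have hker : ev.ker = (centralizer ((cj w E : Subgroup G) : Set G)).subgroupOf (A ⊓ Q) := by
    ext a
    rw [MonoidHom.mem_ker, mem_subgroupOf]
    constructor
    · intro h1
      refine mem_centralizer_iff.2 fun d hd => ?_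
      have h2 : (fun a => ff A Q e d a 1) ∈ Psi A Q e (cj w E) := Submodule.subset_span ⟨d, hd, rfl⟩
      have h3 := LinearMap.congr_fun (congrArg Multiplicative.toAdd h1) ⟨_, h2⟩
      have h4 : ff A Q e d a 1 = 0 := h3
      have h5 : ff A Q e d a = 0 := ext2 (h.ff_zero hw hwe hd a) h4
      have h6 := h.e_co (h.ff_mem (h.E_le hw hd) a)
      have h7 : (a : G) * d * (a : G)⁻¹ * d⁻¹ = 1 := by
        rw [← h6]
        show e (ff A Q e d a) = 1
        rw [h5]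
        exact h.e_zero
      rw [mul_inv_eq_one, mul_inv_eq_iff_eq_mul] at h7
      exact h7.symm
    · intro h1
      refine congrArg Multiplicative.ofAdd (?_ : _ = (0 : Module.Dual F (Psi A Q e (cj w E))))
      ext ⟨ψ, hψ⟩
      show ψ a = 0
      induction hψ using Submodule.span_induction with
      | mem φ hφ =>
        obtain ⟨d, hd, rfl⟩ := hφ
        show co e _ 1 = 0
        have h2 := mem_centralizer_iff.1 h1 d hd
        rw [← h2, mul_inv_cancel_right, mul_inv_cancel, h.co_one]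
        rfl
      | zero => rfl
      | add x y _ _ hx hy =>
        rw [Pi.add_apply, hx, hy, add_zero]
      | smul t x _ hx =>
        rw [Pi.smul_apply, hx, smul_zero]
  have h1 : Nat.card (Module.Dual F (Psi A Q e (cj w E))) = Nat.card (Psi A Q e (cj w E)) := by
    have : Fintype F := Fintype.ofFinite F
    rw [Module.natCard_eq_pow_finrank (K := F), Module.natCard_eq_pow_finrank (K := F) (V := Psi A Q e (cj w E)),
      Subspace.dual_finrank_eq]
  rw [← h1, relIndex, ← hker, Subgroup.index_ker]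
  have : Finite (Module.Dual F (Psi A Q e (cj w E))) := by
    have : Finite (Psi A Q e (cj w E) → F) := inferInstance
    exact Finite.of_injective (fun (f : Module.Dual F (Psi A Q e (cj w E))) => (f : Psi A Q e (cj w E) → F))
      DFunLike.coe_injective
  exact Subgroup.card_le_card_group _

/-- `|W : C_W(A₀)| ≥ |Φ| |Ψ|` -/
theorem card_W {w : G} (hw : w ∈ P) (hwe : ∀ x, w * e x * w⁻¹ = e ![x 1, x 0]) :
    Nat.card (h.homD w hw).range * Nat.card (Psi A Q e (cj w E)) ≤ cidx (WW A (cj w E)) (A ⊓ Q) := by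
  rw [h.cidx_eq (h.WW_le hw), ← Nat.card_prod]
  have key : ∀ p : (h.homD w hw).range × Psi A Q e (cj w E),
      Multiplicative.ofAdd (fun a : (A ⊓ Q : Subgroup G) => ![(p.2 : (A ⊓ Q : Subgroup G) → F) a, Multiplicative.toAdd (p.1 : Multiplicative ((A ⊓ Q : Subgroup G) → F)) a]) ∈
        (h.hom (h.WW_le hw)).range := by
    rintro ⟨⟨_, d, rfl⟩, ψ, hψ⟩
    obtain ⟨u, hu, huψ⟩ := h.Psi_real hw hwe hψ
    refine ⟨⟨u * d, mul_mem hu (h.D_le_WW d.2)⟩, ?_⟩
    rw [h.hom_apply]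
    refine congrArg Multiplicative.ofAdd ?_
    funext a
    show ff A Q e (u * d) a = _
    rw [h.ff_mul (h.WW_le hw hu) (h.E_le hw d.2), Pi.add_apply, huψ]
    refine ext2 ?_ ?_
    · show ψ a + ff A Q e d a 0 = ψ a
      rw [h.ff_zero hw hwe d.2, add_zero]
    · show 0 + ff A Q e d a 1 = ff A Q e d a 1
      rw [zero_add]
  refine Nat.card_le_card_of_injective (fun p => (⟨_, key p⟩ : (h.hom (h.WW_le hw)).range)) ?_
  rintro ⟨⟨φ, hφ⟩, ψ, hψ⟩ ⟨⟨φ', hφ'⟩, ψ', hψ'⟩ heq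
  have h1 := congrArg (fun x => Multiplicative.toAdd (x : Multiplicative ((A ⊓ Q : Subgroup G) → Fin 2 → F)))
    (congrArg Subtype.val heq)
  have h2 : ∀ a, ![ψ a, Multiplicative.toAdd φ a] = ![ψ' a, Multiplicative.toAdd φ' a] := fun a => congrFun h1 a
  have h3 : ψ = ψ' := funext fun a => congrFun (h2 a) 0
  have h4 : φ = φ' := congrArg Multiplicative.ofAdd (funext fun a => congrFun (h2 a) 1)
  subst h3 h4
  rfl

/-- `A₀ ≰ C(D)` ⟹ `|W : C_W(A₀)| > |A₀ : C_{A₀}(D)|`. -/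
theorem lt_W {w : G} (hw : w ∈ P) (hwe : ∀ x, w * e x * w⁻¹ = e ![x 1, x 0])
    (hn : ¬ A ⊓ Q ≤ centralizer ((cj w E : Subgroup G) : Set G)) :
    (centralizer ((cj w E : Subgroup G) : Set G)).relIndex (A ⊓ Q) < cidx (WW A (cj w E)) (A ⊓ Q) := by
  refine lt_of_lt_of_le ?_ (h.card_W hw hwe)
  have h1 := h.card_psi_le hw hwe
  have hpos : 0 < (centralizer ((cj w E : Subgroup G) : Set G)).relIndex (A ⊓ Q) := Nat.pos_of_ne_zero (rel_ne _ _)
  have h2 : 1 < Nat.card (h.homD w hw).range := by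
    have : Nontrivial (h.homD w hw).range := by
      rw [Subgroup.nontrivial_iff_ne_bot]
      intro hb
      apply hn
      intro a ha
      rw [mem_centralizer_iff]
      intro d hd
      have h3 : h.homD w hw ⟨d, hd⟩ ∈ (h.homD w hw).range := ⟨_, rfl⟩
      rw [hb, mem_bot] at h3
      have h4 : ff A Q e d ⟨a, ha⟩ 1 = 0 := congrFun (congrArg Multiplicative.toAdd h3) ⟨a, ha⟩
      have h5 : ff A Q e d ⟨a, ha⟩ = 0 := ext2 (h.ff_zero hw hwe hd _) h4
      have h6 := h.e_co (h.ff_mem (h.E_le hw hd) ⟨a, ha⟩)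
      have h7 : a * d * a⁻¹ * d⁻¹ = 1 := by
        have h8 : e (ff A Q e d ⟨a, ha⟩) = a * d * a⁻¹ * d⁻¹ := h6
        rw [← h8, h5]
        exact h.e_zero
      rw [mul_inv_eq_one, mul_inv_eq_iff_eq_mul] at h7
      exact h7.symm
    exact Finite.one_lt_card
  calc (centralizer ((cj w E : Subgroup G) : Set G)).relIndex (A ⊓ Q)
      < Nat.card (h.homD w hw).range * (centralizer ((cj w E : Subgroup G) : Set G)).relIndex (A ⊓ Q) := by nlinarith
    _ ≤ _ := Nat.mul_le_mul_left _ h1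

/-! ### The counting -/

/-- `R = {e (a, 0)}` -/
theorem mem_of_comm {v : Fin 2 → F} (hc : ∀ a ∈ A, a * e v = e v * a) : v 1 = 0 := by
  obtain ⟨a, ha, hae⟩ := h.full 1
  have h1 := hae v
  rw [hc a ha, mul_inv_cancel_right] at h1
  have h2 := congrFun (h.e_inj h1) 0
  have h3 : v 0 = v 0 + 1 * v 1 := h2
  rw [one_mul] at h3
  exact left_eq_add.1 h3

theorem cidx_V_A : Nat.card F ≤ cidx V A := by
  -- the cosets of `e (0, b)` are different
  have h1 : ∀ b : F, e ![0, b] ∈ V := fun b => h.e_mem _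
  rw [cidx, relIndex]
  have hfin : Finite (V ⧸ (centralizer (A : Set G)).subgroupOf V) := inferInstance
  refine Nat.card_le_card_of_injective (fun b : F => (QuotientGroup.mk (⟨e ![0, b], h1 b⟩ : V) : V ⧸ (centralizer (A : Set G)).subgroupOf V)) ?_
  intro b b' hbb
  have h2 := QuotientGroup.eq.1 hbb
  rw [mem_subgroupOf] at h2
  have h3 : (e ![0, b])⁻¹ * e ![0, b'] = e ![0, b + b'] := by
    rw [inv_eq_of_mul_eq_one_left (h.Vsq _ (h1 b)), ← h.e_add]
    congr 1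
    exact ext2 (add_zero _) rfl
  have h4 : e ![0, b + b'] ∈ centralizer (A : Set G) := by rw [← h3]; exact h2
  have h5 := h.mem_of_comm (v := ![0, b + b']) fun a ha => mem_centralizer_iff.1 h4 a ha
  have h6 : b + b' = 0 := h5
  have hF2 : b' + b' = 0 := by
    have h4 := h.Vsq _ (h.e_mem ![b', 0])
    rw [← h.e_add, ← h.e_zero] at h4
    have h5 := congrFun (h.e_inj h4) 0
    simpa using h5
  calc b = b + (b' + b') := by rw [hF2, add_zero]
    _ = b + b' + b' := (add_assoc _ _ _).symm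
    _ = b' := by rw [h6, zero_add]

/-- `|A : A ∩ Q| ≤ q` -/
theorem rel_A : (A ⊓ Q).relIndex A ≤ Nat.card F := by
  classical
  let τ : A → F := fun a => (h.act a a.2).choose
  have hτ : ∀ a : A, ∀ x, (a : G) * e x * (a : G)⁻¹ = e ![x 0 + τ a * x 1, x 1] := fun a => (h.act a a.2).choose_spec
  rw [relIndex]
  refine Nat.card_le_card_of_injective (fun c : A ⧸ (A ⊓ Q).subgroupOf A => τ c.out) ?_
  intro c c' hcc
  have h1 : (c.out)⁻¹ * c'.out ∈ (A ⊓ Q).subgroupOf A := by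
    rw [mem_subgroupOf]
    refine ⟨((c.out)⁻¹ * c'.out).2, h.AQ ⟨((c.out)⁻¹ * c'.out).2, mem_centralizer_iff.2 fun v hv => ?_⟩⟩
    obtain ⟨x, rfl⟩ := (h.mem_iff v).1 hv
    have h2 := hτ c.out x
    have h3 := hτ c'.out x
    have hcc' : τ c.out = τ c'.out := hcc
    rw [hcc', ← h3] at h2
    show e x * ((c.out : G)⁻¹ * (c'.out : G)) = (c.out : G)⁻¹ * (c'.out : G) * e x
    calc e x * ((c.out : G)⁻¹ * (c'.out : G)) = (c.out : G)⁻¹ * ((c.out : G) * e x * (c.out : G)⁻¹) * (c'.out : G) := by group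
      _ = (c.out : G)⁻¹ * ((c'.out : G) * e x * (c'.out : G)⁻¹) * (c'.out : G) := by rw [h2]
      _ = _ := by group
  have h2 : (QuotientGroup.mk c.out : A ⧸ (A ⊓ Q).subgroupOf A) = QuotientGroup.mk c'.out := QuotientGroup.eq.2 h1
  rwa [QuotientGroup.out_eq', QuotientGroup.out_eq'] at h2

theorem no_conj {g : G} (hg : g ∈ P) {K : Subgroup G} (hK : K ≤ Q) (hKe : ElM (cj g E) K) :
    cidx K (cj g E) ≤ cidx (cj g E) K := by
  have key : ∀ X Y : Subgroup G, cidx (cj g X) (cj g Y) = cidx X Y := by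
    intro X Y
    rw [cidx, cidx, ← cj_centralizer]
    exact Subgroup.relIndex_pointwise_smul (MulAut.conj g) _ _
  have h1 := h.no (cj g⁻¹ K) (by
    have h2 : cj g⁻¹ K ≤ cj g⁻¹ Q := cj_le_cj.2 hK
    rwa [cj_eq_iff.2 (h.Qn (inv_mem hg))] at h2) ⟨by
      intro a ha b hb
      have h2 := hKe.1 _ (mem_cj.1 ha) _ (mem_cj.1 hb)
      rw [← cj_centralizer, mem_cj] at h2
      have e : a * b * a⁻¹ * b⁻¹ = g⁻¹ * (g⁻¹⁻¹ * a * g⁻¹ * (g⁻¹⁻¹ * b * g⁻¹) * (g⁻¹⁻¹ * a * g⁻¹)⁻¹ *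
        (g⁻¹⁻¹ * b * g⁻¹)⁻¹) * g := by group
      rw [e]
      exact h2, by
      intro a ha
      have h2 := hKe.2 _ (mem_cj.1 ha)
      rw [← cj_centralizer, mem_cj] at h2
      have e : a * a = g⁻¹ * (g⁻¹⁻¹ * a * g⁻¹ * (g⁻¹⁻¹ * a * g⁻¹)) * g := by group
      rw [e]
      exact h2⟩
  rw [← key, ← key E, cj_cj, mul_inv_cancel, cj_one] at h1
  exact h1

/-- chain: `|K : C_K(U)| ≤ |U : C_U(K)|` -/
theorem chain {K : Subgroup G} (hK : K ≤ Q) (hKe : ElM (UU P V E) K) : cidx K (UU P V E) ≤ cidx (UU P V E) K := by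
  have h1 := lemma1_pow (𝓛 := Fam P V E) (E := K) (a := 1) (b := 1) (by
    rintro L (rfl | ⟨g, hg, rfl⟩) B hB
    · rw [pow_one, pow_one, cidx_eq_one_iff.2 ((hB.trans hK).trans h.QV)]
      exact cidx_pos _ _
    · rw [pow_one, pow_one]
      exact h.no_conj hg (hB.trans hK) ((hKe.mono hB).low (h.E_le hg)))
  rwa [pow_one, pow_one] at h1

/-- the first half: `A ∩ Q` centralises `D = E^w` and `C_U(A ∩ Q) = V C_U(A)`. -/
theorem main {w : G} (hw : w ∈ P) (hwe : ∀ x, w * e x * w⁻¹ = e ![x 1, x 0]) :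
    ∀ d ∈ cj w E, ∃ v ∈ V, v⁻¹ * d ∈ centralizer (A : Set G) := by
  set U := UU P V E with hU
  set A0 := A ⊓ Q with hA0
  have hA0el : ElM U A0 := h.Ael.mono inf_le_left
  have hq : 0 < Nat.card F := Nat.card_pos
  -- `|A : C_A(U)| = |A : A₀| |A₀ : C_{A₀}(U)|`
  have h1 : cidx A U ≤ Nat.card F * cidx A0 U := by
    rw [cidx_chain (A := A) (B := U) (E := A0) inf_le_left
      (le_inf inf_le_left (le_trans (inf_le_inf_left _ (centralizer_le h.V_le)) h.AQ))]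
    exact Nat.mul_le_mul_right _ h.rel_A
  -- `|U : C_U(A)| = |U : C_U(A₀)| |C_U(A₀) : C_U(A)|`
  have h2 := cidx_chain_right U (B := A) (E := A0) inf_le_left
  have hV0 : V ≤ U ⊓ centralizer (A0 : Set G) := le_inf h.V_le (by
    rw [Subgroup.le_centralizer_iff]
    exact inf_le_right.trans h.QV)
  have h3 : Nat.card F ≤ (U ⊓ centralizer (A : Set G)).relIndex (U ⊓ centralizer (A0 : Set G)) := by
    refine h.cidx_V_A.trans ?_
    have h4 : cidx V A = (U ⊓ centralizer (A : Set G)).relIndex V := by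
      rw [cidx, ← Subgroup.inf_relIndex_right (centralizer (A : Set G)) V,
        ← Subgroup.inf_relIndex_right (U ⊓ centralizer (A : Set G)) V]
      congr 1
      apply le_antisymm
      · exact le_inf (le_inf (inf_le_right.trans h.V_le) inf_le_left) inf_le_right
      · exact le_inf (inf_le_left.trans inf_le_right) inf_le_right
    rw [h4]
    exact Subgroup.relIndex_le_of_le_right hV0 (rel_ne _ _)
  have h4 := h.off
  -- `|U : C_U(A₀)| ≤ |A₀ : C_{A₀}(U)|`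
  have h5 : cidx U A0 ≤ cidx A0 U := by
    have h6 : cidx U A0 * Nat.card F ≤ cidx A0 U * Nat.card F := by
      calc cidx U A0 * Nat.card F ≤ cidx U A := by rw [h2]; exact Nat.mul_le_mul_left _ h3
        _ ≤ cidx A U := h4
        _ ≤ Nat.card F * cidx A0 U := h1
        _ = _ := mul_comm _ _
    exact Nat.le_of_mul_le_mul_right h6 hq
  have h6 := h.chain (K := A0) inf_le_right hA0el
  have h7 : cidx U A0 = cidx A0 U := le_antisymm h5 h6
  -- `A₀` centralises `D`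
  have hD : A0 ≤ centralizer ((cj w E : Subgroup G) : Set G) := by
    by_contra hn
    set K1 := A0 ⊓ centralizer ((cj w E : Subgroup G) : Set G) with hK1
    have hDU : cj w E ≤ U := h.E_le hw
    have e1 : cidx A0 U = K1.relIndex A0 * cidx K1 U := cidx_chain inf_le_left
      (inf_le_inf_left _ (centralizer_le hDU))
    have e2 := cidx_chain_right U (B := A0) (E := K1) inf_le_left
    have e3 := h.chain (K := K1) (inf_le_left.trans inf_le_right) (hA0el.mono inf_le_left)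
    have e4 := h.lt_W hw hwe hn
    have hWU : WW A (cj w E) ≤ U := h.WW_le hw
    have hWK : WW A (cj w E) ≤ U ⊓ centralizer (K1 : Set G) := by
      refine le_inf hWU (sSup_le ?_)
      rintro L ⟨a, ha, rfl⟩ x hx
      rw [mem_centralizer_iff]
      intro k hk
      have h8 := mem_centralizer_iff.1 hk.2 _ (mem_cj.1 hx)
      -- `a⁻¹ k a = k c`, `c` centralises `y = a⁻¹ x a ∈ U`
      have hyU : a⁻¹ * x * a ∈ U := h.E_le hw (mem_cj.1 hx)
      have h9 := mem_centralizer_iff.1 (h.Ael.1 _ (inv_mem hk.1.1) _ (inv_mem ha)) _ hyU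
      -- `k y k⁻¹ = y`
      have h10 : k * x = x * k := by
        have e5 : k * (a⁻¹ * x * a) * k⁻¹ = a⁻¹ * x * a := by rw [← h8, mul_inv_cancel_right]
        have e6 : k * x * k⁻¹ = a * (k * (k⁻¹ * a⁻¹ * k⁻¹⁻¹ * a⁻¹⁻¹ * (a⁻¹ * x * a)) * a⁻¹ * k⁻¹ * a) * a⁻¹ := by
          group
        have e7 : k * x * k⁻¹ = x := by
          rw [e6, ← h9]
          have e8 : k * (a⁻¹ * x * a * (k⁻¹ * a⁻¹ * k⁻¹⁻¹ * a⁻¹⁻¹)) * a⁻¹ * k⁻¹ * a = k * (a⁻¹ * x * a) * k⁻¹ := by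
            group
          rw [e8, e5]
          group
        rwa [mul_inv_eq_iff_eq_mul] at e7
      exact h10
    have e5 : cidx (WW A (cj w E)) A0 ≤ (U ⊓ centralizer (A0 : Set G)).relIndex (U ⊓ centralizer (K1 : Set G)) := by
      have e6 : cidx (WW A (cj w E)) A0 = (U ⊓ centralizer (A0 : Set G)).relIndex (WW A (cj w E)) := by
        rw [cidx, ← Subgroup.inf_relIndex_right (centralizer (A0 : Set G)) (WW A (cj w E)),
          ← Subgroup.inf_relIndex_right (U ⊓ centralizer (A0 : Set G)) (WW A (cj w E))]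
        congr 1
        apply le_antisymm
        · exact le_inf (le_inf (inf_le_right.trans hWU) inf_le_left) inf_le_right
        · exact le_inf (inf_le_left.trans inf_le_right) inf_le_right
      rw [e6]
      exact Subgroup.relIndex_le_of_le_right hWK (rel_ne _ _)
    have e7 : (centralizer ((cj w E : Subgroup G) : Set G)).relIndex A0 = K1.relIndex A0 := by
      rw [hK1, inf_comm, Subgroup.inf_relIndex_right]
    rw [e7] at e4
    have e8 := lt_of_lt_of_le e4 e5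
    have e9 : 0 < cidx K1 U := cidx_pos _ _
    have e10 : cidx A0 U < cidx U A0 := by
      rw [e1, e2, mul_comm]
      calc cidx K1 U * K1.relIndex A0 < cidx K1 U * _ := Nat.mul_lt_mul_of_pos_left e8 e9
        _ ≤ cidx U K1 * _ := Nat.mul_le_mul_right _ e3
    exact absurd h7 e10.ne'
  -- `C_U(A₀) = V C_U(A)`
  have h8 : (U ⊓ centralizer (A : Set G)).relIndex (U ⊓ centralizer (A0 : Set G)) ≤ Nat.card F := by
    have h9 : cidx U A0 * (U ⊓ centralizer (A : Set G)).relIndex (U ⊓ centralizer (A0 : Set G)) ≤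
        cidx U A0 * Nat.card F := by
      rw [← h2]
      calc cidx U A ≤ cidx A U := h4
        _ ≤ Nat.card F * cidx A0 U := h1
        _ = _ := by rw [h7, mul_comm]
    exact Nat.le_of_mul_le_mul_left h9 (cidx_pos _ _)
  -- `|V : C_V(A)| = q` and `C_U(A₀) = V C_U(A)`
  set CA := U ⊓ centralizer (A : Set G) with hCA
  set C0 := U ⊓ centralizer (A0 : Set G) with hC0
  have hsup : CA ⊔ V ≤ C0 := sup_le (inf_le_inf_left _ (centralizer_le inf_le_left)) hV0
  have hVn : V ≤ normalizer (CA : Set G) := by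
    refine le_trans ?_ (centralizer_le_normalizer _)
    intro v hv
    rw [mem_centralizer_iff]
    intro c hc
    exact h.U_comm' hc.1 (h.V_le hv)
  have h10 : Nat.card F ≤ CA.relIndex (CA ⊔ V) := by
    refine h.cidx_V_A.trans ?_
    have h11 : cidx V A = CA.relIndex V := by
      rw [cidx, ← Subgroup.inf_relIndex_right (centralizer (A : Set G)) V,
        ← Subgroup.inf_relIndex_right CA V]
      congr 1
      apply le_antisymm
      · exact le_inf (le_inf (inf_le_right.trans h.V_le) inf_le_left) inf_le_right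
      · exact le_inf (inf_le_left.trans inf_le_right) inf_le_right
    rw [h11]
    exact Subgroup.relIndex_le_of_le_right le_sup_right (rel_ne _ _)
  have h11 : CA ⊔ V = C0 := by
    apply Subgroup.eq_of_le_of_card_ge hsup
    have e1 := card_rel (le_sup_left : CA ≤ CA ⊔ V)
    have e2 := card_rel (le_sup_left.trans hsup : CA ≤ C0)
    rw [← e1, ← e2]
    exact Nat.mul_le_mul_left _ (h8.trans h10)
  intro d hd
  have hdC : d ∈ C0 := ⟨h.E_le hw hd, (Subgroup.le_centralizer_iff.1 hD) hd⟩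
  rw [← h11, ← SetLike.mem_coe, sup_comm, coe_mul_of_left_le_normalizer_right V CA hVn] at hdC
  obtain ⟨v, hv, c, hc, rfl⟩ := hdC
  refine ⟨v, hv, ?_⟩
  show v⁻¹ * (v * c) ∈ _
  rw [inv_mul_cancel_left]
  exact hc.2

/-- **LEMMA U.** -/
theorem lemU : ∀ x ∈ E, ∀ t ∈ Q, t * x = x * t := by
  obtain ⟨w, hw, hwe⟩ := h.swap
  have hA : A ≤ normalizer (Q : Set G) := h.AP.trans h.Qn
  have key : ∀ d ∈ cj w E, ∀ t ∈ Q, t * d = d * t := by
    intro d hd t ht
    obtain ⟨v, hv, hvd⟩ := h.main hw hwe d hd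
    obtain ⟨α, hα, hαt⟩ := h.full 1
    -- `[α, d] ∈ V`, more precisely `α d α⁻¹ = r d` with `r ∈ V`
    have e1 : α * (v⁻¹ * d) * α⁻¹ = v⁻¹ * d := by
      rw [mem_centralizer_iff.1 hvd α hα, mul_inv_cancel_right]
    have hαv : α * v * α⁻¹ ∈ V := (mem_normalizer_iff.1 (h.Vn (h.AP hα)) v).1 hv
    set r := α * v * α⁻¹ * v⁻¹ with hr
    have hrV : r ∈ V := mul_mem hαv (inv_mem hv)
    have e2 : α * d * α⁻¹ = r * d := by
      calc α * d * α⁻¹ = (α * v * α⁻¹) * (α * (v⁻¹ * d) * α⁻¹) := by group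
        _ = (α * v * α⁻¹) * (v⁻¹ * d) := by rw [e1]
        _ = r * d := by rw [hr]; group
    set t' := α * t * α⁻¹ with ht'
    have htQ : t' ∈ Q := (mem_normalizer_iff.1 (hA hα) t).1 ht
    obtain ⟨b, hb⟩ := h.D_co hw hwe hd ht
    obtain ⟨b', hb'⟩ := h.D_co hw hwe hd htQ
    -- `[t', r d] = [t', d]`
    have e3 : t' * (r * d) * t'⁻¹ * (r * d)⁻¹ = t' * d * t'⁻¹ * d⁻¹ := by
      have f1 := mem_centralizer_iff.1 (h.QV htQ) r hrV
      have hc : t' * d * t'⁻¹ * d⁻¹ ∈ V := by rw [hb']; exact h.e_mem _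
      have f2 : r * (t' * d * t'⁻¹ * d⁻¹) = t' * d * t'⁻¹ * d⁻¹ * r :=
        (mem_centralizer_iff.1 (h.QV (h.VQ hc)) r hrV)
      calc t' * (r * d) * t'⁻¹ * (r * d)⁻¹ = (t' * r) * d * t'⁻¹ * d⁻¹ * r⁻¹ := by group
        _ = (r * t') * d * t'⁻¹ * d⁻¹ * r⁻¹ := by rw [f1]
        _ = r * (t' * d * t'⁻¹ * d⁻¹) * r⁻¹ := by group
        _ = (t' * d * t'⁻¹ * d⁻¹) * r * r⁻¹ := by rw [f2]
        _ = _ := by group
    have e4 : α * (t * d * t⁻¹ * d⁻¹) * α⁻¹ = t' * d * t'⁻¹ * d⁻¹ := by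
      rw [← e3, ← e2, ht']
      group
    rw [hb, hb', hαt] at e4
    have e5 := congrFun (h.e_inj e4) 0
    have e6 : 0 + 1 * b = 0 := e5
    rw [zero_add, one_mul] at e6
    rw [e6] at hb
    have e7 : e ![0, 0] = 1 := by
      rw [← h.e_zero]
      congr 1
      exact ext2 rfl rfl
    rw [e7, mul_inv_eq_one, mul_inv_eq_iff_eq_mul] at hb
    exact hb
  intro x hx t ht
  have h1 := key (w * x * w⁻¹) (conj_mem_cj hx) (w * t * w⁻¹) ((mem_normalizer_iff.1 (h.Qn hw) t).1 ht)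
  have h2 := congrArg (fun s => w⁻¹ * s * w) h1
  have e1 : w⁻¹ * (w * t * w⁻¹ * (w * x * w⁻¹)) * w = t * x := by group
  have e2 : w⁻¹ * (w * x * w⁻¹ * (w * t * w⁻¹)) * w = x * t := by group
  simp only [e1, e2] at h2
  exact h2

end Hyp

/-- maximality: `|U : C_U(A)| ≤ |A : C_A(U)|` -/
theorem off_of_max [Finite G] {U A Q : Subgroup G} (Uel : El U) (UQ : U ≤ Q) (Ael : El A)
    (hAQ : A ⊓ centralizer (U : Set G) ≤ Q) (max : ∀ D : Subgroup G, D ≤ Q → El D → Nat.card D ≤ Nat.card A) :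
    cidx U A ≤ cidx A U := by
  set D := A ⊓ centralizer (U : Set G) with hD
  have hDQ : D ≤ Q := hAQ
  have hDU : U ≤ centralizer (D : Set G) := Subgroup.le_centralizer_iff.1 inf_le_right
  have hel : El (D ⊔ U) := by
    have hmem : ∀ x ∈ D ⊔ U, ∃ d ∈ D, ∃ u ∈ U, x = d * u := by
      intro x hx
      rw [← SetLike.mem_coe, coe_mul_of_right_le_normalizer_left D U (hDU.trans (centralizer_le_normalizer _))] at hx
      obtain ⟨d, hd, u, hu, rfl⟩ := hx
      exact ⟨d, hd, u, hu, rfl⟩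
    have hc : ∀ d ∈ D, ∀ u ∈ U, d * u = u * d := fun d hd u hu => (mem_centralizer_iff.1 (hDU hu) d hd)
    constructor
    · intro x hx y hy
      obtain ⟨d, hd, u, hu, rfl⟩ := hmem x hx
      obtain ⟨d', hd', u', hu', rfl⟩ := hmem y hy
      have e1 := Ael.1 d hd.1 d' hd'.1
      have e2 := Uel.1 u hu u' hu'
      have e3 := hc d' hd' u hu
      have e4 := hc d hd u' hu'
      calc d * u * (d' * u') = d * (u * d') * u' := by group
        _ = d * (d' * u) * u' := by rw [e3]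
        _ = (d * d') * (u * u') := by group
        _ = (d' * d) * (u' * u) := by rw [e1, e2]
        _ = d' * (d * u') * u := by group
        _ = d' * (u' * d) * u := by rw [e4]
        _ = _ := by group
    · intro x hx
      obtain ⟨d, hd, u, hu, rfl⟩ := hmem x hx
      have e3 := hc d hd u hu
      calc d * u * (d * u) = d * (u * d) * u := by group
        _ = d * (d * u) * u := by rw [e3]
        _ = (d * d) * (u * u) := by group
        _ = 1 := by rw [Ael.2 d hd.1, Uel.2 u hu, one_mul]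
  have h1 := max _ (sup_le hDQ UQ) hel
  -- `|D U| |D ∩ U| = |D| |U|`
  have h2 : Nat.card ↥(D ⊔ U) * Nat.card ↥(D ⊓ U) = Nat.card D * Nat.card U :=
    Cfsg.Agent.Omega.NoFF.ThmJ.card_sup_mul (hDU.trans (centralizer_le_normalizer _))
  have h3 : Nat.card ↥(D ⊓ U) ≤ Nat.card ↥(U ⊓ centralizer (A : Set G)) := by
    refine Subgroup.card_le_of_le ?_
    rintro x ⟨hx1, hx2⟩
    exact ⟨hx2, mem_centralizer_iff.2 fun a ha => Ael.1 a ha x hx1.1⟩
  have h4 : Nat.card ↥(U ⊓ centralizer (A : Set G)) * cidx U A = Nat.card U := by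
    rw [← cidx_inf U A]
    exact card_rel inf_le_left
  have h5 : Nat.card D * cidx A U = Nat.card A := by
    rw [← cidx_inf A U]
    exact card_rel inf_le_left
  have hpD : 0 < Nat.card D := Nat.card_pos
  have hpU : 0 < Nat.card ↥(U ⊓ centralizer (A : Set G)) := Nat.card_pos
  -- `|D| |U| ≤ |A| |C_U(A)|`
  have h6 : Nat.card D * Nat.card U ≤ Nat.card A * Nat.card ↥(U ⊓ centralizer (A : Set G)) := by
    rw [← h2]; exact Nat.mul_le_mul h1 h3
  rw [← h4, ← h5] at h6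
  have h7 : Nat.card D * Nat.card ↥(U ⊓ centralizer (A : Set G)) * cidx U A ≤
      Nat.card D * Nat.card ↥(U ⊓ centralizer (A : Set G)) * cidx A U := by
    calc _ = Nat.card D * (Nat.card ↥(U ⊓ centralizer (A : Set G)) * cidx U A) := by ring
      _ ≤ _ := h6
      _ = _ := by ring
  exact Nat.le_of_mul_le_mul_left h7 (Nat.mul_pos hpD hpU)

end Cfsg.Agent.Omega.NO3S.Fld.LemU
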