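import Cfsg.Agent.Omega.NO3S.Fld.LevBR
import Cfsg.Agent.Omega.NO3S.OneLine.LevOf

/-!
# Fld at the level `K`: the facts

`K` a level (`Level.Lev S K`), `K ≤ O₂(P)`, `A` a best offender of `S` on `X = Ω₁(Z(K))` with `A ≰ O₂(P)`,
`M : Crd F S P V`, `V = V_P`, `R = M.R`, `B = C_S(R)`.

* `LevF M K` : all members of `BO S K` are in `B`, (T6) `Ω₁(Z(O₂(P))) = V`, `C_X(BO S K) = R`;
* `levF` : this holds;
* `LevF.nxt` : `Ω₁(Z(nxt S K)) = R`; `LevF.NS` : `N_G(S) ≤ N_G(R)`; `LevF.NB` : `N_G(B) ≤ N_G(K)`.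
-/

set_option autoImplicit false
set_option linter.unusedSectionVars false

namespace Cfsg.Agent.Omega.NO3S.Fld

open Subgroup Cfsg Cfsg.Agent.ZN Cfsg.Agent.ZN.ChoiceBase Cfsg.Agent.Omega.MinPar
open Cfsg.Agent.Omega.SQ1.Bau (elem_comm elem_sq mem_sup_norm)
open Cfsg.Agent.MinSimple.VModule (zc_le zc_le_zl zl_le le_o2 le_normalizer_zl)
open Cfsg.Agent.Omega.NO3S.OneLine (zc_elem o2_le BFam bo bo_eq bo_fam mem_cent_sSup elemM_mono)
open Cfsg.Agent.Omega.NO3S.Level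

universe u

variable {G : Type u} [Group G] [Finite G] {S : Sylow 2 G} {P K : Subgroup G}
variable {F : Type*} [Field F] [Finite F] [CharP F 2]

/-- The best offenders on `Ω₁(Z(K))` form a family. -/
theorem fam_BO (T K : Subgroup G) : BFam T (zc K) (normalizer (zc K : Set G)) (BO T K) := by
  rw [bo_eq]; exact bo_fam T (zc K)

theorem zc_comm' (K : Subgroup G) : ∀ x ∈ zc K, ∀ y ∈ zc K, x * y = y * x := elem_comm (zc_elem K)

theorem bo_le_B (M : Crd F (S : Subgroup G) P (zl (S : Subgroup G) P)) (hV : zl (S : Subgroup G) P ≤ zc K)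
    {A : Subgroup G} (hA : A ∈ BO (S : Subgroup G) K) : A ≤ M.B := by
  have h1 := fam_BO (S : Subgroup G) K
  exact le_inf hA.1 (M.off_le_centR hA.1 (elemM_mono (h1.elem A hA) hV le_rfl) (h1.off (zc_comm' K) hV hA))

/-- The facts at the level `K`. -/
structure LevF (M : Crd F (S : Subgroup G) P (zl (S : Subgroup G) P)) (K : Subgroup G) : Prop where
  lev : Lev (S : Subgroup G) K
  le : K ≤ o2 P
  ex : ∃ A ∈ BO (S : Subgroup G) K, ¬ A ≤ o2 P
  bl : BL (S : Subgroup G) P M.B M.R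
  VX : zl (S : Subgroup G) P ≤ zc K
  AB : ∀ A ∈ BO (S : Subgroup G) K, A ≤ M.B
  zo : zc (o2 P) = zl (S : Subgroup G) P
  cent : zc K ⊓ centralizer ((sSup (BO (S : Subgroup G) K) : Subgroup G) : Set G) = M.R

theorem levF (hG : IsCharacteristicTwoType G) (hP : IsParS (S : Subgroup G) P)
    (M : Crd F (S : Subgroup G) P (zl (S : Subgroup G) P)) (hL : Lev (S : Subgroup G) K) (hK : K ≤ o2 P)
    {A : Subgroup G} (hA : A ∈ BO (S : Subgroup G) K) (hAQ : ¬ A ≤ o2 P) : LevF M K := by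
  have hQS : o2 P ≤ (S : Subgroup G) := o2_le S hP.toIsPar
  have hQX : zc (o2 P) ≤ zc K := hL.zc_o2_le hK hQS
  have hVX : zl (S : Subgroup G) P ≤ zc K := (hP.isLoc.zl_le S hG).trans hQX
  have hb := bl_of hG hP M
  have hAB : ∀ A ∈ BO (S : Subgroup G) K, A ≤ M.B := fun A hA => bo_le_B M hVX hA
  have hfam := fam_BO (S : Subgroup G) K
  have hPX : P ≤ normalizer (zc K : Set G) := (hL.le_norm_of_o2 hK hQS).trans (normalizer_le_zc K)
  have hVS : zl (S : Subgroup G) P ≤ (S : Subgroup G) := (hP.isLoc.zl_le S hG).trans ((zc_le _).trans hQS)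
  have hR := M.mem_R_of_cent S.isPGroup' hVS (zc_le_zl _ _)
  obtain ⟨x, hx, hx0⟩ := M.opp
  exact
    { lev := hL
      le := hK
      ex := ⟨A, hA, hAQ⟩
      bl := hb
      VX := hVX
      AB := hAB
      zo := BL.zc_o2_fam hG hb hfam (zc_comm' K) hAB hR hQX hA hAQ
      cent := BL.cent_fam hG hb hfam (zc_comm' K) hAB hR (elem_sq (zc_elem K)) ((zc_le K).trans hL.le) hPX hPX hQX
        (by rw [M.card_V_R, pow_two]) hx hx0 hA hAQ }

namespace LevF

variable {M : Crd F (S : Subgroup G) P (zl (S : Subgroup G) P)} (h : LevF M K)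
include h

theorem QS : o2 P ≤ (S : Subgroup G) := h.bl.QB.trans h.bl.BS

theorem KB : K ≤ M.B := h.le.trans h.bl.QB

theorem P_norm : P ≤ normalizer (K : Set G) := h.lev.le_norm_of_o2 h.le h.QS

/-- `Ω₁(Z(nxt S K)) = R` -/
theorem nxt : zc (nxt (S : Subgroup G) K) = M.R := by
  apply le_antisymm
  · intro x hx
    rw [← h.cent]
    refine ⟨h.lev.zc_le_zc (le_nxt h.lev.le) (nxt_le _ _) hx, mem_cent_sSup.2 fun B hB b hb => ?_⟩
    exact (ChoiceBase.mem_zc.1 hx).2.2 b (BO.le_nxt hB hb)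
  · intro x hx
    rw [← h.cent] at hx
    have h1 := ChoiceBase.mem_zc.1 hx.1
    refine ChoiceBase.mem_zc.2 ⟨le_nxt h.lev.le h1.1, h1.2.1, fun y hy => ?_⟩
    have h2 : Level.nxt (S : Subgroup G) K ≤ centralizer ({x} : Set G) := by
      refine sup_le ?_ (sSup_le fun B hB b hb => ?_)
      · rintro s ⟨-, hs⟩
        rw [mem_centralizer_singleton_iff]
        exact (mem_centralizer_iff.1 hs x hx.1).symm
      · rw [mem_centralizer_singleton_iff]
        exact mem_cent_sSup.1 hx.2 B hB b hb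
    exact mem_centralizer_singleton_iff.1 (h2 hy)

/-- `N_G(nxt S K) ≤ N_G(R)` -/
theorem norm_nxt : normalizer (Level.nxt (S : Subgroup G) K : Set G) ≤ normalizer (M.R : Set G) := by
  have h1 := normalizer_le_zc (Level.nxt (S : Subgroup G) K)
  rwa [h.nxt] at h1

/-- `N_G(S) ≤ N_G(R)` -/
theorem NS : normalizer ((S : Subgroup G) : Set G) ≤ normalizer (M.R : Set G) :=
  (h.lev.next.norm _ (nxt_le _ _) le_rfl).trans h.norm_nxt

/-- `N_G(B) ≤ N_G(K)` -/
theorem NB : normalizer (M.B : Set G) ≤ normalizer (K : Set G) := h.lev.norm _ h.KB h.bl.BS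

end LevF

/-- The facts at stage `n`. -/
theorem levF_of (hG : IsCharacteristicTwoType G) (hP : IsParS (S : Subgroup G) P)
    (M : Crd F (S : Subgroup G) P (zl (S : Subgroup G) P)) {n : ℕ} (h1 : lev (S : Subgroup G) n ≤ o2 P)
    (h2 : ¬ lev (S : Subgroup G) (n + 1) ≤ o2 P) : LevF M (lev (S : Subgroup G) n) := by
  obtain ⟨A, hA, hAQ⟩ : ∃ A ∈ BO (S : Subgroup G) (lev (S : Subgroup G) n), ¬ A ≤ o2 P := by
    by_contra hcon
    push Not at hcon
    apply h2
    show Level.nxt (S : Subgroup G) (lev (S : Subgroup G) n) ≤ o2 P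
    refine sup_le ?_ (sSup_le hcon)
    have h3 : zl (S : Subgroup G) P ≤ zc (lev (S : Subgroup G) n) :=
      (hP.isLoc.zl_le S hG).trans ((lev_isLev (S : Subgroup G) n).zc_o2_le h1 (hP.isLoc.o2_le S))
    rw [← IsParS.inf_centralizer S hG hP]
    exact inf_le_inf_left _ (centralizer_le h3)
  exact levF hG hP M (lev_isLev _ n) h1 hA hAQ

end Cfsg.Agent.Omega.NO3S.Fld
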