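import Cfsg.Agent.Omega.NO3S.Fld.NS
import Cfsg.Agent.Omega.NO3S.Level.Fam

/-!
# Fld: (NS) at every level

`nsIn_lev` : `K` a level with `K ≤ O₂(P)`, `A` a best offender on `Ω₁(Z(K))`, `A ≤ C_S(R)`, `A ≰ O₂(P)`,
`Ω₁(Z(O₂(P))) = V_P` ⟹ the hypotheses `NSIn` of (NS), so `N_G(B) ≤ N_G(V_P)`.
-/

set_option autoImplicit false
set_option linter.unusedSectionVars false
set_option linter.unusedVariables false

namespace Cfsg.Agent.Omega.NO3S.Fld

open Subgroup Cfsg Cfsg.Agent.ZN Cfsg.Agent.ZN.ChoiceBase Cfsg.Agent.Omega.MinPar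
open Cfsg.Agent.Omega.NO3b.Ineq
open Cfsg.Agent.Omega.NO3S.Level
open Cfsg.Agent.Omega.NO1.BestOff (Best)
open Cfsg.Agent.PLocal.ElemAbSup Cfsg.Agent.PLocal.ThompsonJ

universe u

variable {G : Type u} [Group G] [Finite G] {S : Sylow 2 G} {P : Subgroup G}
variable {F : Type*} [Field F] [Finite F] [CharP F 2]

/-- **(NS) at a level.** -/
theorem nsIn_lev (h : Hyp S P) (M : Crd F (S : Subgroup G) P (zl (S : Subgroup G) P))
    (hzo : zc (o2 P) = zl (S : Subgroup G) P) (hno : FFThm.NoOverM (zl (S : Subgroup G) P) P)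
    {K A : Subgroup G} (hK : Lev (S : Subgroup G) K) (hKQ : K ≤ o2 P) (hA : A ∈ BO (S : Subgroup G) K)
    (hAB : A ≤ M.B) (hAQ : ¬ A ≤ o2 P) : NSIn S P M A := by
  have hG := h.ctx.char2
  have hb := br_of hG h.star M
  have hVK : zl (S : Subgroup G) P ≤ zc K := by
    rw [← hzo]
    exact hK.zc_o2_le hKQ (h.star.isLoc.o2_le S)
  have hPK : P ≤ normalizer (zc K : Set G) :=
    (hK.le_norm_of_o2 hKQ (h.star.isLoc.o2_le S)).trans (normalizer_le_zc K)
  have hKcomm : ∀ x ∈ zc K, ∀ y ∈ zc K, x * y = y * x := fun x hx y hy => Lev.zc_comm hx hy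
  have hQP : A ⊓ centralizer (zl (S : Subgroup G) P : Set G) = A ⊓ o2 P := by
    rw [← h.inf_centralizer]
    apply le_antisymm
    · exact le_inf inf_le_left (le_inf (inf_le_left.trans hA.1) inf_le_right)
    · exact le_inf inf_le_left (inf_le_right.trans inf_le_right)
  -- the offender condition on `U ≤ Ω₁(Z(K))`
  have hoff : ∀ U : Subgroup G, U ≤ zc K → LemU.ElM U A ∧ cidx U A ≤ cidx A U := by
    intro U hU
    have hfam := bfam_BO (S := (S : Subgroup G)) (L := P) hU (hK.le_norm_of_o2 hKQ (h.star.isLoc.o2_le S))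
    have h1 := hfam.elem A hA
    have h2 := hfam.best A hA (A ⊓ centralizer (U : Set G)) le_rfl inf_le_left
    have h3 : U ⊓ centralizer ((A ⊓ centralizer (U : Set G) : Subgroup G) : Set G) = U := by
      rw [inf_eq_left]
      exact Subgroup.le_centralizer_iff.1 inf_le_right
    rw [h3] at h2
    refine ⟨⟨fun a ha b hb => h1.2 a ha b hb, fun a ha => ?_⟩, ?_⟩
    · have := h1.1 a ha
      rwa [pow_two] at this
    · have h4 : Nat.card U * Nat.card ↥(A ⊓ centralizer (U : Set G)) ≤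
          Nat.card A * Nat.card ↥(U ⊓ centralizer (A : Set G)) := by
        rw [mul_comm]; exact h2
      exact FFThm.relIndex_le_iff.1 h4
  have hsup : A ⊔ o2 P = M.B := by
    have hle := sup_le hAB hb.QB
    refine Subgroup.eq_of_le_of_card_ge hle ?_
    have h1 := OneLine.card_sup_norm (H := A) (N := o2 P) (hAB.trans (BR.B_norm hb))
    obtain ⟨-, h2⟩ := hoff _ hVK
    have h3 : zl (S : Subgroup G) P ⊓ centralizer (A : Set G) ≤ M.R := by
      obtain ⟨a, ha, haQ⟩ := SetLike.not_le_iff_exists.1 hAQ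
      rintro v ⟨hv, hvA⟩
      exact hb.fix a (hAB ha) haQ v hv (mem_centralizer_iff.1 hvA a ha)
    have h4 : Nat.card (zl (S : Subgroup G) P) * Nat.card ↥(A ⊓ o2 P) ≤
        Nat.card A * Nat.card M.R := by
      have h5 := FFThm.relIndex_le_iff.2 h2
      rw [hQP] at h5
      exact h5.trans (Nat.mul_le_mul_left _ (Subgroup.card_le_of_le h3))
    have h5 := hb.card
    have h6 := OneLine.card_mul_relIndex hb.QB
    have hp : 0 < Nat.card ↥(A ⊓ o2 P) := Nat.card_pos
    have hpR : 0 < Nat.card M.R := Nat.card_pos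
    have h7 : Nat.card M.B * Nat.card ↥(A ⊓ o2 P) ≤ Nat.card ↥(A ⊔ o2 P) * Nat.card ↥(A ⊓ o2 P) := by
      rw [h1, ← h6]
      have h8 : Nat.card M.R * ((o2 P).relIndex M.B * Nat.card ↥(A ⊓ o2 P)) ≤ Nat.card M.R * Nat.card A := by
        calc _ = Nat.card (zl (S : Subgroup G) P) * Nat.card ↥(A ⊓ o2 P) := by rw [h5]; ring
          _ ≤ _ := h4
          _ = _ := mul_comm _ _
      have h9 := Nat.le_of_mul_le_mul_left h8 hpR
      calc Nat.card (o2 P) * (o2 P).relIndex M.B * Nat.card ↥(A ⊓ o2 P)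
          = Nat.card (o2 P) * ((o2 P).relIndex M.B * Nat.card ↥(A ⊓ o2 P)) := by ring
        _ ≤ Nat.card (o2 P) * Nat.card A := Nat.mul_le_mul_left _ h9
        _ = _ := mul_comm _ _
    exact Nat.le_of_mul_le_mul_right h7 hp
  exact
    { char2 := hG
      star := h.star
      zo := hzo
      AB := hAB
      sup := hsup
      no := hno
      noff := fun g h1 h2 => h.geo.noff P (Set.mem_singleton P) P (Set.mem_singleton P) g h1 h2
      off := fun n hn hEQ hU => by
        refine hoff _ (sSup_le ?_)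
        have hnK : n ∈ normalizer (zc K : Set G) :=
          normalizer_le_zc K (hK.norm M.B (hKQ.trans hb.QB) hb.BS hn)
        have hEK : cj n (zl (S : Subgroup G) P) ≤ zc K := by
          have h1 := cj_mono n hVK
          rwa [cj_eq_of_mem_normalizer hnK] at h1
        rintro L (rfl | ⟨g, hg, rfl⟩)
        · exact hVK
        · have h1 := cj_mono g hEK
          rwa [cj_eq_of_mem_normalizer (hPK hg)] at h1 }

end Cfsg.Agent.Omega.NO3S.Fld
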