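import Cfsg.Agent.Omega.NO3S.OneLine.Of
import Cfsg.Agent.Omega.NO3S.FF

/-!
# Members `R` of `P*(S)` with `J(S) ≰ O₂(R)`: `C_S(C_V(J(S)))` acts quadratically

`V = V_R`, `V1 = C_V(J(S))`: an element `x ∈ S` which centralises `V1` satisfies `[V, x] ≤ V1` (`quad`).
K-free; from the FF theorem.
-/

set_option autoImplicit false
set_option linter.unusedSectionVars false
set_option linter.unusedVariables false

namespace Cfsg.Agent.Omega.NO3S.Fld

open Subgroup Cfsg Cfsg.Agent.ZN Cfsg.Agent.ZN.ChoiceBase Cfsg.Agent.Omega.MinPar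
open Cfsg.Agent.ZN.ChoiceSit (Syl o2_le_syl)
open Cfsg.Agent.Omega.SQ1.BauK (V1 mem_V1)
open Cfsg.Agent.PLocal.ElemAbSup Cfsg.Agent.PLocal.ThompsonJ
open Cfsg.Agent.MinSimple.VModule (zc_le zc_le_zl zl_le le_o2 le_normalizer_zl le_normalizer_o2)
open Cfsg.Agent.Omega.SQ1.FFOne Cfsg.Agent.Lib.SL2Mat
open Cfsg.Agent.Omega.FFThm (NatK SymK Off NoOver)
open Cfsg.Agent.Omega.FrameFF (cv)
open Cfsg.Agent.Omega.NO3S.OneLine (syl_of minH conj_mem)

universe u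

variable {G : Type u} [Group G] [Finite G] {S : Sylow 2 G} {R : Subgroup G}

/-- the elements of `S` which centralise `V1` and satisfy `[V, x] ≤ V1` -/
def QS (T V : Subgroup G) (hV : T ≤ normalizer (V : Set G)) : Subgroup G where
  carrier := {x | x ∈ T ∧ (∀ v ∈ V1 T V, x * v = v * x) ∧ ∀ v ∈ V, x * v * x⁻¹ * v⁻¹ ∈ V1 T V}
  mul_mem' := by
    rintro a b ⟨ha, ha1, ha2⟩ ⟨hb, hb1, hb2⟩
    refine ⟨mul_mem ha hb, fun v hv => ?_, fun v hv => ?_⟩
    · rw [mul_assoc, hb1 v hv, ← mul_assoc, ha1 v hv, mul_assoc]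
    · have h1 := hb2 v hv
      have h2 := ha1 _ h1
      have e : a * b * v * (a * b)⁻¹ * v⁻¹ = a * (b * v * b⁻¹ * v⁻¹) * (v * a⁻¹ * v⁻¹) := by group
      rw [e, h2]
      have e2 : b * v * b⁻¹ * v⁻¹ * a * (v * a⁻¹ * v⁻¹) = b * v * b⁻¹ * v⁻¹ * (a * v * a⁻¹ * v⁻¹) := by group
      rw [e2]
      exact mul_mem h1 (ha2 v hv)
  one_mem' := ⟨one_mem _, fun v _ => by rw [one_mul, mul_one], fun v _ => by
    rw [one_mul, inv_one, mul_one, mul_inv_cancel]; exact one_mem _⟩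
  inv_mem' := by
    rintro a ⟨ha, ha1, ha2⟩
    have h0 : ∀ v ∈ V1 T V, a⁻¹ * v = v * a⁻¹ := fun v hv => by
      have := ha1 v hv
      calc a⁻¹ * v = a⁻¹ * (v * a) * a⁻¹ := by group
        _ = a⁻¹ * (a * v) * a⁻¹ := by rw [this]
        _ = _ := by group
    refine ⟨inv_mem ha, h0, fun v hv => ?_⟩
    have hv' : a⁻¹ * v * a ∈ V := by
      have := (mem_normalizer_iff.1 (hV (inv_mem ha)) v).1 hv
      rwa [inv_inv] at this
    have h1 := ha2 _ hv'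
    have e : a * (a⁻¹ * v * a) * a⁻¹ * (a⁻¹ * v * a)⁻¹ = v * (a⁻¹ * v * a)⁻¹ := by group
    rw [e] at h1
    have h2 := inv_mem h1
    have e2 : a⁻¹ * v * a⁻¹⁻¹ * v⁻¹ = (v * (a⁻¹ * v * a)⁻¹)⁻¹ := by group
    rw [e2]
    exact h2

theorem o2_le_QS (hG : IsCharacteristicTwoType G) (hR : IsParS (S : Subgroup G) R)
    (hV : (S : Subgroup G) ≤ normalizer (zl (S : Subgroup G) R : Set G)) :
    o2 R ≤ QS (S : Subgroup G) (zl (S : Subgroup G) R) hV := by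
  intro x hx
  have h1 : ∀ v ∈ zl (S : Subgroup G) R, x * v = v * x := fun v hv =>
    (ChoiceBase.mem_zc.1 (hR.isLoc.zl_le S hG hv)).2.2 x hx
  refine ⟨hR.isLoc.o2_le S hx, fun v hv => h1 v (mem_V1.1 hv).1, fun v hv => ?_⟩
  rw [h1 v hv, mul_inv_cancel_right, mul_inv_cancel]
  exact one_mem _

/-- **`x ∈ S` centralises `C_V(J(S))` ⟹ `[V, x] ≤ C_V(J(S))`.** -/
theorem quad (hG : IsCharacteristicTwoType G) (hR : IsParS (S : Subgroup G) R)
    (hJ : ¬ jj (S : Subgroup G) ≤ o2 R) {x : G} (hx : x ∈ (S : Subgroup G))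
    (hxc : ∀ v ∈ V1 (S : Subgroup G) (zl (S : Subgroup G) R), x * v = v * x) :
    ∀ v ∈ zl (S : Subgroup G) R, x * v * x⁻¹ * v⁻¹ ∈ V1 (S : Subgroup G) (zl (S : Subgroup G) R) := by
  have hsyl := syl_of hR
  have hch := hR.isLoc.char2 S hG
  have hmin := hR.toIsMinPar
  have hm := minH hG hR
  have hRV : R ≤ normalizer (zl (S : Subgroup G) R : Set G) := MinSimple.VModule.le_normalizer_zl _ _
  have hV : (S : Subgroup G) ≤ normalizer (zl (S : Subgroup G) R : Set G) := hsyl.1.trans hRV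
  have hJC : ¬ jj (S : Subgroup G) ≤ centralizer (zl (S : Subgroup G) R : Set G) := by
    intro hle
    apply hJ
    rw [← IsParS.inf_centralizer S hG hR]
    exact le_inf (ChoiceBase.jj_le _) hle
  obtain ⟨A, hA, hAV⟩ : ∃ A ∈ AA (S : Subgroup G), ¬ A ≤ centralizer (zl (S : Subgroup G) R : Set G) := by
    by_contra hcon
    push Not at hcon
    apply hJC
    rw [jj_eq]
    exact sSup_le hcon
  have hoff : Off (zl (S : Subgroup G) R) A := SQ1.FFOf.off_of_AA hm hA hAV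
  obtain ⟨hno, hcon⟩ := concl_of_parS hG hR hJ
  have hcs : (R ⊓ centralizer (zl (S : Subgroup G) R : Set G)) ⊔ (S : Subgroup G) ≠ R := by
    intro e
    apply hR.not_zc
    rw [← e]
    refine sup_le ?_ ?_
    · exact (inf_le_right.trans (centralizer_le (zc_le_zl _ _))).trans (centralizer_le_normalizer _)
    · refine le_trans (fun s hs => ?_) (centralizer_le_normalizer _)
      exact mem_centralizer_iff.2 fun z hz => ((ChoiceBase.mem_zc.1 hz).2.2 s hs).symm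
  have hO := o2_le_QS hG hR hV
  suffices hmem : x ∈ QS (S : Subgroup G) (zl (S : Subgroup G) R) hV from hmem.2.2
  rcases hcon with ⟨F, _, _, _, k, hk, ⟨M⟩⟩ | ⟨k, m, hk, hm2, ⟨M⟩⟩
  · have : Nonempty (Fin k) := ⟨⟨0, hk⟩⟩
    let M' := (natKB_of hsyl hch hJ hk M).toFFK hm
    refine sup_le ?_ hO (FFK.field hm M' hx hxc)
    intro j hj
    refine ⟨ChoiceBase.jj_le _ hj, fun v hv => (mem_V1.1 hv).2 j hj, fun v hv => ?_⟩
    obtain ⟨c, hc⟩ := M'.jj_up hm hj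
    have hv' : j * v * j⁻¹ ∈ zl (S : Subgroup G) R := M'.Vn j (hsyl.1 (ChoiceBase.jj_le _ hj)) v hv
    rw [M'.mem_V1_iff hm]
    refine ⟨mul_mem hv' (inv_mem hv), fun i => ?_⟩
    rw [M'.map_div i hv' hv, Pi.sub_apply, M'.up_val1 hc hv, sub_self]
  · have h := OneLine.syT hm hcs ⟨A, hA, hoff⟩ hno M hk (by omega) SQ1.FFOf.cv_le SQ1.FFOf.cv_norm
    obtain ⟨ι, J, X, Y, t, r, hc⟩ := h.exists_ch
    have hin := hc.main h SQ1.SymCyc.exists_pow
    have h1 := hin.field x hx fun v hv hvc => hxc v (mem_V1.2 ⟨hv, hvc⟩)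
    refine sup_le ?_ hO h1
    rw [closure_le]
    rintro _ ⟨i, rfl⟩
    have hd : ∀ y ∈ jj (S : Subgroup G), y * SQ1.FFSym.u R (zl (S : Subgroup G) R) (cv (S : Subgroup G) R) M.e (J i) (X i) (Y i) =
        SQ1.FFSym.u R (zl (S : Subgroup G) R) (cv (S : Subgroup G) R) M.e (J i) (X i) (Y i) * y :=
      fun y hy => (ChoiceBase.mem_zj.1 (hin.d_mem_Z i)).2.2 y hy
    refine ⟨hin.tT i, fun v hv => (mem_V1.1 hv).2 _ (hin.tJ i), fun v hv => ?_⟩
    rcases hin.t_comm i v hv with h2 | h2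
    · rw [h2, mul_inv_cancel]; exact one_mem _
    · rw [h2, mul_inv_cancel_right]
      exact mem_V1.2 ⟨hin.dV i, hd⟩

end Cfsg.Agent.Omega.NO3S.Fld
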