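import Mathlib.FieldTheory.Finite.Basic
import Mathlib.FieldTheory.Fixed
import Mathlib.Dynamics.PeriodicPts.Lemmas
import Mathlib.Tactic.Group
import Mathlib.Tactic.Ring

/-!
# Fld, THEOREM RED (#15355), part (1): the layers of the field `F` under an automorphism `σ` of order `2^ε`

`dl σ = σ - 1`, `K σ s = ker (σ - 1)^s`.

* `dl_two_pow` : `(σ - 1)^(2^i) = σ^(2^i) - 1`;
* `card_K` : `|K σ s| = |K σ 1|^s` for `s ≤ 2^ε`; `exists_dl` : `(σ - 1)^t : K σ (t + s) → K σ s` is surjective;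
* `le_gcd`, `gcd_lt` : fixed points of `σ^k`;
* `kind0`, `kind1` : the action of `σ^(tk)` modulo `K σ (s - 2t)`;
* `card_eq_pow` : `|F| = |K σ 1|^m`, `m` the order of `σ`.
-/

set_option autoImplicit false
set_option linter.unusedSectionVars false

namespace Cfsg.Agent.Omega.NO3S.Fld.Red

section

variable {F : Type*} [Field F]

/-- `σ - 1` -/
def dl (σ : F ≃+* F) (x : F) : F := σ x + x

variable (σ : F ≃+* F)

theorem dl_add (x y : F) : dl σ (x + y) = dl σ x + dl σ y := by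
  unfold dl; rw [map_add]; ring

theorem dl_zero : dl σ 0 = 0 := by
  unfold dl; rw [map_zero, add_zero]

theorem it_add (n : ℕ) (x y : F) : (dl σ)^[n] (x + y) = (dl σ)^[n] x + (dl σ)^[n] y := by
  induction n generalizing x y with
  | zero => rfl
  | succ n ih => rw [Function.iterate_succ_apply, Function.iterate_succ_apply, Function.iterate_succ_apply,
      dl_add, ih]

theorem it_zero (n : ℕ) : (dl σ)^[n] 0 = 0 := by
  induction n with
  | zero => rfl
  | succ n ih => rw [Function.iterate_succ_apply, dl_zero, ih]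

theorem sg_add (n : ℕ) (x y : F) : σ^[n] (x + y) = σ^[n] x + σ^[n] y := by
  induction n generalizing x y with
  | zero => rfl
  | succ n ih => rw [Function.iterate_succ_apply, Function.iterate_succ_apply, Function.iterate_succ_apply,
      map_add, ih]

theorem dl_sg (x : F) : dl σ (σ x) = σ (dl σ x) := by
  unfold dl; rw [map_add]

theorem it_sg (n : ℕ) (x : F) : (dl σ)^[n] (σ x) = σ ((dl σ)^[n] x) := by
  induction n generalizing x with
  | zero => rfl
  | succ n ih => rw [Function.iterate_succ_apply, Function.iterate_succ_apply, dl_sg, ih]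

theorem it_it (n k : ℕ) (x : F) : (dl σ)^[n] (σ^[k] x) = σ^[k] ((dl σ)^[n] x) := by
  induction k generalizing x with
  | zero => rfl
  | succ k ih => rw [Function.iterate_succ_apply, Function.iterate_succ_apply, ih, it_sg]

theorem it_neg (n : ℕ) (x : F) : (dl σ)^[n] (-x) = -(dl σ)^[n] x := by
  have h := it_add σ n (-x) x
  rw [neg_add_cancel, it_zero] at h
  exact eq_neg_of_add_eq_zero_left h.symm

/-- `ker (σ - 1)^s` -/
def K (s : ℕ) : AddSubgroup F where
  carrier := {x | (dl σ)^[s] x = 0}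
  zero_mem' := it_zero σ s
  add_mem' := by
    intro a b ha hb
    show (dl σ)^[s] (a + b) = 0
    rw [it_add, ha, hb, add_zero]
  neg_mem' := by
    intro a ha
    show (dl σ)^[s] (-a) = 0
    rw [it_neg, ha, neg_zero]

theorem mem_K {s : ℕ} {x : F} : x ∈ K σ s ↔ (dl σ)^[s] x = 0 := Iff.rfl

theorem mem_K_zero {x : F} : x ∈ K σ 0 ↔ x = 0 := Iff.rfl

theorem mem_K_add {s t : ℕ} {x : F} : x ∈ K σ (s + t) ↔ (dl σ)^[t] x ∈ K σ s := by
  rw [mem_K, mem_K, Function.iterate_add_apply]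

theorem K_mono {s t : ℕ} (h : s ≤ t) : K σ s ≤ K σ t := by
  intro x hx
  obtain ⟨k, rfl⟩ := Nat.exists_eq_add_of_le h
  rw [mem_K, add_comm, Function.iterate_add_apply, (mem_K σ).1 hx, it_zero]

theorem sg_mem_K {s : ℕ} {x : F} (h : x ∈ K σ s) : σ x ∈ K σ s := by
  rw [mem_K, it_sg, (mem_K σ).1 h, map_zero]

theorem its_mem_K {s : ℕ} (k : ℕ) {x : F} (h : x ∈ K σ s) : σ^[k] x ∈ K σ s := by
  induction k generalizing x with
  | zero => exact h
  | succ k ih => rw [Function.iterate_succ_apply]; exact ih (sg_mem_K σ h)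

theorem dl_mem_K {s : ℕ} {x : F} (h : x ∈ K σ (s + 1)) : dl σ x ∈ K σ s := (mem_K_add σ).1 h

variable [CharP F 2]

theorem two_self (x : F) : x + x = 0 := CharTwo.add_self_eq_zero x

theorem mem_K_one {x : F} : x ∈ K σ 1 ↔ σ x = x := by
  rw [mem_K]
  show σ x + x = 0 ↔ _
  rw [CharTwo.add_eq_zero]

theorem dl_two_pow (i : ℕ) (x : F) : (dl σ)^[2 ^ i] x = σ^[2 ^ i] x + x := by
  induction i generalizing x with
  | zero => rfl
  | succ i ih =>
    rw [pow_succ, mul_two, Function.iterate_add_apply, ih x, ih, sg_add, Function.iterate_add_apply]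
    have := two_self (σ^[2 ^ i] x)
    calc σ^[2 ^ i] (σ^[2 ^ i] x) + σ^[2 ^ i] x + (σ^[2 ^ i] x + x)
        = σ^[2 ^ i] (σ^[2 ^ i] x) + (σ^[2 ^ i] x + σ^[2 ^ i] x) + x := by ring
      _ = _ := by rw [this, add_zero]

theorem mem_K_two_pow {i : ℕ} {x : F} : x ∈ K σ (2 ^ i) ↔ σ^[2 ^ i] x = x := by
  rw [mem_K, dl_two_pow, CharTwo.add_eq_zero]

/-- `σ^k x - x ∈ K (s - 1)` for `x ∈ K s`. -/
theorem sub_mem_K (k : ℕ) {s : ℕ} {x : F} (h : x ∈ K σ (s + 1)) : σ^[k] x + x ∈ K σ s := by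
  induction k with
  | zero =>
    show x + x ∈ _
    rw [two_self]; exact (K σ s).zero_mem
  | succ k ih =>
    have e : σ^[k + 1] x + x = σ (σ^[k] x + x) + dl σ x := by
      rw [Function.iterate_succ_apply', map_add]
      unfold dl
      have := two_self (σ x)
      calc σ (σ^[k] x) + x = σ (σ^[k] x) + (σ x + σ x) + x := by rw [this, add_zero]
        _ = _ := by ring
    rw [e]
    exact add_mem (sg_mem_K σ ih) (dl_mem_K σ h)

/-- `σ^(tk)`, `k` even -/
theorem kind0 {i : ℕ} (j : ℕ) {s : ℕ} {x : F} (h : x ∈ K σ (s + 2 * 2 ^ i)) :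
    σ^[2 ^ i * (2 * j)] x + x ∈ K σ s := by
  induction j with
  | zero =>
    show x + x ∈ _
    rw [two_self]; exact (K σ s).zero_mem
  | succ j ih =>
    have e0 : 2 ^ i * (2 * (j + 1)) = 2 ^ (i + 1) + 2 ^ i * (2 * j) := by rw [pow_succ]; ring
    have e1 : (dl σ)^[2 * 2 ^ i] x = σ^[2 ^ (i + 1)] x + x := by
      rw [← pow_succ', dl_two_pow]
    have e : σ^[2 ^ i * (2 * (j + 1))] x + x = σ^[2 ^ (i + 1)] (σ^[2 ^ i * (2 * j)] x + x) +
        (dl σ)^[2 * 2 ^ i] x := by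
      rw [e0, Function.iterate_add_apply, e1, sg_add]
      have := two_self (σ^[2 ^ (i + 1)] x)
      calc σ^[2 ^ (i + 1)] (σ^[2 ^ i * (2 * j)] x) + x =
          σ^[2 ^ (i + 1)] (σ^[2 ^ i * (2 * j)] x) + (σ^[2 ^ (i + 1)] x + σ^[2 ^ (i + 1)] x) + x := by
            rw [this, add_zero]
        _ = _ := by ring
    rw [e]
    exact add_mem (its_mem_K σ _ ih) ((mem_K_add σ).1 h)

/-- `σ^(tk)`, `k` odd -/
theorem kind1 {i : ℕ} (j : ℕ) {s : ℕ} {x : F} (h : x ∈ K σ (s + 2 * 2 ^ i)) :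
    σ^[2 ^ i * (2 * j + 1)] x + x + (dl σ)^[2 ^ i] x ∈ K σ s := by
  have e0 : 2 ^ i * (2 * j + 1) = 2 ^ i + 2 ^ i * (2 * j) := by ring
  have e : σ^[2 ^ i * (2 * j + 1)] x + x + (dl σ)^[2 ^ i] x = σ^[2 ^ i] (σ^[2 ^ i * (2 * j)] x + x) := by
    rw [e0, Function.iterate_add_apply, dl_two_pow, sg_add]
    have := two_self x
    calc σ^[2 ^ i] (σ^[2 ^ i * (2 * j)] x) + x + (σ^[2 ^ i] x + x) =
        σ^[2 ^ i] (σ^[2 ^ i * (2 * j)] x) + σ^[2 ^ i] x + (x + x) := by ring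
      _ = _ := by rw [this, add_zero]
  rw [e]
  exact its_mem_K σ _ (kind0 σ j h)

end

/-! ### Orders -/

section card

variable {F : Type*} [Field F] [Finite F] [CharP F 2] (σ : F ≃+* F)

/-- `|K (t + s)| ≤ |K t| |K s|`, with equality iff `(σ-1)^t` maps `K (t+s)` onto `K s` -/
theorem card_add_le (t s : ℕ) : Nat.card (K σ (t + s)) ≤ Nat.card (K σ t) * Nat.card (K σ s) ∧
    (Nat.card (K σ (t + s)) = Nat.card (K σ t) * Nat.card (K σ s) →
      ∀ y ∈ K σ s, ∃ x ∈ K σ (t + s), (dl σ)^[t] x = y) := by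
  let f : K σ (t + s) →+ K σ s :=
    { toFun := fun x => ⟨(dl σ)^[t] x, (mem_K_add σ).1 (by rw [add_comm]; exact x.2)⟩
      map_zero' := Subtype.ext (it_zero σ t)
      map_add' := fun x y => Subtype.ext (it_add σ t x y) }
  have h1 : Nat.card f.ker = Nat.card (K σ t) := by
    refine Nat.card_congr ⟨fun x => ⟨x.1.1, ?_⟩, fun x => ⟨⟨x.1, K_mono σ (Nat.le_add_right t s) x.2⟩, ?_⟩,
      fun x => rfl, fun x => rfl⟩
    · have := x.2
      rw [AddMonoidHom.mem_ker] at this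
      exact congrArg Subtype.val this
    · rw [AddMonoidHom.mem_ker]
      exact Subtype.ext x.2
  have h2 : Nat.card (K σ (t + s)) = Nat.card f.ker * Nat.card f.range := by
    have h3 := f.ker.card_mul_index
    rw [← h3, AddSubgroup.index_ker]
  have h3 : Nat.card f.range ≤ Nat.card (K σ s) := Nat.card_le_card_of_injective _ Subtype.val_injective
  refine ⟨?_, ?_⟩
  · rw [h2, h1]
    exact Nat.mul_le_mul_left _ h3
  · intro h4 y hy
    rw [h2, h1] at h4
    have h5 : Nat.card f.range = Nat.card (K σ s) := Nat.eq_of_mul_eq_mul_left Nat.card_pos h4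
    have h6 : f.range = ⊤ := by
      rw [← AddSubgroup.card_eq_iff_eq_top]
      exact h5
    obtain ⟨x, hx⟩ := AddMonoidHom.range_eq_top.1 h6 ⟨y, hy⟩
    exact ⟨x.1, x.2, congrArg Subtype.val hx⟩

theorem card_K_zero : Nat.card (K σ 0) = 1 := by
  have : K σ 0 = ⊥ := by
    rw [eq_bot_iff]
    intro x hx
    exact hx
  rw [this]
  exact AddSubgroup.card_bot

theorem card_le (s : ℕ) : Nat.card (K σ s) ≤ Nat.card (K σ 1) ^ s := by
  induction s with
  | zero => rw [card_K_zero, pow_zero]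
  | succ s ih =>
    rw [pow_succ]
    exact (card_add_le σ s 1).1.trans (Nat.mul_le_mul_right _ ih)

theorem two_le_card_K_one : 2 ≤ Nat.card (K σ 1) := by
  have h1 : (1 : F) ∈ K σ 1 := by
    rw [mem_K_one]
    exact map_one σ
  have h2 : Nontrivial (K σ 1) := ⟨⟨1, h1⟩, 0, fun h => one_ne_zero (congrArg Subtype.val h)⟩
  exact Finite.one_lt_card_iff_nontrivial.2 h2

variable {σ} {ε : ℕ}

theorem K_top (per : ∀ x, σ^[2 ^ ε] x = x) : K σ (2 ^ ε) = ⊤ := by
  rw [eq_top_iff]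
  intro x _
  rw [mem_K_two_pow, per]

/-- the layers -/
structure Lay (σ : F ≃+* F) (ε : ℕ) : Prop where
  per : ∀ x, σ^[2 ^ ε] x = x
  card : Nat.card F = Nat.card (K σ 1) ^ 2 ^ ε

variable (h : Lay σ ε)
include h

theorem Lay.card_K {s : ℕ} (hs : s ≤ 2 ^ ε) : Nat.card (K σ s) = Nat.card (K σ 1) ^ s := by
  refine le_antisymm (card_le σ s) ?_
  obtain ⟨k, hk⟩ := Nat.exists_eq_add_of_le hs
  have h1 := (card_add_le σ s k).1
  rw [← hk, K_top h.per, AddSubgroup.card_top, h.card, hk, pow_add] at h1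
  have h2 := card_le σ k
  have h3 : 0 < Nat.card (K σ 1) ^ k := Nat.pow_pos (by have := two_le_card_K_one σ; omega)
  exact Nat.le_of_mul_le_mul_right (h1.trans (Nat.mul_le_mul_left _ h2)) h3

/-- `(σ - 1)^t` maps `K (t + s)` onto `K s` -/
theorem Lay.exists_dl {t s : ℕ} (hs : t + s ≤ 2 ^ ε) {y : F} (hy : y ∈ K σ s) :
    ∃ x ∈ K σ (t + s), (dl σ)^[t] x = y := by
  refine (card_add_le σ t s).2 ?_ y hy
  rw [h.card_K hs, h.card_K (s := t) (by omega), h.card_K (s := s) (by omega), pow_add]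

theorem Lay.le_of_K_le {s g : ℕ} (hs : s ≤ 2 ^ ε) (hK : K σ s ≤ K σ g) : s ≤ g := by
  by_contra hcon
  have h1 : Nat.card (K σ s) ≤ Nat.card (K σ g) := Nat.card_mono (Set.toFinite _) hK
  rw [h.card_K hs, h.card_K (s := g) (by omega)] at h1
  exact hcon ((Nat.pow_le_pow_iff_right (by have := two_le_card_K_one σ; omega)).1 h1)

/-- `σ^k` trivial on `K t`: `t ≤ gcd (k, 2^ε)`. -/
theorem Lay.le_gcd {k t : ℕ} (ht : t ≤ 2 ^ ε) (hk : ∀ x ∈ K σ t, σ^[k] x = x) : t ≤ k.gcd (2 ^ ε) := by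
  obtain ⟨j, -, hj⟩ := (Nat.dvd_prime_pow Nat.prime_two).1 (Nat.gcd_dvd_right k (2 ^ ε))
  apply h.le_of_K_le ht
  intro x hx
  rw [hj, mem_K_two_pow, ← hj]
  have h1 : Function.IsPeriodicPt σ k x := hk x hx
  have h2 : Function.IsPeriodicPt σ (2 ^ ε) x := h.per x
  exact h1.gcd h2

/-- `σ^k` nontrivial on `K (t + 1)`: `gcd (k, 2^ε) ≤ t`. -/
theorem Lay.gcd_le {k t : ℕ} (hk : ∃ x ∈ K σ (t + 1), σ^[k] x ≠ x) : k.gcd (2 ^ ε) ≤ t := by
  obtain ⟨j, -, hj⟩ := (Nat.dvd_prime_pow Nat.prime_two).1 (Nat.gcd_dvd_right k (2 ^ ε))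
  obtain ⟨x, hx, hne⟩ := hk
  by_contra hcon
  apply hne
  have h1 : x ∈ K σ (2 ^ j) := K_mono σ (by omega) hx
  rw [mem_K_two_pow] at h1
  obtain ⟨c, hc⟩ := hj ▸ Nat.gcd_dvd_left k (2 ^ ε)
  rw [hc]
  have h2 : Function.IsPeriodicPt σ (2 ^ j) x := h1
  exact h2.mul_const c

end card

/-! ### `|F| = |F_0|^m` -/

section artin

variable {F : Type*} [Field F] [Finite F] [CharP F 2]

/-- **Artin**: `|F| = |C_F(σ)|^m`, `m` the order of `σ`. -/
theorem card_eq_pow (σ : F ≃+* F) : Nat.card F = Nat.card (K σ 1) ^ orderOf σ := by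
  classical
  have hfin : Finite (F ≃+* F) := Finite.of_injective (fun f : F ≃+* F => (f : F → F)) DFunLike.coe_injective
  have _ : Fintype (Subgroup.zpowers σ) := Fintype.ofFinite _
  have hfs : FaithfulSMul (Subgroup.zpowers σ) F :=
    ⟨fun {a b} h => Subtype.ext (RingEquiv.ext fun x => h x)⟩
  have h1 := FixedPoints.finrank_eq_card (Subgroup.zpowers σ) F
  have h2 : Module.finrank (FixedPoints.subfield (Subgroup.zpowers σ) F) F = orderOf σ := by
    rw [h1, ← Nat.card_eq_fintype_card, Nat.card_zpowers]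
  have h3 := Module.natCard_eq_pow_finrank (K := FixedPoints.subfield (Subgroup.zpowers σ) F) (V := F)
  rw [h2] at h3
  rw [h3]
  congr 1
  refine Nat.card_congr ⟨fun x => ⟨x.1, ?_⟩, fun x => ⟨x.1, ?_⟩, fun x => rfl, fun x => rfl⟩
  · rw [mem_K_one]
    exact x.2 ⟨σ, Subgroup.mem_zpowers σ⟩
  · rintro ⟨g, hg⟩
    obtain ⟨k, rfl⟩ := Subgroup.mem_zpowers_iff.1 hg
    have h4 : σ ∈ MulAction.stabilizer (F ≃+* F) (x.1 : F) := (mem_K_one σ).1 x.2
    exact (MulAction.stabilizer (F ≃+* F) (x.1 : F)).zpow_mem h4 k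

theorem coe_pow_eq (σ : F ≃+* F) (k : ℕ) (x : F) : (σ ^ k) x = σ^[k] x := by
  induction k generalizing x with
  | zero => rfl
  | succ k ih => rw [pow_succ, Function.iterate_succ_apply, ← ih]; rfl

theorem lay_of {σ : F ≃+* F} {ε : ℕ} (h : orderOf σ = 2 ^ ε) : Lay σ ε where
  per x := by
    rw [← coe_pow_eq, ← h, pow_orderOf_eq_one]; rfl
  card := by rw [← h]; exact card_eq_pow σ

end artin

end Cfsg.Agent.Omega.NO3S.Fld.Red
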