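import Cfsg.Agent.Omega.NO3S.Fld.RedFld
import Cfsg.Agent.Omega.NO3S.Fld.RedCount

/-!
# Fld, THEOREM RED (#15355), part (1): noncentral chief factors of `X` in `W = ⟨R^X⟩`

`R = e(F)` is the point, `S` acts on `R` through powers of `σ`, `X` is a minimal parabolic over `S` which centralises
`C_R(S)` and moves `R`; `E = O²(X)`, `Q = O₂(X)`, `O = [Q, E]`.

* `Md F S X R` : the situation;
* `layer` : the LAYER LEMMA;
* `Md.two_sections`, `Md.three_sections` : two (three) noncentral sections in `W`.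
-/

set_option autoImplicit false
set_option linter.unusedSectionVars false

namespace Cfsg.Agent.Omega.NO3S.Fld.Red

open Subgroup Cfsg Cfsg.Agent.ZN Cfsg.Agent.ZN.ChoiceBase Cfsg.Agent.ZN.ChoiceSit
open Cfsg.Agent.MinSimple.VModule (oddGen oddGen_le mem_oddGen le_normalizer_oddGen oddGen_le_of_sup)
open Cfsg.Agent.Omega.NO3b.EZero (cl cj_le_cl le_cl cl_le cj_cl le_normalizer_cl le_normalizer_inf_cent
  oddGen_sup_syl)
open Cfsg.Agent.Omega.NO3b.K0 (min_or NoOv oddGen_oddGen)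
open Cfsg.Agent.Omega.NO3S.NotFF (le_normalizer_of_forall conj_mem comm_mem_right comm_mem_left normalizer_inf
  normalizer_centralizer normalizer_commutator le_normalizer_bot commutator_le_of_odd
  le_centralizer_of_commutator commutator_commutator_eq)
open scoped commutatorElement

universe u

variable {G : Type u} [Group G]

/-- **LAYER LEMMA.** `O = [O, E]`, `r` in the abelian group `W`, `N, N₁ ≤ W`, `[N, O] ≤ N₁`, `N₁` normalised by `E`,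
`O₁ = {o ∈ O : [r, o] ∈ N₁}` a subgroup with `|O : O₁| = 2`: `E` moves `r` modulo `N`. -/
theorem layer {E O W N N1 O1 : Subgroup G} {r : G} (hOO : O ≤ ⁅O, E⁆) (hEO : E ≤ normalizer (O : Set G))
    (hW : W ≤ centralizer (W : Set G)) (hN1W : N1 ≤ W) (hrW : r ∈ W)
    (hEN1 : E ≤ normalizer (N1 : Set G)) (hON : ∀ w ∈ N, ∀ o ∈ O, ⁅w, o⁆ ∈ N1)
    (h2 : ∀ a ∈ O, ∀ b ∈ O, a ∉ O1 → b ∉ O1 → a * b ∈ O1) (hne : ∃ o ∈ O, o ∉ O1)
    (hr1 : ∀ o ∈ O, ⁅r, o⁆ ∈ N1 ↔ o ∈ O1) (hE : ∀ e ∈ E, r⁻¹ * (e * r * e⁻¹) ∈ N) : False := by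
  -- `O₁` is invariant
  have key : ∀ e ∈ E, ∀ o ∈ O, (e * o * e⁻¹ ∈ O1 ↔ o ∈ O1) := by
    intro e he o ho
    have ho' : e * o * e⁻¹ ∈ O := conj_mem hEO he ho
    set r' := e * r * e⁻¹ with hr'
    -- first computation
    have h3 : ⁅r', e * o * e⁻¹⁆ = e * ⁅r, o⁆ * e⁻¹ := by
      rw [hr']; simp only [commutatorElement_def]; group
    have h4 : ⁅r', e * o * e⁻¹⁆ ∈ N1 ↔ ⁅r, o⁆ ∈ N1 := by
      rw [h3]
      exact ((mem_normalizer_iff.1 (hEN1 he)) _).symm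
    -- second computation
    have h5 : ∀ o ∈ O, (⁅r', o⁆ ∈ N1 ↔ ⁅r, o⁆ ∈ N1) := by
      intro o ho
      have h6 := hON _ (hE e he) o ho
      have e1 : ⁅r', o⁆ = r * ⁅r⁻¹ * (e * r * e⁻¹), o⁆ * r⁻¹ * ⁅r, o⁆ := by
        rw [hr']; simp only [commutatorElement_def]; group
      have e2 : r * ⁅r⁻¹ * (e * r * e⁻¹), o⁆ * r⁻¹ = ⁅r⁻¹ * (e * r * e⁻¹), o⁆ := by
        rw [← mem_centralizer_iff.1 (hW hrW) _ (hN1W h6), mul_inv_cancel_right]
      rw [e1, e2]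
      exact N1.mul_mem_cancel_left h6
    rw [← hr1 _ ho', ← hr1 _ ho, ← h5 _ ho', h4]
  obtain ⟨o, ho, hoO⟩ := hne
  apply hoO
  have h3 : ⁅O, E⁆ ≤ O1 := by
    rw [commutator_le]
    intro a ha e he
    have e1 : ⁅a, e⁆ = a * (e * a⁻¹ * e⁻¹) := by simp only [commutatorElement_def]; group
    rw [e1]
    by_cases haO : a ∈ O1
    · exact O1.mul_mem haO ((key e he _ (O.inv_mem ha)).2 (O1.inv_mem haO))
    · refine h2 a ha _ (conj_mem hEO he (O.inv_mem ha)) haO fun h0 => haO ?_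
      have := (key e he _ (O.inv_mem ha)).1 h0
      exact (O1.inv_mem_iff).1 this
  exact h3 (hOO ho)

/-- `{w ∈ W : [w, O] ≤ N₁}` -/
def pre (W O N1 : Subgroup G) (hW : W ≤ centralizer (W : Set G)) (hN : N1 ≤ W) : Subgroup G where
  carrier := {w | w ∈ W ∧ ∀ o ∈ O, ⁅w, o⁆ ∈ N1}
  one_mem' := ⟨one_mem _, fun o _ => by rw [commutatorElement_one_left]; exact one_mem _⟩
  mul_mem' := by
    rintro a b ⟨ha, ha'⟩ ⟨hb, hb'⟩
    refine ⟨mul_mem ha hb, fun o ho => ?_⟩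
    have e1 : ⁅a * b, o⁆ = a * ⁅b, o⁆ * a⁻¹ * ⁅a, o⁆ := by simp only [commutatorElement_def]; group
    have e2 : a * ⁅b, o⁆ * a⁻¹ = ⁅b, o⁆ := by
      rw [← mem_centralizer_iff.1 (hW ha) _ (hN (hb' o ho)), mul_inv_cancel_right]
    rw [e1, e2]
    exact mul_mem (hb' o ho) (ha' o ho)
  inv_mem' := by
    rintro a ⟨ha, ha'⟩
    refine ⟨inv_mem ha, fun o ho => ?_⟩
    have e1 : ⁅a⁻¹, o⁆ = a⁻¹ * ⁅a, o⁆⁻¹ * a := by simp only [commutatorElement_def]; group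
    have e2 : a⁻¹ * ⁅a, o⁆⁻¹ * a = ⁅a, o⁆⁻¹ := by
      rw [← mem_centralizer_iff.1 (hW (inv_mem ha)) _ (hN (inv_mem (ha' o ho))), inv_mul_cancel_right]
    rw [e1, e2]
    exact inv_mem (ha' o ho)

section pre

variable {W O N1 N2 X : Subgroup G} {hW : W ≤ centralizer (W : Set G)} {hN : N1 ≤ W} {hN' : N2 ≤ W}

theorem pre_le : pre W O N1 hW hN ≤ W := fun _ h => h.1

theorem mem_pre {w : G} : w ∈ pre W O N1 hW hN ↔ w ∈ W ∧ ∀ o ∈ O, ⁅w, o⁆ ∈ N1 := Iff.rfl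

theorem pre_mono (h : N1 ≤ N2) : pre W O N1 hW hN ≤ pre W O N2 hW hN' := fun _ hw => ⟨hw.1, fun o ho => h (hw.2 o ho)⟩

theorem normalizer_pre (hXW : X ≤ normalizer (W : Set G)) (hXO : X ≤ normalizer (O : Set G))
    (hXN : X ≤ normalizer (N1 : Set G)) : X ≤ normalizer ((pre W O N1 hW hN : Subgroup G) : Set G) := by
  refine le_normalizer_of_forall fun x hx w hw => ⟨conj_mem hXW hx hw.1, fun o ho => ?_⟩
  have ho' : x⁻¹ * o * x ∈ O := by
    have := conj_mem hXO (inv_mem hx) ho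
    rwa [inv_inv] at this
  have e : ⁅x * w * x⁻¹, o⁆ = x * ⁅w, x⁻¹ * o * x⁆ * x⁻¹ := by simp only [commutatorElement_def]; group
  rw [e]
  exact conj_mem hXN hx (hw.2 _ ho')

theorem pre_comm : ∀ w ∈ pre W O N1 hW hN, ∀ o ∈ O, ⁅w, o⁆ ∈ N1 := fun _ hw => hw.2

end pre

/-- The situation of (1) of THEOREM RED. -/
structure Md (F : Type*) [Field F] (S X R : Subgroup G) where
  e : F → G
  e_add : ∀ x y, e (x + y) = e x * e y
  e_inj : Function.Injective e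
  mem_iff : ∀ g, g ∈ R ↔ ∃ x, e x = g
  σ : F ≃+* F
  ε : ℕ
  per : ∀ x, σ^[2 ^ ε] x = x
  card : Nat.card F = Nat.card (K σ 1) ^ 2 ^ ε
  act : ∀ s ∈ S, ∃ k : ℕ, ∀ x, s * e x * s⁻¹ = e (σ^[k] x)
  cent : ∀ x ∈ K σ 1, e x ∈ centralizer (X : Set G)
  syl : Syl S X
  sq : ∀ u ∈ cl R X, u ^ 2 = 1
  comm : cl R X ≤ centralizer (cl R X : Set G)
  RS : R ≤ S
  ff : cl R X ⊓ zc (o2 X) ≤ centralizer (oddGen X : Set G)
  nR : ¬ X ≤ normalizer (R : Set G)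

namespace Md

variable {F : Type*} [Field F] {S X R : Subgroup G} (M : Md F S X R)

theorem e_zero : M.e 0 = 1 := by
  have h := M.e_add 0 0
  rw [add_zero] at h
  exact left_eq_mul.1 h

theorem e_eq_one {x : F} : M.e x = 1 ↔ x = 0 := by
  rw [← M.e_zero]
  exact M.e_inj.eq_iff

theorem e_neg (x : F) : M.e (-x) = (M.e x)⁻¹ := by
  have h := M.e_add (-x) x
  rw [neg_add_cancel, M.e_zero] at h
  exact eq_inv_of_mul_eq_one_left h.symm

theorem e_mem (x : F) : M.e x ∈ R := (M.mem_iff _).2 ⟨x, rfl⟩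

/-- `e(K s)` -/
def Rk (s : ℕ) : Subgroup G where
  carrier := {g | ∃ x ∈ K M.σ s, M.e x = g}
  one_mem' := ⟨0, zero_mem _, M.e_zero⟩
  mul_mem' := by
    rintro _ _ ⟨x, hx, rfl⟩ ⟨y, hy, rfl⟩
    exact ⟨x + y, add_mem hx hy, M.e_add x y⟩
  inv_mem' := by
    rintro _ ⟨x, hx, rfl⟩
    exact ⟨-x, neg_mem hx, M.e_neg x⟩

theorem mem_Rk {s : ℕ} {x : F} : M.e x ∈ M.Rk s ↔ x ∈ K M.σ s :=
  ⟨fun ⟨_, hy, h⟩ => M.e_inj h ▸ hy, fun h => ⟨x, h, rfl⟩⟩

theorem Rk_le (s : ℕ) : M.Rk s ≤ R := by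
  rintro _ ⟨x, -, rfl⟩
  exact M.e_mem x

theorem Rk_mono {s t : ℕ} (h : s ≤ t) : M.Rk s ≤ M.Rk t := by
  rintro _ ⟨x, hx, rfl⟩
  exact ⟨x, K_mono _ h hx, rfl⟩

theorem Rk_zero : M.Rk 0 = ⊥ := by
  rw [eq_bot_iff]
  rintro _ ⟨x, hx, rfl⟩
  rw [(mem_K_zero M.σ).1 hx, M.e_zero]
  exact one_mem _

theorem S_Rk (s : ℕ) : S ≤ normalizer (M.Rk s : Set G) := by
  refine le_normalizer_of_forall fun a ha x hx => ?_
  obtain ⟨y, hy, rfl⟩ := hx
  obtain ⟨k, hk⟩ := M.act a ha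
  rw [hk]
  exact ⟨_, its_mem_K _ _ hy, rfl⟩

include M in
theorem S_R : S ≤ normalizer (R : Set G) := by
  refine le_normalizer_of_forall fun a ha x hx => ?_
  obtain ⟨y, rfl⟩ := (M.mem_iff _).1 hx
  obtain ⟨k, hk⟩ := M.act a ha
  rw [hk]
  exact M.e_mem _

section two

variable [CharP F 2]

theorem comm_e {o : G} {k : ℕ} (h : ∀ x, o * M.e x * o⁻¹ = M.e (M.σ^[k] x)) (x : F) :
    ⁅M.e x, o⁆ = M.e (M.σ^[k] x + x) := by
  have e1 : ⁅M.e x, o⁆ = M.e x * (o * M.e (-x) * o⁻¹) := by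
    rw [M.e_neg]; simp only [commutatorElement_def]; group
  rw [e1, h, ← M.e_add]
  congr 1
  rw [CharTwo.neg_eq, add_comm]

theorem Rk_comm (s : ℕ) {x : F} (hx : x ∈ K M.σ (s + 1)) {o : G} (ho : o ∈ S) : ⁅M.e x, o⁆ ∈ M.Rk s := by
  obtain ⟨k, hk⟩ := M.act o ho
  rw [M.comm_e hk]
  exact M.mem_Rk.2 (sub_mem_K _ k hx)

end two

section fin

variable [Finite G]

/-- `W = ⟨R^X⟩` -/
abbrev W (_ : Md F S X R) : Subgroup G := cl R X

/-- `E = O²(X)` -/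
abbrev E (_ : Md F S X R) : Subgroup G := oddGen X

/-- `O = [O₂(X), O²(X)]` -/
abbrev O (_ : Md F S X R) : Subgroup G := ⁅o2 X, oddGen X⁆

theorem R_le_W : R ≤ M.W := le_cl R X

theorem isPGroup_W : IsPGroup 2 M.W := fun x => ⟨1, Subtype.ext (by simpa using M.sq x x.2)⟩

theorem X_W : X ≤ normalizer (M.W : Set G) := le_normalizer_cl R X

theorem W_le_X : M.W ≤ X := cl_le fun x hx => by
  have h1 := cj_mono x (M.RS.trans M.syl.1)
  rwa [cj_eq_of_mem_normalizer (Subgroup.le_normalizer hx)] at h1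

theorem W_le_Q : M.W ≤ o2 X := ChoiceSit.le_o2 M.isPGroup_W M.W_le_X M.X_W

include M in
theorem Q_le_S : o2 X ≤ S := o2_le_syl M.syl

include M in
theorem sup : oddGen X ⊔ S = X := oddGen_sup_syl M.syl

omit [Finite G] in
theorem X_O : X ≤ normalizer (M.O : Set G) :=
  normalizer_commutator (le_normalizer_o2 X) (le_normalizer_oddGen X)

omit [Finite G] in
theorem O_le_Q : M.O ≤ o2 X := by
  rw [← le_normalizer_iff_commutator_le_left]
  exact (oddGen_le X).trans (le_normalizer_o2 X)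

theorem O_le_S : M.O ≤ S := M.O_le_Q.trans M.Q_le_S

theorem O_le_E : M.O ≤ oddGen X := by
  rw [← le_normalizer_iff_commutator_le_right]
  exact (M.Q_le_S.trans M.syl.1).trans (le_normalizer_oddGen X)

theorem O_eq : M.O ≤ ⁅M.O, M.E⁆ :=
  (commutator_commutator_eq (oddGen_oddGen X) (ChoiceSit.isPGroup_o2 X)
    ((oddGen_le X).trans (le_normalizer_o2 X))
    ((M.Q_le_S.trans M.syl.1).trans (le_normalizer_oddGen X))).ge

theorem nR' : ¬ R ≤ centralizer (M.E : Set G) := by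
  intro h
  apply M.nR
  rw [← M.sup]
  exact sup_le ((le_centralizer_iff.1 h).trans (centralizer_le_normalizer _)) M.S_R

/-- the fixed layer is normal in `X` -/
theorem X_Rk {t : ℕ} (h : M.Rk t ≤ centralizer (M.E : Set G)) : X ≤ normalizer (M.Rk t : Set G) := by
  exact M.sup.ge.trans (sup_le ((le_centralizer_iff.1 h).trans (centralizer_le_normalizer _)) (M.S_Rk t))

section two

variable [CharP F 2]

theorem Rk_top : M.Rk (2 ^ M.ε) = R := by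
  apply le_antisymm (M.Rk_le _)
  intro g hg
  obtain ⟨x, rfl⟩ := (M.mem_iff _).1 hg
  rw [M.mem_Rk, mem_K_two_pow, M.per]

/-- the number `t` -/
theorem exists_t : ∃ t, 1 ≤ t ∧ t < 2 ^ M.ε ∧ M.Rk t ≤ centralizer (M.E : Set G) ∧
    ¬ M.Rk (t + 1) ≤ centralizer (M.E : Set G) := by
  classical
  have h1 : M.Rk 1 ≤ centralizer (M.E : Set G) := by
    rintro _ ⟨x, hx, rfl⟩
    exact centralizer_le (oddGen_le X) (M.cent x hx)
  by_contra hcon
  push Not at hcon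
  have key : ∀ t, t ≤ 2 ^ M.ε → M.Rk t ≤ centralizer (M.E : Set G) := by
    intro t
    induction t with
    | zero => exact fun _ => (M.Rk_mono (Nat.zero_le 1)).trans h1
    | succ t ih =>
      intro ht
      rcases Nat.eq_zero_or_pos t with rfl | ht0
      · exact h1
      · exact hcon t ht0 (by omega) (ih (by omega))
  have h2 := key _ le_rfl
  rw [M.Rk_top] at h2
  exact M.nR' h2

/-- `O` does not centralise `R^(t+1)`. -/
theorem nO {t : ℕ} (h1 : M.Rk t ≤ centralizer (M.E : Set G)) (h2 : ¬ M.Rk (t + 1) ≤ centralizer (M.E : Set G)) :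
    ¬ M.Rk (t + 1) ≤ centralizer (M.O : Set G) := by
  intro hO
  apply h2
  have hNW : M.Rk t ≤ M.W := (M.Rk_le t).trans M.R_le_W
  set T : Subgroup G := pre M.W (o2 X) (M.Rk t) M.comm hNW ⊓ centralizer (M.O : Set G) with hT
  have hXT : X ≤ normalizer (T : Set G) := normalizer_inf
    (normalizer_pre M.X_W (le_normalizer_o2 X) (M.X_Rk h1)) (normalizer_centralizer M.X_O)
  have hTW : T ≤ M.W := inf_le_left.trans pre_le
  have hRT : M.Rk (t + 1) ≤ T := by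
    refine le_inf ?_ hO
    rintro _ ⟨x, hx, rfl⟩
    exact ⟨M.R_le_W (M.e_mem x), fun o ho => M.Rk_comm t hx (M.Q_le_S ho)⟩
  refine hRT.trans ?_
  -- three subgroups
  have h3 : (⁅⁅M.E, o2 X⁆, T⁆ : Subgroup G) = ⊥ := by
    rw [commutator_comm M.E (o2 X), commutator_comm, commutator_eq_bot_iff_le_centralizer]
    exact inf_le_right
  have h4 : (⁅⁅o2 X, T⁆, M.E⁆ : Subgroup G) = ⊥ := by
    rw [commutator_comm (o2 X) T, eq_bot_iff]
    have h40 : ⁅T, o2 X⁆ ≤ M.Rk t := commutator_le.2 fun w hw o ho => ((mem_inf.1 hw).1.2 o ho)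
    refine (commutator_mono h40 le_rfl).trans ?_
    rw [le_bot_iff, commutator_eq_bot_iff_le_centralizer]
    exact h1
  have h5 : (⁅⁅T, M.E⁆, o2 X⁆ : Subgroup G) = ⊥ := commutator_commutator_eq_bot_of_rotate h3 h4
  rw [commutator_eq_bot_iff_le_centralizer] at h5
  have h6 : ⁅T, M.E⁆ ≤ T := by
    rw [← le_normalizer_iff_commutator_le_left]
    exact (oddGen_le X).trans hXT
  have h7 : ⁅T, M.E⁆ ≤ zc (o2 X) := by
    intro g hg
    exact subset_closure ⟨⟨M.W_le_Q (hTW (h6 hg)), h5 hg⟩, M.sq g (hTW (h6 hg))⟩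
  exact le_centralizer_of_commutator (oddGen_oddGen X) (M.isPGroup_W.to_le hTW) ((oddGen_le X).trans hXT)
    ((le_inf (h6.trans hTW) h7).trans M.ff)

/-- `o` acts on `R` as `σ^(tk)`, `k` even. -/
def Ev (i : ℕ) (o : G) : Prop := ∀ s, ∀ x ∈ K M.σ (s + 2 * 2 ^ i), ⁅M.e x, o⁆ ∈ M.Rk s

/-- `o` acts on `R` as `σ^(tk)`, `k` odd. -/
def Od (i : ℕ) (o : G) : Prop := ∀ s, ∀ x ∈ K M.σ (s + 2 * 2 ^ i), ⁅M.e x, o⁆ * M.e ((dl M.σ)^[2 ^ i] x) ∈ M.Rk s

/-- `O` induces `⟨σ^t⟩` on `R`, `t = 2^i`. -/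
theorem exists_i [Finite F] : ∃ i, 2 * 2 ^ i ≤ 2 ^ M.ε ∧ M.Rk (2 ^ i) ≤ centralizer (M.E : Set G) ∧
    ¬ M.Rk (2 ^ i + 1) ≤ centralizer (M.E : Set G) ∧
    (∀ o ∈ M.O, M.Ev i o ∨ M.Od i o) ∧ ∃ o ∈ M.O, M.Od i o := by
  have hl : Lay M.σ M.ε := ⟨M.per, M.card⟩
  obtain ⟨t, ht1, htm, hc, hnc⟩ := M.exists_t
  have hnO := M.nO hc hnc
  -- elements of `O` are trivial on `K t`
  have h1 : ∀ o ∈ M.O, ∀ k, (∀ x, o * M.e x * o⁻¹ = M.e (M.σ^[k] x)) → t ≤ k.gcd (2 ^ M.ε) := by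
    intro o ho k hk
    refine hl.le_gcd htm.le fun x hx => ?_
    have h2 : M.e x ∈ M.Rk t := M.mem_Rk.2 hx
    have h3 : o * M.e x = M.e x * o := mem_centralizer_iff.1 (hc h2) o (M.O_le_E ho)
    apply M.e_inj
    rw [← hk, h3, mul_inv_cancel_right]
  -- one element of `O` is nontrivial on `K (t + 1)`
  obtain ⟨o0, ho0, k0, hk0, hg0⟩ : ∃ o ∈ M.O, ∃ k, (∀ x, o * M.e x * o⁻¹ = M.e (M.σ^[k] x)) ∧
      k.gcd (2 ^ M.ε) ≤ t := by
    by_contra hcon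
    push Not at hcon
    apply hnO
    rintro _ ⟨x, hx, rfl⟩
    rw [mem_centralizer_iff]
    intro o ho
    obtain ⟨k, hk⟩ := M.act o (M.O_le_S ho)
    have h2 := hcon o ho k hk
    by_contra hne
    refine absurd (hl.gcd_le (k := k) (t := t) ⟨x, hx, fun h3 => hne ?_⟩) (not_le.2 h2)
    have h4 := hk x
    rw [h3] at h4
    exact mul_inv_eq_iff_eq_mul.1 h4
  have hg : k0.gcd (2 ^ M.ε) = t := le_antisymm hg0 (h1 o0 ho0 k0 hk0)
  obtain ⟨i, hi, hti⟩ := (Nat.dvd_prime_pow Nat.prime_two).1 (hg ▸ Nat.gcd_dvd_right k0 (2 ^ M.ε))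
  subst hti
  have hiε : i < M.ε := (Nat.pow_lt_pow_iff_right (by norm_num)).1 htm
  refine ⟨i, ?_, hc, hnc, ?_, o0, ho0, ?_⟩
  · rw [← pow_succ']
    exact Nat.pow_le_pow_right (by norm_num) hiε
  · intro o ho
    obtain ⟨k, hk⟩ := M.act o (M.O_le_S ho)
    have h2 := h1 o ho k hk
    obtain ⟨j, -, hj⟩ := (Nat.dvd_prime_pow Nat.prime_two).1 (Nat.gcd_dvd_right k (2 ^ M.ε))
    rw [hj] at h2
    have h3 : 2 ^ i ∣ k := (pow_dvd_pow 2 ((Nat.pow_le_pow_iff_right (by norm_num)).1 h2)).trans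
      (hj ▸ Nat.gcd_dvd_left k (2 ^ M.ε))
    obtain ⟨c, rfl⟩ := h3
    rcases Nat.even_or_odd' c with ⟨j', rfl | rfl⟩
    · left
      intro s x hx
      rw [M.comm_e hk]
      exact M.mem_Rk.2 (kind0 M.σ j' hx)
    · right
      intro s x hx
      rw [M.comm_e hk, ← M.e_add]
      exact M.mem_Rk.2 (kind1 M.σ j' hx)
  · obtain ⟨c, hc0⟩ := hg ▸ Nat.gcd_dvd_left k0 (2 ^ M.ε)
    rcases Nat.even_or_odd' c with ⟨j', rfl | rfl⟩
    · exfalso
      have h3 : 2 ^ (i + 1) ∣ k0.gcd (2 ^ M.ε) := by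
        refine Nat.dvd_gcd ⟨j', by rw [hc0, pow_succ]; ring⟩ (pow_dvd_pow 2 hiε)
      rw [hg] at h3
      have h4 := Nat.le_of_dvd (by positivity) h3
      rw [pow_succ] at h4
      have : 0 < 2 ^ i := by positivity
      omega
    · subst hc0
      intro s x hx
      rw [M.comm_e hk0, ← M.e_add]
      exact M.mem_Rk.2 (kind1 M.σ j' hx)

section secs

variable [Finite F] {i : ℕ} (hi : 2 * 2 ^ i ≤ 2 ^ M.ε) (hk : ∀ o ∈ M.O, M.Ev i o ∨ M.Od i o)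
  (hex : ∃ o ∈ M.O, M.Od i o)

/-- `O₁` -/
abbrev O1 (i : ℕ) : Subgroup G := M.O ⊓ centralizer (M.Rk (2 * 2 ^ i) : Set G)

theorem Ev.mem {o : G} (h : M.Ev i o) (ho : o ∈ M.O) : o ∈ M.O1 i := by
  refine ⟨ho, mem_centralizer_iff.2 ?_⟩
  rintro _ ⟨x, hx, rfl⟩
  have h1 := h 0 x (by rw [zero_add]; exact hx)
  rw [M.Rk_zero, mem_bot] at h1
  exact (commutatorElement_eq_one_iff_mul_comm.1 h1)

include hi in
theorem Od.not_mem {o : G} (h : M.Od i o) : o ∉ M.O1 i := by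
  intro ho
  have hl : Lay M.σ M.ε := ⟨M.per, M.card⟩
  have h1 : (1 : F) ∈ K M.σ (2 ^ i) := by
    apply K_mono M.σ (Nat.one_le_two_pow (n := i))
    rw [mem_K_one]; exact map_one _
  obtain ⟨x, hx, hx1⟩ := hl.exists_dl (t := 2 ^ i) (s := 2 ^ i) (by omega) h1
  rw [← two_mul] at hx
  have h2 := h 0 x (by rw [zero_add]; exact hx)
  have h3 : ⁅M.e x, o⁆ = 1 := commutatorElement_eq_one_iff_mul_comm.2
    (mem_centralizer_iff.1 ho.2 _ (M.mem_Rk.2 hx))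
  rw [h3, one_mul, hx1, M.Rk_zero, mem_bot, M.e_eq_one] at h2
  exact one_ne_zero h2

include hk in
theorem mul_mem_O1 {a b : G} (ha : a ∈ M.O) (hb : b ∈ M.O) (ha' : a ∉ M.O1 i) (hb' : b ∉ M.O1 i) :
    a * b ∈ M.O1 i := by
  have hao : M.Od i a := (hk a ha).resolve_left fun h => ha' (h.mem M ha)
  have hbo : M.Od i b := (hk b hb).resolve_left fun h => hb' (h.mem M hb)
  have hm := mul_mem ha hb
  -- the action on `K (2t)`
  have key : ∀ c, M.Od i c → ∀ x ∈ K M.σ (2 * 2 ^ i), c * M.e x * c⁻¹ = M.e (x + (dl M.σ)^[2 ^ i] x) := by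
    intro c hc x hx
    have h1 := hc 0 x (by rw [zero_add]; exact hx)
    rw [M.Rk_zero, mem_bot] at h1
    have h2 : ⁅M.e x, c⁆ = M.e ((dl M.σ)^[2 ^ i] x) := by
      rw [mul_eq_one_iff_eq_inv] at h1
      rw [h1, ← M.e_neg, CharTwo.neg_eq]
    have h3 : c * (M.e x)⁻¹ * c⁻¹ = (M.e x)⁻¹ * M.e ((dl M.σ)^[2 ^ i] x) := by
      rw [← h2]; simp only [commutatorElement_def]; group
    have h4 : c * M.e x * c⁻¹ = M.e (-((-x) + (dl M.σ)^[2 ^ i] x)) := by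
      rw [M.e_neg, M.e_add, M.e_neg, ← h3]; group
    rw [h4, neg_add, neg_neg, CharTwo.neg_eq]
  refine ⟨hm, mem_centralizer_iff.2 ?_⟩
  rintro _ ⟨x, hx, rfl⟩
  have hx' : x + (dl M.σ)^[2 ^ i] x ∈ K M.σ (2 * 2 ^ i) := by
    refine add_mem hx ?_
    apply K_mono M.σ (s := 2 ^ i) (by omega)
    rw [two_mul] at hx
    exact (mem_K_add M.σ).1 hx
  have h1 : a * b * M.e x * (a * b)⁻¹ = M.e x := by
    have e1 : a * b * M.e x * (a * b)⁻¹ = a * (b * M.e x * b⁻¹) * a⁻¹ := by group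
    rw [e1, key b hbo x hx, key a hao _ hx', it_add]
    congr 1
    have h2 : (dl M.σ)^[2 ^ i] ((dl M.σ)^[2 ^ i] x) = 0 := by
      rw [← Function.iterate_add_apply, ← two_mul]
      exact hx
    rw [h2, add_zero, add_assoc, two_self, add_zero]
  exact (mul_inv_eq_iff_eq_mul.1 h1).symm

include hi hk hex in
/-- the LAYER LEMMA for `O` -/
theorem lay {N N1 : Subgroup G} {x : F} (hN1 : N1 ≤ M.W) (hXN1 : X ≤ normalizer (N1 : Set G))
    (hON : ∀ w ∈ N, ∀ o ∈ M.O, ⁅w, o⁆ ∈ N1) (hev : ∀ o, M.Ev i o → ⁅M.e x, o⁆ ∈ N1)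
    (hod : ∀ o, M.Od i o → ⁅M.e x, o⁆ ∉ N1) :
    ¬ ∀ e ∈ M.E, (M.e x)⁻¹ * (e * M.e x * e⁻¹) ∈ N := by
  intro hE
  obtain ⟨o0, ho0, hod0⟩ := hex
  refine layer (O := M.O) (E := M.E) (W := M.W) (N := N) (N1 := N1) (O1 := M.O1 i) (r := M.e x) M.O_eq
    ((oddGen_le X).trans M.X_O) M.comm hN1 (M.R_le_W (M.e_mem x)) ((oddGen_le X).trans hXN1) hON
    (fun a ha b hb ha' hb' => M.mul_mem_O1 hk ha hb ha' hb') ⟨o0, ho0, hod0.not_mem M hi⟩
    (fun o ho => ?_) hE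
  rcases hk o ho with h1 | h1
  · exact ⟨fun _ => h1.mem M ho, fun _ => hev o h1⟩
  · exact ⟨fun h2 => absurd h2 (hod o h1), fun h2 => absurd h2 (h1.not_mem M hi)⟩

include hi hk hex in
/-- form 1: `r` is not centralised by `E` -/
theorem not_cent {x : F} (hev : ∀ o, M.Ev i o → ⁅M.e x, o⁆ = 1) (hod : ∀ o, M.Od i o → ⁅M.e x, o⁆ ≠ 1) :
    M.e x ∉ centralizer (M.E : Set G) := by
  intro hc
  refine M.lay hi hk hex (N := ⊥) (N1 := ⊥) (x := x) bot_le (le_normalizer_bot X) ?_ ?_ ?_ ?_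
  · intro w hw o _
    rw [mem_bot.1 hw, commutatorElement_one_left]
    exact one_mem _
  · exact fun o h => mem_bot.2 (hev o h)
  · exact fun o h h' => hod o h (mem_bot.1 h')
  · intro e he
    have := mem_centralizer_iff.1 hc e he
    rw [mem_bot, this, mul_inv_cancel_right, inv_mul_cancel]

include hi hk hex in
/-- form 2: `[Y, E] ≰ N` if `r ∈ Y` -/
theorem not_comm {Y N N1 : Subgroup G} {x : F} (hxY : M.e x ∈ Y) (hN1 : N1 ≤ M.W)
    (hXN1 : X ≤ normalizer (N1 : Set G)) (hON : ∀ w ∈ N, ∀ o ∈ M.O, ⁅w, o⁆ ∈ N1) (hev : ∀ o, M.Ev i o → ⁅M.e x, o⁆ ∈ N1)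
    (hod : ∀ o, M.Od i o → ⁅M.e x, o⁆ ∉ N1) : ¬ ⁅Y, M.E⁆ ≤ N := by
  intro h
  refine M.lay hi hk hex hN1 hXN1 hON hev hod fun e he => ?_
  have h1 : ⁅(M.e x)⁻¹, e⁆ ∈ N := h (commutator_mem_commutator (inv_mem hxY) he)
  have e1 : ⁅(M.e x)⁻¹, e⁆ = (M.e x)⁻¹ * (e * M.e x * e⁻¹) := by
    simp only [commutatorElement_def]; group
  rwa [e1] at h1

omit [Finite G] [Finite F] in
theorem mem_zp {x : F} {g : G} : g ∈ zpowers (M.e x) ↔ g = 1 ∨ g = M.e x := by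
  have hsq : M.e x * M.e x = 1 := by rw [← M.e_add, two_self, M.e_zero]
  constructor
  · rintro ⟨k, rfl⟩
    rcases Int.even_or_odd' k with ⟨j, rfl | rfl⟩
    · left
      show M.e x ^ (2 * j) = 1
      rw [zpow_mul, zpow_two, hsq, one_zpow]
    · right
      show M.e x ^ (2 * j + 1) = M.e x
      rw [zpow_add, zpow_mul, zpow_two, hsq, one_zpow, one_mul, zpow_one]
  · rintro (rfl | rfl)
    · exact one_mem _
    · exact mem_zpowers _

omit [Finite G] [Finite F] in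
theorem Ev.zero {o : G} (h : M.Ev i o) {x : F} (hx : x ∈ K M.σ (2 * 2 ^ i)) : ⁅M.e x, o⁆ = 1 := by
  have h1 := h 0 x (by rw [zero_add]; exact hx)
  rwa [M.Rk_zero, mem_bot] at h1

omit [Finite G] [Finite F] in
theorem Od.zero {o : G} (h : M.Od i o) {x : F} (hx : x ∈ K M.σ (2 * 2 ^ i)) :
    ⁅M.e x, o⁆ = M.e ((dl M.σ)^[2 ^ i] x) := by
  have h1 := h 0 x (by rw [zero_add]; exact hx)
  rw [M.Rk_zero, mem_bot] at h1
  rw [mul_eq_one_iff_eq_inv] at h1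
  rw [h1, ← M.e_neg, CharTwo.neg_eq]

include hi hk hex in
/-- **Two noncentral sections**, if `|R^(t)| ≥ 4`. -/
theorem two_sections (h4 : 3 ≤ Nat.card (K M.σ (2 ^ i))) : ∃ N : Subgroup G, N ≤ M.W ∧
    X ≤ normalizer (N : Set G) ∧ ¬ N ≤ centralizer (M.E : Set G) ∧ ¬ ⁅M.W, M.E⁆ ≤ N := by
  have hl : Lay M.σ M.ε := ⟨M.per, M.card⟩
  have h1K : (1 : F) ∈ K M.σ (2 ^ i) := by
    apply K_mono M.σ (Nat.one_le_two_pow (n := i))
    rw [mem_K_one]; exact map_one _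
  have h1K' : (1 : F) ∈ K M.σ 1 := by rw [mem_K_one]; exact map_one _
  -- a third element
  obtain ⟨y, hy, hy0, hy1⟩ : ∃ y ∈ K M.σ (2 ^ i), y ≠ 0 ∧ y ≠ 1 := by
    by_contra hcon
    push Not at hcon
    have h5 : Nat.card (K M.σ (2 ^ i)) ≤ 2 := by
      classical
      let f : K M.σ (2 ^ i) → Fin 2 := fun z => if z = 0 then 0 else 1
      have hz : ∀ z : K M.σ (2 ^ i), z ≠ 0 → (z : F) = 1 := fun z hz =>
        hcon z z.2 fun h => hz (Subtype.ext h)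
      have hf : Function.Injective f := by
        intro a b hab
        by_cases ha : a = 0
        · by_cases hb : b = 0
          · rw [ha, hb]
          · simp [f, ha, hb] at hab
        · by_cases hb : b = 0
          · simp [f, ha, hb] at hab
          · exact Subtype.ext (by rw [hz a ha, hz b hb])
      have := Nat.card_le_card_of_injective f hf
      simpa using this
    omega
  obtain ⟨x1, hx1, hx1'⟩ := hl.exists_dl (t := 2 ^ i) (s := 2 ^ i) (by omega) h1K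
  obtain ⟨x2, hx2, hx2'⟩ := hl.exists_dl (t := 2 ^ i) (s := 2 ^ i) (by omega) hy
  rw [← two_mul] at hx1 hx2
  set N1 : Subgroup G := zpowers (M.e 1) with hN1
  have hN1W : N1 ≤ M.W := by
    rw [hN1, zpowers_le]
    exact M.R_le_W (M.e_mem 1)
  have hXN1 : X ≤ normalizer (N1 : Set G) := by
    have h2 : N1 ≤ centralizer (X : Set G) := by
      rw [hN1, zpowers_le]
      exact M.cent 1 h1K'
    exact (le_centralizer_iff.1 h2).trans (centralizer_le_normalizer _)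
  set N := pre M.W M.O N1 M.comm hN1W with hN
  have hXN : X ≤ normalizer (N : Set G) := normalizer_pre M.X_W M.X_O hXN1
  refine ⟨N, pre_le, hXN, fun h => ?_, ?_⟩
  · -- `e x1 ∈ N`
    have h2 : M.e x1 ∈ N := by
      refine ⟨M.R_le_W (M.e_mem _), fun o ho => ?_⟩
      rcases hk o ho with h3 | h3
      · rw [h3.zero M hx1]; exact one_mem _
      · rw [h3.zero M hx1, hx1']; exact mem_zpowers _
    refine M.not_cent hi hk hex (x := x1) (fun o ho => ho.zero M hx1) (fun o ho => ?_) (h h2)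
    rw [ho.zero M hx1, hx1', Ne, M.e_eq_one]
    exact one_ne_zero
  · refine M.not_comm hi hk hex (x := x2) (M.R_le_W (M.e_mem x2)) hN1W hXN1 pre_comm
      (fun o ho => ?_) (fun o ho => ?_)
    · rw [ho.zero M hx2]; exact one_mem _
    · rw [ho.zero M hx2, hx2', M.mem_zp]
      rintro (h3 | h3)
      · exact hy0 (M.e_eq_one.1 h3)
      · exact hy1 (M.e_inj h3)

/-- **Three noncentral sections**, if `t = 1`, `m ≥ 4`. -/
theorem three_sections (hm : 4 ≤ 2 ^ M.ε) (hk : ∀ o ∈ M.O, M.Ev 0 o ∨ M.Od 0 o) (hex : ∃ o ∈ M.O, M.Od 0 o) :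
    ∃ N N' : Subgroup G, N ≤ N' ∧ N' ≤ M.W ∧ X ≤ normalizer (N : Set G) ∧ X ≤ normalizer (N' : Set G) ∧
      ¬ N ≤ centralizer (M.E : Set G) ∧ ¬ ⁅N', M.E⁆ ≤ N ∧ ¬ ⁅M.W, M.E⁆ ≤ N' := by
  have hl : Lay M.σ M.ε := ⟨M.per, M.card⟩
  have hi : 2 * 2 ^ 0 ≤ 2 ^ M.ε := by omega
  have h1K : (1 : F) ∈ K M.σ 1 := by rw [mem_K_one]; exact map_one _
  obtain ⟨x2, hx2, hx2'⟩ := hl.exists_dl (t := 1) (s := 1) (by omega) h1K
  obtain ⟨x3, hx3, hx3'⟩ := hl.exists_dl (t := 1) (s := 2) (by omega) hx2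
  obtain ⟨x4, hx4, hx4'⟩ := hl.exists_dl (t := 1) (s := 3) (by omega) hx3
  set M1 := pre M.W M.O ⊥ M.comm bot_le with hM1
  set M2 := pre M.W M.O M1 M.comm pre_le with hM2
  set M3 := pre M.W M.O M2 M.comm pre_le with hM3
  have hX1 : X ≤ normalizer (M1 : Set G) := normalizer_pre M.X_W M.X_O (le_normalizer_bot X)
  have hX2 : X ≤ normalizer (M2 : Set G) := normalizer_pre M.X_W M.X_O hX1
  have hX3 : X ≤ normalizer (M3 : Set G) := normalizer_pre M.X_W M.X_O hX2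
  have h12 : M1 ≤ M2 := pre_mono bot_le
  have h23 : M2 ≤ M3 := pre_mono h12
  have hR1 : M.Rk 1 ≤ M1 := by
    rintro _ ⟨x, hx, rfl⟩
    refine ⟨M.R_le_W (M.e_mem x), fun o ho => ?_⟩
    rw [mem_bot, commutatorElement_eq_one_iff_mul_comm]
    exact (mem_centralizer_iff.1 (M.cent x hx) o (M.syl.1 (M.O_le_S ho))).symm
  have hR2 : M.Rk 2 ≤ M2 := by
    rintro _ ⟨x, hx, rfl⟩
    exact ⟨M.R_le_W (M.e_mem x), fun o ho => hR1 (M.Rk_comm 1 hx (M.O_le_S ho))⟩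
  have hR3 : M.Rk 3 ≤ M3 := by
    rintro _ ⟨x, hx, rfl⟩
    exact ⟨M.R_le_W (M.e_mem x), fun o ho => hR2 (M.Rk_comm 2 hx (M.O_le_S ho))⟩
  obtain ⟨o0, ho0, hod0⟩ := id hex
  have hr2 : M.e x2 ∉ M1 := by
    intro h
    have h1 := h.2 o0 ho0
    rw [mem_bot, hod0.zero M hx2] at h1
    rw [pow_zero, hx2', M.e_eq_one] at h1
    exact one_ne_zero h1
  have hr3 : M.e x3 ∉ M2 := by
    intro h
    have h1 := h.2 o0 ho0
    have h2 := hR1 (hod0 1 x3 hx3)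
    rw [pow_zero, hx3'] at h2
    exact hr2 ((M1.mul_mem_cancel_left h1).1 h2)
  refine ⟨M2, M3, h23, pre_le, hX2, hX3, fun h => ?_, ?_, ?_⟩
  · refine M.not_cent hi hk hex (x := x2) (fun o ho => ho.zero M hx2) (fun o ho => ?_)
      (h (hR2 (M.mem_Rk.2 hx2)))
    rw [ho.zero M hx2, pow_zero, hx2', Ne, M.e_eq_one]
    exact one_ne_zero
  · refine M.not_comm hi hk hex (x := x3) (hR3 (M.mem_Rk.2 hx3)) pre_le hX1 pre_comm
      (fun o ho => ?_) (fun o ho h1 => ?_)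
    · exact hR1 (ho 1 x3 hx3)
    · have h2 := hR1 (ho 1 x3 hx3)
      rw [pow_zero, hx3'] at h2
      exact hr2 ((M1.mul_mem_cancel_left h1).1 h2)
  · refine M.not_comm hi hk hex (x := x4) (M.R_le_W (M.e_mem x4)) pre_le hX2 pre_comm
      (fun o ho => ?_) (fun o ho h1 => ?_)
    · exact hR2 (ho 2 x4 hx4)
    · have h2 := hR2 (ho 2 x4 hx4)
      rw [pow_zero, hx4'] at h2
      exact hr3 ((M2.mul_mem_cancel_left h1).1 h2)

end secs

end two

end fin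

end Md

end Cfsg.Agent.Omega.NO3S.Fld.Red
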