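import Cfsg.Agent.Omega.NO3S.OneLine.LevOf
import Cfsg.Agent.Omega.NO3S.Fld.UniqBlk

/-!
# Fld: what LEMMA UNIQ over `B` needs from the FF theorem (module form)

`PtM S P V₁` (`P ∈ P(S)`, some `A ≤ S` is an offender on `V = V_P`; `D = C_V(O²(P))`): no over-offenders on `V`,
`V₁ ≤ V` is centralised by all offenders in `S`, `|C_S(V₁) : O₂(P)| ≤ |V₁|` and `|V| |D| ≤ |V₁|²`.
`ptM_of` : there is such a `V₁`, by the module form of the FF theorem.  Nothing on `J(S)` is used.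
-/

set_option autoImplicit false
set_option linter.unusedSectionVars false
set_option linter.unusedVariables false

namespace Cfsg.Agent.Omega.NO3S.Fld

open Subgroup Cfsg Cfsg.Agent.ZN Cfsg.Agent.ZN.ChoiceBase Cfsg.Agent.Omega.MinPar
open Cfsg.Agent.ZN.ChoiceSit (Syl o2_le_syl)
open Cfsg.Agent.Omega.SQ1
open Cfsg.Agent.PLocal.ElemAbSup Cfsg.Agent.PLocal.ThompsonJ
open Cfsg.Agent.MinSimple.VModule (zc_le zc_le_zl zl_le le_o2 le_normalizer_zl le_normalizer_o2)
open Cfsg.Agent.Omega.SQ1.FFOne Cfsg.Agent.Omega.SQ1.FFSym Cfsg.Agent.Lib.SL2Mat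
open Cfsg.Agent.Omega.FFThm (NatK SymK NatKM SymKM OffM NoOverM ActsSym ActsSL StmtM)
open Cfsg.Agent.Omega.FrameFF (cv)
open Cfsg.Agent.Omega.NatPair (ap ap_zero' ap_one' ap_one ap_mul ap_add ap_smul ext2 ap_inv_ap ap_inj)
open Cfsg.Agent.Omega.NO3S.OneLine (NatC natC_of card_of_hom syl_of minH card_mul_relIndex cyc_T' disj' sy_of)

universe u

variable {G : Type u} [Group G]

/-- What is used of the FF theorem, module form. -/
structure PtM (S P V1 : Subgroup G) : Prop where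
  no : NoOverM (zl S P) P
  le : V1 ≤ zl S P
  off : ∀ A ≤ S, OffM (zl S P) A → A ≤ centralizer (V1 : Set G)
  cen : (o2 P).relIndex (S ⊓ centralizer (V1 : Set G)) ≤ Nat.card V1
  sq : Nat.card (zl S P) * Nat.card (cv S P) ≤ Nat.card V1 ^ 2

/-! ### Natural modules -/

section nat

variable {F : Type} [Field F] {T H V D : Subgroup G} {k : ℕ} (M : NatC F T H V D k)

/-- the kernel of the `i`-th coordinate -/
def ker1 (i : Fin k) : Subgroup G where
  carrier := {v | v ∈ V ∧ M.nat.e v i = 0}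
  mul_mem' := by
    rintro a b ⟨ha, ha'⟩ ⟨hb, hb'⟩
    exact ⟨mul_mem ha hb, by rw [M.nat.mul a ha b hb, Pi.add_apply, ha', hb', add_zero]⟩
  one_mem' := ⟨one_mem V, by rw [M.map_one]; rfl⟩
  inv_mem' := by
    rintro a ⟨ha, ha'⟩
    exact ⟨inv_mem ha, by rw [M.map_inv ha, Pi.neg_apply, ha', neg_zero]⟩

/-- its stabiliser -/
def stab1 (i : Fin k) : Subgroup G where
  carrier := {g | g ∈ H ∧ ∀ v ∈ V, M.nat.e (g * v * g⁻¹) i = 0 ↔ M.nat.e v i = 0}
  mul_mem' := by
    rintro a b ⟨ha, ha'⟩ ⟨hb, hb'⟩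
    refine ⟨mul_mem ha hb, fun v hv => ?_⟩
    have e : a * b * v * (a * b)⁻¹ = a * (b * v * b⁻¹) * a⁻¹ := by group
    rw [e, ha' _ (M.Vn b hb v hv), hb' v hv]
  one_mem' := ⟨one_mem H, fun v hv => by rw [one_mul, inv_one, mul_one]⟩
  inv_mem' := by
    rintro a ⟨ha, ha'⟩
    refine ⟨inv_mem ha, fun v hv => ?_⟩
    rw [← ha' _ (M.Vn a⁻¹ (inv_mem ha) v hv)]
    have e : a * (a⁻¹ * v * a⁻¹⁻¹) * a⁻¹ = v := by group
    rw [e]

theorem ap_eq_zero {A : Matrix.SpecialLinearGroup (Fin 2) F} {x : Fin 2 → F} : ap A x = 0 ↔ x = 0 := by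
  have h0 : ∀ B : Matrix.SpecialLinearGroup (Fin 2) F, ap B 0 = 0 := by
    intro B
    have h1 := ap_smul B (0 : F) (0 : Fin 2 → F)
    rwa [zero_smul, zero_smul] at h1
  constructor
  · intro h
    have h1 := congrArg (ap A⁻¹) h
    rwa [ap_inv_ap, h0] at h1
  · rintro rfl
    exact h0 A

/-- the `i`-th section -/
def sec1 (i : Fin k) : NatSec F (stab1 M i) V (ker1 M i) where
  π v := M.nat.e v i
  map_mul v hv w hw := by rw [M.nat.mul v hv w hw]; rfl
  V0V v hv := hv.1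
  ker v hv := ⟨fun h => ⟨hv, h⟩, fun h => h.2⟩
  surj x := by
    obtain ⟨v, hv, e⟩ := M.nat.surj fun _ => x
    exact ⟨v, hv, by rw [e]⟩
  Vn h hh v hv := M.Vn h hh.1 v hv
  V0n h hh v hv := ⟨M.Vn h hh.1 v hv.1, (hh.2 v hv.1).2 hv.2⟩
  lift A := by
    obtain ⟨g, hg, h1, -⟩ := M.nat.lift fun _ => A
    refine ⟨g, ⟨hg, fun v hv => ?_⟩, fun v hv => h1 v hv i⟩
    rw [h1 v hv i, ap_eq_zero]
  norm := by
    intro g hg h hh A hA
    obtain ⟨x, hx, h1, -⟩ := M.nat.lift fun _ => A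
    obtain ⟨B, hB⟩ := M.nat.norm g hg.1 x hx (fun _ => A) h1
    refine ⟨B i, fun v hv => ?_⟩
    rw [← hB v hv]
    have hv' : g⁻¹ * v * g ∈ V := by
      have := M.Vn g⁻¹ (inv_mem hg.1) v hv
      rwa [inv_inv] at this
    have ha := M.Vn h hh.1 _ hv'
    have hb := M.Vn x hx _ hv'
    have h2 : M.nat.e (h * (g⁻¹ * v * g) * h⁻¹ * (x * (g⁻¹ * v * g) * x⁻¹)⁻¹) i = 0 := by
      rw [M.map_div ha hb, Pi.sub_apply, hA _ hv', h1 _ hv' i, sub_self]
    have h3 := (hg.2 _ (mul_mem ha (inv_mem hb))).2 h2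
    have e : g * (h * (g⁻¹ * v * g) * h⁻¹ * (x * (g⁻¹ * v * g) * x⁻¹)⁻¹) * g⁻¹ =
        (g * h * g⁻¹ * v * (g * h * g⁻¹)⁻¹) * (g * x * g⁻¹ * v * (g * x * g⁻¹)⁻¹)⁻¹ := by group
    have hc := M.Vn _ (mul_mem (mul_mem hg.1 hh.1) (inv_mem hg.1)) v hv
    have hd := M.Vn _ (mul_mem (mul_mem hg.1 hx) (inv_mem hg.1)) v hv
    rw [e, M.map_div hc hd, Pi.sub_apply, sub_eq_zero] at h3
    exact h3

/-- the product of the lines -/
def lineM : Subgroup G where
  carrier := {v | v ∈ V ∧ ∀ i, M.nat.e v i 1 = 0}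
  mul_mem' := by
    rintro a b ⟨ha, ha'⟩ ⟨hb, hb'⟩
    exact ⟨mul_mem ha hb, fun i => by
      rw [M.nat.mul a ha b hb, Pi.add_apply, Pi.add_apply, ha' i, hb' i, add_zero]⟩
  one_mem' := ⟨one_mem V, fun i => by rw [M.map_one]; rfl⟩
  inv_mem' := by
    rintro a ⟨ha, ha'⟩
    exact ⟨inv_mem ha, fun i => by rw [M.map_inv ha, Pi.neg_apply, Pi.neg_apply, ha' i, neg_zero]⟩

theorem mem_lineM {v : G} : v ∈ lineM M ↔ v ∈ V ∧ ∀ i, M.nat.e v i 1 = 0 := Iff.rfl

theorem D_le_lineM : D ≤ lineM M := fun v hv => ⟨M.DV hv, fun i => by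
  rw [(M.nat.ker v (M.DV hv)).2 hv]; rfl⟩

/-- elements of `T` which centralise the lines -/
theorem natUp [Finite G] [Finite F] [CharP F 2] (hT : Syl T H) {t : G} (ht : t ∈ T)
    (hc : ∀ v ∈ lineM M, t * v = v * t) : ∃ c : Fin k → F, M.Acts t fun i => up (c i) := by
  classical
  have htH := hT.1 ht
  obtain ⟨n, hn⟩ := hT.2.1 ⟨t, ht⟩
  have hn' : t ^ 2 ^ n = 1 := by simpa using congrArg Subtype.val hn
  obtain ⟨σ, hσ⟩ := M.nat.perm t htH
  -- vectors of the lines
  have hl : ∀ (i : Fin k) (x : Fin 2 → F), x 1 = 0 → ∃ w ∈ lineM M, M.nat.e w = Pi.single i x := by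
    intro i x hx
    obtain ⟨w, hw, e⟩ := M.nat.surj (Pi.single i x)
    refine ⟨w, ⟨hw, fun j => ?_⟩, e⟩
    rw [e]
    by_cases hj : j = i
    · subst hj; rw [Pi.single_eq_same]; exact hx
    · rw [Pi.single_eq_of_ne hj]; rfl
  have hfix : ∀ w ∈ lineM M, t * w * t⁻¹ = w := fun w hw => by rw [hc w hw]; group
  have hσ1 : ∀ i, σ i = i := by
    intro i
    by_contra hne
    obtain ⟨w, hw, e⟩ := hl i ![1, 0] (by simp)
    have h1 := hσ w hw.1 i
    rw [hfix w hw, e, Pi.single_eq_of_ne hne, Pi.single_eq_same] at h1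
    have h2 := congrFun (h1.1 rfl) 0
    simp at h2
  have hup : ∀ i, ∃ c : F, ∀ v ∈ V, M.nat.e (t * v * t⁻¹) i = ap (up c) (M.nat.e v i) := by
    intro i
    have htS : t ∈ stab1 M i := ⟨htH, fun v hv => by
      have h1 := hσ v hv i
      rwa [hσ1 i] at h1⟩
    obtain ⟨c, hcc⟩ := (sec1 M i).up_of_line htS hn' (by
      intro v hv h0
      show M.nat.e (t * v * t⁻¹) i = M.nat.e v i
      obtain ⟨w, hw, e⟩ := hl i (M.nat.e v i) h0
      have h1 : M.nat.e (w⁻¹ * v) i = 0 := by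
        rw [M.nat.mul _ (inv_mem hw.1) v hv, Pi.add_apply, M.map_inv hw.1, Pi.neg_apply, e, Pi.single_eq_same,
          neg_add_cancel]
      have hwv := mul_mem (inv_mem hw.1) hv
      have h2 := (htS.2 _ hwv).2 h1
      have h3 := M.Vn t htH _ hwv
      have e2 : t * v * t⁻¹ = (t * w * t⁻¹) * (t * (w⁻¹ * v) * t⁻¹) := by group
      rw [e2, hfix w hw, M.nat.mul w hw.1 _ h3, Pi.add_apply, h2, add_zero, e, Pi.single_eq_same])
    exact ⟨c, hcc⟩
  choose c hcc using hup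
  exact ⟨c, fun v hv i => hcc i v hv⟩

theorem natCenM [Finite G] [Finite F] [CharP F 2] (hm : MinH H T)
    (hcV : T ⊓ centralizer (V : Set G) ≤ o2 H) :
    (o2 H).relIndex (T ⊓ centralizer (lineM M : Set G)) ≤ Nat.card (Fin k → F) := by
  have key : ∀ x : (T ⊓ centralizer (lineM M : Set G) : Subgroup G), ∃ c : Fin k → F,
      M.Acts x fun i => up (c i) := fun x =>
    natUp M hm.syl x.2.1 fun v hv => (mem_centralizer_iff.1 x.2.2 v hv).symm
  choose f hf using key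
  refine relIndex_le_card f fun x y hxy => ?_
  have hxH := hm.syl.1 x.2.1
  have hyH := hm.syl.1 y.2.1
  have h1 := NatC.acts_mul hyH (NatC.acts_inv hxH (hf x)) (hf y)
  rw [hxy, inv_mul_cancel] at h1
  refine hcV (mem_inf.2 ⟨mul_mem (inv_mem x.2.1) y.2.1, mem_centralizer_iff.2 fun v hv => ?_⟩)
  refine (M.cent_of_stab hm ⟨mul_mem (inv_mem hxH) hyH, h1, fun d hd => ?_⟩ hv).symm
  have hd' := D_le_lineM M hd
  have e1 : Commute (x : G) d := (mem_centralizer_iff.1 x.2.2 d hd').symm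
  have e2 : Commute (y : G) d := (mem_centralizer_iff.1 y.2.2 d hd').symm
  exact (e1.inv_left.mul_left e2).eq

theorem natCardM [Finite G] [Finite F] : Nat.card V = Nat.card (lineM M) * Nat.card (Fin k → F) := by
  refine card_of_hom (fun v hv => hv.1) (fun v i => M.nat.e v i 1) ?_ ?_ ?_
  · intro v hv w hw
    funext i
    show M.nat.e (v * w) i 1 = M.nat.e v i 1 + M.nat.e w i 1
    rw [M.nat.mul v hv w hw]; rfl
  · intro c
    obtain ⟨v, hv, e⟩ := M.nat.surj fun i => ![0, c i]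
    refine ⟨v, hv, ?_⟩
    funext i
    rw [e]; simp
  · intro v hv
    constructor
    · intro h
      exact ⟨hv, fun i => congrFun h i⟩
    · intro h
      funext i
      exact h.2 i

theorem natCard1M [Finite G] [Finite F] : Nat.card (lineM M) = Nat.card D * Nat.card (Fin k → F) := by
  refine card_of_hom (D_le_lineM M) (fun v i => M.nat.e v i 0) ?_ ?_ ?_
  · intro v hv w hw
    funext i
    show M.nat.e (v * w) i 0 = M.nat.e v i 0 + M.nat.e w i 0
    rw [M.nat.mul v hv.1 w hw.1]; rfl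
  · intro c
    obtain ⟨v, hv, e⟩ := M.nat.surj fun i => ![c i, 0]
    refine ⟨v, ⟨hv, fun i => by rw [e]; simp⟩, ?_⟩
    funext i
    rw [e]; simp
  · intro v hv
    rw [← M.nat.ker v hv.1]
    constructor
    · intro h
      funext i
      exact ext2 (congrFun h i) (hv.2 i)
    · intro h
      funext i
      show M.nat.e v i 0 = 0
      rw [h]; rfl

end nat

/-! ### Even-subset modules -/

section sym

variable {T H V D : Subgroup G} {k n : ℕ} {o : Fin n} {e : G → Fin k → Fin n → ZMod 2}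

/-- the transposition `(x y)` of the component `j` is induced by `T` -/
def TrM (T H V D : Subgroup G) (e : G → Fin k → Fin n → ZMod 2) (j : Fin k) (x y : Fin n) : Prop :=
  x ≠ y ∧ ∃ t ∈ T, Gd H V D e (Pi.mulSingle j (Equiv.swap x y)) t

/-- the module data, with a transposition induced by `T` -/
structure SyC (T H V D : Subgroup G) {k n : ℕ} (o : Fin n) (e : G → Fin k → Fin n → ZMod 2) : Prop
    extends Sy H V D e where
  TH : T ≤ H
  Tp : IsPGroup 2 T
  trans : ∀ i j, ∃ t ∈ T, ∃ σ τ, ActsSym e V t σ τ ∧ σ i = j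
  fix0 : ∀ t ∈ T, ∀ σ τ, ActsSym e V t σ τ → ∀ i, τ i o = o
  cyc : ∀ (j : Fin k) (x y : Fin n), x ≠ o → y ≠ o → ∃ t ∈ T, ∃ π, Gd H V D e (Pi.mulSingle j π) t ∧ π x = y
  ex : ∃ j x y, TrM T H V D e j x y

theorem TrM.symm {j : Fin k} {x y : Fin n} (h1 : TrM T H V D e j x y) : TrM T H V D e j y x := by
  obtain ⟨h2, t, ht, h3⟩ := h1
  exact ⟨h2.symm, t, ht, by rwa [Equiv.swap_comm]⟩

theorem TrM.ne (h : SyC T H V D o e) {j : Fin k} {x y : Fin n} (h1 : TrM T H V D e j x y) : x ≠ o := by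
  obtain ⟨h2, t, ht, h3⟩ := h1
  have h4 := h.fix0 t ht _ _ h3.act j
  rw [Pi.mulSingle_eq_same] at h4
  intro h5
  subst h5
  rw [Equiv.swap_apply_left] at h4
  exact h2 h4.symm

theorem TrM.conj (h : SyC T H V D o e) {j : Fin k} {x y : Fin n}
    (h1 : TrM T H V D e j x y) {s : G} (hs : s ∈ T) {σ : Equiv.Perm (Fin k)}
    {τ : Fin k → Equiv.Perm (Fin n)} (hsa : ActsSym e V s σ τ) :
    TrM T H V D e (σ j) (τ j x) (τ j y) := by
  obtain ⟨h2, t, ht, h3⟩ := h1
  refine ⟨fun e => h2 ((τ j).injective e), s * t * s⁻¹, mul_mem (mul_mem hs ht) (inv_mem hs), ?_⟩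
  have h4 := h.gd_conj_single (h.TH hs) hsa h3
  rwa [← Equiv.swap_apply_apply] at h4

theorem TrM.disj (h : SyC T H V D o e) {j : Fin k} {x y z : Fin n} (h1 : TrM T H V D e j x y)
    (h2 : TrM T H V D e j x z) : y = z := by
  obtain ⟨h3, t, ht, h4⟩ := h1
  obtain ⟨h5, s, hs, h6⟩ := h2
  exact disj' h.toSy h.Tp h3 h5 ht hs h4 h6

/-- every point different from `o` is moved by a transposition -/
theorem SyC.cover (h : SyC T H V D o e) (j : Fin k) {x : Fin n} (hx : x ≠ o) : ∃ y, TrM T H V D e j x y := by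
  obtain ⟨j₀, x₀, y₀, h0⟩ := h.ex
  obtain ⟨t, ht, σ, τ, hta, hσ⟩ := h.trans j₀ j
  have h1 := h0.conj h ht hta
  rw [hσ] at h1
  obtain ⟨s, hs, π, hπ, hπx⟩ := h.cyc j _ _ (h1.ne h) hx
  have h2 := h1.conj h hs hπ.act
  rw [Equiv.Perm.one_apply, Pi.mulSingle_eq_same, hπx] at h2
  exact ⟨_, h2⟩

/-- The index set of the transpositions. -/
structure ChM (T H V D : Subgroup G) (e : G → Fin k → Fin n → ZMod 2) {ι : Type}
    (J : ι → Fin k) (X Y : ι → Fin n) : Prop where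
  tr : ∀ i, TrM T H V D e (J i) (X i) (Y i)
  inj : ∀ i j, u H V D e (J i) (X i) (Y i) = u H V D e (J j) (X j) (Y j) → i = j
  ex : ∀ j x y, TrM T H V D e j x y → ∃ i, u H V D e (J i) (X i) (Y i) = u H V D e j x y

theorem SyC.exists_ch (h : SyC T H V D o e) : ∃ (ι : Type) (J : ι → Fin k) (X Y : ι → Fin n),
    Finite ι ∧ ChM T H V D e J X Y := by
  let ι : Type := {p : Fin k × Fin n × Fin n // TrM T H V D e p.1 p.2.1 p.2.2 ∧ p.2.1 < p.2.2}
  refine ⟨ι, fun i => i.1.1, fun i => i.1.2.1, fun i => i.1.2.2, inferInstance, fun i => i.2.1, ?_, ?_⟩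
  · rintro ⟨⟨j, x, y⟩, hT, hxy⟩ ⟨⟨j', x', y'⟩, hT', hxy'⟩ hij
    obtain ⟨h1, h2⟩ := h.u_inj hT.1 hij
    simp only at h1 h2 hxy hxy'
    rcases h2 with ⟨h2, h3⟩ | ⟨h2, h3⟩
    · subst h1; subst h2; subst h3; rfl
    · exfalso
      rw [h2, h3] at hxy
      exact absurd hxy (not_lt.2 hxy'.le)
  · intro j x y hT
    rcases lt_or_gt_of_ne hT.1 with h1 | h1
    · exact ⟨⟨(j, x, y), hT, h1⟩, rfl⟩
    · exact ⟨⟨(j, y, x), hT.symm, h1⟩, h.u_symm _ _ _⟩

variable {ι : Type} {J : ι → Fin k} {X Y : ι → Fin n}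

theorem ChM.exists_idx (h : SyC T H V D o e) (c : ChM T H V D e J X Y) {j : Fin k}
    {x y : Fin n} (hT : TrM T H V D e j x y) : ∃ i, J i = j ∧
      u H V D e (J i) (X i) (Y i) = u H V D e j x y ∧ ((X i = x ∧ Y i = y) ∨ (X i = y ∧ Y i = x)) := by
  obtain ⟨i, hi⟩ := c.ex j x y hT
  obtain ⟨h1, h2⟩ := h.u_inj (c.tr i).1 hi
  exact ⟨i, h1, hi, h2⟩

/-- Two indices: equal, or different components, or disjoint pairs. -/
theorem ChM.cases (h : SyC T H V D o e) (c : ChM T H V D e J X Y) {i j : ι} (hij : i ≠ j)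
    (hJ : J i = J j) : X i ≠ X j ∧ X i ≠ Y j ∧ Y i ≠ X j ∧ Y i ≠ Y j := by
  have hi := c.tr i
  have hj := c.tr j
  rw [hJ] at hi
  have key : ∀ {a b : Fin n}, (a = X i ∧ b = Y i) ∨ (a = Y i ∧ b = X i) →
      ((a = X j ∧ b = Y j) ∨ (a = Y j ∧ b = X j)) → False := by
    intro a b h1 h2
    apply hij
    apply c.inj
    rw [hJ]
    rcases h1 with ⟨rfl, rfl⟩ | ⟨rfl, rfl⟩ <;> rcases h2 with ⟨h2, h3⟩ | ⟨h2, h3⟩
    · rw [h2, h3]
    · rw [h2, h3, h.u_symm]
    · rw [h2, h3, h.u_symm]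
    · rw [h2, h3]
  refine ⟨fun e1 => ?_, fun e1 => ?_, fun e1 => ?_, fun e1 => ?_⟩
  · have hi' := hi
    rw [e1] at hi'
    exact key (Or.inl ⟨rfl, rfl⟩) (Or.inl ⟨e1, TrM.disj h hi' hj⟩)
  · have hi' := hi
    rw [e1] at hi'
    exact key (Or.inl ⟨rfl, rfl⟩) (Or.inr ⟨e1, TrM.disj h hi' hj.symm⟩)
  · have hi' := hi.symm
    rw [e1] at hi'
    exact key (Or.inr ⟨rfl, rfl⟩) (Or.inl ⟨e1, TrM.disj h hi' hj⟩)
  · have hi' := hi.symm
    rw [e1] at hi'
    exact key (Or.inr ⟨rfl, rfl⟩) (Or.inr ⟨e1, TrM.disj h hi' hj.symm⟩)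

/-- the coordinates of `u i` -/
theorem e_u_valM (h : SyC T H V D o e) (c : ChM T H V D e J X Y) (i l : ι) [Decidable (l = i)] :
    e (u H V D e (J i) (X i) (Y i)) (J l) (X l) = (if l = i then 1 else 0) ∧
      e (u H V D e (J i) (X i) (Y i)) (J l) (Y l) = (if l = i then 1 else 0) := by
  have h1 := h.e_u (J i) (X i) (Y i)
  rw [h1]
  have hxy := (c.tr i).1
  by_cases hli : l = i
  · subst hli
    rw [if_pos rfl]
    constructor
    · rw [Pi.add_apply, Pi.add_apply, E_self, E_ne fun h => hxy h.2, add_zero]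
    · rw [Pi.add_apply, Pi.add_apply, E_self, E_ne fun h => hxy h.2.symm, zero_add]
  · rw [if_neg hli]
    by_cases hJ : J l = J i
    · obtain ⟨a1, a2, a3, a4⟩ := c.cases h hli hJ
      constructor
      · rw [Pi.add_apply, Pi.add_apply, E_ne fun h => a1 h.2, E_ne fun h => a2 h.2, add_zero]
      · rw [Pi.add_apply, Pi.add_apply, E_ne fun h => a3 h.2, E_ne fun h => a4 h.2, add_zero]
    · constructor
      · rw [Pi.add_apply, Pi.add_apply, E_ne fun h => hJ h.1, E_ne fun h => hJ h.1, add_zero]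
      · rw [Pi.add_apply, Pi.add_apply, E_ne fun h => hJ h.1, E_ne fun h => hJ h.1, add_zero]

/-- `D` and the `u i` -/
def uM (H V D : Subgroup G) (e : G → Fin k → Fin n → ZMod 2) (J : ι → Fin k) (X Y : ι → Fin n) : Subgroup G :=
  D ⊔ closure (Set.range fun i => u H V D e (J i) (X i) (Y i))

theorem D_le_uM : D ≤ uM H V D e J X Y := le_sup_left

theorem u_mem_uM (i : ι) : u H V D e (J i) (X i) (Y i) ∈ uM H V D e J X Y :=
  mem_sup_right (subset_closure ⟨i, rfl⟩)

theorem uM_le {K : Subgroup G} (h1 : D ≤ K) (h2 : ∀ i, u H V D e (J i) (X i) (Y i) ∈ K) :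
    uM H V D e J X Y ≤ K := by
  refine sup_le h1 ((closure_le _).2 ?_)
  rintro _ ⟨i, rfl⟩
  exact h2 i

theorem uM_le_V (h : SyC T H V D o e) : uM H V D e J X Y ≤ V := uM_le h.DV fun i => h.u_mem _ _ _

theorem exists_uM (h : SyC T H V D o e) (c : ChM T H V D e J X Y) [Finite ι] (f : ι → ZMod 2) :
    ∃ w ∈ uM H V D e J X Y, ∀ l, e w (J l) (X l) = f l ∧ e w (J l) (Y l) = f l := by
  classical
  have := Fintype.ofFinite ι
  have key : ∀ s : Finset ι, ∃ w ∈ uM H V D e J X Y, ∀ l, e w (J l) (X l) = (if l ∈ s then f l else 0) ∧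
      e w (J l) (Y l) = (if l ∈ s then f l else 0) := by
    intro s
    induction s using Finset.induction_on with
    | empty =>
      refine ⟨1, one_mem _, fun l => ?_⟩
      rw [h.e_one]
      simp
    | insert i s hi ih =>
      obtain ⟨w, hw, hwl⟩ := ih
      by_cases hf : f i = 0
      · refine ⟨w, hw, fun l => ?_⟩
        rw [(hwl l).1, (hwl l).2]
        by_cases hl : l = i
        · subst hl
          simp [hi, hf]
        · simp [hl]
      · refine ⟨w * u H V D e (J i) (X i) (Y i), mul_mem hw (u_mem_uM i), fun l => ?_⟩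
        obtain ⟨h1, h2⟩ := e_u_valM h c i l
        rw [h.mul w (uM_le_V h hw) _ (h.u_mem _ _ _), Pi.add_apply, Pi.add_apply, Pi.add_apply, h1, h2,
          (hwl l).1, (hwl l).2]
        by_cases hl : l = i
        · subst hl
          simp [hi, two_eq hf]
        · simp [hl]
  obtain ⟨w, hw, h1⟩ := key Finset.univ
  exact ⟨w, hw, fun l => by simpa using h1 l⟩

theorem mem_D_ofM (h : SyC T H V D o e) (c : ChM T H V D e J X Y) {v : G} (hv : v ∈ V)
    (h1 : ∀ l, e v (J l) (X l) = 0 ∧ e v (J l) (Y l) = 0) : v ∈ D := by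
  rw [← h.ker v hv]
  have key : ∀ j x, x ≠ o → e v j x = 0 := by
    intro j x hx
    obtain ⟨y, hy⟩ := h.cover j hx
    obtain ⟨i, hiJ, -, hi⟩ := c.exists_idx h hy
    rcases hi with ⟨hi, -⟩ | ⟨-, hi⟩
    · rw [← hiJ, ← hi]; exact (h1 i).1
    · rw [← hiJ, ← hi]; exact (h1 i).2
  funext j x
  by_cases hx : x = o
  · subst hx
    have h2 := h.even v hv j
    rw [Finset.sum_eq_single x (fun y _ hy => key j y hy) (fun hx => absurd (Finset.mem_univ x) hx)] at h2
    exact h2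
  · exact key j x hx

theorem mem_uM_of (h : SyC T H V D o e) (c : ChM T H V D e J X Y) [Finite ι] {v : G} (hv : v ∈ V)
    (h1 : ∀ l, e v (J l) (X l) = e v (J l) (Y l)) : v ∈ uM H V D e J X Y := by
  obtain ⟨w, hw, h2⟩ := exists_uM h c fun l => e v (J l) (X l)
  have hwV := uM_le_V h hw
  have h3 : v * w ∈ D := by
    refine mem_D_ofM h c (mul_mem hv hwV) fun l => ?_
    rw [h.mul v hv w hwV, Pi.add_apply, Pi.add_apply, Pi.add_apply, (h2 l).1, (h2 l).2, ← h1 l]
    exact ⟨CharTwo.add_self_eq_zero _, CharTwo.add_self_eq_zero _⟩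
  have h4 := mul_mem (D_le_uM h3) (inv_mem hw)
  rwa [mul_inv_cancel_right] at h4

theorem e_uM (h : SyC T H V D o e) (c : ChM T H V D e J X Y) {v : G} (hv : v ∈ uM H V D e J X Y) (l : ι) :
    e v (J l) (X l) = e v (J l) (Y l) := by
  classical
  let K : Subgroup G :=
    { carrier := {v | v ∈ V ∧ e v (J l) (X l) = e v (J l) (Y l)}
      mul_mem' := by
        rintro a b ⟨ha, ha'⟩ ⟨hb, hb'⟩
        refine ⟨mul_mem ha hb, ?_⟩
        rw [h.mul a ha b hb, Pi.add_apply, Pi.add_apply, Pi.add_apply, ha', hb']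
      one_mem' := ⟨one_mem _, by rw [h.e_one]; rfl⟩
      inv_mem' := by
        rintro a ⟨ha, ha'⟩
        exact ⟨inv_mem ha, by rw [h.e_inv ha]; exact ha'⟩ }
  have h1 : uM H V D e J X Y ≤ K := by
    refine uM_le (fun d hd => ⟨h.DV hd, ?_⟩) fun i => ⟨h.u_mem _ _ _, ?_⟩
    · rw [(h.ker d (h.DV hd)).2 hd]; rfl
    · obtain ⟨a, b⟩ := e_u_valM h c i l
      rw [a, b]
  exact (h1 hv).2

theorem symCard1M [Finite G] (h : SyC T H V D o e) (c : ChM T H V D e J X Y) [Finite ι] :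
    Nat.card (uM H V D e J X Y) = Nat.card D * Nat.card (ι → ZMod 2) := by
  refine card_of_hom D_le_uM (fun (v : G) (i : ι) => e v (J i) (X i)) ?_ ?_ ?_
  · intro v hv w hw
    funext i
    show e (v * w) (J i) (X i) = e v (J i) (X i) + e w (J i) (X i)
    rw [h.mul v (uM_le_V h hv) w (uM_le_V h hw)]; rfl
  · intro f
    obtain ⟨w, hw, h1⟩ := exists_uM h c f
    exact ⟨w, hw, funext fun l => (h1 l).1⟩
  · intro v hv
    constructor
    · intro h1
      refine mem_D_ofM h c (uM_le_V h hv) fun l => ?_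
      rw [← e_uM h c hv l]
      exact ⟨congrFun h1 l, congrFun h1 l⟩
    · intro h1
      funext i
      show e v (J i) (X i) = 0
      rw [(h.ker v (uM_le_V h hv)).2 h1]; rfl

theorem symCardM [Finite G] (h : SyC T H V D o e) (c : ChM T H V D e J X Y) [Finite ι] :
    Nat.card V ≤ Nat.card (uM H V D e J X Y) * Nat.card (ι → ZMod 2) := by
  rw [← card_mul_relIndex (uM_le_V h : uM H V D e J X Y ≤ V)]
  refine Nat.mul_le_mul_left _ (relIndex_le_card (fun (v : V) (i : ι) =>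
    e (v : G) (J i) (X i) + e (v : G) (J i) (Y i)) fun x y hxy => ?_)
  refine mem_uM_of h c (mul_mem (inv_mem x.2) y.2) fun l => ?_
  rw [h.mul _ (inv_mem x.2) _ y.2, h.e_inv x.2]
  have h1 : e (x : G) (J l) (X l) + e (x : G) (J l) (Y l) = e (y : G) (J l) (X l) + e (y : G) (J l) (Y l) :=
    congrFun hxy l
  have h2 := CharTwo.add_self_eq_zero (e (y : G) (J l) (X l))
  have h3 := CharTwo.add_self_eq_zero (e (x : G) (J l) (Y l))
  simp only [Pi.add_apply]
  linear_combination h1 + h2 - h3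

/-- the elements of `T` centralising `V₁` -/
theorem symCenM [Finite G] {Q : Subgroup G} (h : SyC T H V D o e) (c : ChM T H V D e J X Y) [Finite ι]
    (cT : T ⊓ centralizer (V : Set G) ≤ Q) :
    Q.relIndex (T ⊓ centralizer (uM H V D e J X Y : Set G)) ≤ Nat.card (ι → ZMod 2) := by
  classical
  have key : ∀ x : (T ⊓ centralizer (uM H V D e J X Y : Set G) : Subgroup G), ∃ τ, Gd H V D e τ x ∧
      (∀ j, τ j o = o) ∧ ∀ i,
      (τ (J i) (X i) = X i ∧ τ (J i) (Y i) = Y i) ∨ (τ (J i) (X i) = Y i ∧ τ (J i) (Y i) = X i) := by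
    rintro ⟨x, hx, hxc⟩
    have hxc' : ∀ v ∈ uM H V D e J X Y, x * v = v * x := fun v hv => (mem_centralizer_iff.1 hxc v hv).symm
    obtain ⟨σ, τ, hxa⟩ := h.perm x (h.TH hx)
    have h0 := h.fix0 x hx σ τ hxa
    have key : ∀ j a b, TrM T H V D e j a b → σ j = j ∧
        ((τ j a = a ∧ τ j b = b) ∨ (τ j a = b ∧ τ j b = a)) := by
      intro j a b hT
      obtain ⟨i, -, hi, -⟩ := c.exists_idx h hT
      have h1 := h.u_conj (h.TH hx) hxa j a b
      have h2 := hxc' _ (u_mem_uM i)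
      rw [hi] at h2
      have h3 : u H V D e (σ j) (τ j a) (τ j b) = u H V D e j a b := by
        rw [← h1, h2]; group
      exact h.u_inj (fun e => hT.1 ((τ j).injective e)) h3
    have hσ : σ = 1 := by
      ext j
      obtain ⟨z, hz, -⟩ := h.exists_third o o
      obtain ⟨y, hy⟩ := h.cover j hz
      rw [(key j z y hy).1]; rfl
    subst hσ
    exact ⟨τ, ⟨h.TH hx, fun d hd => hxc' d (D_le_uM hd), hxa⟩, h0, fun i => (key _ _ _ (c.tr i)).2⟩
  choose f hf h0 hf' using key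
  refine relIndex_le_card (fun x i => if f x (J i) (X i) = X i then (0 : ZMod 2) else 1) fun x y hxy => ?_
  have h1 : f x = f y := by
    funext j
    ext1 z
    by_cases hz : z = o
    · rw [hz, h0, h0]
    · obtain ⟨z', hz'⟩ := h.cover j hz
      obtain ⟨i, hiJ, -, hi⟩ := c.exists_idx h hz'
      have hne := (c.tr i).1
      have h2 := congrFun hxy i
      have h3 : (f x (J i) (X i) = X i) ↔ (f y (J i) (X i) = X i) := by
        by_cases h4 : f x (J i) (X i) = X i <;> by_cases h5 : f y (J i) (X i) = X i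
        · exact ⟨fun _ => h5, fun _ => h4⟩
        · simp [h4, h5] at h2
        · simp [h4, h5] at h2
        · exact ⟨fun h => absurd h h4, fun h => absurd h h5⟩
      have h6 : f x (J i) (X i) = f y (J i) (X i) ∧ f x (J i) (Y i) = f y (J i) (Y i) := by
        rcases hf' x i with ⟨a1, a2⟩ | ⟨a1, a2⟩ <;> rcases hf' y i with ⟨b1, b2⟩ | ⟨b1, b2⟩
        · exact ⟨a1.trans b1.symm, a2.trans b2.symm⟩
        · exact absurd ((h3.1 a1).symm.trans b1) hne
        · exact absurd ((h3.2 b1).symm.trans a1) hne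
        · exact ⟨a1.trans b1.symm, a2.trans b2.symm⟩
      rw [← hiJ]
      rcases hi with ⟨hi, -⟩ | ⟨-, hi⟩
      · rw [← hi]; exact h6.1
      · rw [← hi]; exact h6.2
  have h2 := h.gd_mul (h.gd_inv (hf x)) (hf y)
  rw [h1, inv_mul_cancel] at h2
  refine cT (mem_inf.2 ⟨mul_mem (inv_mem x.2.1) y.2.1, mem_centralizer_iff.2 fun v hv => ?_⟩)
  have h3 := h.gd_sim h2 h.gd_one v hv
  rw [one_mul, inv_one, mul_one] at h3
  symm
  calc (x : G)⁻¹ * y * v = ((x : G)⁻¹ * y * v * ((x : G)⁻¹ * y)⁻¹) * ((x : G)⁻¹ * y) := by group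
    _ = v * ((x : G)⁻¹ * y) := by rw [h3]

/-- an element which acts as a product of transpositions centralises `V₁` -/
theorem symOffM (h : SyC T H V D o e) (c : ChM T H V D e J X Y) {a : G} (ha : a ∈ H)
    (hD : ∀ d ∈ D, a * d = d * a) {τ : Fin k → Equiv.Perm (Fin n)} (hτ : ActsSym e V a 1 τ)
    (h2 : ∀ i x, τ i x ≠ x → TrM T H V D e i x (τ i x)) :
    a ∈ centralizer (uM H V D e J X Y : Set G) := by
  have hle : uM H V D e J X Y ≤ centralizer {a} := by
    refine uM_le (fun d hd => mem_centralizer_singleton_iff.2 (hD d hd).symm) fun i => ?_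
    rw [mem_centralizer_singleton_iff]
    have hT := c.tr i
    have hkey : ∀ x y : Fin n, TrM T H V D e (J i) x y → τ (J i) x = x ∨ τ (J i) x = y := by
      intro x y hxy
      by_cases hx : τ (J i) x = x
      · exact Or.inl hx
      · exact Or.inr (TrM.disj h hxy (h2 _ _ hx)).symm
    have h3 := hkey _ _ hT
    have h4 := hkey _ _ hT.symm
    have h5 : u H V D e (J i) (τ (J i) (X i)) (τ (J i) (Y i)) = u H V D e (J i) (X i) (Y i) := by
      rcases h3 with h3 | h3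
      · rcases h4 with h4 | h4
        · rw [h3, h4]
        · exfalso
          exact hT.1 ((τ (J i)).injective (h3.trans h4.symm))
      · rcases h4 with h4 | h4
        · exfalso
          exact hT.1 ((τ (J i)).injective (h3.trans h4.symm))
        · rw [h3, h4, h.u_symm]
    have h1 := h.u_conj ha hτ (J i) (X i) (Y i)
    rw [Equiv.Perm.one_apply, h5] at h1
    symm
    calc a * u H V D e (J i) (X i) (Y i) =
        (a * u H V D e (J i) (X i) (Y i) * a⁻¹) * a := by group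
      _ = _ := by rw [h1]
  exact mem_centralizer_iff.2 fun v hv => mem_centralizer_singleton_iff.1 (hle hv)

end sym

/-! ### The result -/

variable [Finite G] {S : Sylow 2 G} {R : Subgroup G}

/-- **A member of `P*(S)` with an offender.** -/
theorem ptM_of (hFF : StmtM.{u}) (hG : IsCharacteristicTwoType G) (hR : IsParS (S : Subgroup G) R)
    {A : Subgroup G} (hA : A ≤ (S : Subgroup G)) (hoff : OffM (zl (S : Subgroup G) R) A) :
    ∃ V1, PtM (S : Subgroup G) R V1 := by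
  have hsyl := syl_of hR
  have hch := hR.isLoc.char2 S hG
  have hm := minH hG hR
  have hcV := (IsParS.inf_centralizer S hG hR).le
  obtain ⟨hno, hcon⟩ := hFF G (S : Subgroup G) R hsyl hR.toIsMinPar hch ⟨A, hA.trans hsyl.1, hoff⟩
  rcases hcon with ⟨F, _, _, _, k, hk, ⟨M⟩⟩ | ⟨k, m, hk, hm2, ⟨M⟩⟩
  · let N := natC_of hm hk M.toNatK
    have h1 := natCenM N hm hcV
    have h2 := natCardM N
    have h3 := natCard1M N
    refine ⟨lineM N, hno, fun v hv => hv.1, fun B hB hB' b hb => ?_, h1.trans ?_, ?_⟩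
    · obtain ⟨I, h4, h5⟩ := M.offM B hB hB'
      refine mem_centralizer_iff.2 fun v hv => ?_
      exact (N.cent_line hm hB hB'.le h4 h5 hv.1 hv.2 hb).symm
    · rw [h3]
      exact Nat.le_mul_of_pos_left _ Nat.card_pos
    · rw [h2, pow_two, mul_assoc]
      refine Nat.mul_le_mul_left _ ?_
      rw [h3, mul_comm]
  · have hs := sy_of hm M.toSymK hk (by omega) SQ1.FFOf.cv_le SQ1.FFOf.cv_norm
    have hTH := hm.syl.1
    have hswap : ∀ B : Subgroup G, B ≤ (S : Subgroup G) → OffM (zl (S : Subgroup G) R) B → ∀ b ∈ B,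
        ∃ τ, Gd R (zl (S : Subgroup G) R) (cv (S : Subgroup G) R) M.e τ b ∧ ∀ i x, τ i x ≠ x →
          TrM (S : Subgroup G) R (zl (S : Subgroup G) R) (cv (S : Subgroup G) R) M.e i x (τ i x) := by
      intro B hB hB' b hb
      obtain ⟨hD, h2⟩ := M.offM B hB hB'
      obtain ⟨τ, hτ, hτ'⟩ := h2 b hb
      refine ⟨τ, ⟨hTH (hB hb), hD b hb, hτ⟩, fun i x hx => ?_⟩
      obtain ⟨-, b', hb', hb''⟩ := hτ' i x hx
      exact ⟨Ne.symm hx, b', hB hb', hTH (hB hb'), hD b' hb', hb''⟩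
    have h : SyC (S : Subgroup G) R (zl (S : Subgroup G) R) (cv (S : Subgroup G) R) (0 : Fin (2 ^ m + 1)) M.e := by
      refine ⟨hs, hTH, hm.syl.2.1, M.trans, M.fix0, fun j x y hx hy => cyc_T' hm M.toSymK hs (by omega) j hx hy, ?_⟩
      by_contra hcon
      push Not at hcon
      apply hoff.ne
      intro a ha
      obtain ⟨τ, hτ, hτ'⟩ := hswap A hA hoff a ha
      have h1 : τ = 1 := by
        funext i
        ext x
        by_contra hx
        have hx' : τ i x ≠ x := fun e => hx (by rw [e]; rfl)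
        exact hcon i x (τ i x) (hτ' i x hx')
      subst h1
      refine mem_centralizer_iff.2 fun v hv => ?_
      have h2 := hs.gd_sim hτ hs.gd_one v hv
      symm
      calc a * v = (a * v * a⁻¹) * a := by group
        _ = v * a := by rw [h2]; group
    obtain ⟨ι, J, X, Y, _, c⟩ := h.exists_ch
    have h1 := symCenM h c hcV
    have h2 := symCardM h c
    have h3 := symCard1M h c
    refine ⟨uM R (zl (S : Subgroup G) R) (cv (S : Subgroup G) R) M.e J X Y, hno, uM_le_V h,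
      fun B hB hB' b hb => ?_, h1.trans ?_, ?_⟩
    · obtain ⟨τ, hτ, hτ'⟩ := hswap B hB hB' b hb
      exact symOffM h c hτ.mem hτ.cd hτ.act hτ'
    · rw [h3]
      exact Nat.le_mul_of_pos_left _ Nat.card_pos
    · calc _ ≤ Nat.card (uM R (zl (S : Subgroup G) R) (cv (S : Subgroup G) R) M.e J X Y) * Nat.card (ι → ZMod 2) *
            Nat.card (cv (S : Subgroup G) R) := Nat.mul_le_mul_right _ h2
        _ = Nat.card (uM R (zl (S : Subgroup G) R) (cv (S : Subgroup G) R) M.e J X Y) *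
            (Nat.card (cv (S : Subgroup G) R) * Nat.card (ι → ZMod 2)) := by ring
        _ = _ := by rw [← h3, pow_two]

end Cfsg.Agent.Omega.NO3S.Fld
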