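import Cfsg.Agent.Omega.NO3S.Fld.JN

/-!
# Fld: `Ω₁(Z(B)) = R`

`S / B` is cyclic and acts freely on `R` (normal bases), so `|R| = |Z|^m`, `m = |S : B|`, while
`|Y| ≤ |C_Y(S)|^m` for every elementary abelian `Y` normalised by `S` and centralised by `B`.
-/

set_option autoImplicit false
set_option linter.unusedSectionVars false
set_option linter.unusedVariables false

namespace Cfsg.Agent.Omega.NO3S.Fld

open Subgroup Cfsg Cfsg.Agent.ZN Cfsg.Agent.ZN.ChoiceBase Cfsg.Agent.Omega.MinPar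
open Cfsg.Agent.Omega.NatPair (ext2)
open Cfsg.Agent.MinSimple.VModule (zc_le)

universe u

variable {G : Type u} [Group G]

/-- `|Y| ≤ |C_Y(t)|²` if `t²` centralises the elementary abelian group `Y`. -/
theorem card_le_sq [Finite G] {Y : Subgroup G} (hY : Red.El Y) {t : G} (ht : t ∈ normalizer (Y : Set G))
    (ht2 : t ^ 2 ∈ centralizer (Y : Set G)) :
    Nat.card Y ≤ Nat.card ↥(Y ⊓ centralizer ({t} : Set G)) ^ 2 := by
  have hcj : ∀ y ∈ Y, t * y * t⁻¹ ∈ Y := fun y hy => (mem_normalizer_iff.1 ht y).1 hy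
  have hinv : ∀ y ∈ Y, y⁻¹ = y := fun y hy => inv_eq_of_mul_eq_one_left (by rw [← pow_two]; exact hY.sq y hy)
  let φ : Y →* Y := MonoidHom.mk' (fun y => ⟨t * y * t⁻¹ * (y : G)⁻¹, Y.mul_mem (hcj y y.2) (Y.inv_mem y.2)⟩) (by
    rintro ⟨y, hy⟩ ⟨z, hz⟩
    apply Subtype.ext
    show t * (y * z) * t⁻¹ * (y * z)⁻¹ = t * y * t⁻¹ * y⁻¹ * (t * z * t⁻¹ * z⁻¹)
    have h1 : y⁻¹ * (t * z * t⁻¹ * z⁻¹) = (t * z * t⁻¹ * z⁻¹) * y⁻¹ :=
      hY.comm _ (Y.inv_mem hy) _ (Y.mul_mem (hcj z hz) (Y.inv_mem hz))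
    have h2 : t * (y * z) * t⁻¹ * (y * z)⁻¹ = t * y * t⁻¹ * ((t * z * t⁻¹ * z⁻¹) * y⁻¹) := by group
    rw [h2, ← h1]; group)
  have hk : Nat.card φ.ker = Nat.card ↥(Y ⊓ centralizer ({t} : Set G)) := by
    refine Nat.card_congr ⟨fun y => ⟨y.1.1, y.1.2, ?_⟩, fun y => ⟨⟨y.1, y.2.1⟩, ?_⟩, fun _ => rfl, fun _ => rfl⟩
    · have h1 : t * (y.1 : G) * t⁻¹ * (y.1 : G)⁻¹ = 1 := congrArg Subtype.val (MonoidHom.mem_ker.1 y.2)
      rw [mul_inv_eq_one, mul_inv_eq_iff_eq_mul] at h1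
      exact mem_centralizer_singleton_iff.2 h1.symm
    · refine MonoidHom.mem_ker.2 (Subtype.ext ?_)
      show t * (y : G) * t⁻¹ * (y : G)⁻¹ = 1
      rw [← mem_centralizer_singleton_iff.1 y.2.2]; group
  have hr : Nat.card φ.range ≤ Nat.card ↥(Y ⊓ centralizer ({t} : Set G)) := by
    refine Nat.card_le_card_of_injective (fun x : φ.range => (⟨(x : Y), (x : Y).2, ?_⟩ :
      ↥(Y ⊓ centralizer ({t} : Set G)))) ?_
    · obtain ⟨x, y, rfl⟩ := x
      refine mem_centralizer_singleton_iff.2 ?_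
      show t * (y : G) * t⁻¹ * (y : G)⁻¹ * t = t * (t * (y : G) * t⁻¹ * (y : G)⁻¹)
      -- `t x t⁻¹ = x`
      set w : G := t * (y : G) * t⁻¹ * (y : G)⁻¹ with hw
      have hwY : w ∈ Y := Y.mul_mem (hcj y y.2) (Y.inv_mem y.2)
      have h1 : t * w * t⁻¹ = t ^ 2 * (y : G) * (t ^ 2)⁻¹ * (t * y * t⁻¹)⁻¹ := by rw [hw, pow_two]; group
      have h2 : t ^ 2 * (y : G) * (t ^ 2)⁻¹ = y := by
        rw [← mem_centralizer_iff.1 ht2 y y.2]; group
      have h3 : t * w * t⁻¹ = w := by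
        rw [h1, h2, ← hinv w hwY, hw]; group
      rw [mul_inv_eq_iff_eq_mul] at h3
      exact h3.symm
    · intro a b h
      exact Subtype.ext (Subtype.ext (congrArg (fun z : ↥(Y ⊓ centralizer ({t} : Set G)) => (z : G)) h))
  have h3 : Nat.card φ.ker * Nat.card φ.range = Nat.card Y := by
    rw [← Subgroup.index_ker, Subgroup.card_mul_index]
  rw [← h3, hk, pow_two]
  exact Nat.mul_le_mul_left _ hr

/-- `|Y| ≤ |C_Y(s)|^(2^e)` if `s^(2^e)` centralises the elementary abelian group `Y`. -/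
theorem card_le_pow [Finite G] (e : ℕ) : ∀ {Y : Subgroup G}, Red.El Y → ∀ {s : G}, s ∈ normalizer (Y : Set G) →
    s ^ 2 ^ e ∈ centralizer (Y : Set G) → Nat.card Y ≤ Nat.card ↥(Y ⊓ centralizer ({s} : Set G)) ^ 2 ^ e := by
  induction e with
  | zero =>
    intro Y hY s hs h
    rw [pow_zero, pow_one] at h
    rw [pow_zero, pow_one]
    refine Subgroup.card_le_of_le (le_inf le_rfl fun y hy => ?_)
    exact mem_centralizer_singleton_iff.2 (mem_centralizer_iff.1 h y hy)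
  | succ e ih =>
    intro Y hY s hs h
    set t := s ^ 2 ^ e with ht
    have htN : t ∈ normalizer (Y : Set G) := pow_mem hs _
    have ht2 : t ^ 2 ∈ centralizer (Y : Set G) := by rw [ht, ← pow_mul, ← pow_succ]; exact h
    have h1 := card_le_sq hY htN ht2
    have hst : s * t = t * s := by rw [ht, ← pow_succ, ← pow_succ']
    have key : ∀ {r : G}, r ∈ normalizer (Y : Set G) → r * t = t * r → ∀ y ∈ Y ⊓ centralizer ({t} : Set G),
        r * y * r⁻¹ ∈ Y ⊓ centralizer ({t} : Set G) := by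
      intro r hr hrt y hy
      refine ⟨(mem_normalizer_iff.1 hr y).1 hy.1, ?_⟩
      have h2 := mem_centralizer_singleton_iff.1 hy.2
      refine mem_centralizer_singleton_iff.2 ?_
      have hrt' : r⁻¹ * t = t * r⁻¹ := by
        rw [inv_mul_eq_iff_eq_mul, ← mul_assoc, hrt, mul_inv_cancel_right]
      calc r * y * r⁻¹ * t = r * y * (r⁻¹ * t) := by group
        _ = r * (y * t) * r⁻¹ := by rw [hrt']; group
        _ = (r * t) * y * r⁻¹ := by rw [h2]; group
        _ = t * (r * y * r⁻¹) := by rw [hrt]; group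
    have hsN : s ∈ normalizer ((Y ⊓ centralizer ({t} : Set G) : Subgroup G) : Set G) := by
      rw [mem_normalizer_iff]
      refine fun y => ⟨key hs hst y, fun hy => ?_⟩
      have hst' : s⁻¹ * t = t * s⁻¹ := by
        rw [inv_mul_eq_iff_eq_mul, ← mul_assoc, hst, mul_inv_cancel_right]
      have h3 := key (inv_mem hs) hst' _ hy
      have e1 : s⁻¹ * (s * y * s⁻¹) * s⁻¹⁻¹ = y := by group
      rwa [e1] at h3
    have h2 := ih (Y := Y ⊓ centralizer ({t} : Set G))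
      ⟨fun a ha => hY.sq a ha.1, fun a ha b hb => hY.comm a ha.1 b hb.1⟩ hsN (by
        rw [mem_centralizer_iff]
        intro y hy
        exact mem_centralizer_singleton_iff.1 hy.2)
    have h3 : Nat.card ↥((Y ⊓ centralizer ({t} : Set G)) ⊓ centralizer ({s} : Set G)) ≤
        Nat.card ↥(Y ⊓ centralizer ({s} : Set G)) :=
      Subgroup.card_le_of_le (inf_le_inf_right _ inf_le_left)
    calc Nat.card Y ≤ Nat.card ↥(Y ⊓ centralizer ({t} : Set G)) ^ 2 := h1
      _ ≤ (Nat.card ↥(Y ⊓ centralizer ({s} : Set G)) ^ 2 ^ e) ^ 2 :=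
          Nat.pow_le_pow_left (h2.trans (Nat.pow_le_pow_left h3 _)) 2
      _ = _ := by rw [← pow_mul, ← pow_succ]

/-- `|F| = |F^σ|^m`, `m` the order of `σ`. -/
theorem card_eq_pow {F : Type*} [Field F] [Finite F] (σ : F ≃+* F) :
    Nat.card F = Nat.card {x : F // σ x = x} ^ orderOf σ := by
  have hfin : Finite (F ≃+* F) := Finite.of_injective (fun σ : F ≃+* F => (σ : F → F)) DFunLike.coe_injective
  let H : Subgroup (F ≃+* F) := zpowers σ
  have hH : Fintype H := Fintype.ofFinite H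
  have h1 : Module.finrank (FixedPoints.subfield H F) F = Fintype.card H := FixedPoints.finrank_eq_card H F
  have h2 : Nat.card F = Nat.card (FixedPoints.subfield H F) ^ Module.finrank (FixedPoints.subfield H F) F := by
    have : Fintype F := Fintype.ofFinite F
    have : Fintype (FixedPoints.subfield H F) := Fintype.ofFinite _
    rw [Nat.card_eq_fintype_card, Nat.card_eq_fintype_card]
    exact Module.card_eq_pow_finrank
  have h3 : Nat.card (FixedPoints.subfield H F) = Nat.card {x : F // σ x = x} := by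
    refine Nat.card_congr (Equiv.subtypeEquivRight fun x => ?_)
    constructor
    · intro hx
      exact hx ⟨σ, mem_zpowers σ⟩
    · rintro hx ⟨τ, hτ⟩
      obtain ⟨k, rfl⟩ := mem_zpowers_iff.1 hτ
      have h4 : ∀ n : ℕ, (σ ^ n) x = x := by
        intro n
        induction n with
        | zero => rfl
        | succ n ih =>
          rw [pow_succ]
          show (σ ^ n) (σ x) = x
          rw [hx, ih]
      obtain ⟨n, hn⟩ : ∃ n : ℕ, σ ^ n = σ ^ k := by
        have := (mem_powers_iff_mem_zpowers (x := σ) (y := σ ^ k)).2 ⟨k, rfl⟩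
        exact this
      show (σ ^ k) x = x
      rw [← hn]
      exact h4 n
  rw [h2, h3, h1]
  congr 1
  rw [← Nat.card_eq_fintype_card]
  exact Nat.card_zpowers σ

section

variable [Finite G] {S : Subgroup G} {P V : Subgroup G} {F : Type*} [Field F] [Finite F] [CharP F 2]

namespace Crd

variable (M : Crd F S P V)

/-- **`Ω₁(Z(B)) = R`.** -/
theorem mem_R_of_cent (hS : IsPGroup 2 S) (hV : V ≤ S) (hZ : zc S ≤ V) :
    ∀ y ∈ M.B, y ^ 2 = 1 → (∀ b ∈ M.B, b * y = y * b) → y ∈ M.R := by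
  obtain ⟨s₀, hs₀, hcyc⟩ := M.cyc
  obtain ⟨σ, c, hact⟩ := M.exists_act hs₀
  have hσ : M.sgHom ⟨s₀, hs₀⟩ = σ := M.sgHom_eq (s := ⟨s₀, hs₀⟩) hact
  -- the order of `σ` is a power of 2
  obtain ⟨e, he⟩ : ∃ e, orderOf σ = 2 ^ e := by
    obtain ⟨n, hn⟩ := hS ⟨s₀, hs₀⟩
    have h1 : σ ^ 2 ^ n = 1 := by rw [← hσ, ← map_pow, hn, map_one]
    obtain ⟨e, -, he⟩ := (Nat.dvd_prime_pow Nat.prime_two).1 (orderOf_dvd_of_pow_eq_one h1)
    exact ⟨e, he⟩
  have hcardR : Nat.card M.R = Nat.card (zc S) ^ 2 ^ e := by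
    rw [M.card_R, card_eq_pow σ, he, ← M.card_fixR hact]
    congr 1
    rw [M.zc_eq hV hZ]
    refine Nat.card_congr (Equiv.setCongr ?_)
    ext r
    constructor
    · rintro ⟨hr, hrs⟩
      refine ⟨hr, ?_⟩
      show r ∈ centralizer (S : Set G)
      rw [mem_centralizer_iff]
      intro s hs
      obtain ⟨k, hk⟩ := hcyc s hs
      have h1 : s₀ ∈ centralizer ({r} : Set G) :=
        mem_centralizer_singleton_iff.2 (mem_centralizer_singleton_iff.1 hrs).symm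
      have h2 := pow_mem h1 k
      have h3 := mem_centralizer_singleton_iff.1 h2
      have h4 := (mem_centralizer_iff.1 hk.2 r hr)
      have e1 : s = s * (s₀ ^ k)⁻¹ * s₀ ^ k := by group
      rw [e1, mul_assoc, h3, ← mul_assoc, ← h4, mul_assoc]
    · rintro ⟨hr, hrs⟩
      exact ⟨hr, mem_centralizer_singleton_iff.2 (mem_centralizer_iff.1 hrs s₀ hs₀).symm⟩
  -- the group `Y`
  let Y : Subgroup G := zc M.B
  have hYE : Red.El Y := ⟨fun a ha => (mem_zc.1 ha).2.1, fun a ha b hb => (mem_zc.1 hb).2.2 a (mem_zc.1 ha).1⟩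
  have hBn : ∀ s ∈ S, ∀ b ∈ M.B, s * b * s⁻¹ ∈ M.B := by
    intro s hs b hb
    refine ⟨S.mul_mem (S.mul_mem hs hb.1) (S.inv_mem hs), ?_⟩
    show s * b * s⁻¹ ∈ centralizer (M.R : Set G)
    rw [mem_centralizer_iff]
    intro r hr
    have h1 : s⁻¹ * r * s ∈ M.R := by
      have := (mem_normalizer_iff.1 (M.S_R (S.inv_mem hs)) r).1 hr
      rwa [inv_inv] at this
    have h2 := mem_centralizer_iff.1 hb.2 _ h1
    have h3 : s * (s⁻¹ * r * s * b) * s⁻¹ = s * (b * (s⁻¹ * r * s)) * s⁻¹ := by rw [h2]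
    calc r * (s * b * s⁻¹) = s * (s⁻¹ * r * s * b) * s⁻¹ := by group
      _ = s * (b * (s⁻¹ * r * s)) * s⁻¹ := h3
      _ = s * b * s⁻¹ * r := by group
  have hYn : ∀ s ∈ S, ∀ y ∈ Y, s * y * s⁻¹ ∈ Y := by
    intro s hs y hy
    have h1 := mem_zc.1 hy
    refine mem_zc.2 ⟨hBn s hs y h1.1, ?_, fun b hb => ?_⟩
    · have e1 : (s * y * s⁻¹) ^ 2 = s * y ^ 2 * s⁻¹ := by rw [pow_two, pow_two]; group
      rw [e1, h1.2.1]; group
    · have h2 := h1.2.2 (s⁻¹ * b * s) (by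
        have := hBn s⁻¹ (S.inv_mem hs) b hb
        rwa [inv_inv] at this)
      have h3 : s * (s⁻¹ * b * s * y) * s⁻¹ = s * (y * (s⁻¹ * b * s)) * s⁻¹ := by rw [h2]
      calc b * (s * y * s⁻¹) = s * (s⁻¹ * b * s * y) * s⁻¹ := by group
        _ = s * (y * (s⁻¹ * b * s)) * s⁻¹ := h3
        _ = s * y * s⁻¹ * b := by group
  have hs₀N : s₀ ∈ normalizer (Y : Set G) := by
    rw [mem_normalizer_iff]
    refine fun y => ⟨hYn s₀ hs₀ y, fun hy => ?_⟩
    have h3 := hYn s₀⁻¹ (S.inv_mem hs₀) _ hy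
    have e1 : s₀⁻¹ * (s₀ * y * s₀⁻¹) * s₀⁻¹⁻¹ = y := by group
    rwa [e1] at h3
  have hs₀B : s₀ ^ 2 ^ e ∈ M.B := by
    refine ⟨S.pow_mem hs₀ _, ?_⟩
    have h1 : M.sgHom (⟨s₀, hs₀⟩ ^ 2 ^ e) = 1 := by rw [map_pow, hσ, ← he, pow_orderOf_eq_one]
    exact M.sgHom_eq_one.1 h1
  have h1 := card_le_pow e hYE hs₀N (by
    rw [mem_centralizer_iff]
    intro y hy
    exact ((mem_zc.1 hy).2.2 _ hs₀B).symm)
  have h2 : Y ⊓ centralizer ({s₀} : Set G) ≤ zc S := by
    rintro y ⟨hy, hys⟩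
    have h3 := mem_zc.1 hy
    refine mem_zc.2 ⟨h3.1.1, h3.2.1, fun s hs => ?_⟩
    obtain ⟨k, hk⟩ := hcyc s hs
    have h4 : s₀ ∈ centralizer ({y} : Set G) :=
      mem_centralizer_singleton_iff.2 (mem_centralizer_singleton_iff.1 hys).symm
    have h5 := mem_centralizer_singleton_iff.1 (pow_mem h4 k)
    have h6 := h3.2.2 _ hk
    have e1 : s = s * (s₀ ^ k)⁻¹ * s₀ ^ k := by group
    rw [e1, mul_assoc, h5, ← mul_assoc, h6, mul_assoc]
  have h3 : Nat.card Y ≤ Nat.card M.R := by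
    rw [hcardR]
    exact h1.trans (Nat.pow_le_pow_left (Subgroup.card_le_of_le h2) _)
  have h4 : M.R ≤ Y := by
    intro r hr
    have hrV := M.R_le hr
    refine mem_zc.2 ⟨⟨hV hrV, ?_⟩, by rw [pow_two]; exact M.sq hrV,
      fun b hb => (mem_centralizer_iff.1 hb.2 r hr).symm⟩
    show r ∈ centralizer (M.R : Set G)
    exact mem_centralizer_iff.2 fun r' hr' => M.comm (M.R_le hr') hrV
  have h5 : M.R = Y := Subgroup.eq_of_le_of_card_ge h4 h3
  intro y hy hy2 hyc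
  rw [h5]
  exact mem_zc.2 ⟨hy, hy2, hyc⟩

end Crd

end

end Cfsg.Agent.Omega.NO3S.Fld
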